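import Groth.Agent.QCoh.Localize
import Mathlib.AlgebraicGeometry.Morphisms.QuasiSeparated

/-!
# Sections of quasi-coherent modules over quasi-compact quasi-separated opens;
# a criterion of quasi-coherence and direct images
-/

universe u

open CategoryTheory CategoryTheory.Limits AlgebraicGeometry TopologicalSpace Opposite

namespace Groth.Agent.QCoh

variable {X : Scheme.{u}} {M : X.Modules}

theorem image_top_chart_isAffineOpen {R : CommRingCat.{u}} (j : Spec R ⟶ X) [IsOpenImmersion j] :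
    IsAffineOpen (j ''ᵁ ⊤) := by
  rw [Scheme.Hom.image_top_eq_opensRange]; exact isAffineOpen_opensRange j

theorem basicOpen_chartScalar {R : CommRingCat.{u}} (j : Spec R ⟶ X) [IsOpenImmersion j] (r : R) :
    X.basicOpen (chartScalar j r) = j ''ᵁ PrimeSpectrum.basicOpen r := by
  rw [chartScalar, ← Scheme.image_basicOpen, basicOpen_eq_of_affine]

/-- Quasi-coherence from the two localisation properties on affine opens. -/
theorem isQCoh_of_sections
    (h₁ : ∀ (U : X.Opens), IsAffineOpen U → ∀ (f : Γ(X, U)) (s : Γ(M, X.basicOpen f)),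
      ∃ (n : ℕ) (t : Γ(M, U)), M.presheaf.map (homOfLE (X.basicOpen_le f)).op t =
        X.presheaf.map (homOfLE (X.basicOpen_le f)).op f ^ n • s)
    (h₂ : ∀ (U : X.Opens), IsAffineOpen U → ∀ (f : Γ(X, U)) (t : Γ(M, U)),
      M.presheaf.map (homOfLE (X.basicOpen_le f)).op t = 0 → ∃ n : ℕ, f ^ n • t = 0) :
    Coh.IsQCoh M := by
  refine isQCoh_of_charts fun R j _ => ?_
  rw [Coh.IsQCoh, isQuasicoherent_iff_isIso_fromTildeΓ, isIso_fromTildeΓ_iff_isLocalizing]
  intro r
  have hA := image_top_chart_isAffineOpen j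
  refine IsLocalizedModule.Away.mk_of_addCommGroup
    ((M.restrict j).isUnit_algebraMap_end_of_le_basicOpen r le_rfl) ?_ ?_
  · intro s
    have key : ∀ (W : X.Opens) (hW : X.basicOpen (chartScalar j r) = W) (hle : W ≤ j ''ᵁ ⊤)
        (s : Γ(M, W)), ∃ (n : ℕ) (t : Γ(M, j ''ᵁ ⊤)), M.presheaf.map (homOfLE hle).op t =
          X.presheaf.map (homOfLE hle).op (chartScalar j r) ^ n • s := by
      rintro _ rfl hle s
      exact h₁ _ hA _ s
    obtain ⟨n, t, ht⟩ := key _ (basicOpen_chartScalar j r) (j.image_mono le_top)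
      ((M.restrictAppIso j _).hom s)
    refine ⟨n, (M.restrictAppIso j ⊤).inv t, ?_⟩
    refine ((M.restrictAppIso j (PrimeSpectrum.basicOpen r)).addCommGroupIsoToAddEquiv.injective ?_)
    show (M.restrictAppIso j (PrimeSpectrum.basicOpen r)).hom (r ^ n • _) = _
    erw [restrict_smul_spec j (PrimeSpectrum.basicOpen r) (r ^ n)]
    refine Eq.trans ?_ ht.symm
    simp [chartScalar, map_pow]
  · intro x hx
    have key : ∀ (W : X.Opens) (hW : X.basicOpen (chartScalar j r) = W) (hle : W ≤ j ''ᵁ ⊤)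
        (t : Γ(M, j ''ᵁ ⊤)), M.presheaf.map (homOfLE hle).op t = 0 →
          ∃ n : ℕ, chartScalar j r ^ n • t = 0 := by
      rintro _ rfl hle t ht
      exact h₂ _ hA _ t ht
    obtain ⟨n, hn⟩ := key _ (basicOpen_chartScalar j r) (j.image_mono le_top)
      ((M.restrictAppIso j ⊤).hom x) hx
    refine ⟨n, (M.restrictAppIso j ⊤).addCommGroupIsoToAddEquiv.injective ?_⟩
    show (M.restrictAppIso j ⊤).hom (r ^ n • x) = _
    erw [restrict_smul_spec j ⊤ (r ^ n), ringMap_id]
    simpa [chartScalar, map_pow] using! hn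

theorem basicOpen_res_inf {U V : X.Opens} (i : V ⟶ U) (f : Γ(X, U)) :
    X.basicOpen (X.presheaf.map i.op f) = V ⊓ X.basicOpen f := Scheme.basicOpen_res _ _ _

/-- A section on a quasi-compact open vanishing on a basic open is killed by a power. -/
theorem exists_pow_smul_eq_zero_of_isCompact (hM : Coh.IsQCoh M) {W : X.Opens}
    (hW : IsCompact (W : Set X)) (f : Γ(X, W)) (t : Γ(M, W))
    (ht : M.presheaf.map (homOfLE (X.basicOpen_le f)).op t = 0) : ∃ n : ℕ, f ^ n • t = 0 := by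
  obtain ⟨s, hs, hW'⟩ := isCompact_iff_finite_and_eq_biUnion_affineOpens.mp hW
  have := hs.to_subtype
  have hle : ∀ V : s, (V.1.1 : X.Opens) ≤ W := fun V => by
    rw [hW']; exact le_iSup₂ (f := fun (i : X.affineOpens) (_ : i ∈ s) => (i : X.Opens)) V.1 V.2
  have hV : ∀ V : s, ∃ n : ℕ, M.presheaf.map (homOfLE (hle V)).op (f ^ n • t) = 0 := fun V => by
    let fV := X.presheaf.map (homOfLE (hle V)).op f
    have hb : X.basicOpen fV ≤ X.basicOpen f := (basicOpen_res_inf _ f).le.trans inf_le_right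
    obtain ⟨n, hn⟩ := exists_pow_smul_eq_zero hM V.1.2 fV
      (M.presheaf.map (homOfLE (hle V)).op t) (by
        rw [map_map, Subsingleton.elim (homOfLE (X.basicOpen_le fV) ≫ homOfLE (hle V))
          (homOfLE hb ≫ homOfLE (X.basicOpen_le f)), ← map_map, ht, map_zero])
    exact ⟨n, by rw [map_smul', map_pow]; exact hn⟩
  choose n hn using hV
  have := Fintype.ofFinite s
  refine ⟨∑ V, n V, eq_zero_of_locally W _ fun p hp => ?_⟩
  rw [hW'] at hp
  obtain ⟨V, hp⟩ := Opens.mem_iSup.1 hp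
  obtain ⟨hVs, hp⟩ := Opens.mem_iSup.1 hp
  refine ⟨V.1, homOfLE (hle ⟨V, hVs⟩), hp, ?_⟩
  obtain ⟨k, hk⟩ := Nat.exists_eq_add_of_le
    (Finset.single_le_sum (f := n) (fun _ _ => Nat.zero_le _) (Finset.mem_univ ⟨V, hVs⟩))
  rw [hk, pow_add, mul_comm, mul_smul, map_smul']
  erw [hn ⟨V, hVs⟩]
  rw [smul_zero]

/-- A section on a basic open of a qcqs open extends after multiplication by a power. -/
theorem exists_pow_smul_eq_map_of_isQuasiSeparated (hM : Coh.IsQCoh M) {W : X.Opens}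
    (hW : IsCompact (W : Set X)) (hW₂ : IsQuasiSeparated (W : Set X)) (f : Γ(X, W))
    (s : Γ(M, X.basicOpen f)) :
    ∃ (n : ℕ) (t : Γ(M, W)), M.presheaf.map (homOfLE (X.basicOpen_le f)).op t =
      X.presheaf.map (homOfLE (X.basicOpen_le f)).op f ^ n • s := by
  obtain ⟨S, hS, hW'⟩ := isCompact_iff_finite_and_eq_biUnion_affineOpens.mp hW
  have := hS.to_subtype
  have := Fintype.ofFinite S
  let V : S → X.Opens := fun V => V.1.1
  have hle : ∀ i : S, V i ≤ W := fun i => by
    rw [hW']; exact le_iSup₂ (f := fun (i : X.affineOpens) (_ : i ∈ S) => (i : X.Opens)) i.1 i.2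
  let fV : ∀ i, Γ(X, V i) := fun i => X.presheaf.map (homOfLE (hle i)).op f
  have hb : ∀ i, X.basicOpen (fV i) ≤ X.basicOpen f := fun i =>
    (basicOpen_res_inf _ f).le.trans inf_le_right
  choose n t ht using fun i => exists_pow_smul_eq_map hM i.1.2 (fV i)
    (M.presheaf.map (homOfLE (hb i)).op s)
  let N := ∑ i, n i
  let t' : ∀ i, Γ(M, V i) := fun i => fV i ^ (N - n i) • t i
  have hn : ∀ i, n i ≤ N := fun i =>
    Finset.single_le_sum (f := n) (fun _ _ => Nat.zero_le _) (Finset.mem_univ i)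
  have ht' : ∀ i, M.presheaf.map (homOfLE (X.basicOpen_le (fV i))).op (t' i) =
      M.presheaf.map (homOfLE (hb i)).op
        (X.presheaf.map (homOfLE (X.basicOpen_le f)).op f ^ N • s) := fun i => by
    rw [map_smul', map_smul', ht, ← mul_smul, map_pow, map_pow, ← pow_add, Nat.sub_add_cancel (hn i)]
    congr 2
    simp only [fV, ringMap_map]
    rfl
  have hd : ∀ p : S × S, ∃ m : ℕ, X.presheaf.map
      (homOfLE (inf_le_left.trans (hle p.1) : V p.1 ⊓ V p.2 ≤ W)).op f ^ m •
        (M.presheaf.map (homOfLE (inf_le_left : V p.1 ⊓ V p.2 ≤ V p.1)).op (t' p.1) -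
          M.presheaf.map (homOfLE (inf_le_right : V p.1 ⊓ V p.2 ≤ V p.2)).op (t' p.2)) = 0 := by
    intro p
    set g := X.presheaf.map (homOfLE (inf_le_left.trans (hle p.1) : V p.1 ⊓ V p.2 ≤ W)).op f
    have h1 : X.basicOpen g ≤ X.basicOpen (fV p.1) := by
      simp only [g, fV, basicOpen_res_inf]; exact inf_le_inf_right _ inf_le_left
    have h2 : X.basicOpen g ≤ X.basicOpen (fV p.2) := by
      simp only [g, fV, basicOpen_res_inf]; exact inf_le_inf_right _ inf_le_right
    refine exists_pow_smul_eq_zero_of_isCompact hM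
      (hW₂ (V p.1) (V p.2) (hle p.1) (V p.1).2 p.1.1.2.isCompact (hle p.2) (V p.2).2
        p.2.1.2.isCompact) g _ ?_
    rw [map_sub, map_map, map_map,
      Subsingleton.elim (homOfLE (X.basicOpen_le g) ≫ homOfLE inf_le_left)
        (homOfLE h1 ≫ homOfLE (X.basicOpen_le (fV p.1))),
      Subsingleton.elim (homOfLE (X.basicOpen_le g) ≫ homOfLE inf_le_right)
        (homOfLE h2 ≫ homOfLE (X.basicOpen_le (fV p.2))),
      ← map_map, ← map_map, ht', ht', map_map, map_map, sub_eq_zero]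
    rfl
  choose m hm using hd
  let K := ∑ p, m p
  obtain ⟨T, hT, -⟩ := TopCat.Sheaf.existsUnique_gluing' ⟨M.presheaf, M.isSheaf⟩ V W
    (fun i => homOfLE (hle i)) (by
      intro x hx
      rw [hW'] at hx
      obtain ⟨i, hx⟩ := Opens.mem_iSup.1 hx
      obtain ⟨hi, hx⟩ := Opens.mem_iSup.1 hx
      exact Opens.mem_iSup.2 ⟨⟨i, hi⟩, hx⟩)
    (fun i => fV i ^ K • t' i) (fun i k => by
      obtain ⟨d, hd⟩ := Nat.exists_eq_add_of_le
        (Finset.single_le_sum (f := m) (fun _ _ => Nat.zero_le _) (Finset.mem_univ (i, k)))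
      have e := congrArg (fun x => X.presheaf.map
        (homOfLE (inf_le_left.trans (hle i) : V i ⊓ V k ≤ W)).op f ^ d • x) (hm (i, k))
      simp only [smul_zero, ← mul_smul, ← pow_add] at e
      rw [smul_sub, sub_eq_zero] at e
      simp only [Opens.infLELeft, Opens.infLERight]
      erw [map_smul' (homOfLE inf_le_left), map_smul' (homOfLE inf_le_right)]
      rw [map_pow, map_pow, show K = d + m (i, k) by omega]
      simp only [fV, ringMap_map]
      exact e)
  refine ⟨K + N, T, ?_⟩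
  refine TopCat.Sheaf.eq_of_locally_eq' ⟨M.presheaf, M.isSheaf⟩ (fun i => X.basicOpen (fV i)) _
    (fun i => homOfLE (hb i)) ?_ _ _ fun i => ?_
  · intro x hx
    have hxW := X.basicOpen_le f hx
    rw [hW'] at hxW
    obtain ⟨i, hxi⟩ := Opens.mem_iSup.1 hxW
    obtain ⟨hi, hxi⟩ := Opens.mem_iSup.1 hxi
    refine Opens.mem_iSup.2 ⟨⟨i, hi⟩, ?_⟩
    rw [basicOpen_res_inf]
    exact ⟨hxi, hx⟩
  · show M.presheaf.map (homOfLE (hb i)).op _ = M.presheaf.map (homOfLE (hb i)).op _
    rw [map_map, Subsingleton.elim (homOfLE (hb i) ≫ homOfLE (X.basicOpen_le f))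
      (homOfLE (X.basicOpen_le (fV i)) ≫ homOfLE (hle i)), ← map_map]
    erw [hT i]
    rw [map_smul', ht', pow_add, mul_smul]
    simp only [fV, map_smul', map_pow, ringMap_map]
    rfl

theorem pushforward_smul {Y : Scheme.{u}} (φ : X ⟶ Y) (U : Y.Opens) (r : Γ(Y, U))
    (x : Γ(M, φ ⁻¹ᵁ U)) :
    @HSMul.hSMul _ _ _ _ r (show Γ((Scheme.Modules.pushforward φ).obj M, U) from x) =
      (φ.app U r • x : Γ(M, φ ⁻¹ᵁ U)) := rfl

/-- Direct images of quasi-coherent modules by qcqs morphisms are quasi-coherent. -/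
theorem isQCoh_pushforward {Y : Scheme.{u}} (φ : X ⟶ Y) [QuasiCompact φ] [QuasiSeparated φ]
    (hM : Coh.IsQCoh M) : Coh.IsQCoh ((Scheme.Modules.pushforward φ).obj M) := by
  refine isQCoh_of_sections (fun U hU f s => ?_) fun U hU f t ht => ?_
  · have key : ∀ (W : X.Opens) (hW : X.basicOpen (φ.app U f) = W) (hle : W ≤ φ ⁻¹ᵁ U) (s : Γ(M, W)),
        ∃ (n : ℕ) (t : Γ(M, φ ⁻¹ᵁ U)), M.presheaf.map (homOfLE hle).op t =
          X.presheaf.map (homOfLE hle).op (φ.app U f) ^ n • s := by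
      rintro _ rfl hle s
      exact exists_pow_smul_eq_map_of_isQuasiSeparated hM (QuasiCompact.isCompact_preimage _ U.2 hU.isCompact)
        (φ.isQuasiSeparated_preimage hU.isQuasiSeparated) _ s
    obtain ⟨n, t, ht⟩ := key _ (Scheme.preimage_basicOpen φ f).symm
      (φ.preimage_mono (Y.basicOpen_le f)) s
    refine ⟨n, t, ht.trans ?_⟩
    refine Eq.trans ?_ (pushforward_smul φ (Y.basicOpen f) _ s).symm
    rw [map_pow, ← ConcreteCategory.comp_apply _ (φ.app _), Scheme.Hom.naturality]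
    rfl
  · have key : ∀ (W : X.Opens) (hW : X.basicOpen (φ.app U f) = W) (hle : W ≤ φ ⁻¹ᵁ U)
        (t : Γ(M, φ ⁻¹ᵁ U)), M.presheaf.map (homOfLE hle).op t = 0 →
          ∃ n : ℕ, φ.app U f ^ n • t = 0 := by
      rintro _ rfl hle t ht
      exact exists_pow_smul_eq_zero_of_isCompact hM (QuasiCompact.isCompact_preimage _ U.2 hU.isCompact)
        _ t ht
    obtain ⟨n, hn⟩ := key _ (Scheme.preimage_basicOpen φ f).symm
      (φ.preimage_mono (Y.basicOpen_le f)) t ht
    refine ⟨n, ?_⟩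
    refine (pushforward_smul φ U _ t).trans ?_
    rw [map_pow]
    exact hn

end Groth.Agent.QCoh
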