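import Groth.Agent.QCoh.Tilde

/-!
# Sections of quasi-coherent modules over basic opens of affines
-/

universe u

open CategoryTheory CategoryTheory.Limits AlgebraicGeometry TopologicalSpace Opposite

namespace Groth.Agent.QCoh

variable {X : Scheme.{u}} {M : X.Modules}

theorem map_smul' {U V : X.Opens} (i : V ⟶ U) (r : Γ(X, U)) (s : Γ(M, U)) :
    M.presheaf.map i.op (r • s) = X.presheaf.map i.op r • M.presheaf.map i.op s :=
  M.val.map_smul i.op r s

theorem map_map {U V W : X.Opens} (i : W ⟶ V) (j : V ⟶ U) (s : Γ(M, U)) :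
    M.presheaf.map i.op (M.presheaf.map j.op s) = M.presheaf.map (i ≫ j).op s := by
  rw [← ConcreteCategory.comp_apply, ← Functor.map_comp]
  rfl

theorem ringMap_map {U V W : X.Opens} (i : W ⟶ V) (j : V ⟶ U) (s : Γ(X, U)) :
    X.presheaf.map i.op (X.presheaf.map j.op s) = X.presheaf.map (i ≫ j).op s := by
  rw [← ConcreteCategory.comp_apply, ← Functor.map_comp]
  rfl

theorem map_id' {U : X.Opens} (i : U ⟶ U) (s : Γ(M, U)) : M.presheaf.map i.op s = s := by
  rw [Subsingleton.elim i (𝟙 U)]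
  simp

theorem ringMap_id {U : X.Opens} (i : U ⟶ U) (s : Γ(X, U)) : X.presheaf.map i.op s = s := by
  rw [Subsingleton.elim i (𝟙 U)]
  simp

section chart

variable {R : CommRingCat.{u}} (j : Spec R ⟶ X) [IsOpenImmersion j]

/-- The function on the chart `j` given by an element of `R`. -/
noncomputable def chartScalar (r : R) : Γ(X, j ''ᵁ ⊤) :=
  (j.appIso ⊤).inv ((Scheme.ΓSpecIso R).inv r)

theorem restrict_smul_spec (W : (Spec R).Opens) (r : R) (s : Γ(M.restrict j, W)) :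
    (M.restrictAppIso j W).hom (r • s) =
      X.presheaf.map (homOfLE (j.image_mono (le_top : W ≤ ⊤))).op (chartScalar j r) •
        (M.restrictAppIso j W).hom s := by
  rw [Scheme.Modules.smul_Spec_def]
  refine congrArg (fun a : Γ(X, j ''ᵁ W) => a • (M.restrictAppIso j W).hom s)
    (?_ : (j.appIso W).inv _ = _)
  rw [← ConcreteCategory.comp_apply, Scheme.Hom.appIso_inv_naturality]
  rfl

theorem chart_exists_pow_smul (hM : Coh.IsQCoh M) (r : R)
    (s : Γ(M, j ''ᵁ PrimeSpectrum.basicOpen r)) :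
    ∃ (n : ℕ) (t : Γ(M, j ''ᵁ ⊤)),
      M.presheaf.map (homOfLE (j.image_mono (le_top : PrimeSpectrum.basicOpen r ≤ ⊤))).op t =
      X.presheaf.map (homOfLE (j.image_mono (le_top : PrimeSpectrum.basicOpen r ≤ ⊤))).op
        (chartScalar j r) ^ n • s := by
  have hq := isQCoh_restrict j hM
  have hloc := (isIso_fromTildeΓ_iff_isLocalizing (M.restrict j)).1
    ((isQuasicoherent_iff_isIso_fromTildeΓ _).1 hq) r
  obtain ⟨⟨t, _, n, rfl⟩, ht⟩ := hloc.surj ((M.restrictAppIso j _).inv s)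
  refine ⟨n, (M.restrictAppIso j _).hom t, ?_⟩
  have h2 := congrArg (M.restrictAppIso j (PrimeSpectrum.basicOpen r)).hom ht.symm
  rw [Submonoid.smul_def] at h2
  refine h2.trans ?_
  erw [restrict_smul_spec j (PrimeSpectrum.basicOpen r) (r ^ n)]
  simp [chartScalar, map_pow]
  rfl

theorem chart_exists_pow_smul_eq_zero (hM : Coh.IsQCoh M) (r : R) (t : Γ(M, j ''ᵁ ⊤))
    (ht : M.presheaf.map (homOfLE (j.image_mono (le_top : PrimeSpectrum.basicOpen r ≤ ⊤))).op t = 0) :
    ∃ n : ℕ, chartScalar j r ^ n • t = 0 := by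
  have hq := isQCoh_restrict j hM
  have hloc := (isIso_fromTildeΓ_iff_isLocalizing (M.restrict j)).1
    ((isQuasicoherent_iff_isIso_fromTildeΓ _).1 hq) r
  obtain ⟨⟨_, n, rfl⟩, hn⟩ := (IsLocalizedModule.eq_zero_iff (.powers r) _).1
    (show ((modulesSpecToSheaf.obj (M.restrict j)).obj.map
      (PrimeSpectrum.basicOpen r).leTop.op).hom ((M.restrictAppIso j ⊤).inv t) = 0 from ht)
  refine ⟨n, ?_⟩
  have h2 := congrArg (M.restrictAppIso j ⊤).hom hn
  rw [Submonoid.smul_def] at h2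
  erw [restrict_smul_spec j ⊤ (r ^ n)] at h2
  rw [ringMap_id] at h2
  simpa [chartScalar, map_pow] using! h2

end chart

variable {U : X.Opens}

theorem chartScalar_fromSpec (hU : IsAffineOpen U) (h : hU.fromSpec ''ᵁ ⊤ ≤ U) (r : Γ(X, U)) :
    chartScalar hU.fromSpec r = X.presheaf.map (homOfLE h).op r := by
  have e : (⊤ : (Spec Γ(X, U)).Opens) ≤ hU.fromSpec ⁻¹ᵁ U := hU.fromSpec_preimage_self.ge
  have h1 : hU.fromSpec.appLE U ⊤ e = (Scheme.ΓSpecIso Γ(X, U)).inv := by
    rw [Scheme.Hom.appLE, hU.fromSpec_app_self, Category.assoc, ← Functor.map_comp,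
      ← op_comp, Subsingleton.elim (_ ≫ _) (𝟙 (⊤ : (Spec Γ(X, U)).Opens)), op_id,
      CategoryTheory.Functor.map_id, Category.comp_id]
  rw [chartScalar, ← h1, ← ConcreteCategory.comp_apply, Scheme.Hom.appLE_appIso_inv]

/-- A section on a basic open of an affine extends after multiplication by a power. -/
theorem exists_pow_smul_eq_map (hM : Coh.IsQCoh M) (hU : IsAffineOpen U) (f : Γ(X, U))
    (s : Γ(M, X.basicOpen f)) :
    ∃ (n : ℕ) (t : Γ(M, U)), M.presheaf.map (homOfLE (X.basicOpen_le f)).op t =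
      X.presheaf.map (homOfLE (X.basicOpen_le f)).op f ^ n • s := by
  have hU' : hU.fromSpec ''ᵁ ⊤ = U :=
    (Scheme.Hom.image_top_eq_opensRange _).trans hU.opensRange_fromSpec
  have key : ∀ (U₀ W₀ : X.Opens) (eU : hU.fromSpec ''ᵁ ⊤ = U₀)
      (eW : hU.fromSpec ''ᵁ PrimeSpectrum.basicOpen f = W₀) (hle : W₀ ≤ U₀) (s : Γ(M, W₀)),
      ∃ (n : ℕ) (t : Γ(M, U₀)), M.presheaf.map (homOfLE hle).op t =
        X.presheaf.map (homOfLE (eW.ge.trans ((hU.fromSpec.image_mono le_top).trans hU'.le))).op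
          f ^ n • s := by
    rintro _ _ rfl rfl hle s
    obtain ⟨n, t, ht⟩ := chart_exists_pow_smul hU.fromSpec hM f s
    exact ⟨n, t, ht.trans (by
      rw [chartScalar_fromSpec hU hU'.le]
      exact congrArg (fun a => a ^ n • s) (ringMap_map _ _ _))⟩
  exact key _ _ hU' (hU.fromSpec_image_basicOpen f) (X.basicOpen_le f) s

/-- A section on an affine vanishing on a basic open is killed by a power. -/
theorem exists_pow_smul_eq_zero (hM : Coh.IsQCoh M) (hU : IsAffineOpen U) (f : Γ(X, U))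
    (t : Γ(M, U)) (ht : M.presheaf.map (homOfLE (X.basicOpen_le f)).op t = 0) :
    ∃ n : ℕ, f ^ n • t = 0 := by
  have hU' : hU.fromSpec ''ᵁ ⊤ = U :=
    (Scheme.Hom.image_top_eq_opensRange _).trans hU.opensRange_fromSpec
  have key : ∀ (U₀ W₀ : X.Opens) (eU : hU.fromSpec ''ᵁ ⊤ = U₀)
      (eW : hU.fromSpec ''ᵁ PrimeSpectrum.basicOpen f = W₀) (hle : W₀ ≤ U₀) (t : Γ(M, U₀)),
      M.presheaf.map (homOfLE hle).op t = 0 →
      ∃ n : ℕ, X.presheaf.map (homOfLE (eU.ge.trans hU'.le)).op f ^ n • t = 0 := by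
    rintro _ _ rfl rfl hle t ht
    obtain ⟨n, hn⟩ := chart_exists_pow_smul_eq_zero hU.fromSpec hM f t ht
    exact ⟨n, by rwa [chartScalar_fromSpec hU hU'.le] at hn⟩
  obtain ⟨n, hn⟩ := key _ _ hU' (hU.fromSpec_image_basicOpen f) (X.basicOpen_le f) t ht
  exact ⟨n, by rwa [ringMap_id] at hn⟩

end Groth.Agent.QCoh
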