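import Groth.Agent.QCoh.Tilde
import Groth.Agent.QCoh.Localize
import Mathlib.Algebra.Category.ModuleCat.ChangeOfRings
import Mathlib.CategoryTheory.Adjunction.Unique

/-!
# Pullbacks of quasi-coherent modules
-/

universe u

open CategoryTheory CategoryTheory.Limits AlgebraicGeometry TopologicalSpace Opposite

namespace Groth.Agent.QCoh

variable {R S : CommRingCat.{u}} (g : R ⟶ S)

theorem spec_appTop_scalar (r : R) :
    (Spec.map g).appTop ((Scheme.ΓSpecIso R).inv r) = (Scheme.ΓSpecIso S).inv (g r) :=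
  (ConcreteCategory.congr_hom (Scheme.ΓSpecIso_inv_naturality g) r).symm

/-- Global sections of a direct image between spectra. -/
noncomputable def ΓPushIso :
    Scheme.Modules.pushforward (Spec.map g) ⋙ moduleSpecΓFunctor ≅
      moduleSpecΓFunctor ⋙ ModuleCat.restrictScalars.{u} g.hom :=
  NatIso.ofComponents (fun P => @LinearEquiv.toModuleIso R _
    ((Scheme.Modules.pushforward (Spec.map g) ⋙ moduleSpecΓFunctor).obj P)
    ((moduleSpecΓFunctor ⋙ ModuleCat.restrictScalars.{u} g.hom).obj P) _ _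
    ((Scheme.Modules.pushforward (Spec.map g) ⋙ moduleSpecΓFunctor).obj P).isModule
    ((moduleSpecΓFunctor ⋙ ModuleCat.restrictScalars.{u} g.hom).obj P).isModule
    { toFun := fun x => x
      invFun := fun x => x
      map_add' := fun _ _ => rfl
      map_smul' := fun r x => by
        show (show Γ(Spec S, ⊤) from (Spec.map g).app ⊤ ((Spec R).presheaf.map (𝟙 _) ((Scheme.ΓSpecIso R).inv r))) •
            (show Γ(P, ⊤) from x) =
          (Spec S).presheaf.map (𝟙 _) ((Scheme.ΓSpecIso S).inv (g r)) • (show Γ(P, ⊤) from x)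
        rw [CategoryTheory.Functor.map_id, CategoryTheory.Functor.map_id]
        exact congrArg (· • (show Γ(P, ⊤) from x)) (spec_appTop_scalar g r)
      left_inv := fun _ => rfl
      right_inv := fun _ => rfl }) fun _ => rfl

/-- The inverse image of `tilde M` is `tilde (S ⊗ M)`. -/
noncomputable def tildePullbackIso :
    tilde.functor R ⋙ Scheme.Modules.pullback (Spec.map g) ≅
      ModuleCat.extendScalars.{_, _, u} g.hom ⋙ tilde.functor S :=
  (tilde.adjunction.comp (Scheme.Modules.pullbackPushforwardAdjunction (Spec.map g))).leftAdjointUniq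
    (((ModuleCat.extendRestrictScalarsAdj.{_, _, u} g.hom).comp tilde.adjunction).ofNatIsoRight
      (ΓPushIso g).symm)

theorem isQCoh_pullback_spec {M : (Spec R).Modules} (hM : Coh.IsQCoh M) :
    Coh.IsQCoh ((Scheme.Modules.pullback (Spec.map g)).obj M) := by
  obtain ⟨M', ⟨e⟩⟩ := isQCoh_spec_iff.1 hM
  exact isQCoh_spec_iff.2 ⟨_, ⟨((tildePullbackIso g).app M').symm ≪≫
    (Scheme.Modules.pullback (Spec.map g)).mapIso e⟩⟩

variable {X X' : Scheme.{u}} (φ : X' ⟶ X)

/-- Restriction of an inverse image to compatible charts. -/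
noncomputable def pullbackChartIso {j : Spec S ⟶ X'} [IsOpenImmersion j] {i : Spec R ⟶ X}
    [IsOpenImmersion i] (h : Spec.map g ≫ i = j ≫ φ) (M : X.Modules) :
    ((Scheme.Modules.pullback φ).obj M).restrict j ≅
      (Scheme.Modules.pullback (Spec.map g)).obj (M.restrict i) :=
  (Scheme.Modules.restrictFunctorIsoPullback j).app _ ≪≫
    (Scheme.Modules.pullbackComp j φ).app M ≪≫
    (Scheme.Modules.pullbackCongr h.symm).app M ≪≫
    ((Scheme.Modules.pullbackComp (Spec.map g) i).app M).symm ≪≫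
    (Scheme.Modules.pullback (Spec.map g)).mapIso
      ((Scheme.Modules.restrictFunctorIsoPullback i).app M).symm

theorem exists_chart_map {V : X.Opens} (hV : IsAffineOpen V) {W : X'.Opens} (hW : IsAffineOpen W)
    (hle : W ≤ φ ⁻¹ᵁ V) :
    Spec.map (φ.appLE V W hle) ≫ hV.fromSpec = hW.fromSpec ≫ φ :=
  (IsAffineOpen.SpecMap_appLE_fromSpec φ hV hW hle)

theorem isQCoh_pullback {M : X.Modules} (hM : Coh.IsQCoh M) :
    Coh.IsQCoh ((Scheme.Modules.pullback φ).obj M) := by
  have hc : ∀ x : X', ∃ (V : X.affineOpens) (W : X'.affineOpens), W.1 ≤ φ ⁻¹ᵁ V.1 ∧ x ∈ W.1 := by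
    intro x
    obtain ⟨_, ⟨V, hV, rfl⟩, hxV, -⟩ :=
      X.isBasis_affineOpens.exists_subset_of_mem_open (Set.mem_univ (φ.base x)) isOpen_univ
    obtain ⟨_, ⟨W, hW, rfl⟩, hxW, hWV⟩ :=
      X'.isBasis_affineOpens.exists_subset_of_mem_open (show x ∈ φ ⁻¹ᵁ V from hxV) (φ ⁻¹ᵁ V).isOpen
    exact ⟨⟨V, hV⟩, ⟨W, hW⟩, hWV, hxW⟩
  choose V W hle hx using hc
  refine isQCoh_of_isOpenCover (fun x => (W x).1)
    (top_le_iff.1 fun x _ => Opens.mem_iSup.2 ⟨x, hx x⟩) fun x => ?_
  have hV : IsAffineOpen (V x).1 := (V x).2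
  have hW : IsAffineOpen (W x).1 := (W x).2
  refine (isQCoh_restrict_iff_of_iso (M := ((Scheme.Modules.pullback φ).obj M).restrict (W x).1.ι)
    hW.isoSpec.inv).1 ?_
  refine (isQCoh_iff_iso ((Scheme.Modules.restrictFunctorComp hW.isoSpec.inv (W x).1.ι).app _)).1 ?_
  show Coh.IsQCoh (((Scheme.Modules.pullback φ).obj M).restrict hW.fromSpec)
  exact (isQCoh_iff_iso (pullbackChartIso (φ.appLE (V x).1 (W x).1 (hle x)) φ
    (j := hW.fromSpec) (i := hV.fromSpec)
    (exists_chart_map φ hV hW (hle x)) M).symm).1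
      (isQCoh_pullback_spec _ (isQCoh_restrict _ hM))

end Groth.Agent.QCoh
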