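import Groth.Prelude.Def_Coh
import Groth.Prelude.Def_CohB1

/-!
# Locality of quasi-coherence and finiteness conditions on `X.Modules`
-/

universe u

open CategoryTheory CategoryTheory.Limits AlgebraicGeometry TopologicalSpace

namespace Groth.Agent.QCoh

variable {X Y : Scheme.{u}}

noncomputable section

/-- A presentation of `M|_U` gives one of `M.over U`. -/
def presentationOver (U : X.Opens) {M : X.Modules}
    (p : (M.restrict U.ι).Presentation) : (SheafOfModules.over M U).Presentation :=
  SheafOfModules.Presentation.ofIsIso.{u, u, u}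
    (((Scheme.Modules.overEquiv U).inverse.mapIso ((Scheme.Modules.overFunctorEquiv U).app M).symm ≪≫
      ((Scheme.Modules.overEquiv U).unitIso.app (SheafOfModules.over M U)).symm).hom)
    (p.map (Scheme.Modules.overEquiv U).inverse
      (TopologicalSpace.Opens.sheafOfModulesEquivOverInverseUnit U X.ringCatSheaf).symm)

end

/-- Quasi-coherence from a cover with local presentations. -/
theorem isQCoh_of_presentations {M : X.Modules} {ι : Type u} (U : ι → X.Opens) (hU : IsOpenCover U)
    (p : ∀ i, Nonempty (M.restrict (U i).ι).Presentation) : Coh.IsQCoh M :=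
  let q : SheafOfModules.QuasicoherentData.{u} (R := X.ringCatSheaf) M :=
    { I := ι, X := U, coversTop := (Opens.coversTop_iff _ U).2 hU,
      presentation := fun i => presentationOver (U i) (p i).some }
  q.isQuasicoherent

theorem isQCoh_iff_iso {M N : X.Modules} (e : M ≅ N) : Coh.IsQCoh M ↔ Coh.IsQCoh N :=
  ⟨fun h => (SheafOfModules.isQuasicoherent X.ringCatSheaf).prop_of_iso e h,
    fun h => (SheafOfModules.isQuasicoherent X.ringCatSheaf).prop_of_iso e.symm h⟩

theorem isQCoh_restrict {M : Y.Modules} (f : X ⟶ Y) [IsOpenImmersion f] (hM : Coh.IsQCoh M) :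
    Coh.IsQCoh (M.restrict f) :=
  haveI := hM
  Scheme.Modules.isQuasicoherent_restrictFunctor f M

/-- Restricting twice. -/
noncomputable def restrictRestrict {Z : Scheme.{u}} (M : Z.Modules) (f : X ⟶ Y) (g : Y ⟶ Z)
    [IsOpenImmersion f] [IsOpenImmersion g] : (M.restrict g).restrict f ≅ M.restrict (f ≫ g) :=
  ((Scheme.Modules.restrictFunctorComp f g).app M).symm

/-- Transport a presentation of a double restriction. -/
noncomputable def presentationRestrictRestrict {M : Y.Modules} {V : X.Opens} (f : X ⟶ Y)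
    [IsOpenImmersion f] (p : ((M.restrict f).restrict V.ι).Presentation) :
    (M.restrict (f ''ᵁ V).ι).Presentation :=
  let u := (f.isoImage V).inv ≫ V.ι
  have hu : u ≫ f = (f ''ᵁ V).ι := by simp [u]
  let e : ((M.restrict f).restrict V.ι).restrict (f.isoImage V).inv ≅ M.restrict (f ''ᵁ V).ι :=
    restrictRestrict _ _ _ ≪≫ restrictRestrict _ _ _ ≪≫
      (Scheme.Modules.restrictFunctorCongr hu).app M
  SheafOfModules.Presentation.ofIsIso.{u, u, u} e.hom (Scheme.Modules.presentationRestrict _ p)

/-- Quasi-coherence may be checked on an open cover by open immersions. -/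
theorem isQCoh_of_openCover {M : X.Modules} (𝒰 : X.OpenCover)
    (h : ∀ i, Coh.IsQCoh (M.restrict (𝒰.f i))) : Coh.IsQCoh M := by
  choose κ V p hV hV' using fun x : X =>
    haveI := h (𝒰.idx x); (M.restrict (𝒰.f (𝒰.idx x))).exists_isOpenCover_presentation
  refine isQCoh_of_presentations (fun j : Σ x : X, κ x => (𝒰.f (𝒰.idx j.1)) ''ᵁ V j.1 j.2) ?_
    fun j => ⟨presentationRestrictRestrict _ (p j.1 j.2)⟩
  refine top_le_iff.1 fun x _ => ?_
  obtain ⟨y, hy⟩ := 𝒰.covers x
  obtain ⟨k, hk⟩ := (hV x).exists_mem y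
  exact Opens.mem_iSup.2 ⟨⟨x, k⟩, y, hk, hy⟩

/-- Quasi-coherence is local. -/
theorem isQCoh_of_isOpenCover {M : X.Modules} {ι : Type u} (U : ι → X.Opens) (hU : IsOpenCover U)
    (h : ∀ i, Coh.IsQCoh (M.restrict (U i).ι)) : Coh.IsQCoh M :=
  isQCoh_of_openCover (X.openCoverOfIsOpenCover U hU) h

theorem isQCoh_restrict_iff_of_iso {M : Y.Modules} (e : X ⟶ Y) [IsIso e] :
    Coh.IsQCoh (M.restrict e) ↔ Coh.IsQCoh M := by
  refine ⟨fun h => ?_, isQCoh_restrict e⟩
  exact (isQCoh_iff_iso (restrictRestrict M (inv e) e ≪≫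
    (Scheme.Modules.restrictFunctorCongr (IsIso.inv_hom_id e)).app M ≪≫
    Scheme.Modules.restrictFunctorId.app M)).1 (isQCoh_restrict (inv e) h)

/-- A module is quasi-coherent iff it is so on the canonical affine cover. -/
theorem isQCoh_iff_affineCover {M : X.Modules} :
    Coh.IsQCoh M ↔ ∀ i, Coh.IsQCoh (M.restrict (X.affineCover.f i)) :=
  ⟨fun h _ => isQCoh_restrict _ h, isQCoh_of_openCover _⟩

/-- Quasi-coherence may be checked on all affine charts. -/
theorem isQCoh_of_charts {M : X.Modules}
    (h : ∀ (R : CommRingCat.{u}) (f : Spec R ⟶ X) [IsOpenImmersion f], Coh.IsQCoh (M.restrict f)) :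
    Coh.IsQCoh M :=
  isQCoh_iff_affineCover.2 fun i =>
    @h _ (X.affineCover.f i) (X.affineCover.map_prop i)

end Groth.Agent.QCoh
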