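import Groth.Agent.QCoh.Sections
import Groth.Agent.QCoh.Local
import Mathlib.CategoryTheory.Abelian.Exact

/-!
# Exactness of `tilde`; quasi-coherent kernels, cokernels and colimits
-/

universe u v v'

open CategoryTheory CategoryTheory.Limits AlgebraicGeometry TopologicalSpace Opposite

namespace Groth.Agent.QCoh

variable {R : CommRingCat.{u}}

theorem tildeMap_mono {M N : ModuleCat.{u} R} (f : M ⟶ N) [Mono f] : Mono (tilde.map f) := by
  refine mono_of_isBasis _ PrimeSpectrum.isBasis_basic_opens ?_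
  rintro _ ⟨r, rfl⟩
  have hcomm : (modulesSpecToSheaf.map (tilde.map f)).1.app (op (PrimeSpectrum.basicOpen r)) =
      ModuleCat.ofHom (IsLocalizedModule.map (.powers r)
        (tilde.toOpen M (PrimeSpectrum.basicOpen r)).hom
        (tilde.toOpen N (PrimeSpectrum.basicOpen r)).hom f.hom) := by
    ext1
    refine IsLocalizedModule.ext (.powers r) (tilde.toOpen M (PrimeSpectrum.basicOpen r)).hom
      (fun x => IsLocalizedModule.map_units (tilde.toOpen N (PrimeSpectrum.basicOpen r)).hom x) ?_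
    rw [ModuleCat.hom_ofHom, IsLocalizedModule.map_comp]
    exact congrArg ModuleCat.Hom.hom (tilde.toOpen_map_app f _)
  intro x y hxy
  have hinj := IsLocalizedModule.map_injective (.powers r)
    (tilde.toOpen M (PrimeSpectrum.basicOpen r)).hom (tilde.toOpen N (PrimeSpectrum.basicOpen r)).hom
    f.hom ((ModuleCat.mono_iff_injective f).1 ‹_›)
  have h2 : (modulesSpecToSheaf.map (tilde.map f)).1.app (op (PrimeSpectrum.basicOpen r)) x =
      (modulesSpecToSheaf.map (tilde.map f)).1.app (op (PrimeSpectrum.basicOpen r)) y := hxy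
  rw [hcomm] at h2
  exact hinj h2

instance tilde_preservesMono : (tilde.functor R).PreservesMonomorphisms :=
  ⟨fun f _ => tildeMap_mono f⟩

instance tilde_preservesHomology : (tilde.functor R).PreservesHomology :=
  Functor.preservesHomology_of_preservesMonos_and_cokernels _

instance tilde_preservesFiniteLimits : PreservesFiniteLimits (tilde.functor R) :=
  (tilde.functor R).preservesFiniteLimits_of_preservesHomology

instance tilde_preservesFiniteColimits : PreservesFiniteColimits (tilde.functor R) :=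
  inferInstance

theorem isQCoh_spec_iff {M : (Spec R).Modules} :
    Coh.IsQCoh M ↔ (tilde.functor R).essImage M :=
  (isQuasicoherent_iff_isIso_fromTildeΓ M).trans isIso_fromTildeΓ_iff

theorem isQCoh_kernel_spec {M N : (Spec R).Modules} (hM : Coh.IsQCoh M) (hN : Coh.IsQCoh N)
    (φ : M ⟶ N) : Coh.IsQCoh (kernel φ) := by
  obtain ⟨M', ⟨eM⟩⟩ := isQCoh_spec_iff.1 hM
  obtain ⟨N', ⟨eN⟩⟩ := isQCoh_spec_iff.1 hN
  obtain ⟨ψ, hψ⟩ := (tilde.functor R).map_surjective (eM.hom ≫ φ ≫ eN.inv)
  exact isQCoh_spec_iff.2 ⟨kernel ψ, ⟨PreservesKernel.iso (tilde.functor R) ψ ≪≫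
    kernel.mapIso _ φ eM eN (by rw [hψ]; simp)⟩⟩

theorem isQCoh_cokernel_spec {M N : (Spec R).Modules} (hM : Coh.IsQCoh M) (hN : Coh.IsQCoh N)
    (φ : M ⟶ N) : Coh.IsQCoh (cokernel φ) := by
  obtain ⟨M', ⟨eM⟩⟩ := isQCoh_spec_iff.1 hM
  obtain ⟨N', ⟨eN⟩⟩ := isQCoh_spec_iff.1 hN
  obtain ⟨ψ, hψ⟩ := (tilde.functor R).map_surjective (eM.hom ≫ φ ≫ eN.inv)
  exact isQCoh_spec_iff.2 ⟨cokernel ψ, ⟨PreservesCokernel.iso (tilde.functor R) ψ ≪≫
    cokernel.mapIso _ φ eM eN (by rw [hψ]; simp)⟩⟩

theorem isQCoh_colimit_spec {J : Type v} [Category.{v'} J] [HasColimitsOfShape J (ModuleCat.{u} R)]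
    (F : J ⥤ (Spec R).Modules) (hF : ∀ j, Coh.IsQCoh (F.obj j)) [HasColimit F] :
    Coh.IsQCoh (colimit F) := by
  let G := F ⋙ moduleSpecΓFunctor (R := R)
  let e : G ⋙ tilde.functor R ≅ F :=
    NatIso.ofComponents (fun j => @asIso _ _ _ _ (Scheme.Modules.fromTildeΓ (F.obj j))
      ((isQuasicoherent_iff_isIso_fromTildeΓ _).1 (hF j)))
      fun f => (tilde.adjunction (R := R)).counit.naturality (F.map f)
  exact isQCoh_spec_iff.2 ⟨colimit G,
    ⟨(isColimitOfPreserves (tilde.functor R) (colimit.isColimit G)).coconePointsIsoOfNatIso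
      (colimit.isColimit F) e⟩⟩

variable {X Y : Scheme.{u}}

instance restrict_preservesFiniteLimits (f : X ⟶ Y) [IsOpenImmersion f] :
    PreservesFiniteLimits (Scheme.Modules.restrictFunctor f) := by
  have : ReflectsFiniteLimits (Scheme.Modules.toPresheaf X) :=
    ⟨fun J _ _ => reflectsLimitsOfShape_of_reflectsIsomorphisms⟩
  have : PreservesFiniteLimits
      (Scheme.Modules.restrictFunctor f ⋙ Scheme.Modules.toPresheaf X) :=
    haveI : PreservesFiniteLimits (Scheme.Modules.toPresheaf Y) :=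
      PreservesLimitsOfSize.preservesFiniteLimits _
    haveI : PreservesFiniteLimits
        ((Functor.whiskeringLeft _ _ AddCommGrpCat.{u}).obj f.opensFunctor.op) :=
      ⟨fun J _ _ => inferInstance⟩
    comp_preservesFiniteLimits (Scheme.Modules.toPresheaf Y)
      ((Functor.whiskeringLeft _ _ AddCommGrpCat.{u}).obj f.opensFunctor.op)
  exact preservesFiniteLimits_of_reflects_of_preserves _ (Scheme.Modules.toPresheaf X)

theorem isQCoh_kernel {M N : X.Modules} (hM : Coh.IsQCoh M) (hN : Coh.IsQCoh N) (φ : M ⟶ N) :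
    Coh.IsQCoh (kernel φ) := by
  refine isQCoh_of_charts fun R' j _ => ?_
  exact (isQCoh_iff_iso (PreservesKernel.iso (Scheme.Modules.restrictFunctor j) φ)).2
    (isQCoh_kernel_spec (isQCoh_restrict _ hM) (isQCoh_restrict _ hN) _)

theorem isQCoh_cokernel {M N : X.Modules} (hM : Coh.IsQCoh M) (hN : Coh.IsQCoh N) (φ : M ⟶ N) :
    Coh.IsQCoh (cokernel φ) := by
  refine isQCoh_of_charts fun R' j _ => ?_
  exact (isQCoh_iff_iso (PreservesCokernel.iso (Scheme.Modules.restrictFunctor j) φ)).2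
    (isQCoh_cokernel_spec (isQCoh_restrict _ hM) (isQCoh_restrict _ hN) _)

theorem isQCoh_colimit {J : Type u} [SmallCategory J] (F : J ⥤ X.Modules)
    (hF : ∀ j, Coh.IsQCoh (F.obj j)) : Coh.IsQCoh (colimit F) := by
  refine isQCoh_of_charts fun R' j _ => ?_
  exact (isQCoh_iff_iso (preservesColimitIso (Scheme.Modules.restrictFunctor j) F)).2
    (isQCoh_colimit_spec (F ⋙ Scheme.Modules.restrictFunctor j) fun k => isQCoh_restrict _ (hF k))

end Groth.Agent.QCoh
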