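import Groth.Agent.QCoh.Stalk

/-!
# Flatness over a base, by sections on affine opens
-/

set_option backward.isDefEq.respectTransparency false
set_option backward.isDefEq.respectTransparency.types false
set_option linter.style.haveILetI false

universe u

open CategoryTheory CategoryTheory.Limits AlgebraicGeometry TopologicalSpace Opposite TensorProduct

namespace Groth.Agent.QCoh

theorem flat_base_of_isLocalizedModule {A B M M' : Type*} [CommRing A] [CommRing B] [Algebra A B]
    [AddCommGroup M] [Module A M] [Module B M] [IsScalarTower A B M]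
    [AddCommGroup M'] [Module A M'] [Module B M'] [IsScalarTower A B M']
    (S : Submonoid B) (f : M →ₗ[B] M') [IsLocalizedModule S f] [Module.Flat A M] : Module.Flat A M' := by
  rw [Module.Flat.iff_lTensor_injectiveₛ]
  intro P _ _ N
  have h := Module.Flat.lTensor_preserves_injective_linearMap (M := M) N.subtype Subtype.val_injective
  rw [← AlgebraTensorModule.coe_lTensor (A := B)] at h ⊢
  rw [← IsLocalizedModule.map_lTensor (S := S) (f := N.subtype) (g := f)]
  exact IsLocalizedModule.map_injective _ _ _ _ h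

variable {X S : Scheme.{u}} (f : X ⟶ S) {M : X.Modules}

theorem isFlatOverAt_iff {U : X.Opens} {V : S.Opens} (hV : IsAffineOpen V) (hle : U ≤ f ⁻¹ᵁ V)
    {x : X} (hx : x ∈ U) :
    FlatMod.IsFlatOverAt f M x ↔
      (letI : Module Γ(S, V) (M.presheaf.stalk x) :=
        Module.compHom _ ((f.appLE V U hle) ≫ X.presheaf.germ U x hx).hom
       Module.Flat Γ(S, V) (M.presheaf.stalk x)) := by
  letI := stalkAlg (X := S) (U := V) (x := f.base x) (hle hx)
  letI := FlatMod.moduleStalkOver f M x
  letI : Module Γ(S, V) (M.presheaf.stalk x) :=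
    Module.compHom _ ((f.appLE V U hle) ≫ X.presheaf.germ U x hx).hom
  haveI : IsScalarTower Γ(S, V) (S.presheaf.stalk (f.base x)) (M.presheaf.stalk x) := by
    refine IsScalarTower.of_algebraMap_smul fun a m => ?_
    show f.stalkMap x (S.presheaf.germ V (f.base x) (hle hx) a) • m = X.presheaf.germ U x hx (f.appLE V U hle a) • m
    rw [Scheme.Hom.germ_stalkMap_apply f V x (hle hx) a]
    refine congrArg (fun r => r • m) ?_
    exact (X.presheaf.germ_res_apply (homOfLE hle) x hx _).symm
  haveI := isLocalization_stalk' hV (hle hx)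
  exact Module.flat_iff_of_isLocalization (S.presheaf.stalk (f.base x)) (hV.primeIdealOf ⟨f.base x, hle hx⟩).asIdeal.primeCompl _

theorem flat_appLE_iff (hM : Coh.IsQCoh M) {U : X.Opens} (hU : IsAffineOpen U) {V : S.Opens}
    (hV : IsAffineOpen V) (hle : U ≤ f ⁻¹ᵁ V) :
    (letI : Module Γ(S, V) Γ(M, U) := Module.compHom _ (f.appLE V U hle).hom
     Module.Flat Γ(S, V) Γ(M, U)) ↔ ∀ x ∈ U, FlatMod.IsFlatOverAt f M x := by
  letI : Algebra Γ(S, V) Γ(X, U) := (f.appLE V U hle).hom.toAlgebra
  letI : Module Γ(S, V) Γ(M, U) := Module.compHom _ (f.appLE V U hle).hom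
  haveI : IsScalarTower Γ(S, V) Γ(X, U) Γ(M, U) := IsScalarTower.of_algebraMap_smul fun _ _ => rfl
  constructor
  · intro h x hx
    rw [isFlatOverAt_iff f hV hle hx]
    letI := stalkModule M hx
    letI : Module Γ(S, V) (M.presheaf.stalk x) :=
      Module.compHom _ ((f.appLE V U hle) ≫ X.presheaf.germ U x hx).hom
    haveI : IsScalarTower Γ(S, V) Γ(X, U) (M.presheaf.stalk x) := IsScalarTower.of_algebraMap_smul fun _ _ => rfl
    haveI := isLocalizedModule_germLin hM hU hx
    exact flat_base_of_isLocalizedModule (hU.primeIdealOf ⟨x, hx⟩).asIdeal.primeCompl (germLin M hx)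
  · intro h
    choose y hy hyq using fun P : MaximalSpectrum Γ(X, U) => exists_point hU P.toPrimeSpectrum
    letI := fun P : MaximalSpectrum Γ(X, U) => stalkModule M (hy P)
    letI : ∀ P : MaximalSpectrum Γ(X, U), Module Γ(S, V) (M.presheaf.stalk (y P)) := fun P =>
      Module.compHom _ ((f.appLE V U hle) ≫ X.presheaf.germ U (y P) (hy P)).hom
    haveI : ∀ P : MaximalSpectrum Γ(X, U), IsScalarTower Γ(S, V) Γ(X, U) (M.presheaf.stalk (y P)) := fun P =>
      IsScalarTower.of_algebraMap_smul fun _ _ => rfl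
    have hl : ∀ (P : Ideal Γ(X, U)) [hP : P.IsMaximal],
        IsLocalizedModule P.primeCompl (germLin M (hy ⟨P, hP⟩)) := fun P hP => by
      have := isLocalizedModule_germLin hM hU (hy ⟨P, hP⟩)
      simp only [hyq] at this
      exact this
    exact Module.flat_of_isLocalized_maximal (R := Γ(S, V)) Γ(X, U) Γ(M, U)
      (fun P hP => M.presheaf.stalk (y ⟨P, hP⟩)) (fun P hP => germLin M (hy ⟨P, hP⟩))
      fun P hP => (isFlatOverAt_iff f hV hle (hy ⟨P, hP⟩)).1 (h _ (hy ⟨P, hP⟩))

theorem isFlatOver_iff (hM : Coh.IsQCoh M) :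
    FlatMod.IsFlatOver f M ↔ ∀ (U : X.Opens) (V : S.Opens) (hle : U ≤ f ⁻¹ᵁ V), IsAffineOpen U → IsAffineOpen V →
      (letI : Module Γ(S, V) Γ(M, U) := Module.compHom _ (f.appLE V U hle).hom
       Module.Flat Γ(S, V) Γ(M, U)) := by
  refine ⟨fun h U V hle hU hV => (flat_appLE_iff f hM hU hV hle).2 fun x _ => h x, fun h x => ?_⟩
  obtain ⟨_, ⟨V, hV, rfl⟩, hxV, -⟩ :=
    S.isBasis_affineOpens.exists_subset_of_mem_open (Set.mem_univ (f.base x)) isOpen_univ
  obtain ⟨_, ⟨U, hU, rfl⟩, hxU, hle⟩ :=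
    X.isBasis_affineOpens.exists_subset_of_mem_open (show x ∈ f ⁻¹ᵁ V from hxV) (f ⁻¹ᵁ V).2
  exact (flat_appLE_iff f hM hU hV hle).1 (h U V hle hU hV) x hxU

end Groth.Agent.QCoh
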