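import Groth.Agent.QCoh.Stalk
import Groth.Agent.QCoh.FlatOver
import Mathlib.RingTheory.Flat.LocallyFree
import Mathlib.LinearAlgebra.Dimension.Constructions

/-!
# Finite locally free modules by sections on affine opens
-/

set_option backward.isDefEq.respectTransparency false
set_option backward.isDefEq.respectTransparency.types false
set_option linter.style.haveILetI false

universe u

open CategoryTheory CategoryTheory.Limits AlgebraicGeometry TopologicalSpace Opposite

namespace Groth.Agent.QCoh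

/-- The standard free module and the free module on the lifted index type. -/
noncomputable def freeModIso (X : Scheme.{u}) (n : ℕ) :
    FlatMod.freeMod X n ≅ (SheafOfModules.free.{u} (ULift.{u} (Fin n)) : X.Modules) :=
  Sigma.whiskerEquiv (f := fun _ : Fin n => Coh.structureModule X)
    (g := fun _ : ULift.{u} (Fin n) => Coh.structureModule X) Equiv.ulift.symm fun _ => Iso.refl _

/-- Restriction of a free module. -/
noncomputable def freeModRestrict {Y Z : Scheme.{u}} (g : Y ⟶ Z) [IsOpenImmersion g] (n : ℕ) :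
    (FlatMod.freeMod Z n).restrict g ≅ FlatMod.freeMod Y n :=
  PreservesCoproduct.iso (Scheme.Modules.restrictFunctor g) _ ≪≫
    Sigma.mapIso fun _ => Scheme.Modules.restrictUnitIso g

section spec

variable {R : CommRingCat.{u}} {N : (Spec R).Modules}

theorem isQCoh_freeMod_spec (n : ℕ) : Coh.IsQCoh (FlatMod.freeMod (Spec R) n) :=
  (isQCoh_iff_iso (freeModIso (Spec R) n ≪≫ (tildeFinsupp (R := R) _).symm)).2 inferInstance

theorem exists_linearEquiv_of_freeIso {n : ℕ} (e : N ≅ FlatMod.freeMod (Spec R) n) :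
    Nonempty (moduleSpecΓFunctor.obj N ≃ₗ[R] (ULift.{u} (Fin n) →₀ R)) :=
  ⟨(moduleSpecΓFunctor.mapIso (e ≪≫ freeModIso _ n ≪≫ (tildeFinsupp (R := R) _).symm) ≪≫
    ((tilde.toTildeΓNatIso (R := R)).app (ModuleCat.of R (ULift.{u} (Fin n) →₀ R))).symm).toLinearEquiv⟩

theorem exists_freeIso_of_linearEquiv (hN : Coh.IsQCoh N) {n : ℕ}
    (l : moduleSpecΓFunctor.obj N ≃ₗ[R] (ULift.{u} (Fin n) →₀ R)) :
    Nonempty (N ≅ FlatMod.freeMod (Spec R) n) := by
  have := (isQuasicoherent_iff_isIso_fromTildeΓ N).1 hN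
  let e : tilde (moduleSpecΓFunctor.obj N) ≅ N := @asIso _ _ _ _ N.fromTildeΓ this
  let i : moduleSpecΓFunctor.obj N ≅ ModuleCat.of R (ULift.{u} (Fin n) →₀ R) := l.toModuleIso
  exact ⟨e.symm ≪≫ (tilde.functor R).mapIso i ≪≫ tildeFinsupp (R := R) _ ≪≫ (freeModIso _ n).symm⟩

end spec

variable {X : Scheme.{u}} {M : X.Modules}

/-- Free on an affine open, in terms of the chart. -/
noncomputable def freeChart {U V : X.Opens} (hV : IsAffineOpen V) (hle : V ≤ U) {n : ℕ}
    (e : M.restrict U.ι ≅ FlatMod.freeMod (U : Scheme.{u}) n) :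
    M.restrict hV.fromSpec ≅ FlatMod.freeMod (Spec Γ(X, V)) n :=
  (Scheme.Modules.restrictFunctorCongr (show hV.fromSpec = (hV.isoSpec.inv ≫ X.homOfLE hle) ≫ U.ι by
      rw [Category.assoc, Scheme.homOfLE_ι, IsAffineOpen.isoSpec_inv_ι])).app M ≪≫
    (restrictRestrict M _ _).symm ≪≫ (Scheme.Modules.restrictFunctor _).mapIso e ≪≫ freeModRestrict _ n

theorem free_sections {U V : X.Opens} (hV : IsAffineOpen V) (hle : V ≤ U) {n : ℕ}
    (e : M.restrict U.ι ≅ FlatMod.freeMod (U : Scheme.{u}) n) :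
    Nonempty (Γ(M, V) ≃ₗ[Γ(X, V)] (ULift.{u} (Fin n) →₀ Γ(X, V))) :=
  let ⟨l⟩ := exists_linearEquiv_of_freeIso (freeChart hV hle e)
  ⟨(chartEquiv hV M).trans l⟩

theorem exists_free_restrict (hM : Coh.IsQCoh M) {V : X.Opens} (hV : IsAffineOpen V) {n : ℕ}
    (l : Γ(M, V) ≃ₗ[Γ(X, V)] (ULift.{u} (Fin n) →₀ Γ(X, V))) :
    Nonempty (M.restrict V.ι ≅ FlatMod.freeMod (V : Scheme.{u}) n) :=
  let ⟨e⟩ := exists_freeIso_of_linearEquiv (isQCoh_restrict hV.fromSpec hM) ((chartEquiv hV M).symm.trans l)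
  ⟨(chartRestrictIso hV M).symm ≪≫ (Scheme.Modules.restrictFunctor hV.isoSpec.hom).mapIso e ≪≫
    freeModRestrict _ n⟩

theorem exists_affine_free (h : FlatMod.IsFinLocFree M) (x : X) :
    ∃ (V : X.Opens) (hV : IsAffineOpen V) (n : ℕ), x ∈ V ∧
      Nonempty (M.restrict hV.fromSpec ≅ FlatMod.freeMod (Spec Γ(X, V)) n) := by
  obtain ⟨U, n, hx, ⟨e⟩⟩ := h x
  obtain ⟨_, ⟨V, hV, rfl⟩, hxV, hle⟩ :=
    X.isBasis_affineOpens.exists_subset_of_mem_open (show x ∈ U from hx) U.2
  exact ⟨V, hV, n, hxV, ⟨freeChart hV hle e⟩⟩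

theorem isQCoh_of_isFinLocFree (h : FlatMod.IsFinLocFree M) : Coh.IsQCoh M := by
  choose V hV n hx hn using exists_affine_free h
  refine isQCoh_of_isOpenCover V (top_le_iff.1 fun x _ => Opens.mem_iSup.2 ⟨x, hx x⟩) fun x => ?_
  exact (isQCoh_iff_iso (chartRestrictIso (hV x) M)).1
    (isQCoh_restrict (hV x).isoSpec.hom ((isQCoh_iff_iso (hn x).some).2 (isQCoh_freeMod_spec (n x))))

theorem isFP_of_isFinLocFree (h : FlatMod.IsFinLocFree M) : CohB1.IsFP M := by
  choose V hV n hx hn using exists_affine_free h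
  refine isFP_of_finitePresentation (isQCoh_of_isFinLocFree h) V (top_le_iff.1 fun x _ => Opens.mem_iSup.2 ⟨x, hx x⟩) hV fun x => ?_
  obtain ⟨l⟩ := exists_linearEquiv_of_freeIso (hn x).some
  exact Module.FinitePresentation.of_equiv ((chartEquiv (hV x) M).trans l).symm

theorem free_stalk_of_isFinLocFree (h : FlatMod.IsFinLocFree M) (x : X) :
    Module.Free (X.presheaf.stalk x) (M.presheaf.stalk x) := by
  obtain ⟨V, hV, n, hx, ⟨e⟩⟩ := exists_affine_free h x
  obtain ⟨l⟩ := exists_linearEquiv_of_freeIso e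
  have : Module.Free Γ(X, V) Γ(M, V) := Module.Free.of_equiv ((chartEquiv hV M).trans l).symm
  letI := stalkAlg (X := X) hx
  letI := stalkModule M hx
  haveI := isScalarTower_stalk M hx
  haveI := isLocalization_stalk' hV hx
  haveI := isLocalizedModule_germLin (isQCoh_of_isFinLocFree h) hV hx
  exact Module.free_of_isLocalizedModule (hV.primeIdealOf ⟨x, hx⟩).asIdeal.primeCompl (germLin M hx)

/-- Two localizations of a module are semilinearly equivalent. -/
theorem exists_semilinear {A : Type*} [CommRing A] {M₀ : Type*} [AddCommGroup M₀] [Module A M₀]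
    (S : Submonoid A) (A₁ A₂ : Type*) [CommRing A₁] [CommRing A₂] [Algebra A A₁] [Algebra A A₂]
    [IsLocalization S A₁] [IsLocalization S A₂] {M₁ M₂ : Type*} [AddCommGroup M₁] [AddCommGroup M₂]
    [Module A M₁] [Module A M₂] [Module A₁ M₁] [Module A₂ M₂] [IsScalarTower A A₁ M₁] [IsScalarTower A A₂ M₂]
    (f₁ : M₀ →ₗ[A] M₁) (f₂ : M₀ →ₗ[A] M₂) [IsLocalizedModule S f₁] [IsLocalizedModule S f₂] :
    ∃ (i : A₁ ≃+* A₂) (j : M₁ ≃+ M₂), ∀ r m, j (r • m) = i r • j m := by
  refine ⟨(IsLocalization.algEquiv S A₁ A₂).toRingEquiv, (IsLocalizedModule.linearEquiv S f₁ f₂).toAddEquiv,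
    fun r m => ?_⟩
  obtain ⟨r, s, rfl⟩ := IsLocalization.exists_mk'_eq S r
  apply ((Module.End.isUnit_iff _).mp (IsLocalizedModule.map_units f₂ s)).1
  simp [← map_smul, ← smul_assoc]

theorem exists_free_nhd (hM : Coh.IsQCoh M) {U : X.Opens} (hU : IsAffineOpen U) (f : Γ(X, U))
    [Module.Finite Γ(X, U) Γ(M, U)]
    (hfree : Module.Free (Localization.Away f) (LocalizedModule.Away f Γ(M, U))) :
    ∃ n : ℕ, Nonempty (M.restrict (X.basicOpen f).ι ≅ FlatMod.freeMod (X.basicOpen f : Scheme.{u}) n) := by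
  letI := basicModule f M
  haveI := hU.isLocalization_basicOpen f
  haveI := isLocalizedModule_basicRes f hM hU
  haveI : IsScalarTower Γ(X, U) Γ(X, X.basicOpen f) Γ(M, X.basicOpen f) :=
    IsScalarTower.of_algebraMap_smul fun _ _ => rfl
  haveI : Module.Finite (Localization.Away f) (LocalizedModule.Away f Γ(M, U)) :=
    Module.Finite.of_isLocalizedModule (Submonoid.powers f) (LocalizedModule.mkLinearMap (Submonoid.powers f) Γ(M, U))
  obtain ⟨i, j, hij⟩ := exists_semilinear (Submonoid.powers f) (Localization.Away f) Γ(X, X.basicOpen f)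
    (LocalizedModule.mkLinearMap (Submonoid.powers f) Γ(M, U)) (basicRes f M)
  let b := Module.Free.chooseBasis (Localization.Away f) (LocalizedModule.Away f Γ(M, U))
  let κ := Module.Free.ChooseBasisIndex (Localization.Away f) (LocalizedModule.Away f Γ(M, U))
  letI : Module Γ(X, X.basicOpen f) (LocalizedModule.Away f Γ(M, U)) := Module.compHom _ i.symm.toRingHom
  let l : LocalizedModule.Away f Γ(M, U) ≃ₗ[Γ(X, X.basicOpen f)] Γ(M, X.basicOpen f) :=
    { j with map_smul' := fun r m => (hij (i.symm r) m).trans (congrArg (fun r => r • j m) (i.apply_symm_apply r)) }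
  let b' : Module.Basis κ Γ(X, X.basicOpen f) Γ(M, X.basicOpen f) :=
    (b.mapCoeffs i fun c x => congrArg (fun r => r • x) (i.symm_apply_apply c)).map l
  refine ⟨Fintype.card κ, exists_free_restrict hM (hU.basicOpen f) ?_⟩
  exact (b'.reindex ((Fintype.equivFin κ).trans Equiv.ulift.symm)).repr

/-- Finitely presented with a free stalk: free on a neighbourhood. -/
theorem exists_free_nhd_of_free_stalk (hfp : CohB1.IsFP M) (x : X)
    [Module.Free (X.presheaf.stalk x) (M.presheaf.stalk x)] :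
    ∃ (U : X.Opens) (n : ℕ), x ∈ U ∧ Nonempty (M.restrict U.ι ≅ FlatMod.freeMod (U : Scheme.{u}) n) := by
  have hM := isQCoh_of_isFP hfp
  obtain ⟨_, ⟨U, hU, rfl⟩, hx, -⟩ :=
    X.isBasis_affineOpens.exists_subset_of_mem_open (Set.mem_univ x) isOpen_univ
  have hU' : IsAffineOpen U := hU
  haveI := finitePresentation_of_isFP hfp hU'
  letI := stalkAlg (X := X) hx
  letI := stalkModule M hx
  haveI := isScalarTower_stalk M hx
  haveI := isLocalization_stalk' hU' hx
  haveI := isLocalizedModule_germLin hM hU' hx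
  obtain ⟨r, hr, hfree, -⟩ := Module.FinitePresentation.exists_free_localizedModule_powers
    (hU'.primeIdealOf ⟨x, hx⟩).asIdeal.primeCompl (germLin M hx) (X.presheaf.stalk x)
  obtain ⟨n, hn⟩ := exists_free_nhd hM hU' r hfree
  exact ⟨_, n, (mem_basicOpen_iff_notMem hU' hx r).2 hr, hn⟩

theorem isFinLocFree_iff : FlatMod.IsFinLocFree M ↔
    CohB1.IsFP M ∧ ∀ x : X, Module.Free (X.presheaf.stalk x) (M.presheaf.stalk x) :=
  ⟨fun h => ⟨isFP_of_isFinLocFree h, free_stalk_of_isFinLocFree h⟩, fun h x => by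
    haveI := h.2 x
    exact exists_free_nhd_of_free_stalk h.1 x⟩

theorem isFT_of_isFP (h : CohB1.IsFP M) : CohB1.IsFT M :=
  (isFT_iff (isQCoh_of_isFP h)).2 fun U => by
    haveI := finitePresentation_of_isFP h U.2
    infer_instance

theorem isFlat_and_isFP_iff : (FlatMod.IsFlat M ∧ CohB1.IsFP M) ↔ FlatMod.IsFinLocFree M := by
  refine ⟨fun h => isFinLocFree_iff.2 ⟨h.2, fun x => ?_⟩, fun h => ⟨fun x => ?_, isFP_of_isFinLocFree h⟩⟩
  · have hM := isQCoh_of_isFP h.2
    haveI := finite_stalk_of_isFT hM ((isFT_of_isFP h.2)) x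
    haveI : Module.Flat (X.presheaf.stalk x) (M.presheaf.stalk x) := h.1 x
    exact Module.free_of_flat_of_isLocalRing
  · haveI := free_stalk_of_isFinLocFree h x
    exact (inferInstance : Module.Flat (X.presheaf.stalk x) (M.presheaf.stalk x))

theorem finrank_fiber_eq (x : X) [Module.Free (X.presheaf.stalk x) (M.presheaf.stalk x)] :
    Module.finrank (IsLocalRing.ResidueField (X.presheaf.stalk x))
      (TensorProduct (X.presheaf.stalk x) (IsLocalRing.ResidueField (X.presheaf.stalk x)) (M.presheaf.stalk x)) =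
      Module.finrank (X.presheaf.stalk x) (M.presheaf.stalk x) :=
  Module.finrank_baseChange

theorem finrank_stalk_of_freeChart {V : X.Opens} (hV : IsAffineOpen V) (hM : Coh.IsQCoh M) {n : ℕ}
    (l : Γ(M, V) ≃ₗ[Γ(X, V)] (ULift.{u} (Fin n) →₀ Γ(X, V))) {x : X} (hx : x ∈ V) :
    Module.finrank (X.presheaf.stalk x) (M.presheaf.stalk x) = n := by
  letI := stalkAlg (X := X) hx
  letI := stalkModule M hx
  haveI := isScalarTower_stalk M hx
  haveI := isLocalization_stalk' hV hx
  haveI := isLocalizedModule_germLin hM hV hx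
  haveI : Module.Free Γ(X, V) Γ(M, V) := Module.Free.of_equiv l.symm
  haveI : Nontrivial Γ(X, V) := (X.presheaf.germ V x hx).hom.domain_nontrivial
  rw [Module.finrank_of_isLocalizedModule_of_free (X.presheaf.stalk x)
    (hV.primeIdealOf ⟨x, hx⟩).asIdeal.primeCompl (germLin M hx), l.finrank_eq]
  simp

theorem isLocallyConstant_rank (h : FlatMod.IsFinLocFree M) :
    IsLocallyConstant (fun x : X => Module.finrank (X.presheaf.stalk x) (M.presheaf.stalk x)) := by
  refine (IsLocallyConstant.iff_exists_open _).2 fun x => ?_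
  obtain ⟨V, hV, n, hx, ⟨e⟩⟩ := exists_affine_free h x
  obtain ⟨l⟩ := exists_linearEquiv_of_freeIso e
  have hl := fun y hy => finrank_stalk_of_freeChart hV (isQCoh_of_isFinLocFree h) ((chartEquiv hV M).trans l) (x := y) hy
  exact ⟨V, V.2, hx, fun y hy => (hl y hy).trans (hl x hx).symm⟩

theorem rankAtStalk_eq_finrank (hM : Coh.IsQCoh M) {U : X.Opens} (hU : IsAffineOpen U) {x : X} (hx : x ∈ U) :
    Module.rankAtStalk (R := Γ(X, U)) Γ(M, U) (hU.primeIdealOf ⟨x, hx⟩) =
      Module.finrank (X.presheaf.stalk x) (M.presheaf.stalk x) := by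
  letI := stalkAlg (X := X) hx
  letI := stalkModule M hx
  haveI := isScalarTower_stalk M hx
  haveI := isLocalization_stalk' hU hx
  haveI := isLocalizedModule_germLin hM hU hx
  let p := (hU.primeIdealOf ⟨x, hx⟩).asIdeal
  obtain ⟨i, j, hij⟩ := exists_semilinear p.primeCompl (Localization.AtPrime p) (X.presheaf.stalk x)
    (LocalizedModule.mkLinearMap p.primeCompl Γ(M, U)) (germLin M hx)
  exact congrArg Cardinal.toNat (rank_eq_of_equiv_equiv i j i.bijective hij)

theorem isFinLocFree_of_rank (hM : Coh.IsQCoh M) (hft : CohB1.IsFT M)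
    (hfree : ∀ x : X, Module.Free (X.presheaf.stalk x) (M.presheaf.stalk x))
    (hr : IsLocallyConstant (fun x : X => Module.finrank (X.presheaf.stalk x) (M.presheaf.stalk x))) :
    FlatMod.IsFinLocFree M := by
  intro x
  obtain ⟨W, hW, hxW, hconst⟩ := (IsLocallyConstant.iff_exists_open _).1 hr x
  obtain ⟨_, ⟨U, hU, rfl⟩, hx, hUW⟩ := X.isBasis_affineOpens.exists_subset_of_mem_open hxW hW
  have hU' : IsAffineOpen U := hU
  haveI := finite_of_isFT hM hft hU'
  haveI : Module.Flat Γ(X, U) Γ(M, U) := (flat_sections_iff hM hU').2 fun y _ => by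
    haveI := hfree y
    exact (inferInstance : Module.Flat (X.presheaf.stalk y) (M.presheaf.stalk y))
  obtain ⟨a, ha, hfree'⟩ := Module.Free.away_of_finite_of_flat_of_rankAtStalk_constant Γ(M, U)
    (hU'.primeIdealOf ⟨x, hx⟩).asIdeal fun m hm => by
      obtain ⟨y, hy, e⟩ := exists_point hU' ⟨m, hm.isPrime⟩
      rw [← e]
      exact (rankAtStalk_eq_finrank hM hU' hy).trans ((hconst y (hUW hy)).trans (rankAtStalk_eq_finrank hM hU' hx).symm)
  obtain ⟨n, hn⟩ := exists_free_nhd hM hU' a hfree'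
  exact ⟨_, n, (mem_basicOpen_iff_notMem hU' hx a).2 ha, hn⟩

theorem isFinLocFree_iff_rank (hM : Coh.IsQCoh M) :
    FlatMod.IsFinLocFree M ↔ CohB1.IsFT M ∧ (∀ x : X, Module.Free (X.presheaf.stalk x) (M.presheaf.stalk x)) ∧
      IsLocallyConstant (fun x : X => Module.finrank (IsLocalRing.ResidueField (X.presheaf.stalk x))
          (TensorProduct (X.presheaf.stalk x) (IsLocalRing.ResidueField (X.presheaf.stalk x)) (M.presheaf.stalk x))) := by
  constructor
  · intro h
    refine ⟨isFT_of_isFP (isFP_of_isFinLocFree h), free_stalk_of_isFinLocFree h, ?_⟩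
    have e : (fun x : X => Module.finrank (IsLocalRing.ResidueField (X.presheaf.stalk x))
        (TensorProduct (X.presheaf.stalk x) (IsLocalRing.ResidueField (X.presheaf.stalk x)) (M.presheaf.stalk x))) =
        fun x : X => Module.finrank (X.presheaf.stalk x) (M.presheaf.stalk x) := funext fun x => by
      haveI := free_stalk_of_isFinLocFree h x
      exact finrank_fiber_eq x
    rw [e]
    exact isLocallyConstant_rank h
  · rintro ⟨hft, hfree, hr⟩
    refine isFinLocFree_of_rank hM hft hfree ?_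
    have e : (fun x : X => Module.finrank (IsLocalRing.ResidueField (X.presheaf.stalk x))
        (TensorProduct (X.presheaf.stalk x) (IsLocalRing.ResidueField (X.presheaf.stalk x)) (M.presheaf.stalk x))) =
        fun x : X => Module.finrank (X.presheaf.stalk x) (M.presheaf.stalk x) := funext fun x => by
      haveI := hfree x
      exact finrank_fiber_eq x
    rwa [e] at hr

theorem isFinLocFree_tilde_iff {R : CommRingCat.{u}} (N : ModuleCat.{u} R) :
    FlatMod.IsFinLocFree (tilde N) ↔ Module.Finite R N ∧ Module.Projective R N := by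
  have hq : Coh.IsQCoh (tilde N) := inferInstance
  rw [← isFlat_and_isFP_iff, isFP_tilde_iff]
  have hflat : FlatMod.IsFlat (tilde N) ↔ Module.Flat R N := by
    refine Iff.trans ⟨fun h => (flat_sections_iff hq (isAffineOpen_top _)).2 fun x _ => h x,
      fun h x => (flat_sections_iff hq (isAffineOpen_top _)).1 h x trivial⟩ ?_
    let iR := Scheme.ΓSpecIso R
    letI : Module R Γ(tilde N, ⊤) := Module.compHom _ iR.inv.hom
    let e0 := ((tilde.toTildeΓNatIso (R := R)).app N).toLinearEquiv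
    let e : N ≃ₗ[R] Γ(tilde N, ⊤) :=
      { toFun := fun m => (show Γ(tilde N, ⊤) from e0 m)
        invFun := fun z => e0.symm z
        left_inv := e0.symm_apply_apply
        right_inv := e0.apply_symm_apply
        map_add' := map_add e0
        map_smul' := fun a m => map_smul e0 a m }
    rw [Module.Flat.equiv_iff e]
    constructor
    · intro h
      letI : Algebra R Γ(Spec R, ⊤) := iR.inv.hom.toAlgebra
      haveI : IsScalarTower R Γ(Spec R, ⊤) Γ(tilde N, ⊤) := IsScalarTower.of_algebraMap_smul fun _ _ => rfl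
      haveI : Module.Flat R Γ(Spec R, ⊤) := Module.Flat.of_linearEquiv
        (LinearEquiv.ofBijective (Algebra.linearMap R Γ(Spec R, ⊤)) (ConcreteCategory.bijective_of_isIso iR.inv)).symm
      exact Module.Flat.trans R Γ(Spec R, ⊤) Γ(tilde N, ⊤)
    · intro h
      letI : Algebra Γ(Spec R, ⊤) R := iR.hom.hom.toAlgebra
      haveI : IsScalarTower Γ(Spec R, ⊤) R Γ(tilde N, ⊤) := IsScalarTower.of_algebraMap_smul fun a z =>
        congrArg (fun r => r • z) (iR.hom_inv_id_apply a)
      haveI : Module.Flat Γ(Spec R, ⊤) R := Module.Flat.of_linearEquiv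
        (LinearEquiv.ofBijective (Algebra.linearMap Γ(Spec R, ⊤) R) (ConcreteCategory.bijective_of_isIso iR.hom)).symm
      exact Module.Flat.trans Γ(Spec R, ⊤) R Γ(tilde N, ⊤)
  rw [hflat]
  constructor
  · rintro ⟨h1, h2⟩
    exact ⟨inferInstance, Module.freeLocus_eq_univ_iff.1 Module.freeLocus_eq_univ⟩
  · rintro ⟨h1, h2⟩
    exact ⟨inferInstance, Module.finitePresentation_of_projective R N⟩

end Groth.Agent.QCoh
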