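import Groth.Agent.QCoh.Pullback
import Mathlib.RingTheory.IsTensorProduct

/-!
# Sections of an inverse image over affines
-/

universe u

open CategoryTheory CategoryTheory.Limits AlgebraicGeometry TopologicalSpace Opposite

namespace Groth.Agent.QCoh

variable {R : CommRingCat.{u}}

theorem bijective_ΓMap {Q : (Spec R).Modules} (hQ : Coh.IsQCoh Q) (P : (Spec R).Modules) :
    Function.Bijective fun φ : Q ⟶ P => moduleSpecΓFunctor.map φ := by
  have : IsIso Q.fromTildeΓ := (isQuasicoherent_iff_isIso_fromTildeΓ Q).1 hQ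
  have h : (fun φ : Q ⟶ P => moduleSpecΓFunctor.map φ) =
      (tilde.adjunction.homEquiv _ _) ∘ fun φ => tilde.adjunction.counit.app Q ≫ φ := by
    funext φ
    show moduleSpecΓFunctor.map φ = _
    rw [Function.comp_apply, Adjunction.homEquiv_naturality_right, Adjunction.homEquiv_unit,
      Adjunction.right_triangle_components]
    exact (Category.id_comp _).symm
  have : IsIso (tilde.adjunction.counit.app Q) := ‹IsIso Q.fromTildeΓ›
  rw [h]
  exact (Equiv.bijective _).comp ((IsIso.epi_of_iso (tilde.adjunction.counit.app Q)).left_cancellation |> fun hc =>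
    ⟨fun a b e => hc _ _ e, fun ψ => ⟨inv (tilde.adjunction.counit.app Q) ≫ ψ, by
      show tilde.adjunction.counit.app Q ≫ _ = ψ
      rw [IsIso.hom_inv_id_assoc]⟩⟩)

variable {X : Scheme.{u}} {V : X.Opens} (hV : IsAffineOpen V)

theorem image_top_fromSpec : hV.fromSpec ''ᵁ ⊤ = V :=
  (Scheme.Hom.image_top_eq_opensRange _).trans hV.opensRange_fromSpec

/-- Sections over an affine open as sections of the restriction to the chart. -/
noncomputable def toChart (M : X.Modules) (x : Γ(M, V)) : moduleSpecΓFunctor.obj (M.restrict hV.fromSpec) :=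
  (show Γ(M.restrict hV.fromSpec, ⊤) from M.presheaf.map (homOfLE (image_top_fromSpec hV).le).op x)

theorem toChart_add (M : X.Modules) (x y : Γ(M, V)) :
    toChart hV M (x + y) = toChart hV M x + toChart hV M y := map_add (M.presheaf.map _).hom x y

theorem toChart_smul (M : X.Modules) (r : Γ(X, V)) (x : Γ(M, V)) :
    toChart hV M (r • x) = (show Γ(X, V) from r) • toChart hV M x := by
  refine ((map_smul' _ r x).trans ?_).trans (restrict_smul_spec hV.fromSpec ⊤ r _).symm
  rw [chartScalar_fromSpec hV (image_top_fromSpec hV).le]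
  exact congrArg (· • _) ((ringMap_map _ _ _).symm :)

theorem bijective_toChart (M : X.Modules) : Function.Bijective (toChart hV M) := by
  refine ⟨fun x y h => ?_, fun z => ⟨M.presheaf.map (homOfLE (image_top_fromSpec hV).ge).op
    (show Γ(M, hV.fromSpec ''ᵁ ⊤) from z), (map_map _ _ _).trans (map_id' _ _)⟩⟩
  have := congrArg (fun t => M.presheaf.map (homOfLE (image_top_fromSpec hV).ge).op
    (show Γ(M, hV.fromSpec ''ᵁ ⊤) from t)) h
  exact ((map_map _ _ _).trans (map_id' _ _)).symm.trans (this.trans ((map_map _ _ _).trans (map_id' _ _)))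

variable {X' : Scheme.{u}} (φ : X' ⟶ X) {W : X'.Opens} (hW : IsAffineOpen W)

/-- Sections of the inverse image, from sections. -/
noncomputable def pullSec (M : X.Modules) (hle : W ≤ φ ⁻¹ᵁ V) (x : Γ(M, V)) :
    Γ((Scheme.Modules.pullback φ).obj M, W) :=
  ((Scheme.Modules.pullback φ).obj M).presheaf.map (homOfLE hle).op
    (show Γ((Scheme.Modules.pullback φ).obj M, φ ⁻¹ᵁ V) from
      ((Scheme.Modules.pullbackPushforwardAdjunction φ).unit.app M).app V x)

/-- The two ways of pushing a module on the chart upstairs forward to `X`. -/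
noncomputable def pushChartIso (hle : W ≤ φ ⁻¹ᵁ V) (P : (Spec Γ(X', W)).Modules) :
    (Scheme.Modules.pushforward φ).obj ((Scheme.Modules.pushforward hW.fromSpec).obj P) ≅
      (Scheme.Modules.pushforward hV.fromSpec).obj
        ((Scheme.Modules.pushforward (Spec.map (φ.appLE V W hle))).obj P) :=
  (Scheme.Modules.pushforwardComp hW.fromSpec φ).app P ≪≫
    (Scheme.Modules.pushforwardCongr (exists_chart_map φ hV hW hle).symm).app P ≪≫
    ((Scheme.Modules.pushforwardComp (Spec.map (φ.appLE V W hle)) hV.fromSpec).app P).symm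

/-- Maps out of the inverse image on a chart, as maps on the chart below. -/
noncomputable def chartTrans (M : X.Modules) (hle : W ≤ φ ⁻¹ᵁ V) (P : (Spec Γ(X', W)).Modules) :
    (((Scheme.Modules.pullback φ).obj M).restrict hW.fromSpec ⟶ P) ≃
      (M.restrict hV.fromSpec ⟶ (Scheme.Modules.pushforward (Spec.map (φ.appLE V W hle))).obj P) :=
  ((Scheme.Modules.restrictAdjunction hW.fromSpec).homEquiv _ _).trans
    (((Scheme.Modules.pullbackPushforwardAdjunction φ).homEquiv _ _).trans
      (((pushChartIso hV φ hW hle P).homToEquiv).trans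
        ((Scheme.Modules.restrictAdjunction hV.fromSpec).homEquiv _ _).symm))

theorem chartTrans_app (M : X.Modules) (hle : W ≤ φ ⁻¹ᵁ V) (P : (Spec Γ(X', W)).Modules)
    (ψ : ((Scheme.Modules.pullback φ).obj M).restrict hW.fromSpec ⟶ P) (x : Γ(M, V)) :
    (show Γ(P, ⊤) from (chartTrans hV φ hW M hle P ψ).app ⊤ (toChart hV M x)) =
      ψ.app ⊤ (toChart hW _ (pullSec φ M hle x)) := by
  let g := Spec.map (φ.appLE V W hle)
  let Q := (Scheme.Modules.pullback φ).obj M
  let O : X.Opens := hV.fromSpec ''ᵁ ⊤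
  let A : (Spec Γ(X', W)).Opens := hW.fromSpec ⁻¹ᵁ (φ ⁻¹ᵁ O)
  have e₂ : (g ≫ hV.fromSpec) ⁻¹ᵁ O = A := by
    rw [exists_chart_map φ hV hW hle]; rfl
  have e₁ : (⊤ : (Spec Γ(X', W)).Opens) = g ⁻¹ᵁ (hV.fromSpec ⁻¹ᵁ O) := by
    show _ = g ⁻¹ᵁ (hV.fromSpec ⁻¹ᵁ (hV.fromSpec ''ᵁ ⊤))
    rw [hV.fromSpec.preimage_image_eq]; rfl
  show P.presheaf.map (eqToHom e₁).op (P.presheaf.map (eqToHom e₂).op (ψ.app A
    (Q.presheaf.map (homOfLE (hW.fromSpec.image_preimage_le (φ ⁻¹ᵁ O))).op
      (((Scheme.Modules.pullbackPushforwardAdjunction φ).unit.app M).app O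
        (M.presheaf.map (homOfLE (image_top_fromSpec hV).le).op x))))) = _
  let y : Γ(Q, φ ⁻¹ᵁ V) := ((Scheme.Modules.pullbackPushforwardAdjunction φ).unit.app M).app V x
  have h1 : (show Γ(Q, φ ⁻¹ᵁ O) from ((Scheme.Modules.pullbackPushforwardAdjunction φ).unit.app M).app O
      (M.presheaf.map (homOfLE (image_top_fromSpec hV).le).op x)) =
      Q.presheaf.map ((Opens.map φ.base).map (homOfLE (image_top_fromSpec hV).le)).op y :=
    map_app_comm _ _ _
  refine (congrArg (fun t : Γ(Q, φ ⁻¹ᵁ O) => P.presheaf.map (eqToHom e₁).op (P.presheaf.map (eqToHom e₂).op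
    (ψ.app A (Q.presheaf.map (homOfLE (hW.fromSpec.image_preimage_le (φ ⁻¹ᵁ O))).op t)))) h1).trans ?_
  refine (map_map (M := P) _ _ _).trans ((map_app_comm (M := Q.restrict hW.fromSpec) ψ _ _).symm.trans ?_)
  refine congrArg (ψ.app ⊤) ?_
  show Q.presheaf.map (hW.fromSpec.opensFunctor.map (eqToHom e₁ ≫ eqToHom e₂)).op
      (Q.presheaf.map _ (Q.presheaf.map ((Opens.map φ.base).map (homOfLE (image_top_fromSpec hV).le)).op
        y)) =
    Q.presheaf.map (homOfLE (image_top_fromSpec hW).le).op (Q.presheaf.map (homOfLE hle).op y)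
  exact ((congrArg _ (map_map (M := Q) _ _ _)).trans (map_map (M := Q) _ _ _)).trans
    (map_map (M := Q) (homOfLE (image_top_fromSpec hW).le) (homOfLE hle) y).symm

theorem chartTrans_app' (M : X.Modules) (hle : W ≤ φ ⁻¹ᵁ V) (P : (Spec Γ(X', W)).Modules)
    (ψ : ((Scheme.Modules.pullback φ).obj M).restrict hW.fromSpec ⟶ P) (x : Γ(M, V)) :
    (show Γ(P, ⊤) from moduleSpecΓFunctor.map (chartTrans hV φ hW M hle P ψ) (toChart hV M x)) =
      moduleSpecΓFunctor.map ψ (toChart hW _ (pullSec φ M hle x)) :=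
  chartTrans_app hV φ hW M hle P ψ x

theorem pullSec_add (M : X.Modules) (hle : W ≤ φ ⁻¹ᵁ V) (x y : Γ(M, V)) :
    pullSec φ M hle (x + y) = pullSec φ M hle x + pullSec φ M hle y := by
  unfold pullSec
  rw [map_add]
  exact map_add (((Scheme.Modules.pullback φ).obj M).presheaf.map _).hom _ _

theorem pullSec_smul (M : X.Modules) (hle : W ≤ φ ⁻¹ᵁ V) (r : Γ(X, V)) (x : Γ(M, V)) :
    pullSec φ M hle (r • x) = φ.appLE V W hle r • pullSec φ M hle x := by
  unfold pullSec
  rw [Scheme.Modules.Hom.app_smul]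
  exact map_smul' (M := (Scheme.Modules.pullback φ).obj M) (homOfLE hle) _ _

include hV hW in
/-- Sections of an inverse image over an affine are the base change of the sections. -/
theorem isBaseChange_pullback {M : X.Modules} (hM : Coh.IsQCoh M) (hle : W ≤ φ ⁻¹ᵁ V)
    [Algebra Γ(X, V) Γ(X', W)]
    (halg : ∀ r, algebraMap Γ(X, V) Γ(X', W) r = φ.appLE V W hle r)
    [Module Γ(X, V) Γ((Scheme.Modules.pullback φ).obj M, W)]
    [IsScalarTower Γ(X, V) Γ(X', W) Γ((Scheme.Modules.pullback φ).obj M, W)]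
    (l : Γ(M, V) →ₗ[Γ(X, V)] Γ((Scheme.Modules.pullback φ).obj M, W))
    (hl : ∀ x, l x = pullSec φ M hle x) : IsBaseChange Γ(X', W) l := by
  let N := (Scheme.Modules.pullback φ).obj M
  have hN : Coh.IsQCoh N := isQCoh_pullback φ hM
  let cM : Γ(M, V) ≃+ moduleSpecΓFunctor.obj (M.restrict hV.fromSpec) :=
    AddEquiv.ofBijective (AddMonoidHom.mk' (toChart hV M) (toChart_add hV M)) (bijective_toChart hV M)
  let cN : Γ(N, W) ≃+ moduleSpecΓFunctor.obj (N.restrict hW.fromSpec) :=
    AddEquiv.ofBijective (AddMonoidHom.mk' (toChart hW N) (toChart_add hW N)) (bijective_toChart hW N)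
  have hMs : ∀ (r : Γ(X, V)) x, cM.symm (r • x) = r • cM.symm x := fun r x => cM.injective <| by
    rw [AddEquiv.apply_symm_apply]
    exact ((toChart_smul hV M r _).trans (congrArg (r • ·) (cM.apply_symm_apply x))).symm
  have hNs : ∀ (r : Γ(X', W)) x, cN.symm (r • x) = r • cN.symm x := fun r x => cN.injective <| by
    rw [AddEquiv.apply_symm_apply]
    exact ((toChart_smul hW N r _).trans (congrArg (r • ·) (cN.apply_symm_apply x))).symm
  refine IsBaseChange.of_lift_unique _ fun Q _ _ _ _ h => ?_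
  let : AddCommGroup Q := Module.addCommMonoidToAddCommGroup Γ(X', W)
  let P : (Spec Γ(X', W)).Modules := tilde (ModuleCat.of Γ(X', W) Q)
  let α : Q ≃ₗ[Γ(X', W)] moduleSpecΓFunctor.obj P :=
    (tilde.isoTop (ModuleCat.of Γ(X', W) Q)).toLinearEquiv
  let g := φ.appLE V W hle
  have hαr : ∀ (r : Γ(X, V)) (z : Q),
      (show moduleSpecΓFunctor.obj P from α (r • z)) = g r • α z := fun r z => by
    rw [← algebraMap_smul Γ(X', W) r z, map_smul, halg]
  have hΓ : ∀ (r : Γ(X, V)) (z : moduleSpecΓFunctor.obj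
      ((Scheme.Modules.pushforward (Spec.map g)).obj P)),
      (ΓPushIso g).hom.app P (r • z) = g r • (show moduleSpecΓFunctor.obj P from z) := fun r z =>
    ((ΓPushIso g).hom.app P).hom.map_smul r z
  let hh : moduleSpecΓFunctor.obj (M.restrict hV.fromSpec) ⟶
      moduleSpecΓFunctor.obj ((Scheme.Modules.pushforward (Spec.map g)).obj P) :=
    @ModuleCat.ofHom _ _ (moduleSpecΓFunctor.obj (M.restrict hV.fromSpec))
      (moduleSpecΓFunctor.obj ((Scheme.Modules.pushforward (Spec.map g)).obj P)) _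
      (moduleSpecΓFunctor.obj (M.restrict hV.fromSpec)).isModule _
      (moduleSpecΓFunctor.obj ((Scheme.Modules.pushforward (Spec.map g)).obj P)).isModule
      { toFun := fun z => (show moduleSpecΓFunctor.obj P from α (h (cM.symm z)))
        map_add' := fun a b => by rw [map_add, map_add, map_add]; rfl
        map_smul' := fun r z => by
          show (show moduleSpecΓFunctor.obj P from α (h (cM.symm (r • z)))) = _
          rw [hMs, map_smul, hαr]
          exact ((hΓ r (α (h (cM.symm z))))).symm }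
  obtain ⟨χ, hχ⟩ := (bijective_ΓMap (isQCoh_restrict hV.fromSpec hM) _).2 hh
  let ψ := (chartTrans hV φ hW M hle P).symm χ
  let L : Γ(N, W) →ₗ[Γ(X', W)] Q :=
    { toFun := fun y => α.symm (moduleSpecΓFunctor.map ψ (cN y))
      map_add' := fun a b => by rw [map_add, map_add, map_add]
      map_smul' := fun r y => by
        rw [show cN (r • y) = r • cN y from toChart_smul hW N r y, map_smul, map_smul]
        rfl }
  refine ⟨L, LinearMap.ext fun x => ?_, fun L' hL' => ?_⟩
  · show α.symm (moduleSpecΓFunctor.map ψ (cN (l x))) = h x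
    rw [hl]
    refine α.symm_apply_eq.2 ((chartTrans_app' hV φ hW M hle P ψ x).symm.trans ?_)
    rw [Equiv.apply_symm_apply, show moduleSpecΓFunctor.map χ = hh from hχ]
    exact congrArg α (congrArg h (cM.symm_apply_apply x))
  · let m : moduleSpecΓFunctor.obj (N.restrict hW.fromSpec) ⟶ moduleSpecΓFunctor.obj P :=
      @ModuleCat.ofHom _ _ (moduleSpecΓFunctor.obj (N.restrict hW.fromSpec))
        (moduleSpecΓFunctor.obj P) _ (moduleSpecΓFunctor.obj (N.restrict hW.fromSpec)).isModule _
        (moduleSpecΓFunctor.obj P).isModule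
        { toFun := fun z => α (L' (cN.symm z))
          map_add' := fun a b => by rw [map_add, map_add, map_add]
          map_smul' := fun r z => by rw [hNs, map_smul, map_smul]; rfl }
    obtain ⟨ψ', hψ'⟩ := (bijective_ΓMap (isQCoh_restrict hW.fromSpec hN) P).2 m
    have hψ : chartTrans hV φ hW M hle P ψ' = χ := by
      refine (bijective_ΓMap (isQCoh_restrict hV.fromSpec hM) _).1 ?_
      refine ModuleCat.hom_ext (LinearMap.ext fun z => ?_)
      obtain ⟨x, rfl⟩ := cM.surjective z
      refine ((chartTrans_app' hV φ hW M hle P ψ' x).trans (ConcreteCategory.congr_hom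
        (show moduleSpecΓFunctor.map ψ' = m from hψ') _)).trans (Eq.trans ?_
          (ConcreteCategory.congr_hom (show moduleSpecΓFunctor.map χ = hh from hχ) _).symm)
      show α (L' (cN.symm (cN (pullSec φ M hle x)))) = α (h (cM.symm (cM x)))
      rw [cN.symm_apply_apply, cM.symm_apply_apply, ← hl]
      exact congrArg α (LinearMap.congr_fun hL' x)
    have hψ2 : ψ' = ψ := (chartTrans hV φ hW M hle P).injective (hψ.trans (Equiv.apply_symm_apply _ _).symm)
    refine LinearMap.ext fun y => ?_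
    show L' y = α.symm (moduleSpecΓFunctor.map ψ (cN y))
    rw [← hψ2, show moduleSpecΓFunctor.map ψ' = m from hψ']
    exact ((α.symm_apply_apply _).trans (congrArg L' (cN.symm_apply_apply y))).symm

end Groth.Agent.QCoh
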