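import Groth.Agent.QCoh.PullbackBC
import Groth.Agent.QCoh.Qcqs
import Mathlib.RingTheory.Localization.Finiteness
import Mathlib.RingTheory.LocalProperties.FinitePresentation
import Mathlib.RingTheory.Finiteness.Projective

/-!
# Finite type and finite presentation, by sections over affine opens
-/

set_option backward.isDefEq.respectTransparency false
set_option backward.isDefEq.respectTransparency.types false

universe u

open CategoryTheory CategoryTheory.Limits AlgebraicGeometry TopologicalSpace Opposite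

namespace Groth.Agent.QCoh

section spec

variable {R : CommRingCat.{u}} {N : (Spec R).Modules}

/-- The module map underlying a family of generators on an affine scheme. -/
theorem exists_module_gens (hN : Coh.IsQCoh N) {σ : Type u} (p : SheafOfModules.free.{u} σ ⟶ N) :
    ∃ (ψ : ModuleCat.of R (σ →₀ R) ⟶ moduleSpecΓFunctor.obj N) (e : tilde (moduleSpecΓFunctor.obj N) ≅ N),
      tilde.map ψ ≫ e.hom = (tildeFinsupp σ).hom ≫ p := by
  let e : tilde (moduleSpecΓFunctor.obj N) ≅ N :=
    @asIso _ _ _ _ N.fromTildeΓ ((isQuasicoherent_iff_isIso_fromTildeΓ N).1 hN)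
  let p' : tilde (ModuleCat.of R (σ →₀ R)) ⟶ N := (tildeFinsupp σ).hom ≫ p
  refine ⟨(tilde.functor R).preimage (p' ≫ e.inv), e, ?_⟩
  show (tilde.functor R).map _ ≫ e.hom = p'
  rw [Functor.map_preimage, Category.assoc, e.inv_hom_id, Category.comp_id]

theorem epi_module_gens {σ : Type u} {p : SheafOfModules.free.{u} σ ⟶ N} [hp : Epi p]
    {ψ : ModuleCat.of R (σ →₀ R) ⟶ moduleSpecΓFunctor.obj N} {e : tilde (moduleSpecΓFunctor.obj N) ≅ N}
    (h : tilde.map ψ ≫ e.hom = (tildeFinsupp σ).hom ≫ p) : Function.Surjective ψ := by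
  let p' : tilde (ModuleCat.of R (σ →₀ R)) ⟶ N := (tildeFinsupp σ).hom ≫ p
  have hp' : Epi p' := @epi_comp _ _ _ _ _ (tildeFinsupp σ).hom inferInstance p hp
  have : Epi ((tilde.functor R).map ψ) := by
    rw [show (tilde.functor R).map ψ = p' ≫ e.inv from (Iso.eq_comp_inv _).2 h]
    exact epi_comp _ _
  exact (ModuleCat.epi_iff_surjective ψ).1 ((tilde.functor R).epi_of_epi_map this)

theorem finite_of_epi_free (hN : Coh.IsQCoh N) {σ : Type u} [Finite σ]
    (p : SheafOfModules.free.{u} σ ⟶ N) [Epi p] : Module.Finite R (moduleSpecΓFunctor.obj N) := by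
  obtain ⟨ψ, e, h⟩ := exists_module_gens hN p
  exact Module.Finite.of_surjective ψ.hom (epi_module_gens h)

theorem finitePresentation_of_presentation (hN : Coh.IsQCoh N) (P : SheafOfModules.Presentation N)
    [P.IsFinite] : Module.FinitePresentation R (moduleSpecΓFunctor.obj N) := by
  have : Finite P.generators.I := SheafOfModules.GeneratingSections.IsFiniteType.finite
  have : Finite P.relations.I := SheafOfModules.GeneratingSections.IsFiniteType.finite
  obtain ⟨ψ, e, h⟩ := exists_module_gens hN P.generators.π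
  let K : ModuleCat.{u} R := kernel ψ
  let eK : (tilde.functor R).obj K ≅ kernel P.generators.π :=
    PreservesKernel.iso (tilde.functor R) ψ ≪≫ kernel.mapIso _ _ (tildeFinsupp _) e h
  have hK : Coh.IsQCoh (kernel P.generators.π) :=
    (isQCoh_iff_iso eK).1 (isQCoh_spec_iff.2 ⟨K, ⟨Iso.refl _⟩⟩)
  have hfin := finite_of_epi_free hK P.relations.π
  let eΓ : K ≅ moduleSpecΓFunctor.obj (kernel P.generators.π) :=
    (tilde.toTildeΓNatIso (R := R)).app K ≪≫ moduleSpecΓFunctor.mapIso eK
  have : Module.Finite R K := Module.Finite.equiv eΓ.symm.toLinearEquiv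
  have hker : (LinearMap.ker ψ.hom).FG := Module.Finite.iff_fg.1
    (Module.Finite.equiv (ModuleCat.kernelIsoKer ψ).toLinearEquiv)
  exact Module.finitePresentation_of_surjective ψ.hom (epi_module_gens h) hker

/-- Generating sections of `tilde` of a finite module. -/
theorem exists_gens_of_finite (hN : Coh.IsQCoh N) [Module.Finite R (moduleSpecΓFunctor.obj N)] :
    ∃ σ : SheafOfModules.GeneratingSections N, σ.IsFiniteType := by
  have : IsIso N.fromTildeΓ := (isQuasicoherent_iff_isIso_fromTildeΓ N).1 hN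
  obtain ⟨n, f, hf⟩ := Module.Finite.exists_fin' R (moduleSpecΓFunctor.obj N)
  let ι := ULift.{u} (Fin n)
  let l : (ι →₀ R) →ₗ[R] moduleSpecΓFunctor.obj N := f.comp
    ((Finsupp.linearEquivFunOnFinite R R ι).trans (LinearEquiv.funCongrLeft R R Equiv.ulift.symm)).toLinearMap
  let ψ : ModuleCat.of R (ι →₀ R) ⟶ moduleSpecΓFunctor.obj N :=
    @ModuleCat.ofHom R _ (ι →₀ R) (moduleSpecΓFunctor.obj N) _ _ _ (moduleSpecΓFunctor.obj N).isModule l
  have hψ : Epi ψ := (ModuleCat.epi_iff_surjective ψ).2 (hf.comp (LinearEquiv.surjective _))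
  let e : tilde (moduleSpecΓFunctor.obj N) ≅ N := @asIso _ _ _ _ N.fromTildeΓ this
  have : (tilde.functor R).PreservesEpimorphisms := Functor.preservesEpimorphisms_of_adjunction tilde.adjunction
  have : Epi ((tilde.functor R).map ψ) := Functor.map_epi _ _
  let p' : tilde (ModuleCat.of R (ι →₀ R)) ⟶ N := (tilde.functor R).map ψ ≫ e.hom
  have hp' : Epi p' := epi_comp _ _
  let p : SheafOfModules.free.{u} ι ⟶ N := (tildeFinsupp ι).inv ≫ p'
  have hp : Epi p := @epi_comp _ _ _ _ _ (tildeFinsupp ι).inv inferInstance p' hp'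
  let σ : SheafOfModules.GeneratingSections N :=
    ⟨ι, SheafOfModules.freeHomEquiv _ p, by rw [Equiv.symm_apply_apply]; exact hp⟩
  exact ⟨σ, ⟨(inferInstance : Finite ι)⟩⟩

/-- A finite presentation of `tilde` of a finitely presented module. -/
theorem exists_presentation_of_finitePresentation (hN : Coh.IsQCoh N)
    [hfp : Module.FinitePresentation R (moduleSpecΓFunctor.obj N)] :
    ∃ P : SheafOfModules.Presentation N, P.IsFinite := by
  have : IsIso N.fromTildeΓ := (isQuasicoherent_iff_isIso_fromTildeΓ N).1 hN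
  obtain ⟨s, hs, hs'⟩ := Module.FinitePresentation.out (R := R) (M := moduleSpecΓFunctor.obj N)
  obtain ⟨t, ht⟩ := hs'
  let e : tilde (moduleSpecΓFunctor.obj N) ≅ N := @asIso _ _ _ _ N.fromTildeΓ this
  let t' : Set (↥s →₀ R) := ↑t
  let P := presentationTilde (M := moduleSpecΓFunctor.obj N) (s : Set (moduleSpecΓFunctor.obj N)) hs
    t' ht
  have : P.IsFinite :=
    { isFiniteType_generators := ⟨inferInstanceAs (Finite (s : Set (moduleSpecΓFunctor.obj N)))⟩
      isFiniteType_relations := ⟨t.finite_toSet.to_subtype⟩ }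
  exact ⟨SheafOfModules.Presentation.ofIsIso.{u, u, u} e.hom P, inferInstance⟩

end spec

variable {X : Scheme.{u}} {M : X.Modules}

/-- Sections over an affine open and sections of the chart. -/
noncomputable def chartEquiv {U : X.Opens} (hU : IsAffineOpen U) (M : X.Modules) :
    Γ(M, U) ≃ₗ[Γ(X, U)] moduleSpecΓFunctor.obj (M.restrict hU.fromSpec) :=
  LinearEquiv.ofBijective
    { toFun := toChart hU M
      map_add' := toChart_add hU M
      map_smul' := fun r x => toChart_smul hU M r x } (bijective_toChart hU M)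

theorem exists_affine_basicOpen_le {ι : Type*} (V : ι → X.Opens) (hV : ∀ x : X, ∃ i, x ∈ V i)
    {U : X.Opens} (hU : IsAffineOpen U) :
    ∃ s : Set Γ(X, U), Ideal.span s = ⊤ ∧ ∀ f ∈ s, ∃ i, X.basicOpen f ≤ V i := by
  refine ⟨{f | ∃ i, X.basicOpen f ≤ V i}, hU.self_le_iSup_basicOpen_iff.1 fun x hx => ?_, fun f hf => hf⟩
  obtain ⟨i, hi⟩ := hV x
  obtain ⟨f, hf, hxf⟩ := hU.exists_basicOpen_le ⟨x, hi⟩ hx
  exact Opens.mem_iSup.2 ⟨⟨f, i, hf⟩, hxf⟩

section loc

variable {U : X.Opens} (f : Γ(X, U))

/-- Sections on a basic open as a module over the sections on the affine. -/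
noncomputable abbrev basicModule (M : X.Modules) : Module Γ(X, U) Γ(M, X.basicOpen f) :=
  Module.compHom _ (algebraMap Γ(X, U) Γ(X, X.basicOpen f))

/-- Restriction to a basic open. -/
noncomputable def basicRes (M : X.Modules) :
    letI := basicModule f M; Γ(M, U) →ₗ[Γ(X, U)] Γ(M, X.basicOpen f) :=
  letI := basicModule f M
  { toFun := M.presheaf.map (homOfLE (X.basicOpen_le f)).op
    map_add' := map_add (M.presheaf.map (homOfLE (X.basicOpen_le f)).op).hom
    map_smul' := fun r x => map_smul' (homOfLE (X.basicOpen_le f)) r x }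

theorem isLocalizedModule_basicRes (hM : Coh.IsQCoh M) (hU : IsAffineOpen U) :
    letI := basicModule f M; IsLocalizedModule (Submonoid.powers f) (basicRes f M) := by
  letI := basicModule f M
  have hloc := hU.isLocalization_basicOpen f
  have : IsScalarTower Γ(X, U) Γ(X, X.basicOpen f) Γ(M, X.basicOpen f) :=
    IsScalarTower.of_algebraMap_smul fun _ _ => rfl
  refine ⟨fun s => ?_, fun y => ?_, fun {x₁ x₂} h => ?_⟩
  · rw [Module.End.isUnit_iff]
    have hu := IsLocalization.map_units Γ(X, X.basicOpen f) s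
    refine ⟨fun a b hab => ?_, fun b => ⟨hu.unit⁻¹.val • b, ?_⟩⟩
    · exact hu.smul_left_cancel.1 hab
    · show algebraMap Γ(X, U) Γ(X, X.basicOpen f) s • hu.unit⁻¹.val • b = b
      rw [← mul_smul, IsUnit.mul_val_inv, one_smul]
  · obtain ⟨n, t, ht⟩ := exists_pow_smul_eq_map hM hU f y
    refine ⟨(t, ⟨f ^ n, n, rfl⟩), ?_⟩
    show algebraMap Γ(X, U) Γ(X, X.basicOpen f) (f ^ n) • y = M.presheaf.map (homOfLE (X.basicOpen_le f)).op t
    rw [map_pow, ht]; rfl
  · obtain ⟨n, hn⟩ := exists_pow_smul_eq_zero hM hU f (x₁ - x₂)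
      ((map_sub (M.presheaf.map (homOfLE (X.basicOpen_le f)).op).hom x₁ x₂).trans (sub_eq_zero.2 h))
    exact ⟨⟨f ^ n, n, rfl⟩, sub_eq_zero.1 ((smul_sub _ _ _).symm.trans hn)⟩

end loc

theorem finite_of_span (hM : Coh.IsQCoh M) {U : X.Opens} (hU : IsAffineOpen U) (s : Set Γ(X, U))
    (hs : Ideal.span s = ⊤) (h : ∀ f ∈ s, Module.Finite Γ(X, X.basicOpen f) Γ(M, X.basicOpen f)) :
    Module.Finite Γ(X, U) Γ(M, U) := by
  letI := fun g : s => basicModule g.1 M
  haveI := fun g : s => hU.isLocalization_basicOpen g.1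
  haveI := fun g : s => isLocalizedModule_basicRes g.1 hM hU
  haveI : ∀ g : s, IsScalarTower Γ(X, U) Γ(X, X.basicOpen g.1) Γ(M, X.basicOpen g.1) :=
    fun g => IsScalarTower.of_algebraMap_smul fun _ _ => rfl
  exact Module.Finite.of_localizationSpan' s hs (Rₚ := fun g : s => Γ(X, X.basicOpen g.1))
    (fun g => basicRes g.1 M) fun g => h g.1 g.2

theorem finitePresentation_of_span (hM : Coh.IsQCoh M) {U : X.Opens} (hU : IsAffineOpen U)
    (s : Set Γ(X, U)) (hs : Ideal.span s = ⊤)
    (h : ∀ f ∈ s, Module.FinitePresentation Γ(X, X.basicOpen f) Γ(M, X.basicOpen f)) :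
    Module.FinitePresentation Γ(X, U) Γ(M, U) := by
  letI := fun g : s => basicModule g.1 M
  haveI := fun g : s => hU.isLocalization_basicOpen g.1
  haveI := fun g : s => isLocalizedModule_basicRes g.1 hM hU
  haveI : ∀ g : s, IsScalarTower Γ(X, U) Γ(X, X.basicOpen g.1) Γ(M, X.basicOpen g.1) :=
    fun g => IsScalarTower.of_algebraMap_smul fun _ _ => rfl
  exact Module.FinitePresentation.of_localizationSpan' s hs (Rₚ := fun g : s => Γ(X, X.basicOpen g.1))
    (fun g => basicRes g.1 M) fun g => h g.1 g.2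

/-- The functor from `M.over W` to a chart inside `W`, on objects. -/
noncomputable def overChartIso {W D : X.Opens} (hD : IsAffineOpen D) (hle : D ≤ W) :
    SheafOfModules.overFunctor X.ringCatSheaf W ⋙
      ((Scheme.Modules.overEquiv W).functor ⋙ Scheme.Modules.restrictFunctor (hD.isoSpec.inv ≫ X.homOfLE hle)) ≅
      Scheme.Modules.restrictFunctor hD.fromSpec :=
  (Functor.associator _ _ _).symm ≪≫ Functor.isoWhiskerRight (Scheme.Modules.overFunctorEquiv _) _ ≪≫
    (Scheme.Modules.restrictFunctorComp _ _).symm ≪≫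
    Scheme.Modules.restrictFunctorCongr (show (hD.isoSpec.inv ≫ X.homOfLE hle) ≫ W.ι = hD.fromSpec by
      rw [Category.assoc, Scheme.homOfLE_ι, IsAffineOpen.isoSpec_inv_ι])

/-- A chart of a smaller open, pushed to `M.over`. -/
noncomputable def chartRestrictIso {U : X.Opens} (hU : IsAffineOpen U) (M : X.Modules) :
    (M.restrict hU.fromSpec).restrict hU.isoSpec.hom ≅ M.restrict U.ι :=
  restrictRestrict M _ _ ≪≫ (Scheme.Modules.restrictFunctorCongr (show hU.isoSpec.hom ≫ hU.fromSpec = U.ι from Iso.hom_inv_id_assoc _ _)).app M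

theorem finite_of_isFT (hM : Coh.IsQCoh M) (hft : CohB1.IsFT M) {U : X.Opens} (hU : IsAffineOpen U) :
    Module.Finite Γ(X, U) Γ(M, U) := by
  obtain ⟨σ, hσ⟩ := hft.exists_localGeneratorsData
  obtain ⟨s, hs, hs'⟩ := exists_affine_basicOpen_le σ.X
    (fun x => Opens.mem_iSup.1 (((Opens.coversTop_iff _ _).1 σ.coversTop).symm ▸ trivial)) hU
  refine finite_of_span hM hU s hs fun f hf => ?_
  obtain ⟨i, hi⟩ := hs' f hf
  have hD : IsAffineOpen (X.basicOpen f) := hU.basicOpen f
  have := hσ.isFiniteType i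
  have : PreservesColimitsOfSize.{u, u}
    (Scheme.Modules.restrictFunctor (hD.isoSpec.inv ≫ X.homOfLE hi)) := inferInstance
  let F := (Scheme.Modules.overEquiv (σ.X i)).functor ⋙
    Scheme.Modules.restrictFunctor (hD.isoSpec.inv ≫ X.homOfLE hi)
  have : PreservesColimitsOfSize.{u, u} F :=
    Limits.comp_preservesColimits (Scheme.Modules.overEquiv (σ.X i)).functor _
  let g := ((σ.generators i).map F (Scheme.Modules.restrictUnitIso _).symm).ofEpi
    ((overChartIso hD hi).app M).hom
  have : Finite g.I := inferInstanceAs (Finite (σ.generators i).I)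
  have := finite_of_epi_free (isQCoh_restrict hD.fromSpec hM) g.π
  exact Module.Finite.equiv (chartEquiv hD M).symm

theorem finitePresentation_of_isFP (hfp : CohB1.IsFP M) {U : X.Opens} (hU : IsAffineOpen U) :
    Module.FinitePresentation Γ(X, U) Γ(M, U) := by
  have hM : Coh.IsQCoh M := by
    haveI := hfp; exact (inferInstance : SheafOfModules.IsQuasicoherent (R := X.ringCatSheaf) M)
  obtain ⟨σ, hσ⟩ := hfp.exists_quasicoherentData
  obtain ⟨s, hs, hs'⟩ := exists_affine_basicOpen_le σ.X
    (fun x => Opens.mem_iSup.1 (((Opens.coversTop_iff _ _).1 σ.coversTop).symm ▸ trivial)) hU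
  refine finitePresentation_of_span hM hU s hs fun f hf => ?_
  obtain ⟨i, hi⟩ := hs' f hf
  have hD : IsAffineOpen (X.basicOpen f) := hU.basicOpen f
  have := hσ.isFinite_presentation i
  have : PreservesColimitsOfSize.{u, u}
    (Scheme.Modules.restrictFunctor (hD.isoSpec.inv ≫ X.homOfLE hi)) := inferInstance
  let F := (Scheme.Modules.overEquiv (σ.X i)).functor ⋙
    Scheme.Modules.restrictFunctor (hD.isoSpec.inv ≫ X.homOfLE hi)
  have : PreservesColimitsOfSize.{u, u} F :=
    Limits.comp_preservesColimits (Scheme.Modules.overEquiv (σ.X i)).functor _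
  let P₀ := (σ.presentation i).map F (Scheme.Modules.restrictUnitIso _).symm
  have : P₀.IsFinite :=
    { isFiniteType_generators := ⟨inferInstanceAs (Finite (σ.presentation i).generators.I)⟩
      isFiniteType_relations := ⟨inferInstanceAs (Finite (σ.presentation i).relations.I)⟩ }
  let P := SheafOfModules.Presentation.ofIsIso.{u, u, u} ((overChartIso hD hi).app M).hom P₀
  have := finitePresentation_of_presentation (isQCoh_restrict hD.fromSpec hM) P
  exact Module.FinitePresentation.of_equiv (chartEquiv hD M).symm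

theorem isFT_of_finite (hM : Coh.IsQCoh M) {ι : Type u} (U : ι → X.Opens) (hU : IsOpenCover U)
    (haff : ∀ i, IsAffineOpen (U i)) (h : ∀ i, Module.Finite Γ(X, U i) Γ(M, U i)) : CohB1.IsFT M := by
  have hg : ∀ i, ∃ g : (SheafOfModules.over M (U i)).GeneratingSections, g.IsFiniteType := fun i => by
    have := Module.Finite.equiv (chartEquiv (haff i) M)
    obtain ⟨g₀, hg₀⟩ := exists_gens_of_finite (isQCoh_restrict (haff i).fromSpec hM)
    have : PreservesColimitsOfSize.{u, u} (Scheme.Modules.restrictFunctor (haff i).isoSpec.hom) := inferInstance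
    let g₁ := (g₀.map (Scheme.Modules.restrictFunctor (haff i).isoSpec.hom)
      (Scheme.Modules.restrictUnitIso _).symm).ofEpi (chartRestrictIso (haff i) M).hom
    have : g₁.IsFiniteType := ⟨inferInstanceAs (Finite g₀.I)⟩
    let g₂ := (g₁.map (Scheme.Modules.overEquiv (U i)).inverse
      (TopologicalSpace.Opens.sheafOfModulesEquivOverInverseUnit (U i) X.ringCatSheaf).symm).ofEpi
      (((Scheme.Modules.overEquiv (U i)).inverse.mapIso ((Scheme.Modules.overFunctorEquiv (U i)).app M).symm ≪≫
        ((Scheme.Modules.overEquiv (U i)).unitIso.app (SheafOfModules.over M (U i))).symm).hom)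
    exact ⟨g₂, ⟨inferInstanceAs (Finite g₀.I)⟩⟩
  choose g hg using hg
  let q : SheafOfModules.LocalGeneratorsData.{u} (R := X.ringCatSheaf) M :=
    { I := ι, X := U, coversTop := (Opens.coversTop_iff _ U).2 hU, generators := g }
  have hq : q.IsFiniteType := by
    constructor
    exact hg
  constructor
  exact ⟨q, hq⟩

theorem isFP_of_finitePresentation (hM : Coh.IsQCoh M) {ι : Type u} (U : ι → X.Opens)
    (hU : IsOpenCover U) (haff : ∀ i, IsAffineOpen (U i))
    (h : ∀ i, Module.FinitePresentation Γ(X, U i) Γ(M, U i)) : CohB1.IsFP M := by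
  have hg : ∀ i, ∃ P : (SheafOfModules.over M (U i)).Presentation, P.IsFinite := fun i => by
    have := Module.FinitePresentation.of_equiv (chartEquiv (haff i) M)
    obtain ⟨P₀, hP₀⟩ := exists_presentation_of_finitePresentation (isQCoh_restrict (haff i).fromSpec hM)
    have : PreservesColimitsOfSize.{u, u} (Scheme.Modules.restrictFunctor (haff i).isoSpec.hom) := inferInstance
    let P₁ := SheafOfModules.Presentation.ofIsIso.{u, u, u} (chartRestrictIso (haff i) M).hom
      (Scheme.Modules.presentationRestrict (haff i).isoSpec.hom P₀)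
    refine ⟨presentationOver (U i) P₁,
      { isFiniteType_generators := ⟨inferInstanceAs (Finite P₀.generators.I)⟩
        isFiniteType_relations := ⟨inferInstanceAs (Finite P₀.relations.I)⟩ }⟩
  choose g hg using hg
  let q : SheafOfModules.QuasicoherentData.{u} (R := X.ringCatSheaf) M :=
    { I := ι, X := U, coversTop := (Opens.coversTop_iff _ U).2 hU, presentation := g }
  have hq : q.IsFinitePresentation := by
    constructor
    exact hg
  constructor
  exact ⟨q, hq⟩

theorem isFT_iff (hM : Coh.IsQCoh M) :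
    CohB1.IsFT M ↔ ∀ U : X.affineOpens, Module.Finite Γ(X, U.1) Γ(M, U.1) :=
  ⟨fun h U => finite_of_isFT hM h U.2, fun h => isFT_of_finite hM (fun U : X.affineOpens => U.1)
    (iSup_affineOpens_eq_top X) (fun U => U.2) h⟩

theorem isFP_iff (hM : Coh.IsQCoh M) :
    CohB1.IsFP M ↔ ∀ U : X.affineOpens, Module.FinitePresentation Γ(X, U.1) Γ(M, U.1) :=
  ⟨fun h U => finitePresentation_of_isFP h U.2, fun h =>
    isFP_of_finitePresentation hM (fun U : X.affineOpens => U.1) (iSup_affineOpens_eq_top X) (fun U => U.2) h⟩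

end Groth.Agent.QCoh
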