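import Groth.Agent.QCoh.GodBC
import Mathlib.AlgebraicGeometry.Morphisms.Affine
import Mathlib.Algebra.Category.Ring.Constructions

/-!
# Flat base change for pullback squares over affine bases
-/

set_option backward.isDefEq.respectTransparency false
set_option backward.isDefEq.respectTransparency.types false
set_option linter.style.haveILetI false

universe u

open CategoryTheory CategoryTheory.Limits AlgebraicGeometry TopologicalSpace Opposite
open scoped TensorProduct

namespace Groth.Agent.QCoh

/-- Base change along the vertical sides of a pushout of rings. -/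
theorem isBaseChange_of_isPushout {A B R R' M N : Type*} [CommRing A] [CommRing B] [CommRing R] [CommRing R']
    [Algebra A B] [Algebra A R] [Algebra B R'] [Algebra R R'] [Algebra A R'] [IsScalarTower A R R']
    [IsScalarTower A B R'] [h : Algebra.IsPushout A B R R'] [AddCommGroup M] [Module A M] [Module R M]
    [IsScalarTower A R M] [AddCommGroup N] [Module A N] [Module B N] [Module R N] [Module R' N]
    [IsScalarTower R R' N] [IsScalarTower B R' N] [IsScalarTower A B N]
    (l : M →ₗ[R] N) (hl : IsBaseChange R' l) (l' : M →ₗ[A] N) (hll : ∀ x, l' x = l x) :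
    IsBaseChange B l' := by
  have hf : IsBaseChange R (IsScalarTower.toAlgHom A B R').toLinearMap := (Algebra.IsPushout.symm h).out
  let e : B ⊗[A] M ≃+ N := (TensorProduct.comm A B M).toAddEquiv.trans
    ((hf.tensorEquiv M).symm.toAddEquiv.trans ((TensorProduct.comm R M R').toAddEquiv.trans hl.equiv.toAddEquiv))
  have he : ∀ (b : B) (m : M), e (b ⊗ₜ m) = b • l m := fun b m => by
    have h2 : (hf.tensorEquiv M).symm (m ⊗ₜ[A] b) = m ⊗ₜ[R] (algebraMap B R' b) := by
      rw [LinearEquiv.symm_apply_eq]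
      have h3 : hf.equiv.symm (algebraMap B R' b) = (1 : R) ⊗ₜ[A] b := by
        rw [LinearEquiv.symm_apply_eq, IsBaseChange.equiv_tmul, one_smul]
        rfl
      simp [IsBaseChange.tensorEquiv, h3]
    show hl.equiv ((TensorProduct.comm R M R') ((hf.tensorEquiv M).symm ((TensorProduct.comm A B M) (b ⊗ₜ m)))) = _
    rw [TensorProduct.comm_tmul, h2, TensorProduct.comm_tmul, IsBaseChange.equiv_tmul, algebraMap_smul]
  refine IsBaseChange.of_equiv { e with map_smul' := fun c z => ?_ } fun m => ?_
  · show e (c • z) = c • e z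
    induction z using TensorProduct.induction_on with
    | zero => rw [smul_zero, map_zero, smul_zero]
    | tmul b m => rw [TensorProduct.smul_tmul', he, he, smul_assoc]
    | add a b ha hb => rw [smul_add, map_add, map_add, ha, hb, smul_add]
  · show e (1 ⊗ₜ m) = l' m
    rw [he, one_smul, hll]

variable {A B : Type u} [CommRing A] [CommRing B] [Algebra A B] {X X' : Scheme.{u}}
  (pA : X ⟶ Spec (CommRingCat.of A)) (pB : X' ⟶ Spec (CommRingCat.of B)) (φ : X' ⟶ X)

theorem toGlobal_comm (w : φ ≫ pA = pB ≫ Spec.map (CommRingCat.ofHom (algebraMap A B))) (a : A) :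
    Coh.toGlobal pB (algebraMap A B a) = φ.appTop (Coh.toGlobal pA a) := by
  have h := congr($(congrArg Scheme.Hom.appTop w) ((Scheme.ΓSpecIso (CommRingCat.of A)).inv a))
  simp only [Scheme.Hom.comp_appTop, CommRingCat.comp_apply] at h
  refine Eq.trans ?_ h.symm
  exact congrArg pB.appTop
    (congr($(Scheme.ΓSpecIso_inv_naturality (CommRingCat.ofHom (algebraMap A B))) a))

theorem app_topRes {X X' : Scheme.{u}} (φ : X' ⟶ X) (V : X.Opens) (z : Γ(X, ⊤)) :
    φ.app V (X.presheaf.map (homOfLE (le_top : V ≤ ⊤)).op z) =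
      X'.presheaf.map (homOfLE (le_top : φ ⁻¹ᵁ V ≤ ⊤)).op (φ.appTop z) :=
  congr($(φ.naturality (homOfLE (le_top : V ≤ ⊤)).op) z)

variable {pA pB φ}

theorem isAffineBC_of_isPullback (h : IsPullback φ pB pA (Spec.map (CommRingCat.ofHom (algebraMap A B))))
    {M : X.Modules} (hM : Coh.IsQCoh M) :
    IsAffineBC φ (Coh.toGlobal pA) (Coh.toGlobal pB) (toGlobal_comm pA pB φ h.w)
      ((Scheme.Modules.pullbackPushforwardAdjunction φ).unit.app M) := by
  intro V hV
  have hφ : IsAffineHom φ := MorphismProperty.of_isPullback h.flip inferInstance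
  let V' := φ ⁻¹ᵁ V
  let N := (Scheme.Modules.pullback φ).obj M
  let ρ := Coh.toGlobal pA
  let ρ' := Coh.toGlobal pB
  letI : Algebra A Γ(X, V) := ((X.presheaf.map (homOfLE (le_top : V ≤ ⊤)).op).hom.comp ρ).toAlgebra
  letI : Algebra B Γ(X', V') := ((X'.presheaf.map (homOfLE (le_top : V' ≤ ⊤)).op).hom.comp ρ').toAlgebra
  letI : Algebra A Γ(X', V') :=
    (((X'.presheaf.map (homOfLE (le_top : V' ≤ ⊤)).op).hom.comp ρ').comp (algebraMap A B)).toAlgebra
  letI : Algebra Γ(X, V) Γ(X', V') := (φ.appLE V V' le_rfl).hom.toAlgebra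
  haveI : IsScalarTower A B Γ(X', V') := IsScalarTower.of_algebraMap_eq' rfl
  haveI : IsScalarTower A Γ(X, V) Γ(X', V') := IsScalarTower.of_algebraMap_eq fun a => by
    show X'.presheaf.map (homOfLE (le_top : V' ≤ ⊤)).op (ρ' (algebraMap A B a)) =
      φ.appLE V V' le_rfl (X.presheaf.map (homOfLE (le_top : V ≤ ⊤)).op (ρ a))
    rw [Scheme.Hom.appLE_eq_app, app_topRes, toGlobal_comm pA pB φ h.w]
  haveI hP : Algebra.IsPushout A B Γ(X, V) Γ(X', V') := by
    rw [← CommRingCat.isPushout_iff_isPushout]
    haveI : IsAffine (V : Scheme.{u}) := hV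
    have h1 := (isPullback_morphismRestrict φ V).paste_vert h
    refine (isPushout_appTop_of_isPullback h1).flip.of_iso (Scheme.ΓSpecIso (CommRingCat.of A))
      (Scheme.ΓSpecIso (CommRingCat.of B)) V.topIso V'.topIso ?_ ?_ ?_ ?_
    · exact Scheme.ΓSpecIso_naturality (CommRingCat.ofHom (algebraMap A B))
    · ext a
      simp [RingHom.algebraMap_toAlgebra, ρ, Coh.toGlobal]
      erw [← CommRingCat.comp_apply, ← Functor.map_comp]
      rfl
    · ext a
      simp [RingHom.algebraMap_toAlgebra, ρ', Coh.toGlobal]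
      erw [← CommRingCat.comp_apply, ← Functor.map_comp]
      rfl
    · simp [RingHom.algebraMap_toAlgebra, Scheme.Hom.appLE_eq_app, V']
      rfl
  letI := secModule ρ M V
  letI := secModule ρ' N V'
  letI := secModule (ρ'.comp (algebraMap A B)) N V'
  haveI : IsScalarTower A B Γ(N, V') := .of_algebraMap_smul fun _ _ => rfl
  haveI : IsScalarTower A Γ(X, V) Γ(M, V) := .of_algebraMap_smul fun _ _ => rfl
  haveI : IsScalarTower B Γ(X', V') Γ(N, V') := .of_algebraMap_smul fun _ _ => rfl
  letI : Module Γ(X, V) Γ(N, V') := Module.compHom _ (φ.appLE V V' le_rfl).hom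
  haveI : IsScalarTower Γ(X, V) Γ(X', V') Γ(N, V') := .of_algebraMap_smul fun _ _ => rfl
  let l : Γ(M, V) →ₗ[Γ(X, V)] Γ(N, V') :=
    { toFun := pullSec φ M le_rfl
      map_add' := pullSec_add φ M le_rfl
      map_smul' := pullSec_smul φ M le_rfl }
  exact isBaseChange_of_isPushout l
    (isBaseChange_pullback hV φ (hV.preimage φ) hM le_rfl (fun _ => rfl) l fun _ => rfl) _ fun _ => rfl

/-- Flat base change over affine bases. -/
theorem HH_flatBaseChange [Module.Flat A B] [CompactSpace X] [QuasiSeparatedSpace X]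
    (h : IsPullback φ pB pA (Spec.map (CommRingCat.ofHom (algebraMap A B))))
    {M : X.Modules} (hM : Coh.IsQCoh M) (n : ℕ) :
    letI := modHH (Coh.toGlobal pA) M n
    letI := modHH (Coh.toGlobal pB) ((Scheme.Modules.pullback φ).obj M) n
    Nonempty (B ⊗[A] Coh.HH X M n ≃ₗ[B] Coh.HH X' ((Scheme.Modules.pullback φ).obj M) n) :=
  have : IsAffineHom φ := MorphismProperty.of_isPullback h.flip inferInstance
  HH_baseChange_qcqs φ (Coh.toGlobal pA) (Coh.toGlobal pB) (toGlobal_comm pA pB φ h.w) _ hM (isQCoh_pullback φ hM)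
    (isAffineBC_of_isPullback h hM) n

end Groth.Agent.QCoh
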