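import Groth.Agent.QCoh.AffineCohom
import Groth.Agent.QCoh.Ab.Leray
import Groth.Prelude.Def_CohB1

/-!
# Čech cohomology of an affine covering with affine intersections
-/

universe u

open CategoryTheory CategoryTheory.Limits AlgebraicGeometry TopologicalSpace Opposite

namespace Groth.Agent.QCoh

variable {X : Scheme.{u}}

theorem isAffineOpen_iInf_tuple {ι : Type u} {U : ι → X.Opens}
    (hU : ∀ s : Finset ι, s.Nonempty → IsAffineOpen (⨅ i ∈ s, U i)) {p : ℕ}
    (σ : Fin (p + 1) → ι) : IsAffineOpen (⨅ a, U (σ a)) := by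
  classical
  have h := hU (Finset.univ.image σ) (Finset.univ_nonempty.image σ)
  rwa [Finset.iInf_finset_image, show (⨅ a ∈ (Finset.univ : Finset (Fin (p + 1))), U (σ a)) =
    ⨅ a, U (σ a) by simp] at h

theorem stdCovers_sectionClass {ι : Type u} {U : ι → X.Opens}
    (hU : ∀ {p : ℕ} (σ : Fin (p + 1) → ι), IsAffineOpen (⨅ a, U (σ a))) :
    Ab.SectionClass (X := X.toPresheafedSpace.carrier) U (fun F => (stdCovers X).Acyclic F) where
  lift {T} hT h₁ {p} σ := Ab.sections_surjective (stdCovers X) hT h₁ (hU σ)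
  quot {T} hT h₁ h₂ := Ab.Acyclic_X₃ (stdCovers X) hT h₁
    fun _ _ _ V _ => @Ab.acyclic_of_injective _ T.X₂ h₂ _ V

/-- Čech cohomology computes cohomology when all intersections are affine. -/
theorem cechH_equiv_HH {ι : Type u} (U : ι → X.Opens) (hcov : ⨆ i, U i = ⊤)
    (hU : ∀ {p : ℕ} (σ : Fin (p + 1) → ι), IsAffineOpen (⨅ a, U (σ a)))
    {M : X.Modules} (hM : Coh.IsQCoh M) (p : ℕ) :
    Nonempty (↑(CohB1.cechH U M p) ≃+ Coh.HH X M p) := by
  obtain ⟨e⟩ := Ab.natCx_H_equiv (X := X.toPresheafedSpace.carrier) hcov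
    (stdCovers_sectionClass hU) (abSheaf M) (stdCovers_acyclic hM) p
  exact ⟨(HomologicalComplex.homologyMapIso
    (Ab.cechIso M.presheaf U) p).addCommGroupIsoToAddEquiv.symm.trans e⟩

end Groth.Agent.QCoh
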