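import Groth.Agent.QCoh.Ab.LerayNat
import Groth.Agent.QCoh.CechComparison
import Mathlib.Algebra.Category.ModuleCat.Basic
import Mathlib.Algebra.Homology.ShortComplex.ModuleCat
import Mathlib.Algebra.Homology.ShortComplex.Linear
import Mathlib.Algebra.Homology.Linear

/-!
# The Čech complex as a complex of modules
-/

universe u

open CategoryTheory CategoryTheory.Limits AlgebraicGeometry TopologicalSpace Opposite

namespace Groth.Agent.QCoh

variable {X : Scheme.{u}}

/-- Global functions as endomorphisms of the underlying abelian sheaf. -/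
noncomputable def smulAbHom (M : X.Modules) : Coh.Γtop X →+* End (Coh.toAb M) where
  toFun := Coh.smulAb M
  map_one' := Coh.smulAb_one M
  map_mul' r s := Coh.smulAb_mul M r s
  map_zero' := Coh.smulAb_zero M
  map_add' r s := Coh.smulAb_add M r s

namespace Ab

variable {T : TopCat.{u}} {ι : Type u} (U : ι → Opens T) {P Q R : TopCat.Presheaf AddCommGrpCat.{u} T}

theorem natCxMap_id : natCxMap U (𝟙 P) = 𝟙 (natCx P U) := by
  ext p : 1
  exact AddCommGrpCat.ext fun c => Subtype.ext <| funext₂ fun σ W => rfl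

theorem natCxMap_comp (φ : P ⟶ Q) (ψ : Q ⟶ R) :
    natCxMap U (φ ≫ ψ) = natCxMap U φ ≫ natCxMap U ψ := by
  ext p : 1
  exact AddCommGrpCat.ext fun c => Subtype.ext <| funext₂ fun σ W => rfl

theorem natCxMap_add (φ ψ : P ⟶ Q) : natCxMap U (φ + ψ) = natCxMap U φ + natCxMap U ψ := by
  ext p : 1
  exact AddCommGrpCat.ext fun c => Subtype.ext <| funext₂ fun σ W => rfl

theorem natCxMap_zero : natCxMap U (0 : P ⟶ Q) = 0 := by
  ext p : 1
  exact AddCommGrpCat.ext fun c => Subtype.ext <| funext₂ fun σ W => rfl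

end Ab

variable {A : Type u} [CommRing A] (ρ : A →+* Coh.Γtop X) {ι : Type u} (U : ι → X.Opens)

/-- Scalars as endomorphisms of the terms of the Čech complex. -/
noncomputable def cxScalar (M : X.Modules) (p : ℕ) :
    A →+* End ((Ab.natCx M.presheaf U).X p) where
  toFun a := (Ab.natCxMap U (smulAbHom M (ρ a)).hom).f p
  map_one' := by rw [map_one, map_one]; exact congrArg (fun φ => φ.f p) (Ab.natCxMap_id U)
  map_mul' a b := by
    rw [map_mul, map_mul]
    exact congrArg (fun φ => φ.f p) (Ab.natCxMap_comp U _ _)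
  map_zero' := by rw [map_zero, map_zero]; exact congrArg (fun φ => φ.f p) (Ab.natCxMap_zero U)
  map_add' a b := by
    rw [map_add, map_add]
    exact congrArg (fun φ => φ.f p) (Ab.natCxMap_add U _ _)

/-- The Čech complex of a module, as a complex of modules over `A`. -/
noncomputable def cxMod (M : X.Modules) : CochainComplex (ModuleCat.{u} A) ℕ where
  X p := ModuleCat.mkOfSMul (cxScalar ρ U M p)
  d p q := ModuleCat.homMk ((Ab.natCx M.presheaf U).d p q)
    fun a => ((Ab.natCxMap U (smulAbHom M (ρ a)).hom).comm p q).symm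
  shape p q h := ModuleCat.hom_ext (LinearMap.ext fun x =>
    ConcreteCategory.congr_hom ((Ab.natCx M.presheaf U).shape p q h) x)
  d_comp_d' p q r _ _ := ModuleCat.hom_ext (LinearMap.ext fun x =>
    ConcreteCategory.congr_hom ((Ab.natCx M.presheaf U).d_comp_d p q r) x)

theorem cxMod_smul (M : X.Modules) (p : ℕ) (a : A) (c : (cxMod ρ U M).X p) :
    (a • c : (cxMod ρ U M).X p) = (Ab.natCxMap U (smulAbHom M (ρ a)).hom).f p c := rfl

theorem smul_id_eq (M : X.Modules) (a : A) :
    ((forget₂ (ModuleCat.{u} A) AddCommGrpCat.{u}).mapHomologicalComplex _).map (a • 𝟙 (cxMod ρ U M)) =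
      Ab.natCxMap U (smulAbHom M (ρ a)).hom := rfl

/-- The module structure on cohomology given by `ρ`. -/
@[reducible] noncomputable def modHH (M : X.Modules) (p : ℕ) : Module A (Coh.HH X M p) :=
  Module.compHom (Coh.HH X M p) ρ

theorem homologyMap_smul_id (K : CochainComplex (ModuleCat.{u} A) ℕ) (a : A) (p : ℕ) :
    HomologicalComplex.homologyMap (a • 𝟙 K) p = a • 𝟙 (K.homology p) := by
  show ShortComplex.homologyMap
    ((HomologicalComplex.shortComplexFunctor (ModuleCat.{u} A) (ComplexShape.up ℕ) p).map (a • 𝟙 K)) = _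
  rw [show (HomologicalComplex.shortComplexFunctor (ModuleCat.{u} A) (ComplexShape.up ℕ) p).map (a • 𝟙 K) =
    a • 𝟙 (K.sc p) from rfl, ShortComplex.homologyMap_smul, ShortComplex.homologyMap_id]
  rfl

set_option maxHeartbeats 2000000 in
/-- The homology of the Čech complex of modules is linearly the cohomology. -/
theorem cxMod_homology_equiv (hcov : ⨆ i, U i = ⊤)
    (hU : ∀ {p : ℕ} (σ : Fin (p + 1) → ι), IsAffineOpen (⨅ a, U (σ a)))
    {M : X.Modules} (hM : Coh.IsQCoh M) (p : ℕ) :
    letI := modHH ρ M p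
    Nonempty (((cxMod ρ U M).homology p : ModuleCat.{u} A) ≃ₗ[A] Coh.HH X M p) := by
  let := modHH ρ M p
  obtain ⟨e, he⟩ := Ab.exists_natural_equiv (X := X.toPresheafedSpace.carrier) hcov
    (stdCovers_sectionClass hU) (fun I hI _ _ _ V _ => @Ab.acyclic_of_injective _ I hI _ V) p
  let F := forget₂ (ModuleCat.{u} A) AddCommGrpCat.{u}
  let K := cxMod ρ U M
  have i' : True := trivial
  let i : F.obj (K.homology p) ≅ (Ab.natCx M.presheaf U).homology p :=
    ((K.sc p).mapHomologyIso F).symm
  refine ⟨AddEquiv.toLinearEquiv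
    (i.addCommGroupIsoToAddEquiv.trans (e (abSheaf M) (stdCovers_acyclic hM))) fun a x => ?_⟩
  have h1 : (a • x : K.homology p) = HomologicalComplex.homologyMap (a • 𝟙 K) p x := by
    rw [homologyMap_smul_id]
    rfl
  have h2 : F.map (HomologicalComplex.homologyMap (a • 𝟙 K) p) ≫ i.hom =
      i.hom ≫ HomologicalComplex.homologyMap (Ab.natCxMap U (smulAbHom M (ρ a)).hom) p := by
    rw [← smul_id_eq ρ U M a]
    exact ShortComplex.mapHomologyIso_inv_naturality _ F
  show e (abSheaf M) (stdCovers_acyclic hM) (i.hom (a • x : K.homology p)) = _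
  rw [h1]
  refine (congrArg (e (abSheaf M) (stdCovers_acyclic hM)) (ConcreteCategory.congr_hom h2 x)).trans ?_
  exact he (abSheaf M) (abSheaf M) _ _ (smulAbHom M (ρ a)) _

end Groth.Agent.QCoh
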