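import Groth.Agent.QCoh.AffineCohom
import Groth.Agent.QCoh.Ab.PushNat
import Groth.Agent.QCoh.CechMod

/-!
# Cohomology of a direct image along an affine morphism, linearly
-/

universe u

set_option backward.isDefEq.respectTransparency false
set_option backward.isDefEq.respectTransparency.types false

open CategoryTheory CategoryTheory.Limits AlgebraicGeometry TopologicalSpace Opposite

namespace Groth.Agent.QCoh

variable {X S : Scheme.{u}} (f : X ⟶ S)

theorem smulAb_push (M : X.Modules) (r : Coh.Γtop S) :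
    (CohTop.push f.base).map (Coh.smulAb M (f.appTop r)) = Coh.smulAb ((Coh.push f).obj M) r := by
  ext U m
  show (Coh.smulAb M (f.appTop r)).hom.app (op (f ⁻¹ᵁ U.unop)) m = _
  refine Eq.trans ?_ (pushforward_smul f U.unop (Coh.resTop S U r) m).symm
  refine congrArg (fun t : Γ(X, f ⁻¹ᵁ U.unop) => t • (show Γ(M, f ⁻¹ᵁ U.unop) from m)) ?_
  exact (ConcreteCategory.congr_hom (f.naturality (homOfLE le_top).op) r).symm

/-- Cohomology of a direct image along an affine morphism, linearly. -/
theorem HH_push_linear [IsAffineHom f] {A : Type u} [CommRing A] (ρ : A →+* Coh.Γtop S)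
    (ρ' : A →+* Coh.Γtop X) (hρ : ∀ a, ρ' a = f.appTop (ρ a)) {M : X.Modules} (hM : Coh.IsQCoh M) (i : ℕ) :
    letI := modHH ρ' M i
    letI := modHH ρ ((Coh.push f).obj M) i
    Nonempty (Coh.HH X M i ≃ₗ[A] Coh.HH S ((Coh.push f).obj M) i) := by
  let := modHH ρ' M i
  let := modHH ρ ((Coh.push f).obj M) i
  have hb : Ab.PreimageBasis f.base (stdCovers X) := fun U y hy => by
    obtain ⟨_, ⟨W, hW, rfl⟩, hyW, hWU⟩ := S.isBasis_affineOpens.exists_subset_of_mem_open hy U.2
    exact ⟨W, hWU, hyW, hW.preimage f⟩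
  obtain ⟨e, he⟩ := Ab.H_push_natural f.base (stdCovers X) hb i
  have hac := stdCovers_acyclic hM
  refine ⟨AddEquiv.toLinearEquiv (e (abSheaf M) hac) fun a x => ?_⟩
  refine (he (abSheaf M) (abSheaf M) hac hac (Coh.smulAb M (ρ' a)) x).trans ?_
  rw [hρ a, smulAb_push]
  rfl

end Groth.Agent.QCoh
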