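import Groth.Agent.QCoh.DevissageSum
import Groth.Agent.QCoh.PushLin
import Groth.Agent.PnCoh.Finite.HHLin

/-!
# Finiteness of cohomology by dévissage
-/

universe u

set_option backward.isDefEq.respectTransparency false
set_option backward.isDefEq.respectTransparency.types false

open CategoryTheory CategoryTheory.Limits AlgebraicGeometry TopologicalSpace Opposite
open CategoryTheory.Abelian
open Groth.Agent.PnCoh.Finite (mapLin deltaLin)

namespace Groth.Agent.QCoh

attribute [local instance] hasFiniteBiproducts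

variable {X : Scheme.{u}} (A : Type u) [CommRing A] [X.Over (Spec (CommRingCat.of A))]

theorem finite_HH_of_isZero {M : X.Modules} (h : IsZero M) (n : ℕ) : Module.Finite A (Coh.HH X M n) := by
  haveI : Subsingleton (Coh.HH X M n) := subsingleton_of_forall_eq 0 fun x => by
    have h1 : Sheaf.H.map ((toAbFunctor X).map (𝟙 M)) n x = x := by
      rw [CategoryTheory.Functor.map_id, Sheaf.H.map_id_apply]
    rw [← h1, h.eq_of_src (𝟙 M) 0, Functor.map_zero]
    show ((Sheaf.functorH _ n).map 0).hom x = 0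
    rw [Functor.map_zero]
    rfl
  infer_instance

variable {S : ShortComplex X.Modules} [IsNoetherianRing A]

theorem finite_HH_X₂ (hS : S.ShortExact) (n : ℕ) (h₁ : Module.Finite A (Coh.HH X S.X₁ n))
    (h₃ : Module.Finite A (Coh.HH X S.X₃ n)) : Module.Finite A (Coh.HH X S.X₂ n) := by
  haveI := h₁
  haveI := h₃
  refine ⟨Submodule.fg_of_fg_map_of_fg_inf_ker (mapLin A S.g n) (IsNoetherian.noetherian _) ?_⟩
  have hT := toAb_shortExact hS
  rw [top_inf_eq, show LinearMap.ker (mapLin A S.g n) = LinearMap.range (mapLin A S.f n) from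
    le_antisymm (fun x hx => Ext.covariant_sequence_exact₂ _ hT x hx) ?_]
  · exact Module.Finite.iff_fg.1 inferInstance
  · rintro _ ⟨y, rfl⟩
    refine LinearMap.mem_ker.2 ?_
    show Sheaf.H.map _ n (Sheaf.H.map _ n y) = 0
    refine (Groth.Agent.PnCoh.Finite.map_map (Y := X.toPresheafedSpace.carrier)
      (((toAbFunctor X).map_comp S.f S.g).symm.trans (by rw [S.zero, Functor.map_zero])) n y).trans ?_
    show ((Sheaf.functorH _ n).map 0).hom y = 0
    rw [Functor.map_zero]
    rfl

theorem finite_HH_X₁ (hS : S.ShortExact) (h₂ : ∀ n, Module.Finite A (Coh.HH X S.X₂ n))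
    (h₃ : ∀ n, Module.Finite A (Coh.HH X S.X₃ n)) (n : ℕ) : Module.Finite A (Coh.HH X S.X₁ n) := by
  haveI := h₂ n
  have hT := toAb_shortExact hS
  cases n with
  | zero =>
    refine Module.Finite.of_injective (mapLin A S.f 0) fun x y hxy => ?_
    apply (Sheaf.H.equiv₀ (Coh.toAb S.X₁) isTerminalTop).injective
    refine app_f_injective hS ⊤ ?_
    have hx := Sheaf.H.equiv₀_naturality isTerminalTop ((toAbFunctor X).map S.f) x
    have hy := Sheaf.H.equiv₀_naturality isTerminalTop ((toAbFunctor X).map S.f) y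
    exact hx.trans ((congrArg (Sheaf.H.equiv₀ (Coh.toAb S.X₂) isTerminalTop) hxy).trans hy.symm)
  | succ m =>
    haveI := h₃ m
    refine ⟨Submodule.fg_of_fg_map_of_fg_inf_ker (mapLin A S.f (m + 1)) (IsNoetherian.noetherian _) ?_⟩
    rw [top_inf_eq, show LinearMap.ker (mapLin A S.f (m + 1)) = LinearMap.range (deltaLin A hS m) from
      le_antisymm (fun x hx => Ext.covariant_sequence_exact₁ _ hT x hx rfl) ?_]
    · exact Module.Finite.iff_fg.1 inferInstance
    · rintro _ ⟨y, rfl⟩
      refine LinearMap.mem_ker.2 ?_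
      show ((y.comp hT.extClass rfl).comp (Ext.mk₀ ((toAbFunctor X).map S.f)) (add_zero _)) = 0
      rw [Ext.comp_assoc_of_third_deg_zero]
      exact (congrArg (fun z => Ext.comp y z _) hT.extClass_comp).trans (Ext.comp_zero _ _ _ _ _)

/-- Cohomology of coherent modules is finite, given one module with finite cohomology on each
integral closed subscheme. -/
theorem finite_HH_of_devissage [IsNoetherian X]
    (hin : ∀ (Z : Scheme.{u}) (i : Z ⟶ X) [IsClosedImmersion i] [IsIntegral Z],
      letI : Z.Over (Spec (CommRingCat.of A)) := ⟨i ≫ X ↘ Spec (CommRingCat.of A)⟩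
      ∃ G : Z.Modules, Coh.IsCoh G ∧ genericPoint Z ∈ CohB1.support G ∧
        ∀ n, Module.Finite A (Coh.HH Z G n))
    {M : X.Modules} (hM : Coh.IsCoh M) (n : ℕ) : Module.Finite A (Coh.HH X M n) := by
  let P : X.Modules → Prop := fun M => ∀ n, Module.Finite A (Coh.HH X M n)
  have hiso : ∀ M N : X.Modules, Nonempty (M ≅ N) → P M → P N := fun M N ⟨e⟩ h n => by
    haveI := h n
    refine Module.Finite.of_surjective (mapLin A e.hom n) fun y => ⟨mapLin A e.inv n y, ?_⟩
    show Sheaf.H.map _ n (Sheaf.H.map _ n y) = y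
    refine (Groth.Agent.PnCoh.Finite.map_map (Y := X.toPresheafedSpace.carrier)
      (((toAbFunctor X).map_comp e.inv e.hom).symm.trans
        (by rw [e.inv_hom_id, CategoryTheory.Functor.map_id])) n y).trans ?_
    exact Sheaf.H.map_id_apply y
  have h23 : ∀ S : ShortComplex X.Modules, S.ShortExact →
      (P S.X₁ → P S.X₂ → P S.X₃) ∧ (P S.X₁ → P S.X₃ → P S.X₂) ∧ (P S.X₂ → P S.X₃ → P S.X₁) :=
    fun S hS => ⟨fun a b m => Groth.Agent.PnCoh.Finite.finite_HH_X₃ A hS m (b m) (a (m + 1)),
      fun a c m => finite_HH_X₂ A hS m (a m) (c m), fun b c => finite_HH_X₁ A hS b c⟩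
  refine devissage P hiso (fun N hN m => finite_HH_of_isZero A hN m) Set.univ
    (fun S hS _ _ _ _ => (h23 S hS).2.1) (fun ξ _ hsmall Z i _ _ hr => ?_)
    (fun S hS _ _ _ _ => (h23 S hS).2.2) hM (Set.subset_univ _) n
  letI : Z.Over (Spec (CommRingCat.of A)) := ⟨i ≫ X ↘ Spec (CommRingCat.of A)⟩
  obtain ⟨G, hG, hη, hfin⟩ := hin Z i
  have hξ : i (genericPoint Z) = ξ :=
    (inseparable_iff_closure_eq.2 ((range_eq_closure i).symm.trans hr)).eq
  have hG' := isCoh_push i hG
  have hkill : ∀ (V : X.affineOpens) (a : Γ(X, V.1)), ξ ∉ X.basicOpen a →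
      ∀ m : Γ((Coh.push i).obj G, V.1), a • m = 0 := fun V a hax m => by
    refine (pushforward_smul i V.1 a m).trans ?_
    have h0 : i.app V.1 a = 0 := by
      by_contra hne
      have h' := (ne_zero_iff_mem_basicOpen (i.app V.1 a)).1 hne
      rw [← Scheme.preimage_basicOpen] at h'
      exact hax (hξ ▸ h')
    rw [h0]
    exact zero_smul Γ(Z, i ⁻¹ᵁ V.1) (show Γ(G, i ⁻¹ᵁ V.1) from m)
  have hmem : ξ ∈ CohB1.support ((Coh.push i).obj G) := by
    obtain ⟨U, hU, hξU⟩ := exists_affine_mem (i (genericPoint Z))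
    obtain ⟨m, hm⟩ := (mem_support_iff hG.1 (hU.preimage i) hξU).1 hη
    rw [← hξ]
    refine (mem_support_iff hG'.1 hU hξU).2 ⟨m, fun f hf h0 => hm (i.app U f) ?_ ?_⟩
    · rw [← Scheme.preimage_basicOpen]; exact hf
    · exact (pushforward_smul i U f m).symm.trans h0
  have hPG : P ((Coh.push i).obj G) := fun m => by
    obtain ⟨e⟩ := HH_push_linear i (Coh.toGlobal (X ↘ Spec (CommRingCat.of A)))
      (Coh.toGlobal (Z ↘ Spec (CommRingCat.of A))) (fun a => rfl) hG.1 m
    haveI := hfin m
    exact Module.Finite.equiv e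
  obtain ⟨r, hr0, hP⟩ := exists_sum_structure P ξ (fun S hS _ _ _ _ => h23 S hS) hsmall hG'
    ((support_push_subset i hG.1).trans hr.le) hmem hkill hPG i hr
  intro m
  let T : ULift.{u} (Fin r) → X.Modules := fun _ => (Coh.push i).obj (Coh.structureModule Z)
  haveI := hP m
  refine Module.Finite.of_surjective (mapLin A (biproduct.π T ⟨⟨0, hr0⟩⟩) m)
    fun y => ⟨mapLin A (biproduct.ι T ⟨⟨0, hr0⟩⟩) m y, ?_⟩
  show Sheaf.H.map _ m (Sheaf.H.map _ m y) = y
  refine (Groth.Agent.PnCoh.Finite.map_map (Y := X.toPresheafedSpace.carrier)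
    (((toAbFunctor X).map_comp _ _).symm.trans
      (by rw [biproduct.ι_π_self, CategoryTheory.Functor.map_id])) m y).trans ?_
  exact Sheaf.H.map_id_apply y

end Groth.Agent.QCoh
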