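import Groth.Agent.QCoh.CechStd
import Groth.Agent.QCoh.Ab.Push

/-!
# Cohomology and affine morphisms
-/

universe u

open CategoryTheory CategoryTheory.Limits AlgebraicGeometry TopologicalSpace Opposite

namespace Groth.Agent.QCoh

variable {X S : Scheme.{u}}

theorem stdCovers_acyclic {M : X.Modules} (hM : Coh.IsQCoh M) :
    (stdCovers X).Acyclic (abSheaf M) := fun V hV ι U hU => by
  obtain ⟨_, _, f, hf, hfU⟩ := hU
  rw [show U = fun i => X.basicOpen (f i) from funext hfU]
  exact acyclic_std hM hV f hf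

/-- Cohomology is unchanged by direct image along an affine morphism. -/
theorem HH_push_of_isAffineHom (f : X ⟶ S) [IsAffineHom f] {M : X.Modules} (hM : Coh.IsQCoh M)
    (i : ℕ) : Nonempty (Coh.HH X M i ≃+ Coh.HH S ((Coh.push f).obj M) i) := by
  have hb : Ab.PreimageBasis f.base (stdCovers X) := fun U y hy => by
    obtain ⟨_, ⟨W, hW, rfl⟩, hyW, hWU⟩ := S.isBasis_affineOpens.exists_subset_of_mem_open hy U.2
    exact ⟨W, hWU, hyW, hW.preimage f⟩
  exact Ab.H_push_equiv f.base (stdCovers X) hb (abSheaf M) (stdCovers_acyclic hM) i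

end Groth.Agent.QCoh
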