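import Groth.Agent.QCoh.AffineCohom
import Groth.Agent.QCoh.Ab.MV
import Groth.Agent.QCoh.Ab.Rpush
import Mathlib.AlgebraicGeometry.Morphisms.QuasiSeparated

/-!
# Cohomological dimension of quasi-compact quasi-separated schemes
-/

universe u

open CategoryTheory CategoryTheory.Limits AlgebraicGeometry TopologicalSpace Opposite

namespace Groth.Agent.QCoh

variable {X : Scheme.{u}}

/-- Quasi-coherent modules are acyclic on every affine open. -/
theorem subsingleton_HU_of_isAffineOpen {M : X.Modules} (hM : Coh.IsQCoh M) {V : X.Opens}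
    (hV : IsAffineOpen V) (n : ℕ) :
    Subsingleton (CohTop.HU (X := X.toPresheafedSpace.carrier) (abSheaf M) (n + 1) V) :=
  SiteBase.subsingleton_HU_of_class (J := Opens.grothendieckTopology X.toPresheafedSpace.carrier)
    (fun G => (stdCovers X).Acyclic G) (fun W => IsAffineOpen W)
    (fun E hE h₁ h₂ => Ab.Acyclic_X₃ (stdCovers X) hE h₁
      fun _ _ _ U _ => @Ab.acyclic_of_injective _ E.X₂ h₂ _ U)
    (fun _ hE h₁ _ _ hW => Ab.sections_surjective (stdCovers X) hE h₁ hW)
    (stdCovers_acyclic hM) hV n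

/-- Vanishing on a union of `t` members of a family of affines stable under intersection. -/
theorem subsingleton_HU_iSup {M : X.Modules} (hM : Coh.IsQCoh M) (Q : X.Opens → Prop)
    (hQa : ∀ V, Q V → IsAffineOpen V) (hQi : ∀ V W, Q V → Q W → Q (V ⊓ W)) :
    ∀ (t : ℕ) (U : Fin t → X.Opens), (∀ i, Q (U i)) → ∀ n : ℕ, t ≤ n →
      Subsingleton (CohTop.HU (X := X.toPresheafedSpace.carrier) (abSheaf M) n (⨆ i, U i)) := by
  intro t
  induction t with
  | zero =>
    intro U _ n _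
    rw [show (⨆ i, U i) = ⊥ by simp]
    match n with
    | 0 => exact Ab.subsingleton_HU_zero_bot _
    | n + 1 => exact subsingleton_HU_of_isAffineOpen hM (isAffineOpen_bot X) n
  | succ t ih =>
    intro U hU n hn
    obtain ⟨m, rfl⟩ := Nat.exists_eq_add_of_le (show 1 ≤ n by omega)
    rw [Nat.add_comm, show (⨆ i, U i) = U 0 ⊔ ⨆ i : Fin t, U i.succ from
      le_antisymm (iSup_le fun i => Fin.cases le_sup_left
        (fun j => le_sup_of_le_right (le_iSup (fun i : Fin t => U i.succ) j)) i)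
        (sup_le (le_iSup _ _) (iSup_le fun i => le_iSup _ _))]
    refine Ab.subsingleton_HU_sup _ _ _ m (subsingleton_HU_of_isAffineOpen hM (hQa _ (hU 0)) m)
      (ih _ (fun i => hU i.succ) (m + 1) (by omega)) ?_
    rw [inf_iSup_eq]
    exact ih _ (fun i => hQi _ _ (hU 0) (hU i.succ)) m (by omega)

/-- A quasi-compact quasi-separated open has cohomological dimension bounded uniformly on its
basic opens. -/
theorem exists_bound (T : X.Opens) (hT : IsCompact (T : Set X))
    (hT' : IsQuasiSeparated (T : Set X)) :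
    ∃ d : ℕ, ∀ g : Γ(X, T), ∀ M : X.Modules, Coh.IsQCoh M → ∀ p, d ≤ p →
      Subsingleton (CohTop.HU (X := X.toPresheafedSpace.carrier) (abSheaf M) p (X.basicOpen g)) := by
  obtain ⟨s, hs, hsT⟩ := isCompact_iff_finite_and_eq_biUnion_affineOpens.mp hT
  have hle : ∀ U ∈ s, (U : X.affineOpens).1 ≤ T := fun U hU => by
    rw [hsT]; exact le_iSup₂ (f := fun (i : X.affineOpens) (_ : i ∈ s) => (i : X.Opens)) U hU
  suffices h : ∀ s' : Set X.affineOpens, s'.Finite → s' ⊆ s → ∃ d : ℕ, ∀ g : Γ(X, T),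
      ∀ M : X.Modules, Coh.IsQCoh M → ∀ p, d ≤ p →
      Subsingleton (CohTop.HU (X := X.toPresheafedSpace.carrier) (abSheaf M) p
        ((⨆ U ∈ s', (U : X.Opens)) ⊓ X.basicOpen g)) by
    obtain ⟨d, hd⟩ := h s hs subset_rfl
    refine ⟨d, fun g M hM p hp => ?_⟩
    have := hd g M hM p hp
    rwa [← hsT, inf_eq_right.2 (X.basicOpen_le g)] at this
  intro s' hs'
  induction s', hs' using Set.Finite.induction_on with
  | empty =>
    refine fun _ => ⟨0, fun g M hM p _ => ?_⟩
    have h := subsingleton_HU_iSup hM (fun _ => False) (fun _ h => h.elim)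
      (fun _ _ h _ => h.elim) 0 Fin.elim0 (fun i => i.elim0) p (Nat.zero_le p)
    rw [iSup_of_empty] at h
    simpa using h
  | @insert U₀ s' _ hs' ih =>
    intro hsub
    obtain ⟨d, hd⟩ := ih ((Set.subset_insert _ _).trans hsub)
    obtain ⟨U, hU⟩ := U₀
    have hUT : U ≤ T := hle ⟨U, hU⟩ (hsub (Set.mem_insert _ _))
    let S : X.Opens := ⨆ V ∈ s', (V : X.Opens)
    have hST : S ≤ T := iSup₂_le fun V hV => hle V (hsub (Set.mem_insert_of_mem _ hV))
    have hS : IsCompact (S : Set X) :=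
      isCompact_iff_finite_and_eq_biUnion_affineOpens.mpr ⟨s', hs', rfl⟩
    let K : X.Opens := S ⊓ U
    choose f hf hxf using fun x : (K : Set X) => hU.exists_basicOpen_le (V := K) ⟨x.1, x.2⟩ x.2.2
    obtain ⟨t, ht⟩ := (hT' _ _ hST S.isOpen hS hUT U.isOpen hU.isCompact :
        IsCompact (K : Set X)).elim_finite_subcover
      (fun x => (X.basicOpen (f x) : Set X)) (fun x => (X.basicOpen (f x)).isOpen)
      (fun x hx => Set.mem_iUnion.2 ⟨⟨x, hx⟩, hxf ⟨x, hx⟩⟩)
    refine ⟨max (d + 1) (t.card + 1), fun g M hM p hp => ?_⟩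
    let gU : Γ(X, U) := X.presheaf.map (homOfLE hUT).op g
    have hgU : X.basicOpen gU = U ⊓ X.basicOpen g := Scheme.basicOpen_res _ _ _
    let V : Fin t.card → X.Opens := fun i => X.basicOpen (f (t.equivFin.symm i).1 * gU)
    have hK : K ⊓ X.basicOpen g = ⨆ i, V i := by
      refine le_antisymm (fun x hx => ?_) (iSup_le fun i => ?_)
      · obtain ⟨y, hy, hxy⟩ := Set.mem_iUnion₂.1 (ht hx.1)
        refine (le_iSup V (t.equivFin ⟨y, hy⟩)) ?_
        simp only [V, Equiv.symm_apply_apply, Scheme.basicOpen_mul, hgU]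
        exact ⟨hxy, hx.1.2, hx.2⟩
      · simp only [V, Scheme.basicOpen_mul, hgU]
        exact inf_le_inf (hf _) inf_le_right
    obtain ⟨m, rfl⟩ := Nat.exists_eq_add_of_le (show 1 ≤ p by omega)
    rw [Nat.add_comm, iSup_insert, inf_sup_right]
    refine Ab.subsingleton_HU_sup _ _ _ m ?_ (hd g M hM _ (by omega)) ?_
    · rw [← hgU]
      exact subsingleton_HU_of_isAffineOpen hM (hU.basicOpen gU) m
    · rw [show (U ⊓ X.basicOpen g) ⊓ (S ⊓ X.basicOpen g) = ⨆ i, V i from by
        rw [← hK]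
        exact le_antisymm (le_inf (le_inf (inf_le_right.trans inf_le_left)
          (inf_le_left.trans inf_le_left)) (inf_le_left.trans inf_le_right))
          (le_inf (inf_le_inf_right _ inf_le_right) (inf_le_inf_right _ inf_le_left))]
      refine subsingleton_HU_iSup hM (fun W => ∃ g : Γ(X, U), W = X.basicOpen g) ?_ ?_ _ V
        (fun i => ⟨_, rfl⟩) m (by omega)
      · rintro _ ⟨g, rfl⟩; exact hU.basicOpen g
      · rintro _ _ ⟨g, rfl⟩ ⟨g', rfl⟩; exact ⟨g * g', (X.basicOpen_mul g g').symm⟩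

theorem exists_HH_bound [CompactSpace X] [QuasiSeparatedSpace X] :
    ∃ d : ℕ, ∀ M : X.Modules, Coh.IsQCoh M → ∀ p, d ≤ p → Subsingleton (Coh.HH X M p) := by
  obtain ⟨d, hd⟩ := exists_bound (⊤ : X.Opens) (by simpa using isCompact_univ)
    (IsQuasiSeparated.of_quasiSeparatedSpace _)
  refine ⟨d, fun M hM p hp => Ab.subsingleton_H_of_HU_top
    (X := X.toPresheafedSpace.carrier) (abSheaf M) p ?_⟩
  have := hd 1 M hM p hp
  rwa [X.basicOpen_of_isUnit isUnit_one] at this

theorem HH_subsingleton_of_cover (t : ℕ) (U : Fin t → X.Opens) (hU : ∀ i, IsAffineOpen (U i))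
    (hcov : ⨆ i, U i = ⊤)
    (hd : ∀ V W : X.Opens, IsAffineOpen V → IsAffineOpen W → IsAffineOpen (V ⊓ W))
    {M : X.Modules} (hM : Coh.IsQCoh M) (n : ℕ) (hn : t ≤ n) : Subsingleton (Coh.HH X M n) := by
  have h := subsingleton_HU_iSup hM IsAffineOpen (fun _ h => h) hd t U hU n hn
  rw [hcov] at h
  exact Ab.subsingleton_H_of_HU_top (X := X.toPresheafedSpace.carrier) (abSheaf M) n h

/-- Higher direct images along an affine morphism vanish. -/
theorem RpushAb_isZero_of_isAffineHom {S : Scheme.{u}} (f : X ⟶ S) [IsAffineHom f] {M : X.Modules}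
    (hM : Coh.IsQCoh M) (i : ℕ) : IsZero ((Coh.RpushAb f (i + 1)).obj (Coh.toAb M)) := by
  have hb : Ab.PreimageBasis f.base (stdCovers X) := fun U y hy => by
    obtain ⟨_, ⟨W, hW, rfl⟩, hyW, hWU⟩ := S.isBasis_affineOpens.exists_subset_of_mem_open hy U.2
    exact ⟨W, hWU, hyW, hW.preimage f⟩
  exact Ab.Rpush_isZero_of_acyclic f.base (stdCovers X) hb (abSheaf M) (stdCovers_acyclic hM) i

/-- Uniform bound for the higher direct images. -/
theorem exists_RpushAb_bound {S : Scheme.{u}} [CompactSpace S] (f : X ⟶ S) [QuasiCompact f]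
    [QuasiSeparated f] : ∃ n : ℕ, ∀ M : X.Modules, Coh.IsQCoh M → ∀ p : ℕ, n ≤ p →
      IsZero ((Coh.RpushAb f p).obj (Coh.toAb M)) := by
  obtain ⟨s, hs, hsT⟩ := isCompact_iff_finite_and_eq_biUnion_affineOpens.mp
    (show IsCompact ((⊤ : S.Opens) : Set S) by simpa using isCompact_univ)
  have hb : ∀ W : S.affineOpens, ∃ d : ℕ, ∀ g : Γ(X, f ⁻¹ᵁ W.1), ∀ M : X.Modules, Coh.IsQCoh M →
      ∀ p, d ≤ p → Subsingleton (CohTop.HU (X := X.toPresheafedSpace.carrier) (abSheaf M) p
        (X.basicOpen g)) := fun W =>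
    exists_bound (f ⁻¹ᵁ W.1) (f.isCompact_preimage W.2.isCompact)
      (f.isQuasiSeparated_preimage W.2.isQuasiSeparated)
  choose d hd using hb
  let N := hs.toFinset.sup d
  refine ⟨N + 1, fun M hM p hp => Ab.Rpush_isZero_of_bound f.base
    (fun W => ∃ U ∈ s, ∃ g : Γ(S, (U : S.affineOpens).1), W = S.basicOpen g) ?_ N
      (abSheaf M) ?_ p hp⟩
  · intro U y hy
    have hy' : y ∈ (⊤ : S.Opens) := trivial
    rw [hsT] at hy'
    obtain ⟨V, hVs, hyV⟩ : ∃ V ∈ s, y ∈ (V : S.affineOpens).1 := by simpa using hy'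
    obtain ⟨g, hg, hyg⟩ := V.2.exists_basicOpen_le (V := U) ⟨y, hy⟩ hyV
    exact ⟨S.basicOpen g, hg, hyg, V, hVs, g, rfl⟩
  · rintro W ⟨U, hU, g, rfl⟩ q hq
    have h := hd U (f.app U.1 g) M hM q
      (le_trans (Finset.le_sup (hs.mem_toFinset.2 hU)) (by omega))
    rwa [← Scheme.preimage_basicOpen] at h

end Groth.Agent.QCoh
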