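import Groth.Agent.QCoh.Serre
import Groth.Agent.QCoh.Bound
import Groth.Agent.QCoh.Ab.Restrict

/-!
# Serre's criterion on an open subscheme
-/

universe u

open CategoryTheory CategoryTheory.Limits AlgebraicGeometry TopologicalSpace Opposite

namespace Groth.Agent.QCoh

variable {X U : Scheme.{u}}

theorem subsingleton_HH_of_iso {M N : X.Modules} (e : M ≅ N) (n : ℕ)
    (h : Subsingleton (Coh.HH X M n)) : Subsingleton (Coh.HH X N n) :=
  have : Subsingleton ((Sheaf.functorH (Opens.grothendieckTopology X) n).obj ((toAbFunctor X).obj M)) := h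
  ((Sheaf.functorH (Opens.grothendieckTopology X) n).mapIso
    ((toAbFunctor X).mapIso e)).addCommGroupIsoToAddEquiv.toEquiv.symm.subsingleton

theorem mono_restrict_map (j : U ⟶ X) [IsOpenImmersion j] {M N : X.Modules} (φ : M ⟶ N) [Mono φ] :
    Mono ((Scheme.Modules.restrictFunctor j).map φ) :=
  mono_of_app_injective _ fun W => app_injective φ (j ''ᵁ W)

theorem subsingleton_HH_restrict (j : U ⟶ X) [IsOpenImmersion j] (M : X.Modules) (n : ℕ)
    (h : Subsingleton (CohTop.HU (X := X.toPresheafedSpace.carrier) (abSheaf M) (n + 1) j.opensRange)) :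
    Subsingleton (Coh.HH U (M.restrict j) (n + 1)) :=
  Ab.subsingleton_H_restr j.isOpenEmbedding n (abSheaf M) j.opensRange rfl h

/-- Quasi-coherent ideals of a quasi-compact open extend. -/
theorem exists_extend_ideal (j : U ⟶ X) [IsOpenImmersion j] [QuasiCompact j] [QuasiSeparated j]
    {J : U.Modules} (i : J ⟶ Coh.structureModule U) [Mono i] (hJ : Coh.IsQCoh J) :
    ∃ (I : X.Modules) (ι : I ⟶ Coh.structureModule X), Mono ι ∧ Coh.IsQCoh I ∧
      Nonempty (I.restrict j ≅ J) := by
  let adj := Scheme.Modules.restrictAdjunction j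
  let e := Scheme.Modules.restrictUnitIso j
  let p : Coh.structureModule X ⟶ (Scheme.Modules.pushforward j).obj (cokernel i) :=
    adj.homEquiv _ _ (e.hom ≫ cokernel.π i)
  refine ⟨kernel p, kernel.ι p, inferInstance, isQCoh_kernel isQCoh_structureModule
    (isQCoh_pushforward j (isQCoh_cokernel hJ isQCoh_structureModule i)) p, ⟨?_⟩⟩
  let R := Scheme.Modules.restrictFunctor j
  have hp : R.map p ≫ adj.counit.app (cokernel i) = e.hom ≫ cokernel.π i :=
    (adj.homEquiv_counit _ _ _).symm.trans (Equiv.symm_apply_apply _ _)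
  have hlim : PreservesLimit (parallelPair p 0) R := inferInstance
  have hc : IsLimit (KernelFork.ofι (R.map (kernel.ι p))
      (f := R.map p) (by rw [← R.map_comp, kernel.condition, R.map_zero])) :=
    KernelFork.mapIsLimit _ (kernelIsKernel p) R
  have hi : IsLimit (KernelFork.ofι i (cokernel.condition i)) :=
    Abelian.monoIsKernelOfCokernel _ (colimit.isColimit _)
  exact KernelFork.mapIsoOfIsLimit hc hi
    (Arrow.isoMk e (asIso (adj.counit.app (cokernel i))) hp.symm)

theorem isAffine_of_HU_one [QuasiSeparatedSpace X] (j : U ⟶ X) [IsOpenImmersion j] [CompactSpace U]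
    (h : ∀ (I : X.Modules) (ι : I ⟶ Coh.structureModule X), Mono ι → Coh.IsQCoh I →
      Subsingleton (CohTop.HU (X := X.toPresheafedSpace.carrier) (abSheaf I) 1 j.opensRange)) :
    IsAffine U := by
  refine isAffine_of_HH_one fun J i _ hJ => ?_
  obtain ⟨I, ι, hι, hI, ⟨e⟩⟩ := exists_extend_ideal j i hJ
  exact subsingleton_HH_of_iso e 1 (subsingleton_HH_restrict j I 0 (h I ι hι hI))

/-- Higher direct images vanishing gives vanishing over affines. -/
theorem subsingleton_HU_preimage_one {Y : Scheme.{u}} (f : X ⟶ Y) [QuasiCompact f]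
    [QuasiSeparated f] {M : X.Modules} (hM : Coh.IsQCoh M)
    (h : IsZero ((Coh.RpushAb f 1).obj (Coh.toAb M))) {V : Y.Opens} (hV : IsAffineOpen V) :
    Subsingleton (CohTop.HU (X := X.toPresheafedSpace.carrier) (abSheaf M) 1 (f ⁻¹ᵁ V)) := by
  let T := SiteBase.injectiveSES (J := Opens.grothendieckTopology X.toPresheafedSpace.carrier) (abSheaf M)
  have hT : T.ShortExact := SiteBase.injectiveSES_shortExact _
  have hT' := Ab.push_shortExact_of_isZero (j := f.base) hT h
  exact SiteBase.subsingleton_HU_one_X₁ hT (f ⁻¹ᵁ V) inferInstance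
    (Ab.sections_surjective (stdCovers Y) hT'
      (stdCovers_acyclic (isQCoh_pushforward f hM)) hV :)

end Groth.Agent.QCoh
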