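import Groth.Agent.QCoh.CechStd

/-!
# Extensions of quasi-coherent modules are quasi-coherent
-/

universe u

open CategoryTheory CategoryTheory.Limits AlgebraicGeometry TopologicalSpace Opposite

namespace Groth.Agent.QCoh

variable {X : Scheme.{u}} {S : ShortComplex X.Modules}

theorem app_f_injective (hS : S.ShortExact) (V : X.Opens) : Function.Injective (S.f.app V) :=
  have : PreservesFiniteColimits (toAbFunctor X) :=
    (toAbFunctor X).preservesFiniteColimits_of_preservesHomology
  let T := S.map (toAbFunctor X)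
  have hT : T.ShortExact := hS.map_of_exact _
  Ab.sections_f_injective hT V

theorem exists_app_f_eq (hS : S.ShortExact) (V : X.Opens) (x : Γ(S.X₂, V))
    (hx : S.g.app V x = 0) : ∃ a, S.f.app V a = x :=
  have : PreservesFiniteColimits (toAbFunctor X) :=
    (toAbFunctor X).preservesFiniteColimits_of_preservesHomology
  let T := S.map (toAbFunctor X)
  have hT : T.ShortExact := hS.map_of_exact _
  TopCat.Sheaf.sections_exact_of_left_exact (U := V) hT.exact hT.mono_f x hx

theorem app_g_f (V : X.Opens) (a : Γ(S.X₁, V)) : S.g.app V (S.f.app V a) = 0 :=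
  congr($(congrArg (fun φ : S.X₁ ⟶ S.X₃ => φ.app V) S.zero) a)

theorem isQCoh_X₂ (hS : S.ShortExact) (h₁ : Coh.IsQCoh S.X₁) (h₃ : Coh.IsQCoh S.X₃) :
    Coh.IsQCoh S.X₂ := by
  refine isQCoh_of_sections (fun U hU f s => ?_) (fun U hU f t ht => ?_)
  · obtain ⟨n, t', ht'⟩ := exists_pow_smul_eq_map h₃ hU f (S.g.app _ s)
    obtain ⟨b, rfl⟩ := app_surjective_of_shortExact hS h₁ hU t'
    rw [← map_app_comm] at ht'
    obtain ⟨a, ha⟩ := exists_app_f_eq hS (X.basicOpen f)
      (X.presheaf.map (homOfLE (X.basicOpen_le f)).op f ^ n • s -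
        S.X₂.presheaf.map (homOfLE (X.basicOpen_le f)).op b) (by
      rw [map_sub, Scheme.Modules.Hom.app_smul, ht', sub_self])
    obtain ⟨m, a', ha'⟩ := exists_pow_smul_eq_map h₁ hU f a
    refine ⟨m + n, f ^ m • b + S.f.app U a', ?_⟩
    rw [map_add, map_smul', map_pow, ← map_app_comm, ha', Scheme.Modules.Hom.app_smul, ha, smul_sub,
      add_sub_cancel, ← mul_smul, ← pow_add]
  · obtain ⟨n, hn⟩ := exists_pow_smul_eq_zero h₃ hU f (S.g.app U t) (by
      rw [← map_app_comm, ht, map_zero])
    rw [← Scheme.Modules.Hom.app_smul] at hn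
    obtain ⟨a, ha⟩ := exists_app_f_eq hS U _ hn
    obtain ⟨m, hm⟩ := exists_pow_smul_eq_zero h₁ hU f a (app_f_injective hS _ (by
      rw [map_app_comm, ha, map_smul', ht, smul_zero, map_zero]))
    refine ⟨m + n, ?_⟩
    rw [pow_add, mul_smul, ← ha, ← Scheme.Modules.Hom.app_smul, hm, map_zero]

end Groth.Agent.QCoh
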