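import Groth.Agent.QCoh.ToSheaf
import Groth.Prelude.Def_CohTop
import Mathlib.Algebra.Homology.DerivedCategory.Ext.ExactSequences

/-!
# Exact sequences of cohomology of modules
-/

universe u

open CategoryTheory CategoryTheory.Limits AlgebraicGeometry TopologicalSpace Opposite
open CategoryTheory.Abelian

namespace Groth.Agent.QCoh

variable {X : Scheme.{u}} {S : ShortComplex X.Modules}

theorem toAb_shortExact (hS : S.ShortExact) : (S.map (toAbFunctor X)).ShortExact :=
  have : PreservesFiniteColimits (toAbFunctor X) :=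
    (toAbFunctor X).preservesFiniteColimits_of_preservesHomology
  hS.map_of_exact _

theorem subsingleton_H_X₂ {Y : TopCat.{u}} {T : ShortComplex (CohTop.Ab Y)} (hT : T.ShortExact)
    (n : ℕ) (h₁ : Subsingleton (CohTop.H T.X₁ n)) (h₃ : Subsingleton (CohTop.H T.X₃ n)) :
    Subsingleton (CohTop.H T.X₂ n) := by
  refine subsingleton_of_forall_eq 0 fun x => ?_
  obtain ⟨y, rfl⟩ := Ext.covariant_sequence_exact₂ _ hT x (h₃.elim _ _)
  rw [h₁.elim y 0]
  exact Ext.zero_comp _ _ _ _ _

theorem subsingleton_HH_X₂ (hS : S.ShortExact) (n : ℕ) (h₁ : Subsingleton (Coh.HH X S.X₁ n))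
    (h₃ : Subsingleton (Coh.HH X S.X₃ n)) : Subsingleton (Coh.HH X S.X₂ n) := by
  have hT := toAb_shortExact hS
  exact subsingleton_H_X₂ (Y := X.toPresheafedSpace.carrier) (T := S.map (toAbFunctor X)) hT n h₁ h₃

theorem app_top_surjective_of_HH_one (hS : S.ShortExact) (h : Subsingleton (Coh.HH X S.X₁ 1)) :
    Function.Surjective (S.g.app ⊤) := by
  intro q
  let T := S.map (toAbFunctor X)
  have hT : T.ShortExact := toAb_shortExact hS
  obtain ⟨y, hy⟩ := Ext.covariant_sequence_exact₃ _ hT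
    ((Sheaf.H.equiv₀ T.X₃ isTerminalTop).symm q) (zero_add 1) (h.elim _ _)
  refine ⟨Sheaf.H.equiv₀ T.X₂ isTerminalTop y, ?_⟩
  refine (Sheaf.H.equiv₀_naturality isTerminalTop T.g y).trans ?_
  rw [show Sheaf.H.map T.g 0 y = _ from hy]
  exact AddEquiv.apply_symm_apply _ _

end Groth.Agent.QCoh
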