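import Groth.Agent.QCoh.VanIdeal
import Groth.Agent.QCoh.HHExact
import Groth.Agent.QCoh.Extension
import Mathlib.AlgebraicGeometry.Morphisms.Affine
import Mathlib.CategoryTheory.Abelian.Basic

/-!
# Serre's criterion for affineness
-/

universe u

open CategoryTheory CategoryTheory.Limits AlgebraicGeometry TopologicalSpace Opposite
open scoped ZeroObject

namespace Groth.Agent.QCoh

variable {X : Scheme.{u}}

/-- Inclusion of submodules. -/
noncomputable def SubMod.homOfLE {M : X.Modules} {N N' : SubMod M}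
    (h : ∀ U, N.mem U ≤ N'.mem U) : N.toModules ⟶ N'.toModules :=
  ⟨PresheafOfModules.Submodule.homOfLE (N₁ := N.sub) (N₂ := N'.sub) fun U => h U.unop⟩

theorem SubMod.homOfLE_ι {M : X.Modules} {N N' : SubMod M} (h : ∀ U, N.mem U ≤ N'.mem U) :
    SubMod.homOfLE h ≫ N'.ι = N.ι := rfl

instance SubMod.mono_homOfLE {M : X.Modules} {N N' : SubMod M} (h : ∀ U, N.mem U ≤ N'.mem U) :
    Mono (SubMod.homOfLE h) :=
  mono_of_mono_fac (SubMod.homOfLE_ι h)

/-- Every closed point has an affine neighbourhood cut out by a global function. -/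
theorem exists_basicOpen_affine
    (h : ∀ (Z : Set X), IsClosed Z → Subsingleton (Coh.HH X (vanIdeal Z).toModules 1))
    {x : X} (hx : IsClosed ({x} : Set X)) :
    ∃ f : Γ(X, ⊤), x ∈ X.basicOpen f ∧ IsAffineOpen (X.basicOpen f) := by
  obtain ⟨_, ⟨U, hU₀, rfl⟩, hxU, -⟩ :=
    X.isBasis_affineOpens.exists_subset_of_mem_open (Set.mem_univ x) isOpen_univ
  have hU : IsAffineOpen U := hU₀
  let Z : Set X := (U : Set X)ᶜ
  let Z' : Set X := insert x Z
  let j := SubMod.homOfLE (N := vanIdeal Z') (N' := vanIdeal Z)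
    (vanIdeal_mono (Set.subset_insert x Z))
  let S : ShortComplex X.Modules := ShortComplex.mk j (cokernel.π j) (cokernel.condition j)
  have hS : S.ShortExact := { exact := ShortComplex.exact_of_g_is_cokernel _ (cokernelIsCokernel j) }
  let V : X.Opens := ⟨{x}ᶜ, hx.isOpen_compl⟩
  have hone : (show Γ(Coh.structureModule X, U) from (1 : Γ(X, U))) ∈ (vanIdeal Z).mem U :=
    fun z hz hzb => hz (X.basicOpen_le _ hzb)
  obtain ⟨e₁, he₁⟩ := (vanIdeal Z).exists_app_eq hone
  let q₁ : Γ(S.X₃, U) := S.g.app U e₁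
  have hcomp : S.X₃.presheaf.map (homOfLE (inf_le_left : U ⊓ V ≤ U)).op q₁ = 0 := by
    have hone' : (show Γ(Coh.structureModule X, U ⊓ V) from (1 : Γ(X, U ⊓ V))) ∈
        (vanIdeal Z').mem (U ⊓ V) := fun z hz hzb => by
      rcases hz with rfl | hz
      · exact (X.basicOpen_le _ hzb).2 rfl
      · exact hz (X.basicOpen_le _ hzb).1
    obtain ⟨e₂, he₂⟩ := (vanIdeal Z').exists_app_eq hone'
    have : S.X₂.presheaf.map (homOfLE (inf_le_left : U ⊓ V ≤ U)).op e₁ = S.f.app (U ⊓ V) e₂ := by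
      refine (vanIdeal Z).ι_app_injective _ ?_
      rw [map_app_comm, he₁]
      exact ((map_one (X.presheaf.map (homOfLE (inf_le_left : U ⊓ V ≤ U)).op).hom).trans he₂.symm :)
    rw [← map_app_comm, this, app_g_f]
  have hcov : (⊤ : X.Opens) ≤ iSup fun b : ULift.{u} Bool => cond b.down U V := fun z _ => by
    by_cases hz : z = x
    · exact Opens.mem_iSup.2 ⟨⟨true⟩, hz ▸ hxU⟩
    · exact Opens.mem_iSup.2 ⟨⟨false⟩, hz⟩
  have hcompat : TopCat.Presheaf.IsCompatible (X := X.toPresheafedSpace.carrier) S.X₃.presheaf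
      (fun b : ULift.{u} Bool => cond b.down U V)
      (fun b => match b with
        | ⟨true⟩ => q₁
        | ⟨false⟩ => (0 : Γ(S.X₃, V))) := by
    rintro ⟨_ | _⟩ ⟨_ | _⟩
    · rfl
    · refine (map_zero (S.X₃.presheaf.map _).hom).trans ?_
      have h' := congrArg (S.X₃.presheaf.map (homOfLE (le_of_eq (inf_comm V U))).op) hcomp
      rw [map_zero, map_map] at h'
      exact h'.symm
    · exact hcomp.trans (map_zero (S.X₃.presheaf.map _).hom).symm
    · rfl
  obtain ⟨q, hq, -⟩ := TopCat.Sheaf.existsUnique_gluing' (X := X.toPresheafedSpace.carrier)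
    (⟨S.X₃.presheaf, S.X₃.isSheaf⟩ : TopCat.Sheaf AddCommGrpCat.{u} X.toPresheafedSpace.carrier)
    _ ⊤ (fun _ => homOfLE le_top) hcov _ hcompat
  obtain ⟨e, he⟩ := app_top_surjective_of_HH_one hS (h Z' (by
    rw [show Z' = {x} ∪ Z from Set.insert_eq x Z]; exact hx.union U.isOpen.isClosed_compl)) q
  let f : Γ(X, ⊤) := toFn ((vanIdeal Z).ι.app ⊤ e)
  have hfU : X.basicOpen f ≤ U := fun z hz => by
    by_contra hzU
    exact (vanIdeal Z).ι_app_mem ⊤ e z hzU hz
  refine ⟨f, ?_, ?_⟩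
  · have hd : S.g.app U (S.X₂.presheaf.map (homOfLE (le_top : U ≤ ⊤)).op e - e₁) = 0 := by
      rw [map_sub, map_app_comm, he, sub_eq_zero]
      exact hq ⟨true⟩
    obtain ⟨a, ha⟩ := exists_app_f_eq hS U _ hd
    by_contra hxf
    have hxU' : x ∉ X.basicOpen (toFn ((vanIdeal Z').ι.app U a)) :=
      (vanIdeal Z').ι_app_mem U a x (Set.mem_insert x Z)
    rw [show (vanIdeal Z').ι.app U a = (vanIdeal Z).ι.app U (S.f.app U a) from rfl, ha,
      map_sub, map_app_comm, he₁] at hxU'
    have h1 := (notMem_basicOpen_iff _ x hxU).1 hxU'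
    rw [show toFn ((Coh.structureModule X).presheaf.map (homOfLE (le_top : U ≤ ⊤)).op
        ((vanIdeal Z).ι.app ⊤ e) - (show Γ(Coh.structureModule X, U) from (1 : Γ(X, U)))) =
      X.presheaf.map (homOfLE (le_top : U ≤ ⊤)).op f - 1 from rfl, map_sub, map_one] at h1
    have h2 : X.presheaf.germ U x hxU (X.presheaf.map (homOfLE (le_top : U ≤ ⊤)).op f) ∈
        IsLocalRing.maximalIdeal (X.presheaf.stalk x) := by
      refine (notMem_basicOpen_iff _ x hxU).1 ?_
      rw [Scheme.basicOpen_res]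
      exact fun hh => hxf hh.2
    exact (IsLocalRing.maximalIdeal.isMaximal (X.presheaf.stalk x)).ne_top
      ((Ideal.eq_top_iff_one _).2 (by simpa using sub_mem h2 h1))
  · have := Scheme.basicOpen_res X f (homOfLE (le_top : U ≤ ⊤)).op
    rw [inf_eq_right.2 hfU] at this
    rw [← this]
    exact hU.basicOpen _

/-- Multiplication by a global function. -/
noncomputable def mulHom (f : Γ(X, ⊤)) : Coh.structureModule X ⟶ Coh.structureModule X :=
  ⟨PresheafOfModules.homMk
    { app := fun U => AddCommGrpCat.ofHom (AddMonoidHom.mulRight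
        (show Γ(X, U.unop) from X.presheaf.map (homOfLE le_top).op f))
      naturality := fun U V i => by
        refine AddCommGrpCat.ext fun (s : Γ(X, U.unop)) => ?_
        show X.presheaf.map i s * X.presheaf.map (homOfLE le_top).op f =
          X.presheaf.map i (s * X.presheaf.map (homOfLE le_top).op f)
        rw [map_mul, ← ConcreteCategory.comp_apply (X.presheaf.map (homOfLE le_top).op),
          ← X.presheaf.map_comp]
        rfl }
    fun U r (s : Γ(X, U.unop)) => mul_assoc (r : Γ(X, U.unop)) s _⟩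

theorem mulHom_app (f : Γ(X, ⊤)) (U : X.Opens) (s : Γ(Coh.structureModule X, U)) :
    toFn ((mulHom f).app U s) = toFn s * X.presheaf.map (homOfLE le_top).op f := rfl

/-- All quasi-coherent submodules have vanishing `H¹`. -/
def SubAcyclic (M : X.Modules) : Prop :=
  ∀ (F : X.Modules) (i : F ⟶ M), Mono i → Coh.IsQCoh F → Subsingleton (Coh.HH X F 1)

theorem SubAcyclic.of_exact {A M B : X.Modules} (ι : A ⟶ M) (p : M ⟶ B) [Mono ι]
    (hB : Coh.IsQCoh B) (lift : ∀ {K : X.Modules} (k : K ⟶ M), k ≫ p = 0 → ∃ l, l ≫ ι = k)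
    (hA : SubAcyclic A) (hB' : SubAcyclic B) : SubAcyclic M := by
  intro F i _ hF
  let φ := i ≫ p
  have hK : Coh.IsQCoh (kernel φ) := isQCoh_kernel hF hB φ
  obtain ⟨l, hl⟩ := lift (kernel.ι φ ≫ i) (by rw [Category.assoc, kernel.condition])
  have : Mono l := mono_of_mono_fac hl
  let S : ShortComplex X.Modules :=
    ShortComplex.mk (kernel.ι φ) (cokernel.π (kernel.ι φ)) (cokernel.condition _)
  have hS : S.ShortExact :=
    { exact := ShortComplex.exact_of_g_is_cokernel _ (cokernelIsCokernel _) }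
  exact subsingleton_HH_X₂ hS 1 (hA _ l inferInstance hK)
    (hB' _ (Abelian.factorThruCoimage φ) inferInstance (isQCoh_cokernel hK hF _))

theorem isQCoh_of_isZero {M : X.Modules} (h : IsZero M) : Coh.IsQCoh M := by
  have hz : ∀ V : X.Opens, Subsingleton Γ(M, V) := fun V => subsingleton_of_forall_eq 0 fun x => by
    have := congrArg (fun φ : M ⟶ M => φ.app V x) (h.eq_of_src (𝟙 M) 0)
    simpa using this
  exact isQCoh_of_sections (fun U _ f s => ⟨0, 0, Subsingleton.elim _ _⟩)
    (fun U _ f t _ => ⟨0, Subsingleton.elim _ _⟩)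

/-- A row of global functions as a morphism from a free module. -/
noncomputable def rowHom : List Γ(X, ⊤) → Σ M : X.Modules, (M ⟶ Coh.structureModule X)
  | [] => ⟨0, 0⟩
  | f :: l => ⟨Coh.structureModule X ⊞ (rowHom l).1, biprod.desc (mulHom f) (rowHom l).2⟩

theorem rowHom_props (h : SubAcyclic (Coh.structureModule X)) (l : List Γ(X, ⊤)) :
    Coh.IsQCoh (rowHom l).1 ∧ SubAcyclic (rowHom l).1 ∧
    (∀ x, toFn ((rowHom l).2.app ⊤ x) ∈ Ideal.span {f | f ∈ l}) ∧
    ∀ {N : X.Modules} (ψ : Coh.structureModule X ⟶ N), (rowHom l).2 ≫ ψ = 0 →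
      ∀ f ∈ l, mulHom f ≫ ψ = 0 := by
  induction l with
  | nil =>
    have hz : IsZero (rowHom ([] : List Γ(X, ⊤))).1 := isZero_zero _
    refine ⟨isQCoh_of_isZero hz, fun F i _ hF => ?_, fun x => ?_, by simp⟩
    · exact Sheaf.subsingleton_H_of_isZero ((toAbFunctor X).map_isZero
        (IsZero.of_mono i hz)) 1
    · exact zero_mem _
  | cons f l ih =>
    obtain ⟨hq, hs, hr, he⟩ := ih
    refine ⟨isQCoh_X₂ (ShortComplex.Splitting.ofHasBinaryBiproduct (Coh.structureModule X)
      (rowHom l).1).shortExact isQCoh_structureModule hq, ?_, fun x => ?_, fun ψ hψ g hg => ?_⟩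
    · have : Mono (biprod.inr : (rowHom l).1 ⟶ Coh.structureModule X ⊞ (rowHom l).1) :=
        SplitMono.mono ⟨biprod.snd, biprod.inr_snd⟩
      show SubAcyclic (Coh.structureModule X ⊞ (rowHom l).1)
      refine SubAcyclic.of_exact (biprod.inr : (rowHom l).1 ⟶ Coh.structureModule X ⊞ (rowHom l).1)
        biprod.fst isQCoh_structureModule (fun k hk => ⟨k ≫ biprod.snd, ?_⟩) hs h
      apply biprod.hom_ext <;> simp [hk]
    · rw [show (rowHom (f :: l)).2 = biprod.fst ≫ mulHom f + biprod.snd ≫ (rowHom l).2 from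
        biprod.desc_eq]
      show toFn ((mulHom f).app ⊤ ((biprod.fst : _ ⟶ Coh.structureModule X).app ⊤ x)) +
        toFn ((rowHom l).2.app ⊤ ((biprod.snd : _ ⟶ (rowHom l).1).app ⊤ x)) ∈ _
      refine add_mem ?_ (Ideal.span_mono (fun _ hg => List.mem_cons_of_mem f hg) (hr _))
      rw [mulHom_app]
      refine Ideal.mul_mem_left _ _ (Ideal.subset_span ?_)
      rw [Subsingleton.elim (homOfLE (le_top : (⊤ : X.Opens) ≤ ⊤)).op (𝟙 _), X.presheaf.map_id]
      exact List.mem_cons_self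
    · rcases List.mem_cons.1 hg with rfl | hg
      · have hψ' : biprod.desc (mulHom g) (rowHom l).2 ≫ ψ = 0 := hψ
        simpa using (biprod.inl : Coh.structureModule X ⟶ _ ⊞ (rowHom l).1) ≫= hψ'
      · refine he ψ ?_ g hg
        have hψ' : biprod.desc (mulHom f) (rowHom l).2 ≫ ψ = 0 := hψ
        simpa using (biprod.inr : (rowHom l).1 ⟶ Coh.structureModule X ⊞ _) ≫= hψ'

theorem isAffine_of_HH_one [CompactSpace X]
    (h : SubAcyclic (Coh.structureModule X)) : IsAffine X := by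
  have hv : ∀ (Z : Set X), IsClosed Z → Subsingleton (Coh.HH X (vanIdeal Z).toModules 1) :=
    fun Z _ => h _ (vanIdeal Z).ι inferInstance (isQCoh_vanIdeal Z)
  have hcov : ∀ y : X, ∃ f : Γ(X, ⊤), y ∈ X.basicOpen f ∧ IsAffineOpen (X.basicOpen f) := fun y => by
    obtain ⟨z, hz, hzc⟩ := IsClosed.exists_closed_singleton (isClosed_closure (s := ({y} : Set X)))
      ⟨y, subset_closure rfl⟩
    obtain ⟨f, hzf, hf⟩ := exists_basicOpen_affine hv hzc
    exact ⟨f, (specializes_iff_mem_closure.2 hz).mem_open (X.basicOpen f).isOpen hzf, hf⟩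
  choose f hyf hf using hcov
  obtain ⟨t, ht⟩ := isCompact_univ.elim_finite_subcover (fun y => (X.basicOpen (f y) : Set X))
    (fun y => (X.basicOpen (f y)).isOpen) fun y _ => Set.mem_iUnion.2 ⟨y, hyf y⟩
  let l : List Γ(X, ⊤) := t.toList.map f
  obtain ⟨hq, hs, hr, he⟩ := rowHom_props h l
  let φ := (rowHom l).2
  have : Epi φ := Preadditive.epi_of_cancel_zero _ fun {N} ψ hψ => by
    apply N.unitHomEquiv.injective
    refine Subtype.ext (funext fun V => ?_)
    refine (eq_zero_of_locally (M := N) V.unop _ fun p hp => ?_).trans ?_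
    pick_goal 2
    · exact (rfl : (0 : Γ(N, V.unop)) = _)
    obtain ⟨y, hy, hpy⟩ := Set.mem_iUnion₂.1 (ht (Set.mem_univ p))
    let W : X.Opens := V.unop ⊓ X.basicOpen (f y)
    refine ⟨W, homOfLE inf_le_left, ⟨hp, hpy⟩, ?_⟩
    have h0 : mulHom (f y) ≫ ψ = 0 := he ψ hψ _ (List.mem_map.2 ⟨y, Finset.mem_toList.2 hy, rfl⟩)
    have hu : IsUnit (X.presheaf.map (homOfLE (le_top : W ≤ ⊤)).op (f y)) := by
      have hu : IsUnit (X.presheaf.map (homOfLE (le_top : X.basicOpen (f y) ≤ ⊤)).op (f y)) :=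
        RingedSpace.isUnit_res_basicOpen X.toRingedSpace (f y)
      have := hu.map (X.presheaf.map (homOfLE (inf_le_right : W ≤ X.basicOpen (f y))).op).hom
      rwa [← ConcreteCategory.comp_apply, ← X.presheaf.map_comp] at this
    obtain ⟨v, hv⟩ := hu
    have h1 := congrArg (fun χ : Coh.structureModule X ⟶ N =>
      χ.app W (show Γ(Coh.structureModule X, W) from ((v⁻¹ : Γ(X, W)ˣ) : Γ(X, W)))) h0
    show N.presheaf.map _ (ψ.app V.unop (show Γ(Coh.structureModule X, V.unop) from (1 : Γ(X, V.unop)))) = 0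
    rw [← map_app_comm]
    refine Eq.trans (congrArg (ψ.app W) ?_) (h1.trans rfl)
    show X.presheaf.map _ (1 : Γ(X, V.unop)) = ((v⁻¹ : Γ(X, W)ˣ) : Γ(X, W)) * _
    rw [map_one, ← hv, Units.inv_mul]
  let S : ShortComplex X.Modules := ShortComplex.mk (kernel.ι φ) φ (kernel.condition φ)
  have hS : S.ShortExact := { exact := ShortComplex.exact_of_f_is_kernel _ (kernelIsKernel φ) }
  obtain ⟨x, hx⟩ := app_top_surjective_of_HH_one hS
    (hs _ (kernel.ι φ) inferInstance (isQCoh_kernel hq isQCoh_structureModule φ))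
    (show Γ(Coh.structureModule X, ⊤) from (1 : Γ(X, ⊤)))
  have h1 := hr x
  rw [show (rowHom l).2.app ⊤ x = _ from hx] at h1
  refine isAffine_of_isAffineOpen_basicOpen {g | g ∈ l} ((Ideal.eq_top_iff_one _).2 h1) ?_
  rintro g hg
  obtain ⟨y, -, rfl⟩ := List.mem_map.1 hg
  exact hf y

end Groth.Agent.QCoh
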