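import Groth.Agent.QCoh.FT
import Groth.Agent.QCoh.Extension
import Mathlib.RingTheory.Support

/-!
# Stalks, supports and coherent modules
-/

set_option backward.isDefEq.respectTransparency false
set_option backward.isDefEq.respectTransparency.types false

universe u

open CategoryTheory CategoryTheory.Limits AlgebraicGeometry TopologicalSpace Opposite

namespace Groth.Agent.QCoh

variable {X : Scheme.{u}} {M : X.Modules}

theorem basicOpen_pow_of_mem {U : X.Opens} (f : Γ(X, U)) {x : X} (hxU : x ∈ U) (hx : x ∈ X.basicOpen f)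
    (n : ℕ) : x ∈ X.basicOpen (f ^ n) := by
  rw [X.mem_basicOpen _ x hxU, map_pow]
  exact ((X.mem_basicOpen f x hxU).1 hx).pow n

theorem res_eq_zero_of_smul_eq_zero {U V : X.Opens} (hle : V ≤ U) (f : Γ(X, U)) (hf : V ≤ X.basicOpen f)
    (m : Γ(M, U)) (h : f • m = 0) : M.presheaf.map (homOfLE hle).op m = 0 := by
  have hu : IsUnit (X.presheaf.map (homOfLE hle).op f) := by
    have := (RingedSpace.isUnit_res_basicOpen X.toRingedSpace f).map (X.presheaf.map (homOfLE hf).op).hom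
    exact (congrArg IsUnit (ringMap_map (X := X) _ _ f)).mp this
  rw [← hu.smul_eq_zero, ← map_smul', h, map_zero]

/-- A section on an affine open vanishes in the stalk iff it is killed by a function not vanishing there. -/
theorem germ_eq_zero_iff (hM : Coh.IsQCoh M) {U : X.Opens} (hU : IsAffineOpen U) {x : X} (hx : x ∈ U)
    (m : Γ(M, U)) :
    M.presheaf.germ U x hx m = 0 ↔ ∃ f : Γ(X, U), x ∈ X.basicOpen f ∧ f • m = 0 := by
  constructor
  · intro h
    obtain ⟨W, hxW, i, j, hW⟩ := M.presheaf.germ_eq x hx hx m 0 (h.trans (map_zero _).symm)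
    obtain ⟨f, hf, hxf⟩ := hU.exists_basicOpen_le ⟨x, hxW⟩ hx
    have hz : M.presheaf.map (homOfLE (X.basicOpen_le f)).op m = 0 := by
      have := congrArg (M.presheaf.map (homOfLE hf).op) hW
      rwa [map_zero, map_zero, map_map] at this
    obtain ⟨n, hn⟩ := exists_pow_smul_eq_zero hM hU f m hz
    exact ⟨f ^ n, basicOpen_pow_of_mem f hx hxf n, hn⟩
  · rintro ⟨f, hxf, hf⟩
    rw [← M.presheaf.germ_res_apply (homOfLE (X.basicOpen_le f)) x hxf m,
      res_eq_zero_of_smul_eq_zero _ f le_rfl m hf, map_zero]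

theorem subsingleton_stalk_iff (hM : Coh.IsQCoh M) {U : X.Opens} (hU : IsAffineOpen U) {x : X} (hx : x ∈ U) :
    Subsingleton (M.presheaf.stalk x) ↔ ∀ m : Γ(M, U), ∃ f : Γ(X, U), x ∈ X.basicOpen f ∧ f • m = 0 := by
  refine ⟨fun h m => (germ_eq_zero_iff hM hU hx m).1 (h.elim _ _), fun h => ?_⟩
  refine subsingleton_of_forall_eq 0 fun y => ?_
  obtain ⟨W, hxW, s, rfl⟩ := TopCat.Presheaf.exists_germ_eq M.presheaf y
  obtain ⟨g, hg, hxg⟩ := hU.exists_basicOpen_le ⟨x, hxW⟩ hx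
  obtain ⟨n, t, ht⟩ := exists_pow_smul_eq_map hM hU g (M.presheaf.map (homOfLE hg).op s)
  obtain ⟨f, hxf, hf⟩ := h t
  let D : X.Opens := X.basicOpen f ⊓ X.basicOpen g
  have h0 : M.presheaf.map (homOfLE (inf_le_left.trans (X.basicOpen_le f) : D ≤ U)).op t = 0 :=
    res_eq_zero_of_smul_eq_zero _ f inf_le_left t hf
  have h1 : M.presheaf.map (homOfLE (inf_le_right : D ≤ X.basicOpen g)).op
      (X.presheaf.map (homOfLE (X.basicOpen_le g)).op g ^ n • M.presheaf.map (homOfLE hg).op s) = 0 := by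
    rw [← ht, map_map]; exact h0
  have hu : IsUnit (X.presheaf.map (homOfLE (inf_le_right : D ≤ X.basicOpen g)).op
      (X.presheaf.map (homOfLE (X.basicOpen_le g)).op g ^ n)) :=
    ((RingedSpace.isUnit_res_basicOpen X.toRingedSpace g).pow n).map
      (X.presheaf.map (homOfLE (inf_le_right : D ≤ X.basicOpen g)).op).hom
  rw [map_smul', hu.smul_eq_zero] at h1
  rw [← M.presheaf.germ_res_apply (homOfLE hg) x hxg s,
    ← M.presheaf.germ_res_apply (homOfLE (inf_le_right : D ≤ X.basicOpen g)) x ⟨hxf, hxg⟩, h1, map_zero]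

theorem mem_support_iff (hM : Coh.IsQCoh M) {U : X.Opens} (hU : IsAffineOpen U) {x : X} (hx : x ∈ U) :
    x ∈ CohB1.support M ↔ ∃ m : Γ(M, U), ∀ f : Γ(X, U), x ∈ X.basicOpen f → f • m ≠ 0 := by
  show ¬ Subsingleton _ ↔ _
  rw [subsingleton_stalk_iff hM hU hx]
  simp only [not_forall, not_exists, not_and, ne_eq]

theorem mem_basicOpen_iff_notMem {U : X.Opens} (hU : IsAffineOpen U) {x : X} (hx : x ∈ U) (f : Γ(X, U)) :
    x ∈ X.basicOpen f ↔ f ∉ (hU.primeIdealOf ⟨x, hx⟩).asIdeal := by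
  rw [← PrimeSpectrum.mem_basicOpen, ← hU.fromSpec_preimage_basicOpen f]
  show x ∈ X.basicOpen f ↔ hU.fromSpec (hU.primeIdealOf ⟨x, hx⟩) ∈ X.basicOpen f
  rw [hU.fromSpec_primeIdealOf]

theorem mem_moduleSupport_iff (hM : Coh.IsQCoh M) {U : X.Opens} (hU : IsAffineOpen U) {x : X} (hx : x ∈ U) :
    hU.primeIdealOf ⟨x, hx⟩ ∈ Module.support Γ(X, U) Γ(M, U) ↔ x ∈ CohB1.support M := by
  rw [Module.mem_support_iff', mem_support_iff hM hU hx]
  simp only [mem_basicOpen_iff_notMem hU hx]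

/-- A quasi-coherent module with no sections on an affine cover is zero. -/
theorem isZero_of_cover (hM : Coh.IsQCoh M) {ι : Type*} (U : ι → X.Opens) (haff : ∀ i, IsAffineOpen (U i))
    (hU : ∀ x : X, ∃ i, x ∈ U i) (h : ∀ i, Subsingleton Γ(M, U i)) : IsZero M := by
  have hst : ∀ x : X, Subsingleton (M.presheaf.stalk x) := fun x => by
    obtain ⟨i, hi⟩ := hU x
    refine (subsingleton_stalk_iff hM (haff i) hi).2 fun m => ⟨1, ?_, (h i).elim _ _⟩
    rw [X.mem_basicOpen _ x hi, map_one]; exact isUnit_one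
  have hsec : ∀ (W : X.Opens) (s : Γ(M, W)), s = 0 := fun W s => by
    refine eq_zero_of_locally W s fun p hp => ?_
    obtain ⟨V, hpV, i, j, e⟩ := M.presheaf.germ_eq p hp hp s 0 ((hst p).elim _ _)
    exact ⟨V, i, hpV, e.trans (map_zero _)⟩
  rw [IsZero.iff_id_eq_zero]
  refine Scheme.Modules.hom_ext _ _ fun W => ?_
  ext s
  exact (hsec W s).trans (hsec W _).symm

/-- Coherence can be checked on affine sections. -/
theorem isCoh_iff : Coh.IsCoh M ↔ Coh.IsQCoh M ∧ ∀ U : X.affineOpens, Module.Finite Γ(X, U.1) Γ(M, U.1) :=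
  ⟨fun h => ⟨h.1, (isFT_iff h.1).1 h.2⟩, fun h => ⟨h.1, (isFT_iff h.1).2 h.2⟩⟩

theorem finite_sections (hM : Coh.IsCoh M) {U : X.Opens} (hU : IsAffineOpen U) :
    Module.Finite Γ(X, U) Γ(M, U) := finite_of_isFT hM.1 hM.2 hU

theorem isClosed_support_of_isFT (hM : Coh.IsQCoh M) (hft : CohB1.IsFT M) : IsClosed (CohB1.support M) := by
  rw [← isOpen_compl_iff, isOpen_iff_forall_mem_open]
  intro x hx
  obtain ⟨_, ⟨U, hU, rfl⟩, hxU, -⟩ :=
    X.isBasis_affineOpens.exists_subset_of_mem_open (Set.mem_univ x) isOpen_univ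
  have hU' : IsAffineOpen U := hU
  have := finite_of_isFT hM hft hU'
  obtain ⟨n, v, hv⟩ := Module.Finite.exists_fin (R := Γ(X, U)) (M := Γ(M, U))
  have hst : Subsingleton (M.presheaf.stalk x) := by_contra fun h => hx h
  choose f hxf hf using fun i => (subsingleton_stalk_iff hM hU' hxU).1 hst (v i)
  refine ⟨(X.basicOpen (∏ i, f i) : X.Opens), fun y hy hy' => ?_, (X.basicOpen _).2, ?_⟩
  · have hyU : y ∈ U := X.basicOpen_le _ hy
    refine hy' ((subsingleton_stalk_iff hM hU' hyU).2 fun m => ⟨∏ i, f i, hy, ?_⟩)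
    have hm : m ∈ Submodule.span Γ(X, U) (Set.range v) := hv ▸ Submodule.mem_top
    induction hm using Submodule.span_induction with
    | mem _ h =>
      obtain ⟨i, rfl⟩ := h
      rw [← Finset.mul_prod_erase _ f (Finset.mem_univ i), mul_comm, mul_smul, hf i, smul_zero]
    | zero => exact smul_zero _
    | add _ _ _ _ ha hb => rw [smul_add, ha, hb, add_zero]
    | smul r _ _ ha => rw [smul_comm, ha, smul_zero]
  · show x ∈ X.basicOpen (∏ i, f i)
    rw [X.mem_basicOpen _ x hxU, map_prod]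
    exact IsUnit.prod_univ_iff.2 fun i => (X.mem_basicOpen (f i) x hxU).1 (hxf i)

theorem stableUnderSpecialization_support (hM : Coh.IsQCoh M) : StableUnderSpecialization (CohB1.support M) := by
  intro x y hxy hx
  obtain ⟨_, ⟨U, hU, rfl⟩, hyU, -⟩ :=
    X.isBasis_affineOpens.exists_subset_of_mem_open (Set.mem_univ y) isOpen_univ
  have hU' : IsAffineOpen U := hU
  obtain ⟨m, hm⟩ := (mem_support_iff hM hU' (hxy.mem_open U.2 hyU)).1 hx
  exact (mem_support_iff hM hU' hyU).2 ⟨m, fun f hf => hm f (hxy.mem_open (X.basicOpen f).2 hf)⟩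

section noetherian

variable [IsLocallyNoetherian X]

theorem noetherian_sections (U : X.affineOpens) : IsNoetherianRing Γ(X, U.1) :=
  IsLocallyNoetherian.component_noetherian U

theorem isCoh_of_mono {N : X.Modules} (i : N ⟶ M) [Mono i] (hM : Coh.IsCoh M) (hN : Coh.IsQCoh N) :
    Coh.IsCoh N := by
  refine isCoh_iff.2 ⟨hN, fun U => ?_⟩
  have := noetherian_sections U
  have := finite_sections hM U.2
  exact Module.Finite.of_injective
    ({ toFun := i.app U.1, map_add' := map_add (i.app U.1).hom, map_smul' := fun r x => i.app_smul r x } :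
      Γ(N, U.1) →ₗ[Γ(X, U.1)] Γ(M, U.1))
    (app_injective i U.1)

theorem isCoh_kernel {N : X.Modules} (hM : Coh.IsCoh M) (hN : Coh.IsCoh N) (φ : M ⟶ N) :
    Coh.IsCoh (kernel φ) :=
  isCoh_of_mono (kernel.ι φ) hM (isQCoh_kernel hM.1 hN.1 φ)

end noetherian

theorem app_surjective_of_epi {N : X.Modules} (hM : Coh.IsQCoh M) (hN : Coh.IsQCoh N) (φ : M ⟶ N) [Epi φ]
    {U : X.Opens} (hU : IsAffineOpen U) : Function.Surjective (φ.app U) :=
  app_surjective_of_shortExact (S := ShortComplex.mk (kernel.ι φ) φ (kernel.condition φ))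
    { exact := ShortComplex.exact_kernel φ, mono_f := inferInstance, epi_g := inferInstance }
    (isQCoh_kernel hM hN φ) hU

theorem isCoh_of_epi {N : X.Modules} (φ : M ⟶ N) [Epi φ] (hM : Coh.IsCoh M) (hN : Coh.IsQCoh N) :
    Coh.IsCoh N := by
  refine isCoh_iff.2 ⟨hN, fun U => ?_⟩
  have := finite_sections hM U.2
  exact Module.Finite.of_surjective
    ({ toFun := φ.app U.1, map_add' := map_add (φ.app U.1).hom, map_smul' := fun r x => φ.app_smul r x } :
      Γ(M, U.1) →ₗ[Γ(X, U.1)] Γ(N, U.1)) (app_surjective_of_epi hM.1 hN φ U.2)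

theorem isCoh_cokernel {N : X.Modules} (hM : Coh.IsQCoh M) (hN : Coh.IsCoh N) (φ : M ⟶ N) :
    Coh.IsCoh (cokernel φ) :=
  isCoh_of_epi (cokernel.π φ) hN (isQCoh_cokernel hM hN.1 φ)

theorem isCoh_iff_isFP [IsLocallyNoetherian X] : Coh.IsCoh M ↔ CohB1.IsFP M := by
  refine ⟨fun h => (isFP_iff h.1).2 fun U => ?_, fun h => ?_⟩
  · have := noetherian_sections U
    have := finite_sections h U.2
    exact Module.finitePresentation_of_finite _ _
  · have hq : Coh.IsQCoh M := by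
      have := h; exact (inferInstance : SheafOfModules.IsQuasicoherent (R := X.ringCatSheaf) M)
    refine isCoh_iff.2 ⟨hq, fun U => ?_⟩
    have := (isFP_iff hq).1 h U
    infer_instance

theorem isQCoh_of_isFP (h : CohB1.IsFP M) : Coh.IsQCoh M := by
  have := h; exact (inferInstance : SheafOfModules.IsQuasicoherent (R := X.ringCatSheaf) M)

/-- Direct image by a finite morphism. -/
theorem isCoh_pushforward_finite {Y : Scheme.{u}} (f : X ⟶ Y) [IsFinite f] (hM : Coh.IsCoh M) :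
    Coh.IsCoh ((Scheme.Modules.pushforward f).obj M) := by
  refine isCoh_iff.2 ⟨isQCoh_pushforward f hM.1, fun U => ?_⟩
  have hW : IsAffineOpen (f ⁻¹ᵁ U.1) := U.2.preimage f
  have := finite_sections hM hW
  letI : Algebra Γ(Y, U.1) Γ(X, f ⁻¹ᵁ U.1) := (f.app U.1).hom.toAlgebra
  have : Module.Finite Γ(Y, U.1) Γ(X, f ⁻¹ᵁ U.1) := IsFinite.finite_app f U.1 U.2
  letI : Module Γ(Y, U.1) Γ(M, f ⁻¹ᵁ U.1) := Module.compHom _ (f.app U.1).hom
  have : IsScalarTower Γ(Y, U.1) Γ(X, f ⁻¹ᵁ U.1) Γ(M, f ⁻¹ᵁ U.1) := IsScalarTower.of_algebraMap_smul fun _ _ => rfl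
  have := Module.Finite.trans (R := Γ(Y, U.1)) Γ(X, f ⁻¹ᵁ U.1) Γ(M, f ⁻¹ᵁ U.1)
  exact Module.Finite.of_surjective
    ({ toFun := fun x => (show Γ(M, f ⁻¹ᵁ U.1) from x), map_add' := fun _ _ => rfl,
       map_smul' := fun r x => (pushforward_smul f U.1 r x).symm } :
      Γ(M, f ⁻¹ᵁ U.1) →ₗ[Γ(Y, U.1)] Γ((Scheme.Modules.pushforward f).obj M, U.1)) (fun y => ⟨y, rfl⟩)

end Groth.Agent.QCoh
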