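import Groth.Agent.QCoh.Submod
import Groth.Agent.QCoh.Qcqs
import Mathlib.RingTheory.LocalRing.MaximalIdeal.Basic

/-!
# The quasi-coherent ideal of functions vanishing on a closed set
-/

universe u

open CategoryTheory CategoryTheory.Limits AlgebraicGeometry TopologicalSpace Opposite

namespace Groth.Agent.QCoh

variable {X : Scheme.{u}}

/-- A section of the structure module as a function. -/
abbrev toFn {U : X.Opens} (s : Γ(Coh.structureModule X, U)) : Γ(X, U) := s

theorem toFn_map {U V : X.Opens} (i : V ⟶ U) (s : Γ(Coh.structureModule X, U)) :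
    toFn ((Coh.structureModule X).presheaf.map i.op s) = X.presheaf.map i.op (toFn s) := rfl

theorem toFn_smul {U : X.Opens} (r : Γ(X, U)) (s : Γ(Coh.structureModule X, U)) :
    toFn (r • s) = r * toFn s := rfl

theorem isQCoh_structureModule : Coh.IsQCoh (Coh.structureModule X) := by
  refine isQCoh_of_sections (fun U hU f s => ?_) (fun U hU f t ht => ?_)
  · have := hU.isLocalization_basicOpen f
    obtain ⟨⟨a, ⟨_, n, rfl⟩⟩, ha⟩ := IsLocalization.surj (Submonoid.powers f) (toFn s)
    refine ⟨n, (show Γ(Coh.structureModule X, U) from a), ?_⟩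
    show X.presheaf.map (homOfLE (X.basicOpen_le f)).op a = _
    refine (ha.symm.trans ?_ : _)
    rw [map_pow, mul_comm]
    rfl
  · have := hU.isLocalization_basicOpen f
    obtain ⟨⟨_, n, rfl⟩, hn⟩ := (IsLocalization.map_eq_zero_iff (Submonoid.powers f)
      Γ(X, X.basicOpen f) (toFn t)).1 ht
    exact ⟨n, hn⟩

theorem notMem_basicOpen_iff {U : X.Opens} (f : Γ(X, U)) (x : X) (hx : x ∈ U) :
    x ∉ X.basicOpen f ↔ X.presheaf.germ U x hx f ∈ IsLocalRing.maximalIdeal (X.presheaf.stalk x) := by
  rw [X.mem_basicOpen f x hx, IsLocalRing.mem_maximalIdeal, mem_nonunits_iff]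

/-- Functions vanishing at all points of `Z`. -/
def vanIdeal (Z : Set X) : SubMod (Coh.structureModule X) where
  mem U :=
    { carrier := {s | ∀ z ∈ Z, z ∉ X.basicOpen (toFn s)}
      add_mem' := fun {a b} ha hb z hz hzb => by
        have hzU : z ∈ U := X.basicOpen_le _ hzb
        refine (notMem_basicOpen_iff _ z hzU).2 ?_ hzb
        rw [show toFn (a + b) = toFn a + toFn b from rfl, map_add]
        exact add_mem ((notMem_basicOpen_iff _ z hzU).1 (ha z hz)) ((notMem_basicOpen_iff _ z hzU).1 (hb z hz))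
      zero_mem' := fun z hz hzb => by
        have hzU : z ∈ U := X.basicOpen_le _ hzb
        refine (notMem_basicOpen_iff _ z hzU).2 ?_ hzb
        rw [show toFn (0 : Γ(Coh.structureModule X, U)) = 0 from rfl, map_zero]
        exact zero_mem _
      smul_mem' := fun r a ha z hz hzb => by
        rw [toFn_smul, Scheme.basicOpen_mul] at hzb
        exact ha z hz hzb.2 }
  map_mem {U V} i {s} hs := fun z hz hzb => by
    rw [toFn_map, Scheme.basicOpen_res] at hzb
    exact hs z hz hzb.2
  of_locally U s hs := fun z hz hzb => by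
    obtain ⟨V, i, hzV, h⟩ := hs z (X.basicOpen_le _ hzb)
    refine h z hz ?_
    rw [toFn_map, Scheme.basicOpen_res]
    exact ⟨hzV, hzb⟩

theorem isQCoh_vanIdeal (Z : Set X) : Coh.IsQCoh (vanIdeal Z).toModules := by
  refine isQCoh_of_sections (fun U hU f s => ?_) (fun U hU f t ht => ?_)
  · obtain ⟨n, t, ht⟩ := exists_pow_smul_eq_map (isQCoh_structureModule (X := X)) hU f
      ((vanIdeal Z).ι.app _ s)
    have hmem : f • t ∈ (vanIdeal Z).mem U := fun z hz hzb => by
      rw [toFn_smul, Scheme.basicOpen_mul] at hzb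
      have hzD : z ∈ X.basicOpen (toFn ((Coh.structureModule X).presheaf.map
          (homOfLE (X.basicOpen_le f)).op t)) := by
        rw [toFn_map, Scheme.basicOpen_res]; exact ⟨hzb.1, hzb.2⟩
      rw [ht, toFn_smul, Scheme.basicOpen_mul] at hzD
      exact (vanIdeal Z).ι_app_mem _ s z hz hzD.2
    obtain ⟨t', ht'⟩ := (vanIdeal Z).exists_app_eq hmem
    refine ⟨n + 1, t', (vanIdeal Z).ι_app_injective _ ?_⟩
    rw [map_app_comm, ht', map_smul', ht, Scheme.Modules.Hom.app_smul, ← mul_smul, pow_succ']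
  · obtain ⟨n, hn⟩ := exists_pow_smul_eq_zero (isQCoh_structureModule (X := X)) hU f
      ((vanIdeal Z).ι.app U t) (by rw [← map_app_comm, ht, map_zero])
    refine ⟨n, (vanIdeal Z).ι_app_injective _ ?_⟩
    rw [Scheme.Modules.Hom.app_smul, hn, map_zero]

theorem vanIdeal_mono {Z Z' : Set X} (h : Z ⊆ Z') (U : X.Opens) :
    (vanIdeal Z').mem U ≤ (vanIdeal Z).mem U := fun _ hs z hz => hs z (h hz)

end Groth.Agent.QCoh
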