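import Groth.Agent.QCoh.ClosedPush
import Groth.Agent.QCoh.Support
import Groth.Agent.QCoh.VanIdeal
import Groth.Agent.H23.RedSub
import Mathlib.Algebra.Category.ModuleCat.Sheaf.PullbackFree
import Mathlib.RingTheory.Ideal.AssociatedPrime.Basic

/-!
# Dévissage: coherent modules and integral closed subschemes
-/

universe u

set_option backward.isDefEq.respectTransparency false
set_option backward.isDefEq.respectTransparency.types false

open CategoryTheory CategoryTheory.Limits AlgebraicGeometry TopologicalSpace Opposite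

namespace Groth.Agent.QCoh

variable {X : Scheme.{u}}

/-- The morphism given by a global section. -/
noncomputable def homOfTop {P : X.Modules} (t : Γ(P, ⊤)) : Coh.structureModule X ⟶ P :=
  (SheafOfModules.unitHomEquiv P).symm
    (⟨fun W => P.presheaf.map (homOfLE (le_top (a := W.unop))).op t,
      fun f => map_map f.unop (homOfLE le_top) t⟩ : PresheafOfModules.sections P.val)

theorem homOfTop_app {P : X.Modules} (t : Γ(P, ⊤)) {W : X.Opens} (a : Γ(X, W)) :
    (homOfTop t).app W a = a • P.presheaf.map (homOfLE le_top).op t := by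
  have h1 : (homOfTop t).app W (1 : Γ(X, W)) = P.presheaf.map (homOfLE le_top).op t :=
    congrArg (fun s : PresheafOfModules.sections P.val => s.1 (op W))
      ((SheafOfModules.unitHomEquiv P).apply_symm_apply _)
  refine (congrArg _ (mul_one a).symm).trans ?_
  rw [← h1]
  exact Scheme.Modules.Hom.app_smul (M := Coh.structureModule X) (homOfTop t) a (1 : Γ(X, W))

theorem mem_basicOpen_fromSpec {U : X.Opens} (hU : IsAffineOpen U) (q : PrimeSpectrum Γ(X, U))
    (a : Γ(X, U)) : hU.fromSpec q ∈ X.basicOpen a ↔ a ∉ q.asIdeal := by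
  rw [← PrimeSpectrum.mem_basicOpen, ← hU.fromSpec_preimage_basicOpen a]
  rfl

theorem mem_vanishing_closure_iff (ξ : X) {V : X.affineOpens} (a : Γ(X, V.1)) :
    a ∈ (Scheme.IdealSheafData.vanishingIdeal (Closeds.closure {ξ})).ideal V ↔ ξ ∉ X.basicOpen a := by
  rw [Scheme.IdealSheafData.vanishingIdeal_ideal, PrimeSpectrum.mem_vanishingIdeal]
  refine ⟨fun h hξ => ?_, fun h q hq => by_contra fun haq => ?_⟩
  · have hξV : ξ ∈ V.1 := X.basicOpen_le a hξ
    refine (mem_basicOpen_iff_notMem V.2 hξV a).1 hξ (h _ ?_)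
    show V.2.fromSpec (V.2.primeIdealOf ⟨ξ, hξV⟩) ∈ closure {ξ}
    rw [V.2.fromSpec_primeIdealOf]
    exact subset_closure rfl
  · have hq' : V.2.fromSpec q ∈ closure {ξ} := hq
    obtain ⟨y, hy, hyξ⟩ := mem_closure_iff.1 hq' _ (X.basicOpen a).2
      ((mem_basicOpen_fromSpec V.2 q a).2 haq)
    rw [Set.mem_singleton_iff] at hyξ
    exact h (hyξ ▸ hy)

theorem isIntegral_closure_point (ξ : X) :
    IsIntegral (Scheme.IdealSheafData.vanishingIdeal (Closeds.closure {ξ})).subscheme := by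
  set J := Scheme.IdealSheafData.vanishingIdeal (Closeds.closure {ξ})
  have hr : Set.range J.subschemeι = closure {ξ} := Groth.Agent.H23.RedSub.range_vanishingIdeal _
  obtain ⟨z, hz⟩ : ξ ∈ Set.range J.subschemeι := hr ▸ subset_closure rfl
  have hd : closure {z} = (Set.univ : Set J.subscheme) := by
    rw [J.subschemeι.isClosedEmbedding.isInducing.closure_eq_preimage_closure_image,
      Set.image_singleton, hz, ← hr, Set.preimage_range]
  have : IrreducibleSpace J.subscheme :=
    (irreducibleSpace_def _).2 (show IsIrreducible (Set.univ : Set J.subscheme) from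
      hd ▸ isIrreducible_singleton.closure)
  exact isIntegral_of_irreducibleSpace_of_isReduced _

theorem mem_support_of_mono {L M : X.Modules} (hL : Coh.IsQCoh L) (hM : Coh.IsQCoh M) (k : L ⟶ M)
    [Mono k] : CohB1.support L ⊆ CohB1.support M := fun x hx => by
  obtain ⟨_, ⟨U, hU, rfl⟩, hxU, -⟩ :=
    X.isBasis_affineOpens.exists_subset_of_mem_open (Set.mem_univ x) isOpen_univ
  obtain ⟨m, hm⟩ := (mem_support_iff hL hU hxU).1 hx
  refine (mem_support_iff hM hU hxU).2 ⟨k.app U m, fun f hf h0 => hm f hf ?_⟩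
  exact app_injective k U
    (((Scheme.Modules.Hom.app_smul k f m).trans h0).trans (map_zero (k.app U).hom).symm)

theorem isZero_of_app_eq_zero {L : X.Modules} (hL : Coh.IsQCoh L)
    (h : ∀ U : X.affineOpens, ∀ x : Γ(L, U.1), x = 0) : IsZero L :=
  isZero_of_cover hL (fun U : X.affineOpens => U.1) (fun U => U.2)
    (fun x => let ⟨_, ⟨U, hU, rfl⟩, hxU, _⟩ :=
        X.isBasis_affineOpens.exists_subset_of_mem_open (Set.mem_univ x) isOpen_univ
      ⟨⟨U, hU⟩, hxU⟩) fun U => ⟨fun x y => (h U x).trans (h U y).symm⟩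

/-- A nonzero coherent module with support minimal among its nonzero submodules. -/
theorem exists_minimal_support [IsNoetherian X] {Q : X.Modules} (hQ : Coh.IsCoh Q) (h0 : ¬ IsZero Q) :
    ∃ (Q' : X.Modules) (k : Q' ⟶ Q), Mono k ∧ Coh.IsCoh Q' ∧ ¬ IsZero Q' ∧
      ∀ (L : X.Modules) (l : L ⟶ Q'), Mono l → Coh.IsCoh L → ¬ IsZero L →
        CohB1.support Q' ⊆ CohB1.support L := by
  let S : Set (Closeds X) := {C | ∃ (L : X.Modules) (k : L ⟶ Q), Mono k ∧ Coh.IsCoh L ∧ ¬ IsZero L ∧
    (C : Set X) = CohB1.support L}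
  have hS : S.Nonempty :=
    ⟨⟨_, isClosed_support_of_isFT hQ.1 hQ.2⟩, Q, 𝟙 Q, inferInstance, hQ, h0, rfl⟩
  obtain ⟨C, ⟨Q', k, hk, hQ', hne, hC⟩, hmin⟩ :=
    (wellFounded_lt (α := Closeds X)).has_min S hS
  refine ⟨Q', k, hk, hQ', hne, fun L l hl hL hL0 => ?_⟩
  have hle : CohB1.support L ⊆ CohB1.support Q' := mem_support_of_mono hL.1 hQ'.1 l
  by_contra hn
  refine hmin ⟨_, isClosed_support_of_isFT hL.1 hL.2⟩ ⟨L, l ≫ k, mono_comp _ _, hL, hL0, rfl⟩ ?_
  exact SetLike.lt_iff_le_and_exists.2 ⟨fun x hx => hC.ge (hle hx),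
    let ⟨x, hx, hx'⟩ := Set.not_subset.1 hn; ⟨x, hC.ge hx, hx'⟩⟩

theorem unit_restrict_app_injective (U : X.Opens) (M : X.Modules) {W : X.Opens} (hW : W ≤ U) :
    Function.Injective (((Scheme.Modules.restrictAdjunction U.ι).unit.app M).app W) := by
  have he : W ≤ U.ι ''ᵁ (U.ι ⁻¹ᵁ W) := by
    rw [U.ι.image_preimage_eq_opensRange_inf, Scheme.Opens.opensRange_ι]
    exact le_inf hW le_rfl
  intro x y h
  rw [Scheme.Modules.restrictAdjunction_unit_app_app] at h
  have h' := congrArg (M.presheaf.map (homOfLE he).op) h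
  exact (map_id' _ x).symm.trans (((map_map _ _ x).symm.trans (h'.trans (map_map _ _ y))).trans
    (map_id' _ y))

theorem map_injective_of_le (M : X.Modules) {A B : X.Opens} (i : A ⟶ B) (h : B ≤ A) :
    Function.Injective (M.presheaf.map i.op) := fun x y e =>
  ((map_map (homOfLE h) i x).trans (map_id' _ x)).symm.trans
    ((congrArg (M.presheaf.map (homOfLE h).op) e).trans ((map_map (homOfLE h) i y).trans (map_id' _ y)))

theorem push_restrict_map (U : X.Opens) (M : X.Modules) {V W : X.Opens} (i : W ⟶ V)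
    (x : Γ(M, U.ι ''ᵁ (U.ι ⁻¹ᵁ V))) :
    ((Scheme.Modules.pushforward U.ι).obj (M.restrict U.ι)).presheaf.map i.op x =
      M.presheaf.map ((Scheme.Hom.opensFunctor U.ι).map ((Opens.map U.ι.base).map i)).op x := rfl

/-- Sections of the pushforward from `U` are determined on `U`. -/
theorem push_res_injective (U : X.Opens) (M : X.Modules) (V : X.Opens) :
    Function.Injective (((Scheme.Modules.pushforward U.ι).obj (M.restrict U.ι)).presheaf.map
      (homOfLE (inf_le_left : V ⊓ U ≤ V)).op) := by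
  intro x y h
  rw [push_restrict_map, push_restrict_map] at h
  refine map_injective_of_le M _ ?_ h
  rw [U.ι.image_preimage_eq_opensRange_inf, U.ι.image_preimage_eq_opensRange_inf,
    Scheme.Opens.opensRange_ι]
  exact le_inf inf_le_left (le_inf inf_le_right inf_le_left)

theorem app_eq_zero_iff_res {M : X.Modules} {U : X.Opens} (s : Γ(M, U))
    (φ : Coh.structureModule X ⟶ (Scheme.Modules.pushforward U.ι).obj (M.restrict U.ι))
    (hφ : φ.app U (1 : Γ(X, U)) = ((Scheme.Modules.restrictAdjunction U.ι).unit.app M).app U s)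
    (V : X.Opens) (a : Γ(X, V)) :
    φ.app V a = 0 ↔
      X.presheaf.map (homOfLE (inf_le_left : V ⊓ U ≤ V)).op a •
        M.presheaf.map (homOfLE (inf_le_right : V ⊓ U ≤ U)).op s = 0 := by
  set b : Γ(X, V ⊓ U) := X.presheaf.map (homOfLE (inf_le_left : V ⊓ U ≤ V)).op a
  set ψ := (Scheme.Modules.restrictAdjunction U.ι).unit.app M
  have h1 : φ.app (V ⊓ U) (1 : Γ(X, V ⊓ U)) =
      ψ.app (V ⊓ U) (M.presheaf.map (homOfLE (inf_le_right : V ⊓ U ≤ U)).op s) :=
    ((congrArg (φ.app (V ⊓ U)) (map_one (X.presheaf.map (homOfLE (inf_le_right : V ⊓ U ≤ U)).op).hom).symm).trans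
      (map_app_comm (M := Coh.structureModule X) φ (homOfLE (inf_le_right : V ⊓ U ≤ U))
        (1 : Γ(X, U)))).trans
      ((congrArg _ hφ).trans (map_app_comm ψ _ s).symm)
  have h2 : φ.app (V ⊓ U) b = ψ.app (V ⊓ U) (b • M.presheaf.map (homOfLE (inf_le_right : V ⊓ U ≤ U)).op s) :=
    ((congrArg (φ.app (V ⊓ U)) (mul_one b).symm).trans
      (Scheme.Modules.Hom.app_smul (M := Coh.structureModule X) φ b (1 : Γ(X, V ⊓ U)))).trans
      ((congrArg (b • ·) h1).trans (Scheme.Modules.Hom.app_smul ψ b _).symm)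
  have h3 := (map_app_comm (M := Coh.structureModule X) φ (homOfLE (inf_le_left : V ⊓ U ≤ V)) a).symm.trans h2
  refine ⟨fun h => unit_restrict_app_injective U M inf_le_right ?_, fun h => push_res_injective U M V ?_⟩
  · exact h3.symm.trans ((congrArg _ h).trans ((map_zero _).trans (map_zero _).symm))
  · exact h3.trans ((congrArg _ h).trans ((map_zero _).trans (map_zero _).symm))

theorem exists_kernel_point [IsNoetherian X] {M : X.Modules} {U : X.Opens} (hM : Coh.IsQCoh M)
    (hU : IsAffineOpen U) (s : Γ(M, U)) (p : PrimeSpectrum Γ(X, U))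
    (hp : ∀ a : Γ(X, U), a • s = 0 ↔ a ∈ p.asIdeal) :
    ∃ φ : Coh.structureModule X ⟶
        (Scheme.Modules.pushforward U.ι).obj (M.restrict U.ι),
      φ.app U (1 : Γ(X, U)) = ((Scheme.Modules.restrictAdjunction U.ι).unit.app M).app U s ∧
      ∀ (V : X.affineOpens) (a : Γ(X, V.1)),
        φ.app V.1 a = 0 ↔ hU.fromSpec p ∉ X.basicOpen a := by
  have hTU : U.ι ''ᵁ (U.ι ⁻¹ᵁ (⊤ : X.Opens)) ≤ U := by
    rw [U.ι.image_preimage_eq_opensRange_inf, Scheme.Opens.opensRange_ι]
    exact inf_le_left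
  let P := (Scheme.Modules.pushforward U.ι).obj (M.restrict U.ι)
  let t : Γ(P, ⊤) := M.presheaf.map (homOfLE hTU).op s
  let φ : Coh.structureModule X ⟶ P := homOfTop t
  have hφ : φ.app U (1 : Γ(X, U)) = ((Scheme.Modules.restrictAdjunction U.ι).unit.app M).app U s := by
    refine (homOfTop_app (P := P) t (1 : Γ(X, U))).trans ((one_smul _ _).trans ?_)
    rw [Scheme.Modules.restrictAdjunction_unit_app_app]
    exact (push_restrict_map U M (homOfLE le_top) (M.presheaf.map (homOfLE hTU).op s)).trans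
      (map_map (M := M) _ _ s)
  refine ⟨φ, hφ, fun V a => (app_eq_zero_iff_res s φ hφ V.1 a).trans ⟨fun h hξ => ?_, fun hξ => ?_⟩⟩
  · have hξU : hU.fromSpec p ∈ U := hU.range_fromSpec.le (Set.mem_range_self p)
    obtain ⟨g, hg, hxg⟩ := hU.exists_basicOpen_le (V := X.basicOpen a) ⟨_, hξ⟩ hξU
    have hgW : X.basicOpen g ≤ V.1 ⊓ U := le_inf (hg.trans (X.basicOpen_le a)) (X.basicOpen_le g)
    have hu : IsUnit (X.presheaf.map (homOfLE (hg.trans (X.basicOpen_le a))).op a) := by
      have h' := (RingedSpace.isUnit_res_basicOpen X.toRingedSpace a).map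
        (X.presheaf.map (homOfLE hg).op).hom
      exact ringMap_map (homOfLE hg) (homOfLE (X.basicOpen_le a)) a ▸ h'
    have h2 := congrArg (M.presheaf.map (homOfLE hgW).op) h
    rw [map_smul', map_zero, map_map, ringMap_map] at h2
    obtain ⟨n, hn⟩ := exists_pow_smul_eq_zero hM hU g s (hu.smul_left_cancel.1 (h2.trans (smul_zero _).symm))
    exact (mem_basicOpen_fromSpec hU p g).1 hxg (p.2.mem_of_pow_mem n ((hp _).1 hn))
  · refine eq_zero_of_locally _ _ fun x hx => ?_
    obtain ⟨g, hgV, hxg⟩ := hU.exists_basicOpen_le (V := V.1) ⟨x, hx.1⟩ hx.2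
    refine ⟨X.basicOpen g, homOfLE (le_inf hgV (X.basicOpen_le g)), hxg, ?_⟩
    rw [map_smul', map_map, ringMap_map]
    haveI := hU.isLocalization_basicOpen g
    obtain ⟨⟨b, ⟨_, n, rfl⟩⟩, hb⟩ := IsLocalization.surj (Submonoid.powers g)
      (X.presheaf.map (homOfLE hgV).op a)
    have hgu : IsUnit (algebraMap Γ(X, U) Γ(X, X.basicOpen g) g) :=
      IsLocalization.map_units _ (⟨g, 1, pow_one g⟩ : Submonoid.powers g)
    have hres : ∀ c : Γ(X, U), c • s = 0 →
        algebraMap Γ(X, U) Γ(X, X.basicOpen g) c •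
          M.presheaf.map (homOfLE (X.basicOpen_le g)).op s = 0 := fun c hc =>
      (map_smul' (homOfLE (X.basicOpen_le g)) c s).symm.trans ((congrArg _ hc).trans (map_zero _))
    show X.presheaf.map (homOfLE hgV).op a • M.presheaf.map (homOfLE (X.basicOpen_le g)).op s = 0
    by_cases hgp : g ∈ p.asIdeal
    · rw [show M.presheaf.map (homOfLE (X.basicOpen_le g)).op s = 0 from
        hgu.smul_left_cancel.1 ((hres g ((hp g).2 hgp)).trans (smul_zero _).symm), smul_zero]
    · have hξg : hU.fromSpec p ∈ X.basicOpen g := (mem_basicOpen_fromSpec hU p g).2 hgp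
      have hbp : b ∈ p.asIdeal := by
        by_contra hbp
        have hξb : hU.fromSpec p ∈ X.basicOpen b := (mem_basicOpen_fromSpec hU p b).2 hbp
        have hξb' : hU.fromSpec p ∈ X.basicOpen (algebraMap Γ(X, U) Γ(X, X.basicOpen g) b) :=
          (X.basicOpen_res b (homOfLE (X.basicOpen_le g)).op).ge ⟨hξg, hξb⟩
        rw [show algebraMap Γ(X, U) Γ(X, X.basicOpen g) b = _ from hb.symm,
          Scheme.basicOpen_mul] at hξb'
        exact hξ ((X.basicOpen_res a (homOfLE hgV).op).le hξb'.1).2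
      refine (hgu.pow n).smul_left_cancel.1 ?_
      rw [smul_zero, ← mul_smul, mul_comm, ← map_pow]
      exact (congrArg (fun c => c • M.presheaf.map (homOfLE (X.basicOpen_le g)).op s) hb).trans
        (hres b ((hp b).2 hbp))

theorem isBasis_preimage_affine {Z : Scheme.{u}} (i : Z ⟶ X) (hi : Topology.IsInducing i.base) :
    Opens.IsBasis {V : Z.Opens | ∃ U : X.Opens, IsAffineOpen U ∧ V = i ⁻¹ᵁ U} := by
  rw [Opens.isBasis_iff_nbhd]
  intro V z hz
  obtain ⟨O, hO, hOV⟩ := hi.isOpen_iff.1 V.2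
  obtain ⟨_, ⟨U, hU, rfl⟩, hzU, hUO⟩ :=
    X.isBasis_affineOpens.exists_subset_of_mem_open (show i z ∈ O from hOV.ge hz) hO
  exact ⟨i ⁻¹ᵁ U, ⟨U, hU, rfl⟩, hzU, fun w hw => hOV.le (hUO hw)⟩

theorem mono_of_mono_push {Z : Scheme.{u}} (i : Z ⟶ X) [IsClosedImmersion i] {M N : Z.Modules}
    (f : M ⟶ N) [Mono ((Scheme.Modules.pushforward i).map f)] : Mono f := by
  refine mono_of_isBasis f (isBasis_preimage_affine i i.isClosedEmbedding.isInducing) ?_
  rintro _ ⟨U, -, rfl⟩
  have h := app_injective ((Scheme.Modules.pushforward i).map f) U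
  rw [Scheme.Modules.pushforward_map_app] at h
  exact h

/-- Every nonzero coherent module on a Noetherian scheme contains the direct image of a nonzero
quasi-coherent ideal of an integral closed subscheme. -/
theorem exists_mono_push_ideal [IsNoetherian X] {Q : X.Modules} (hQ : Coh.IsCoh Q) (h0 : ¬ IsZero Q) :
    ∃ (Z : Scheme.{u}) (i : Z ⟶ X), IsClosedImmersion i ∧ IsIntegral Z ∧
      ∃ (I : Z.Modules) (ι : I ⟶ Coh.structureModule Z), Mono ι ∧ Coh.IsQCoh I ∧ ¬ IsZero I ∧
        ∃ k : (Coh.push i).obj I ⟶ Q, Mono k ∧ Coh.IsCoh ((Coh.push i).obj I) := by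
  obtain ⟨Q', k₀, hk₀, hQ', hne, hmin⟩ := exists_minimal_support hQ h0
  obtain ⟨U, s₀, hs₀⟩ : ∃ (U : X.affineOpens) (x : Γ(Q', U.1)), x ≠ 0 := by
    by_contra hc
    push_neg at hc
    exact hne (isZero_of_app_eq_zero hQ'.1 hc)
  haveI := noetherian_sections (X := X) U
  obtain ⟨P₀, hP₀, -⟩ := exists_le_isAssociatedPrime_of_isNoetherianRing Γ(X, U.1) s₀ hs₀
  obtain ⟨hprime, s, hs⟩ := isAssociatedPrime_iff.1 hP₀
  set p : PrimeSpectrum Γ(X, U.1) := ⟨P₀, hprime⟩
  have hp : ∀ a : Γ(X, U.1), a • s = 0 ↔ a ∈ p.asIdeal := fun a => by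
    show _ ↔ a ∈ P₀
    rw [hs, Submodule.mem_colon_singleton, Submodule.mem_bot]
  set ξ := U.2.fromSpec p
  have hξU : ξ ∈ U.1 := U.2.range_fromSpec.le (Set.mem_range_self p)
  -- `Q'` embeds in the pushforward of its restriction to `U`
  set P := (Scheme.Modules.pushforward U.1.ι).obj (Q'.restrict U.1.ι)
  let ψ : Q' ⟶ P := (Scheme.Modules.restrictAdjunction U.1.ι).unit.app Q'
  have hP : Coh.IsQCoh P := isQCoh_pushforward U.1.ι (isQCoh_restrict U.1.ι hQ'.1)
  haveI : Mono ψ := by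
    refine Preadditive.mono_of_kernel_zero (IsZero.eq_of_src (by_contra fun hL => ?_) _ _)
    have hLq : Coh.IsQCoh (kernel ψ) := isQCoh_kernel hQ'.1 hP ψ
    have hξ : ξ ∈ CohB1.support Q' := by
      refine (mem_support_iff hQ'.1 U.2 hξU).2 ⟨s, fun f hf h => ?_⟩
      exact (mem_basicOpen_fromSpec U.2 p f).1 hf ((hp f).1 h)
    obtain ⟨m, hm⟩ := (mem_support_iff hLq U.2 hξU).1
      (hmin _ (kernel.ι ψ) inferInstance (isCoh_of_mono (kernel.ι ψ) hQ' hLq) hL hξ)
    have hm0 : m = 0 := by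
      refine app_injective (kernel.ι ψ) U.1 (unit_restrict_app_injective U.1 Q' le_rfl ?_)
      rw [map_zero, map_zero]
      exact congr(($(kernel.condition ψ)).app U.1 m)
    exact hm 1 (by rw [Scheme.basicOpen_of_isUnit _ isUnit_one]; exact hξU) (by rw [hm0, smul_zero])
  -- the closed subscheme
  set J := Scheme.IdealSheafData.vanishingIdeal (Closeds.closure {ξ})
  haveI := isIntegral_closure_point (X := X) ξ
  let i : J.subscheme ⟶ X := J.subschemeι
  obtain ⟨φ, hφ1, hφ⟩ := exists_kernel_point hQ'.1 U.2 s p hp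
  let η : Coh.structureModule X ⟶ (Coh.push i).obj (Coh.structureModule J.subscheme) :=
    SheafOfModules.unitToPushforwardObjUnit i.toRingCatSheafHom
  have hOZ : Coh.IsQCoh (Coh.structureModule J.subscheme) := isQCoh_structureModule
  have hA : Coh.IsQCoh ((Coh.push i).obj (Coh.structureModule J.subscheme)) :=
    isQCoh_pushforward i hOZ
  have hη : ∀ (V : X.Opens) (a : Γ(X, V)), η.app V a = i.app V a := fun V a => rfl
  have hηk : ∀ (V : X.affineOpens) (a : Γ(X, V.1)), η.app V.1 a = 0 ↔ a ∈ J.ideal V := fun V a => by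
    rw [hη, ← J.ker_subschemeι_app V]; rfl
  haveI : Epi η := by
    refine Preadditive.epi_of_cokernel_zero (IsZero.eq_of_tgt (isZero_of_app_eq_zero
      (isQCoh_cokernel isQCoh_structureModule hA η) fun V x => ?_) _ _)
    obtain ⟨y, rfl⟩ := app_surjective_of_epi hA (isQCoh_cokernel isQCoh_structureModule hA η)
      (cokernel.π η) V.2 x
    obtain ⟨a, rfl⟩ := i.app_surjective V.1 V.2 y
    exact congr(($(cokernel.condition η)).app V.1 a)
  have hker : kernel.ι η ≫ φ = 0 := by
    refine Scheme.Modules.hom_ext _ _ fun W => ?_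
    ext x
    refine eq_zero_of_locally W _ fun q hq => ?_
    obtain ⟨_, ⟨V, hV, rfl⟩, hqV, hVW⟩ :=
      X.isBasis_affineOpens.exists_subset_of_mem_open hq W.2
    refine ⟨V, homOfLE hVW, hqV, ?_⟩
    rw [← map_app_comm]
    refine (hφ ⟨V, hV⟩ _).2 ((mem_vanishing_closure_iff ξ _).1 ((hηk ⟨V, hV⟩ _).1 ?_))
    exact congr(($(kernel.condition η)).app V _)
  obtain ⟨θ, hθ⟩ := CokernelCofork.IsColimit.desc' (Abelian.epiIsCokernelOfKernel _ (kernelIsKernel η)) φ hker
  haveI : Mono θ := by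
    refine mono_of_isBasis θ X.isBasis_affineOpens fun V hV => ?_
    refine (injective_iff_map_eq_zero _).2 fun y hy => ?_
    obtain ⟨a, rfl⟩ := i.app_surjective V hV y
    refine (hηk ⟨V, hV⟩ a).2 ((mem_vanishing_closure_iff ξ (V := ⟨V, hV⟩) a).2 ((hφ ⟨V, hV⟩ a).1 ?_))
    exact (congr(($hθ).app V a) : _).symm.trans hy
  -- the intersection of the two images
  let c := θ ≫ cokernel.π ψ
  have hC : Coh.IsQCoh (cokernel ψ) := isQCoh_cokernel hQ'.1 hP ψ
  have hK : Coh.IsQCoh (kernel c) := isQCoh_kernel hA hC c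
  have hK0 : ¬ IsZero (kernel c) := fun hz => by
    haveI : Mono c := Preadditive.mono_of_kernel_zero (hz.eq_of_src _ _)
    have e1 : θ.app U.1 (η.app U.1 (1 : Γ(X, U.1))) = ψ.app U.1 s :=
      (congr(($hθ).app U.1 (1 : Γ(X, U.1))) : _).trans hφ1
    have e2 : c.app U.1 (η.app U.1 (1 : Γ(X, U.1))) = 0 :=
      (congrArg ((cokernel.π ψ).app U.1) e1).trans congr(($(cokernel.condition ψ)).app U.1 s)
    have e3 := app_injective c U.1 (e2.trans (map_zero _).symm)
    have e4 : s = 0 := app_injective ψ U.1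
      ((e1.symm.trans ((congrArg _ e3).trans (map_zero _))).trans (map_zero _).symm)
    exact hprime.ne_top ((Ideal.eq_top_iff_one _).2 ((hp 1).1 (by rw [e4, smul_zero])))
  have hfac : (kernel.ι c ≫ θ) ≫ cokernel.π ψ = 0 := (Category.assoc _ _ _).trans (kernel.condition c)
  obtain ⟨l, hl⟩ := KernelFork.IsLimit.lift' (Abelian.monoIsKernelOfCokernel _ (cokernelIsCokernel ψ))
    (kernel.ι c ≫ θ) hfac
  haveI : Mono l := mono_of_mono_fac hl
  have hKA : Coh.IsCoh (kernel c) := isCoh_of_mono l hQ' hK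
  have hkill : IsIso ((Scheme.Modules.pullbackPushforwardAdjunction i).unit.app (kernel c)) := by
    refine (isIso_unit_closed_iff i hK).2 fun V a ha x => app_injective (kernel.ι c) V.1 ?_
    rw [map_zero, Scheme.Modules.Hom.app_smul]
    rw [Scheme.IdealSheafData.ker_subschemeι] at ha
    show (i.app V.1 a) • (show Γ(Coh.structureModule J.subscheme, i ⁻¹ᵁ V.1) from
      (kernel.ι c).app V.1 x) = 0
    rw [show i.app V.1 a = 0 from (hηk V a).2 ha, zero_smul]
  let I := (Scheme.Modules.pullback i).obj (kernel c)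
  let f : I ⟶ Coh.structureModule J.subscheme :=
    ((Scheme.Modules.pullbackPushforwardAdjunction i).homEquiv _ _).symm (kernel.ι c)
  let e : kernel c ≅ (Coh.push i).obj I :=
    @asIso _ _ _ _ ((Scheme.Modules.pullbackPushforwardAdjunction i).unit.app (kernel c)) hkill
  have hf : e.hom ≫ (Scheme.Modules.pushforward i).map f = kernel.ι c :=
    ((Adjunction.homEquiv_unit _ _ _ f).symm.trans (Equiv.apply_symm_apply _ _) : _)
  haveI : Mono ((Scheme.Modules.pushforward i).map f) := by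
    rw [show (Scheme.Modules.pushforward i).map f = e.inv ≫ kernel.ι c from
      (Iso.eq_inv_comp e).2 hf]
    infer_instance
  refine ⟨J.subscheme, i, inferInstance, inferInstance, I, f, mono_of_mono_push i f,
    isQCoh_pullback i hK, fun hz => hK0 (IsZero.of_iso ((Coh.push i).map_isZero hz) e),
    e.inv ≫ l ≫ k₀, inferInstance, ?_⟩
  exact isCoh_of_mono (e.inv ≫ l) hQ' ((isQCoh_iff_iso e).1 hK)

end Groth.Agent.QCoh
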