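import Groth.Agent.QCoh.CechMap
import Groth.Agent.QCoh.Bound
import Mathlib.RingTheory.Localization.BaseChange

/-!
# Cohomology on a basic open is a localization
-/

universe u

open CategoryTheory CategoryTheory.Limits AlgebraicGeometry TopologicalSpace Opposite TensorProduct

namespace Groth.Agent.QCoh

variable {X : Scheme.{u}} {M : X.Modules}

/-- Global functions, as a commutative ring. -/
noncomputable abbrev idTop (X : Scheme.{u}) : Γ(X, ⊤) →+* Coh.Γtop X := RingHom.id _

theorem secModule_id_smul (V : X.Opens) (a : Γ(X, ⊤)) (x : Γ(M, V)) :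
    letI := secModule (idTop X) M V
    (a • x : Γ(M, V)) = X.presheaf.map (homOfLE (le_top : V ≤ ⊤)).op a • x := rfl

/-- Sections on the trace of a basic open are the localization. -/
theorem isLocalizedModule_res (hM : Coh.IsQCoh M) {V W : X.Opens} (hV : IsCompact (V : Set X))
    (hV' : IsQuasiSeparated (V : Set X)) (f : Γ(X, ⊤)) (hW : W = V ⊓ X.basicOpen f)
    (g : letI := secModule (idTop X) M V; letI := secModule (idTop X) M W;
      Γ(M, V) →ₗ[Γ(X, ⊤)] Γ(M, W))
    (hg : ∀ x, g x = M.presheaf.map (homOfLE (hW.le.trans inf_le_left)).op x) :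
    letI := secModule (idTop X) M V; letI := secModule (idTop X) M W
    IsLocalizedModule (Submonoid.powers f) g := by
  let := secModule (idTop X) M V
  let := secModule (idTop X) M W
  subst hW
  let r := X.presheaf.map (homOfLE (le_top : V ≤ ⊤)).op f
  have hle : V ⊓ X.basicOpen f ≤ V := inf_le_left
  have hb : X.basicOpen r = V ⊓ X.basicOpen f := Scheme.basicOpen_res X f _
  have hrW : X.presheaf.map (homOfLE hle).op r =
      X.presheaf.map (homOfLE (le_top : V ⊓ X.basicOpen f ≤ ⊤)).op f := ringMap_map _ _ _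
  have hu : IsUnit (X.presheaf.map (homOfLE (le_top : V ⊓ X.basicOpen f ≤ ⊤)).op f) := by
    have h : IsUnit (X.presheaf.map (homOfLE (le_top : X.basicOpen f ≤ ⊤)).op f) :=
      RingedSpace.isUnit_res_basicOpen X.toRingedSpace f
    have := h.map (X.presheaf.map (homOfLE (inf_le_right : V ⊓ X.basicOpen f ≤ _)).op).hom
    rwa [show (X.presheaf.map (homOfLE (inf_le_right : V ⊓ X.basicOpen f ≤ _)).op).hom
      (X.presheaf.map (homOfLE (le_top : X.basicOpen f ≤ ⊤)).op f) = _ from ringMap_map _ _ _] at this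
  refine ⟨fun s => ?_, fun y => ?_, fun {x₁ x₂} h => ?_⟩
  · obtain ⟨_, n, rfl⟩ := s
    rw [map_pow]
    refine IsUnit.pow _ ((Module.End.isUnit_iff _).2 ⟨fun a b hab => ?_, fun b => ?_⟩)
    · have hab' : X.presheaf.map (homOfLE (le_top : V ⊓ X.basicOpen f ≤ ⊤)).op f • a =
          X.presheaf.map (homOfLE (le_top : V ⊓ X.basicOpen f ≤ ⊤)).op f • b := hab
      exact hu.smul_left_cancel.1 hab'
    · refine ⟨hu.unit⁻¹.val • b, ?_⟩
      show X.presheaf.map (homOfLE (le_top : V ⊓ X.basicOpen f ≤ ⊤)).op f • hu.unit⁻¹.val • b = b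
      rw [← mul_smul, IsUnit.mul_val_inv, one_smul]
  · have key : ∀ (W₀ : X.Opens) (hW₀ : X.basicOpen r = W₀) (hle : W₀ ≤ V) (y : Γ(M, W₀)),
        ∃ (n : ℕ) (t : Γ(M, V)), M.presheaf.map (homOfLE hle).op t =
          X.presheaf.map (homOfLE hle).op r ^ n • y := by
      rintro _ rfl hle y
      exact exists_pow_smul_eq_map_of_isQuasiSeparated hM hV hV' r y
    obtain ⟨n, t, ht⟩ := key _ hb hle y
    refine ⟨(t, ⟨f ^ n, n, rfl⟩), ?_⟩
    show X.presheaf.map (homOfLE (le_top : V ⊓ X.basicOpen f ≤ ⊤)).op (f ^ n) • y = g t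
    rw [map_pow, hg, ← hrW]
    exact ht.symm
  · rw [hg, hg, ← sub_eq_zero, ← map_sub] at h
    have key : ∀ (W₀ : X.Opens) (hW₀ : X.basicOpen r = W₀) (hle : W₀ ≤ V) (z : Γ(M, V)),
        M.presheaf.map (homOfLE hle).op z = 0 → ∃ n : ℕ, r ^ n • z = 0 := by
      rintro _ rfl hle z hz
      exact exists_pow_smul_eq_zero_of_isCompact hM hV r z hz
    obtain ⟨n, hn⟩ := key _ hb hle _ h
    refine ⟨⟨f ^ n, n, rfl⟩, ?_⟩
    show X.presheaf.map (homOfLE (le_top : V ≤ ⊤)).op (f ^ n) • x₁ =
      X.presheaf.map (homOfLE (le_top : V ≤ ⊤)).op (f ^ n) • x₂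
    rwa [map_pow, ← sub_eq_zero, ← smul_sub]

variable (f : Γ(X, ⊤))

theorem isUnit_res_basicOpenTop :
    IsUnit ((X.basicOpen f).ι.appTop f) := by
  have hf : (X.basicOpen f).ι ⁻¹ᵁ X.basicOpen f = ⊤ := (X.basicOpen f).ι_preimage_self
  rw [Scheme.preimage_basicOpen] at hf
  have := RingedSpace.isUnit_res_basicOpen (X.basicOpen f).toScheme.toRingedSpace ((X.basicOpen f).ι.appTop f)
  have e : ∀ (W : (X.basicOpen f).toScheme.Opens) (hW : W = ⊤),
      IsUnit ((X.basicOpen f).toScheme.presheaf.map (homOfLE (le_top : W ≤ ⊤)).op ((X.basicOpen f).ι.appTop f)) →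
        IsUnit ((X.basicOpen f).ι.appTop f) := by
    rintro _ rfl h
    rwa [ringMap_id] at h
  exact e _ hf this

/-- The scalars on a basic open. -/
noncomputable def awayTop : Localization.Away f →+* Coh.Γtop (X.basicOpen f).toScheme :=
  IsLocalization.Away.lift f (g := (X.basicOpen f).ι.appTop.hom) (isUnit_res_basicOpenTop f)

theorem awayTop_algebraMap (a : Γ(X, ⊤)) :
    awayTop f (algebraMap Γ(X, ⊤) (Localization.Away f) a) = (X.basicOpen f).ι.appTop (idTop X a) :=
  IsLocalization.Away.lift_eq (S := Localization.Away f) f (isUnit_res_basicOpenTop f) a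

/-- Restriction to a basic open, as a map to a direct image. -/
noncomputable abbrev resUnit :
    M ⟶ (Scheme.Modules.pushforward (X.basicOpen f).ι).obj (M.restrict (X.basicOpen f).ι) :=
  (Scheme.Modules.restrictAdjunction (X.basicOpen f).ι).unit.app M

set_option maxHeartbeats 1600000 in
theorem isBC_restrict (hM : Coh.IsQCoh M) {ι : Type u} (U : ι → X.Opens)
    (hU : ∀ {p : ℕ} (σ : Fin (p + 1) → ι),
      IsCompact ((⨅ a, U (σ a) : X.Opens) : Set X) ∧ IsQuasiSeparated ((⨅ a, U (σ a) : X.Opens) : Set X)) :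
    IsBC (idTop X) (awayTop f) U (X.basicOpen f).ι (resUnit (M := M) f) (awayTop_algebraMap f) := by
  intro p σ W hW h
  let M' := M.restrict (X.basicOpen f).ι
  let _ := secModule (idTop X) M (⨅ a, U (σ a))
  let _ := secModule (awayTop f) M' W
  let _ := secModule ((awayTop f).comp (algebraMap Γ(X, ⊤) (Localization.Away f))) M' W
  have : IsScalarTower Γ(X, ⊤) (Localization.Away f) Γ(M', W) := .of_algebraMap_smul fun _ _ => rfl
  refine (isLocalizedModule_iff_isBaseChange (Submonoid.powers f) (Localization.Away f) _).1 ?_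
  have hW' : (X.basicOpen f).ι ''ᵁ W = (⨅ a, U (σ a)) ⊓ X.basicOpen f := by
    have : W = (X.basicOpen f).ι ⁻¹ᵁ (⨅ a, U (σ a)) := by
      refine le_antisymm h (hW ▸ le_iInf fun a => ?_)
      exact Scheme.Hom.preimage_mono _ (iInf_le (fun a => U (σ a)) a)
    rw [this, Scheme.Hom.image_preimage_eq_opensRange_inf, Scheme.Opens.opensRange_ι, inf_comm]
  let _ := secModule (idTop X) M ((X.basicOpen f).ι ''ᵁ W)
  let g : Γ(M, ⨅ a, U (σ a)) →ₗ[Γ(X, ⊤)] Γ(M, (X.basicOpen f).ι ''ᵁ W) :=
    { toFun := M.presheaf.map (homOfLE (hW'.le.trans inf_le_left)).op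
      map_add' := map_add _
      map_smul' := fun a x => (map_smul' _ _ _).trans
        (congrArg (fun r => r • M.presheaf.map _ x) (ringMap_map _ _ _)) }
  have hL := isLocalizedModule_res hM (hU σ).1 (hU σ).2 f hW' g fun _ => rfl
  have hsmul : ∀ (a : Γ(X, ⊤)) (x : Γ(M', W)),
      (a • x : Γ(M', W)) = (a • (show Γ(M, (X.basicOpen f).ι ''ᵁ W) from x) :
        Γ(M, (X.basicOpen f).ι ''ᵁ W)) := fun a x => by
    show ((X.basicOpen f).ι.appIso W).inv ((X.basicOpen f).toScheme.presheaf.map (homOfLE le_top).op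
      (awayTop f (algebraMap _ _ a))) • (show Γ(M, (X.basicOpen f).ι ''ᵁ W) from x) = _
    rw [awayTop_algebraMap]
    refine congrArg (fun r => r • (show Γ(M, (X.basicOpen f).ι ''ᵁ W) from x)) ?_
    show ((X.basicOpen f).ι.appLE ⊤ W le_top ≫ ((X.basicOpen f).ι.appIso W).inv) a = _
    exact ConcreteCategory.congr_hom (Scheme.Hom.appLE_appIso_inv (X.basicOpen f).ι
      (U := ⊤) (V := W) le_top) a
  let e : Γ(M, (X.basicOpen f).ι ''ᵁ W) ≃ₗ[Γ(X, ⊤)] Γ(M', W) :=
    { toFun := fun x => x, invFun := fun x => x, map_add' := fun _ _ => rfl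
      map_smul' := fun a x => (hsmul a x).symm, left_inv := fun _ => rfl, right_inv := fun _ => rfl }
  have hg := IsLocalizedModule.of_linearEquiv (Submonoid.powers f) g e (hf := hL)
  have heq : secLin (idTop X) (awayTop f) (X.basicOpen f).ι (resUnit (M := M) f) (awayTop_algebraMap f)
      (⨅ a, U (σ a)) W h = e.toLinearMap ∘ₗ g := by
    refine LinearMap.ext fun x => ?_
    show secMap (X.basicOpen f).ι (resUnit (M := M) f) h x =
      M.presheaf.map (homOfLE (hW'.le.trans inf_le_left)).op x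
    unfold secMap resUnit
    rw [Scheme.Modules.restrictAdjunction_unit_app_app]
    exact map_map (M := M) ((X.basicOpen f).ι.opensFunctor.map (homOfLE h))
      (homOfLE ((X.basicOpen f).ι.image_preimage_le (⨅ a, U (σ a)))) x
  rw [heq]
  exact hg

/-- A finite affine covering of a compact separated scheme, with affine intersections. -/
theorem exists_affine_cover [CompactSpace X] [X.IsSeparated] :
    ∃ (ι : Type u) (_ : Finite ι) (U : ι → X.Opens), (⨆ i, U i = ⊤) ∧
      ∀ {p : ℕ} (σ : Fin (p + 1) → ι), IsAffineOpen (⨅ a, U (σ a)) := by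
  obtain ⟨s, hs, hsT⟩ := isCompact_iff_finite_and_eq_biUnion_affineOpens.mp
    (show IsCompact ((⊤ : X.Opens) : Set X) by simpa using isCompact_univ)
  refine ⟨s, hs.to_subtype, fun V => V.1.1, by rw [hsT, iSup_subtype],
    fun σ => IsAffineOpen.iInf fun a => (σ a).1.2⟩

/-- Cohomology of a basic open of a quasi-compact separated scheme. -/
theorem HH_localization [CompactSpace X] [X.IsSeparated] (hM : Coh.IsQCoh M) (q : ℕ) :
    letI := modHH (idTop X) M q
    Nonempty (Coh.HHon X M (X.basicOpen f) q ≃+ Localization.Away f ⊗[Γ(X, ⊤)] Coh.HH X M q) := by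
  obtain ⟨ι, _, U, hcov, hU⟩ := exists_affine_cover (X := X)
  have : Module.Flat Γ(X, ⊤) (Localization.Away f) := IsLocalization.flat _ (Submonoid.powers f)
  obtain ⟨e⟩ := HH_baseChange (idTop X) (awayTop f) U (X.basicOpen f).ι (resUnit (M := M) f)
    (awayTop_algebraMap f) (isBC_restrict f hM U fun σ => ⟨(hU σ).isCompact, (hU σ).isQuasiSeparated⟩)
    hcov hU (by rw [← Scheme.Hom.preimage_iSup, hcov]; rfl)
    (fun σ => by
      have : ((X.basicOpen f).ι ''ᵁ ⨅ a, (X.basicOpen f).ι ⁻¹ᵁ U (σ a)) =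
          X.basicOpen (X.presheaf.map (homOfLE (le_top : (⨅ a, U (σ a)) ≤ ⊤)).op f) := by
        rw [Scheme.basicOpen_res, show (⨅ a, (X.basicOpen f).ι ⁻¹ᵁ U (σ a)) =
          (X.basicOpen f).ι ⁻¹ᵁ ⨅ a, U (σ a) from le_antisymm (le_preimage U _ fun a => iInf_le _ a)
            (le_iInf fun a => Scheme.Hom.preimage_mono _ (iInf_le (fun a => U (σ a)) a)),
          Scheme.Hom.image_preimage_eq_opensRange_inf, Scheme.Opens.opensRange_ι, inf_comm]
      rw [← Scheme.Hom.isAffineOpen_iff_of_isOpenImmersion (X.basicOpen f).ι, this]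
      exact (hU σ).basicOpen _)
    hM (isQCoh_restrict _ hM) q
  let := modHH (idTop X) M q
  let := modHH (awayTop f) (M.restrict (X.basicOpen f).ι) q
  exact ⟨e.symm.toAddEquiv⟩

end Groth.Agent.QCoh
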