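import Groth.Agent.QCoh.SpecFT
import Groth.Prelude.Def_FlatMod2
import Mathlib.RingTheory.Localization.Free
import Mathlib.RingTheory.Spectrum.Prime.FreeLocus
import Mathlib.RingTheory.Flat.Localization

/-!
# Stalks as localizations of sections on affine opens
-/

set_option backward.isDefEq.respectTransparency false
set_option backward.isDefEq.respectTransparency.types false
set_option linter.style.haveILetI false

universe u

open CategoryTheory CategoryTheory.Limits AlgebraicGeometry TopologicalSpace Opposite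

namespace Groth.Agent.QCoh

variable {X : Scheme.{u}} {M : X.Modules} {U : X.Opens} {x : X}

/-- The local ring as an algebra over sections. -/
noncomputable abbrev stalkAlg (hx : x ∈ U) : Algebra Γ(X, U) (X.presheaf.stalk x) :=
  (X.presheaf.germ U x hx).hom.toAlgebra

/-- The stalk of a module as a module over sections. -/
noncomputable abbrev stalkModule (M : X.Modules) (hx : x ∈ U) : Module Γ(X, U) (M.presheaf.stalk x) :=
  Module.compHom _ (X.presheaf.germ U x hx).hom

theorem isScalarTower_stalk (M : X.Modules) (hx : x ∈ U) :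
    letI := stalkAlg hx; letI := stalkModule M hx
    IsScalarTower Γ(X, U) (X.presheaf.stalk x) (M.presheaf.stalk x) :=
  letI := stalkAlg hx; letI := stalkModule M hx
  IsScalarTower.of_algebraMap_smul fun _ _ => rfl

theorem germ_smul' (M : X.Modules) (hx : x ∈ U) (r : Γ(X, U)) (m : Γ(M, U)) :
    M.presheaf.germ U x hx (r • m) = X.presheaf.germ U x hx r • M.presheaf.germ U x hx m :=
  PresheafOfModules.germ_smul (M := M.val) x U hx r m

/-- The germ map as a linear map. -/
noncomputable def germLin (M : X.Modules) (hx : x ∈ U) :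
    letI := stalkModule M hx; Γ(M, U) →ₗ[Γ(X, U)] M.presheaf.stalk x :=
  letI := stalkModule M hx
  { toFun := M.presheaf.germ U x hx
    map_add' := map_add (M.presheaf.germ U x hx).hom
    map_smul' := germ_smul' M hx }

theorem isLocalization_stalk' (hU : IsAffineOpen U) (hx : x ∈ U) :
    letI := stalkAlg hx; IsLocalization.AtPrime (X.presheaf.stalk x) (hU.primeIdealOf ⟨x, hx⟩).asIdeal :=
  hU.isLocalization_stalk ⟨x, hx⟩

theorem isLocalizedModule_germLin (hM : Coh.IsQCoh M) (hU : IsAffineOpen U) (hx : x ∈ U) :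
    letI := stalkModule M hx
    IsLocalizedModule (hU.primeIdealOf ⟨x, hx⟩).asIdeal.primeCompl (germLin M hx) := by
  letI := stalkModule M hx
  refine ⟨fun s => ?_, fun y => ?_, fun {x₁ x₂} h => ?_⟩
  · rw [Module.End.isUnit_iff]
    have hs : x ∈ X.basicOpen (s : Γ(X, U)) := (mem_basicOpen_iff_notMem hU hx _).2 s.2
    have hu := (X.mem_basicOpen _ x hx).1 hs
    refine ⟨fun a b hab => hu.smul_left_cancel.1 hab, fun b => ⟨hu.unit⁻¹.val • b, ?_⟩⟩
    show X.presheaf.germ U x hx s.1 • hu.unit⁻¹.val • b = b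
    rw [← mul_smul, IsUnit.mul_val_inv, one_smul]
  · obtain ⟨W, hxW, m, rfl⟩ := TopCat.Presheaf.exists_germ_eq M.presheaf y
    obtain ⟨g, hg, hxg⟩ := hU.exists_basicOpen_le ⟨x, hxW⟩ hx
    obtain ⟨n, t, ht⟩ := exists_pow_smul_eq_map hM hU g (M.presheaf.map (homOfLE hg).op m)
    refine ⟨(t, ⟨g ^ n, pow_mem ((mem_basicOpen_iff_notMem hU hx g).1 hxg) n⟩), ?_⟩
    show X.presheaf.germ U x hx (g ^ n) • M.presheaf.germ W x hxW m = M.presheaf.germ U x hx t
    rw [← M.presheaf.germ_res_apply (homOfLE (X.basicOpen_le g)) x hxg t, ht, germ_smul', map_pow, map_pow,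
      M.presheaf.germ_res_apply (homOfLE hg) x hxg m, X.presheaf.germ_res_apply]
  · have h0 : M.presheaf.germ U x hx (x₁ - x₂) = 0 := (map_sub _ _ _).trans (sub_eq_zero.2 h)
    obtain ⟨f, hxf, hf⟩ := (germ_eq_zero_iff hM hU hx _).1 h0
    exact ⟨⟨f, (mem_basicOpen_iff_notMem hU hx f).1 hxf⟩, sub_eq_zero.1 ((smul_sub _ _ _).symm.trans hf)⟩

theorem finite_stalk_of_isFT (hM : Coh.IsQCoh M) (hft : CohB1.IsFT M) (x : X) :
    Module.Finite (X.presheaf.stalk x) (M.presheaf.stalk x) := by
  obtain ⟨_, ⟨U, hU, rfl⟩, hx, -⟩ :=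
    X.isBasis_affineOpens.exists_subset_of_mem_open (Set.mem_univ x) isOpen_univ
  have hU' : IsAffineOpen U := hU
  have := finite_of_isFT hM hft hU'
  letI := stalkAlg (X := X) hx
  letI := stalkModule M hx
  haveI := isScalarTower_stalk M hx
  haveI := isLocalization_stalk' hU' hx
  haveI := isLocalizedModule_germLin hM hU' hx
  exact Module.Finite.of_isLocalizedModule (hU'.primeIdealOf ⟨x, hx⟩).asIdeal.primeCompl
    (Rₚ := X.presheaf.stalk x) (germLin M hx)

theorem exists_point (hU : IsAffineOpen U) (q : PrimeSpectrum Γ(X, U)) :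
    ∃ (y : X) (hy : y ∈ U), hU.primeIdealOf ⟨y, hy⟩ = q := by
  have hy : hU.fromSpec q ∈ U := by
    have : hU.fromSpec q ∈ Set.range hU.fromSpec := ⟨q, rfl⟩
    rwa [hU.range_fromSpec] at this
  exact ⟨hU.fromSpec q, hy, hU.fromSpec.isOpenEmbedding.injective (hU.fromSpec_primeIdealOf ⟨_, hy⟩)⟩

theorem isFlatAt_iff_flat (hM : Coh.IsQCoh M) (hU : IsAffineOpen U) (hx : x ∈ U) :
    FlatMod.IsFlatAt M x ↔ (letI := stalkModule M hx; Module.Flat Γ(X, U) (M.presheaf.stalk x)) := by
  letI := stalkAlg (X := X) hx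
  letI := stalkModule M hx
  haveI := isScalarTower_stalk M hx
  haveI := isLocalization_stalk' hU hx
  exact Module.flat_iff_of_isLocalization (X.presheaf.stalk x) (hU.primeIdealOf ⟨x, hx⟩).asIdeal.primeCompl _

theorem flat_sections_iff (hM : Coh.IsQCoh M) (hU : IsAffineOpen U) :
    Module.Flat Γ(X, U) Γ(M, U) ↔ ∀ x ∈ U, FlatMod.IsFlatAt M x := by
  constructor
  · intro h x hx
    letI := stalkAlg (X := X) hx
    letI := stalkModule M hx
    haveI := isScalarTower_stalk M hx
    haveI := isLocalization_stalk' hU hx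
    haveI := isLocalizedModule_germLin hM hU hx
    exact Module.Flat.of_isLocalizedModule (X.presheaf.stalk x) (hU.primeIdealOf ⟨x, hx⟩).asIdeal.primeCompl (germLin M hx)
  · intro h
    choose y hy hyq using fun P : MaximalSpectrum Γ(X, U) => exists_point hU P.toPrimeSpectrum
    letI := fun P : MaximalSpectrum Γ(X, U) => stalkModule M (hy P)
    have hl : ∀ (P : Ideal Γ(X, U)) [hP : P.IsMaximal],
        IsLocalizedModule P.primeCompl (germLin M (hy ⟨P, hP⟩)) := fun P hP => by
      have := isLocalizedModule_germLin hM hU (hy ⟨P, hP⟩)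
      simp only [hyq] at this
      exact this
    exact Module.flat_of_isLocalized_maximal (R := Γ(X, U)) Γ(X, U) Γ(M, U)
      (fun P hP => M.presheaf.stalk (y ⟨P, hP⟩)) (fun P hP => germLin M (hy ⟨P, hP⟩))
      fun P hP => (isFlatAt_iff_flat hM hU (hy ⟨P, hP⟩)).1 (h _ (hy ⟨P, hP⟩))

theorem isFlat_iff (hM : Coh.IsQCoh M) :
    FlatMod.IsFlat M ↔ ∀ U : X.affineOpens, Module.Flat Γ(X, U.1) Γ(M, U.1) := by
  refine ⟨fun h U => (flat_sections_iff hM U.2).2 fun x _ => h x, fun h x => ?_⟩
  obtain ⟨_, ⟨U, hU, rfl⟩, hx, -⟩ :=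
    X.isBasis_affineOpens.exists_subset_of_mem_open (Set.mem_univ x) isOpen_univ
  exact (flat_sections_iff hM hU).1 (h ⟨U, hU⟩) x hx

end Groth.Agent.QCoh
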