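import Groth.Agent.QCoh.Filtration
import Groth.Agent.QCoh.Stalk
import Mathlib.RingTheory.Length

/-!
# Properties of coherent modules proved by dévissage
-/

universe u

set_option backward.isDefEq.respectTransparency false
set_option backward.isDefEq.respectTransparency.types false

open CategoryTheory CategoryTheory.Limits AlgebraicGeometry TopologicalSpace Opposite

namespace Groth.Agent.QCoh

variable {X : Scheme.{u}}

theorem exists_affine_mem (x : X) : ∃ U : X.Opens, IsAffineOpen U ∧ x ∈ U := by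
  obtain ⟨_, ⟨U, hU, rfl⟩, hxU, -⟩ :=
    X.isBasis_affineOpens.exists_subset_of_mem_open (Set.mem_univ x) isOpen_univ
  exact ⟨U, hU, hxU⟩

theorem notMem_support_iff {M : X.Modules} (hM : Coh.IsQCoh M) {U : X.Opens} (hU : IsAffineOpen U)
    {x : X} (hx : x ∈ U) :
    x ∉ CohB1.support M ↔ ∀ m : Γ(M, U), ∃ f : Γ(X, U), x ∈ X.basicOpen f ∧ f • m = 0 :=
  (not_not (a := Subsingleton _)).trans (subsingleton_stalk_iff hM hU hx)

theorem support_subset_union {S : ShortComplex X.Modules} (hS : S.ShortExact) (h₁ : Coh.IsQCoh S.X₁)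
    (h₂ : Coh.IsQCoh S.X₂) (h₃ : Coh.IsQCoh S.X₃) :
    CohB1.support S.X₂ ⊆ CohB1.support S.X₁ ∪ CohB1.support S.X₃ := fun x hx => by
  by_contra hc
  rw [Set.mem_union, not_or] at hc
  obtain ⟨U, hU, hxU⟩ := exists_affine_mem x
  refine ((notMem_support_iff h₂ hU hxU).2 fun m => ?_) hx
  obtain ⟨a, hxa, ha⟩ := (notMem_support_iff h₃ hU hxU).1 hc.2 (S.g.app U m)
  obtain ⟨n, hn⟩ := exists_app_f_eq hS U (a • m) ((Scheme.Modules.Hom.app_smul S.g a m).trans ha)
  obtain ⟨b, hxb, hb⟩ := (notMem_support_iff h₁ hU hxU).1 hc.1 n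
  refine ⟨b * a, ?_, ?_⟩
  · rw [Scheme.basicOpen_mul]
    exact ⟨hxb, hxa⟩
  · rw [mul_smul, ← hn, ← Scheme.Modules.Hom.app_smul, hb, map_zero]

theorem support_of_epi {M N : X.Modules} (hM : Coh.IsQCoh M) (hN : Coh.IsQCoh N) (g : M ⟶ N) [Epi g] :
    CohB1.support N ⊆ CohB1.support M := fun x hx => by
  by_contra hc
  obtain ⟨U, hU, hxU⟩ := exists_affine_mem x
  refine ((notMem_support_iff hN hU hxU).2 fun m => ?_) hx
  obtain ⟨m', rfl⟩ := app_surjective_of_epi hM hN g hU m
  obtain ⟨a, hxa, ha⟩ := (notMem_support_iff hM hU hxU).1 hc m'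
  exact ⟨a, hxa, by rw [← Scheme.Modules.Hom.app_smul, ha, map_zero]⟩

theorem support_iso {M N : X.Modules} (e : M ≅ N) (hM : Coh.IsQCoh M) :
    CohB1.support M = CohB1.support N :=
  have hN := (isQCoh_iff_iso e).1 hM
  (mem_support_of_mono hM hN e.hom).antisymm (mem_support_of_mono hN hM e.inv)

theorem support_eq_empty_of_isZero {M : X.Modules} (h : IsZero M) (hM : Coh.IsQCoh M) :
    CohB1.support M = ∅ := Set.eq_empty_of_forall_notMem fun x => by
  obtain ⟨U, hU, hxU⟩ := exists_affine_mem x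
  refine (notMem_support_iff hM hU hxU).2 fun m => ⟨1, ?_, ?_⟩
  · rw [Scheme.basicOpen_of_isUnit _ isUnit_one]; exact hxU
  · rw [one_smul]
    exact congr(($(h.eq_of_src (𝟙 M) 0)).app U m)

/-- No coherent submodule has both itself and its quotient nonzero at `ξ`. -/
def SimpleAt (ξ : X) (G : X.Modules) : Prop :=
  ∀ (N : X.Modules) (k : N ⟶ G), Mono k → Coh.IsQCoh N →
    ξ ∈ CohB1.support N → ξ ∉ CohB1.support (cokernel k)

theorem simpleAt_of_isSimpleModule {G : X.Modules} (hG : Coh.IsQCoh G) (ξ : X)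
    (h : IsSimpleModule (X.presheaf.stalk ξ) (G.presheaf.stalk ξ)) : SimpleAt ξ G := by
  intro N k hk hN hξN
  obtain ⟨U, hU, hξU⟩ := exists_affine_mem ξ
  have hC : Coh.IsQCoh (cokernel k) := isQCoh_cokernel hN hG k
  obtain ⟨n, hn⟩ := (mem_support_iff hN hU hξU).1 hξN
  have hg : G.presheaf.germ U ξ hξU (k.app U n) ≠ 0 := fun h0 => by
    obtain ⟨f, hf, h1⟩ := (germ_eq_zero_iff hG hU hξU _).1 h0
    exact hn f hf (app_injective k U
      (((Scheme.Modules.Hom.app_smul k f n).trans h1).trans (map_zero _).symm))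
  refine (notMem_support_iff hC hU hξU).2 fun y => ?_
  obtain ⟨c, rfl⟩ := app_surjective_of_epi hG hC (cokernel.π k) hU y
  obtain ⟨a, ha⟩ := IsSimpleModule.toSpanSingleton_surjective (X.presheaf.stalk ξ) hg
    (G.presheaf.germ U ξ hξU c)
  rw [LinearMap.toSpanSingleton_apply] at ha
  letI := stalkAlg (X := X) hξU
  haveI := isLocalization_stalk' (X := X) hU hξU
  obtain ⟨⟨r, f⟩, hrf⟩ := IsLocalization.surj (hU.primeIdealOf ⟨ξ, hξU⟩).asIdeal.primeCompl a
  have h0 : G.presheaf.germ U ξ hξU ((f : Γ(X, U)) • c - r • k.app U n) = 0 := by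
    rw [map_sub, germ_smul', germ_smul', ← ha, ← mul_smul, sub_eq_zero]
    exact congrArg (· • _) ((mul_comm _ _).trans hrf)
  obtain ⟨g, hξg, hg0⟩ := (germ_eq_zero_iff hG hU hξU _).1 h0
  refine ⟨g * f, ?_, ?_⟩
  · rw [Scheme.basicOpen_mul]
    exact ⟨hξg, (mem_basicOpen_iff_notMem hU hξU _).2 f.2⟩
  · rw [smul_sub, sub_eq_zero, ← mul_smul] at hg0
    rw [← Scheme.Modules.Hom.app_smul, hg0, ← Scheme.Modules.Hom.app_smul, ← Scheme.Modules.Hom.app_smul]
    exact congr(($(cokernel.condition k)).app U (g • r • n))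

theorem simpleAt_of_length {G : X.Modules} (hG : Coh.IsQCoh G) (ξ : X)
    (h : Module.length (X.presheaf.stalk ξ) (G.presheaf.stalk ξ) = 1) : SimpleAt ξ G :=
  simpleAt_of_isSimpleModule hG ξ (Module.length_eq_one_iff.1 h)

theorem simpleAt_of_residueField {G : X.Modules} (hG : Coh.IsQCoh G) (ξ : X)
    (e : (G.presheaf.stalk ξ) ≃ₗ[X.presheaf.stalk ξ] IsLocalRing.ResidueField (X.presheaf.stalk ξ)) :
    SimpleAt ξ G ∧ ξ ∈ CohB1.support G := by
  have hs : IsSimpleModule (X.presheaf.stalk ξ) (IsLocalRing.ResidueField (X.presheaf.stalk ξ)) :=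
    isSimpleModule_iff_quot_maximal.2 ⟨IsLocalRing.maximalIdeal _, inferInstance, ⟨LinearEquiv.refl _ _⟩⟩
  refine ⟨simpleAt_of_isSimpleModule hG ξ (e.isSimpleModule_iff.2 hs), fun h => ?_⟩
  haveI := h
  haveI := e.symm.toEquiv.subsingleton
  exact false_of_nontrivial_of_subsingleton (IsLocalRing.ResidueField (X.presheaf.stalk ξ))

section Ideal

variable {Z : Scheme.{u}} (i : Z ⟶ X) [IsClosedImmersion i]

theorem support_push_subset {M : Z.Modules} (hM : Coh.IsQCoh M) :
    CohB1.support ((Coh.push i).obj M) ⊆ Set.range i := fun x hx => by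
  by_contra hc
  obtain ⟨_, ⟨U, hU, rfl⟩, hxU, hsub⟩ := X.isBasis_affineOpens.exists_subset_of_mem_open
    hc i.isClosedEmbedding.isClosed_range.isOpen_compl
  obtain ⟨m, hm⟩ := (mem_support_iff (isQCoh_pushforward i hM) hU hxU).1 hx
  have hbot : i ⁻¹ᵁ U = ⊥ := bot_unique fun z hz => hsub hz ⟨z, rfl⟩
  have h1 : (i.app U) 1 = (i.app U) 0 := by
    haveI : Subsingleton Γ(Z, i ⁻¹ᵁ U) := by rw [hbot]; infer_instance
    exact Subsingleton.elim _ _
  refine hm 1 (by rw [Scheme.basicOpen_of_isUnit _ isUnit_one]; exact hxU) ?_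
  refine (pushforward_smul i U 1 m).trans ?_
  rw [h1, map_zero]
  exact zero_smul Γ(Z, i ⁻¹ᵁ U) (show Γ(M, i ⁻¹ᵁ U) from m)

variable [IsIntegral Z]

theorem range_eq_closure : Set.range i = closure {i (genericPoint Z)} := by
  rw [← Set.image_singleton, i.isClosedEmbedding.closure_image_eq, genericPoint_closure, Set.image_univ]

theorem ne_zero_iff_mem_basicOpen {W : Z.Opens} (g : Γ(Z, W)) :
    g ≠ 0 ↔ genericPoint Z ∈ Z.basicOpen g := by
  rw [ne_eq, ← AlgebraicGeometry.basicOpen_eq_bot_iff]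
  refine ⟨fun h => ?_, fun h h0 => by rw [h0] at h; exact h⟩
  obtain ⟨z, hz⟩ := Set.nonempty_iff_ne_empty.2 fun he => h (Opens.ext he)
  exact ((genericPoint_spec Z).mem_open_set_iff (Z.basicOpen g).2).2 ⟨z, trivial, hz⟩

/-- A nonzero ideal on an integral closed subscheme is nonzero at the generic point, and its
quotient vanishes there. -/
theorem mem_support_push_ideal {I : Z.Modules} (ι : I ⟶ Coh.structureModule Z) [Mono ι]
    (hI : Coh.IsQCoh I) (hI0 : ¬ IsZero I) :
    i (genericPoint Z) ∈ CohB1.support ((Coh.push i).obj I) ∧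
      i (genericPoint Z) ∉ CohB1.support (cokernel ((Coh.push i).map ι)) := by
  obtain ⟨W, m₀, hm₀⟩ : ∃ (W : Z.affineOpens) (m : Γ(I, W.1)), m ≠ 0 := by
    by_contra hc
    push Not at hc
    exact hI0 (isZero_of_app_eq_zero hI hc)
  have hηW : genericPoint Z ∈ W.1 := Z.basicOpen_le _ ((ne_zero_iff_mem_basicOpen (ι.app W.1 m₀)).1
    fun h => hm₀ (app_injective ι W.1 (h.trans (map_zero _).symm)))
  obtain ⟨U, hU, hξU⟩ := exists_affine_mem (i (genericPoint Z))
  have hA : IsAffineOpen (i ⁻¹ᵁ U) := hU.preimage i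
  -- a section of the ideal over `i ⁻¹ U` nonzero at the generic point
  have hsupp : genericPoint Z ∈ CohB1.support I := (mem_support_iff hI W.2 hηW).2 ⟨m₀, fun f hf h0 => by
    have hmul : f • ι.app W.1 m₀ = 0 := ((Scheme.Modules.Hom.app_smul ι f m₀).symm.trans
      ((congrArg _ h0).trans (map_zero _)))
    have : genericPoint Z ∈ Z.basicOpen (f * (show Γ(Z, W.1) from ι.app W.1 m₀)) := by
      rw [Scheme.basicOpen_mul]
      exact ⟨hf, (ne_zero_iff_mem_basicOpen _).1 fun h => hm₀ (app_injective ι W.1 (h.trans (map_zero _).symm))⟩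
    exact (ne_zero_iff_mem_basicOpen _).2 this hmul⟩
  obtain ⟨l, hl⟩ := (mem_support_iff hI hA (show genericPoint Z ∈ i ⁻¹ᵁ U from hξU)).1 hsupp
  set g : Γ(Z, i ⁻¹ᵁ U) := ι.app (i ⁻¹ᵁ U) l with hg
  have hg0 : g ≠ 0 := fun h => hl 1 (by rw [Scheme.basicOpen_of_isUnit _ isUnit_one]; exact hξU)
    ((one_smul _ _).trans (app_injective ι _ (h.trans (map_zero _).symm)))
  constructor
  · refine (mem_support_iff (isQCoh_pushforward i hI) hU hξU).2 ⟨l, fun f hf h0 => ?_⟩
    refine hl (i.app U f) ?_ ((pushforward_smul i U f l).symm.trans h0)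
    rw [← Scheme.preimage_basicOpen]
    exact hf
  · have hC : Coh.IsQCoh (cokernel ((Coh.push i).map ι)) :=
      isQCoh_cokernel (isQCoh_pushforward i hI) (isQCoh_pushforward i isQCoh_structureModule) _
    refine (notMem_support_iff hC hU hξU).2 fun y => ?_
    obtain ⟨c, rfl⟩ := app_surjective_of_epi (isQCoh_pushforward i isQCoh_structureModule) hC
      (cokernel.π ((Coh.push i).map ι)) hU y
    obtain ⟨f, hf⟩ := i.app_surjective U hU g
    refine ⟨f, ?_, ?_⟩
    · have : genericPoint Z ∈ Z.basicOpen (i.app U f) := by rw [hf]; exact (ne_zero_iff_mem_basicOpen g).1 hg0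
      rw [← Scheme.preimage_basicOpen] at this
      exact this
    · rw [← Scheme.Modules.Hom.app_smul]
      have key : f • c = ((Coh.push i).map ι).app U
          ((show Γ(Z, i ⁻¹ᵁ U) from c) • l : Γ(I, i ⁻¹ᵁ U)) := by
        refine (pushforward_smul i U f c).trans ?_
        rw [hf, Scheme.Modules.pushforward_map_app]
        refine Eq.trans ?_ (Scheme.Modules.Hom.app_smul ι (show Γ(Z, i ⁻¹ᵁ U) from c) l).symm
        exact mul_comm g (show Γ(Z, i ⁻¹ᵁ U) from c)
      rw [key]
      exact congr(($(cokernel.condition ((Coh.push i).map ι))).app U _)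

end Ideal

theorem closedImmersion_iso_of_range {Z Z' : Scheme.{u}} (i : Z ⟶ X) (i' : Z' ⟶ X) [IsClosedImmersion i]
    [IsClosedImmersion i'] [IsReduced Z] [IsReduced Z'] (h : Set.range i' = Set.range i) :
    ∃ e : Z' ≅ Z, e.hom ≫ i = i' := by
  obtain ⟨g, hg⟩ := Groth.Agent.H23.RedSub.exists_lift_closed i' i h.le
  obtain ⟨g', hg'⟩ := Groth.Agent.H23.RedSub.exists_lift_closed i i' h.ge
  refine ⟨⟨g, g', ?_, ?_⟩, hg⟩
  · rw [← cancel_mono i', Category.assoc, hg', hg, Category.id_comp]
  · rw [← cancel_mono i, Category.assoc, hg, hg', Category.id_comp]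

/-- Direct images of structure sheaves of two reduced closed subschemes with the same points agree. -/
theorem push_structure_iso {Z Z' : Scheme.{u}} (i : Z ⟶ X) (i' : Z' ⟶ X) [IsClosedImmersion i]
    [IsClosedImmersion i'] [IsReduced Z] [IsReduced Z'] (h : Set.range i' = Set.range i) :
    Nonempty ((Coh.push i').obj (Coh.structureModule Z') ≅ (Coh.push i).obj (Coh.structureModule Z)) := by
  obtain ⟨e, he⟩ := closedImmersion_iso_of_range i i' h
  let v : Coh.structureModule Z ⟶ (Coh.push e.hom).obj (Coh.structureModule Z') :=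
    SheafOfModules.unitToPushforwardObjUnit e.hom.toRingCatSheafHom
  haveI : IsIso v := Scheme.Modules.Hom.isIso_iff_isIso_app.mpr fun W =>
    (ConcreteCategory.isIso_iff_bijective _).mpr
      ((ConcreteCategory.isIso_iff_bijective (e.hom.app W)).mp inferInstance)
  exact ⟨((Scheme.Modules.pushforwardCongr he.symm).app _) ≪≫
    ((Scheme.Modules.pushforwardComp e.hom i).app _).symm ≪≫ (Coh.push i).mapIso (asIso v).symm⟩

theorem isCoh_push [IsNoetherian X] {Z : Scheme.{u}} (i : Z ⟶ X) [IsClosedImmersion i] {I : Z.Modules}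
    (hI : Coh.IsCoh I) : Coh.IsCoh ((Coh.push i).obj I) := isCoh_pushforward_finite i hI

theorem support_push_ideal {Z : Scheme.{u}} (i : Z ⟶ X) [IsClosedImmersion i] [IsIntegral Z] [IsNoetherian X]
    {I : Z.Modules} (ι : I ⟶ Coh.structureModule Z) [Mono ι] (hI : Coh.IsQCoh I) (hI0 : ¬ IsZero I) :
    CohB1.support ((Coh.push i).obj I) = closure {i (genericPoint Z)} := by
  have hc : Coh.IsCoh ((Coh.push i).obj I) := by
    haveI : IsNoetherian Z :=
      { __ := LocallyOfFiniteType.isLocallyNoetherian i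
        __ := QuasiCompact.compactSpace_of_compactSpace i }
    have hO : Coh.IsCoh (Coh.structureModule Z) := isCoh_iff.2 ⟨isQCoh_structureModule, fun W =>
      (inferInstance : Module.Finite Γ(Z, W.1) Γ(Z, W.1))⟩
    exact isCoh_push i (isCoh_of_mono ι hO hI)
  refine (range_eq_closure i ▸ support_push_subset i hI).antisymm ?_
  exact (isClosed_support_of_isFT hc.1 hc.2).closure_subset_iff.2
    (Set.singleton_subset_iff.2 (mem_support_push_ideal i ι hI hI0).1)

theorem isCoh_structureModule' [IsLocallyNoetherian X] : Coh.IsCoh (Coh.structureModule X) :=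
  isCoh_iff.2 ⟨isQCoh_structureModule, fun W => (inferInstance : Module.Finite Γ(X, W.1) Γ(X, W.1))⟩

theorem isCoh_push_structure [IsNoetherian X] {Z : Scheme.{u}} (i : Z ⟶ X) [IsClosedImmersion i] :
    Coh.IsCoh ((Coh.push i).obj (Coh.structureModule Z)) :=
  haveI := LocallyOfFiniteType.isLocallyNoetherian i
  isCoh_push i isCoh_structureModule'

/-- The general dévissage principle. -/
theorem devissage [IsNoetherian X] (P : X.Modules → Prop)
    (hiso : ∀ M N : X.Modules, Nonempty (M ≅ N) → P M → P N)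
    (h0 : ∀ M : X.Modules, IsZero M → P M) (X' : Set X)
    (h132 : ∀ S : ShortComplex X.Modules, S.ShortExact → Coh.IsCoh S.X₁ → Coh.IsCoh S.X₂ → Coh.IsCoh S.X₃ →
      CohB1.support S.X₂ ⊆ X' → P S.X₁ → P S.X₃ → P S.X₂)
    (hgen : ∀ ξ : X, closure {ξ} ⊆ X' →
      (∀ M : X.Modules, Coh.IsCoh M → CohB1.support M ⊆ closure {ξ} → ξ ∉ CohB1.support M → P M) →
      ∀ (Z : Scheme.{u}) (i : Z ⟶ X) [IsClosedImmersion i] [IsIntegral Z],
        Set.range i = closure {ξ} → P ((Coh.push i).obj (Coh.structureModule Z)))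
    (h13 : ∀ S : ShortComplex X.Modules, S.ShortExact → Coh.IsCoh S.X₁ → Coh.IsCoh S.X₂ → Coh.IsCoh S.X₃ →
      CohB1.support S.X₂ ⊆ X' → P S.X₂ → P S.X₃ → P S.X₁)
    {M : X.Modules} (hM : Coh.IsCoh M) (hsupp : CohB1.support M ⊆ X') : P M := by
  suffices H : ∀ (C : Closeds X) (M : X.Modules), Coh.IsCoh M → CohB1.support M ⊆ (C : Set X) →
      CohB1.support M ⊆ X' → P M from
    H ⊤ M hM (fun x _ => trivial) hsupp
  intro C
  induction C using WellFoundedLT.induction with
  | ind C IH =>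
    intro M hM hC hX'
    induction filt_of_isCoh hM with
    | @zero N h => exact h0 N h
    | @step N M' φ _ _ hNc hMc hex ih =>
      obtain ⟨Z, i, hi, hZ, I, ι, hι, hI, hI0, ⟨e⟩⟩ := hex
      haveI := hi; haveI := hZ; haveI := hι
      have hc := isCoh_cokernel hNc.1 hMc φ
      have hSub : CohB1.support N ⊆ CohB1.support M' := mem_support_of_mono hNc.1 hMc.1 φ
      refine h132 (ShortComplex.mk φ (cokernel.π φ) (cokernel.condition φ))
        (.mk' (ShortComplex.exact_of_g_is_cokernel _ (cokernelIsCokernel φ)) ‹_› inferInstance)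
        hNc hMc hc hX' (ih hNc (hSub.trans hC) (hSub.trans hX')) ?_
      refine hiso _ _ ⟨e.symm⟩ ?_
      set ξ := i (genericPoint Z)
      have hP : CohB1.support ((Coh.push i).obj I) ⊆ CohB1.support M' := by
        rw [← support_iso e hc.1]
        exact support_of_epi hMc.1 hc.1 (cokernel.π φ)
      rw [support_push_ideal i ι hI hI0] at hP
      have hsmall : ∀ L : X.Modules, Coh.IsCoh L → CohB1.support L ⊆ closure {ξ} →
          ξ ∉ CohB1.support L → P L := fun L hL hLs hξ => by
        refine IH ⟨_, isClosed_support_of_isFT hL.1 hL.2⟩ ?_ L hL le_rfl ((hLs.trans hP).trans hX')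
        exact SetLike.lt_iff_le_and_exists.2
          ⟨(hLs.trans hP).trans hC, ξ, hC (hP (subset_closure rfl)), hξ⟩
      have hO : Coh.IsCoh ((Coh.push i).obj (Coh.structureModule Z)) := isCoh_push_structure i
      have hO' := hgen ξ (hP.trans hX') hsmall Z i (range_eq_closure i)
      have hOs : CohB1.support ((Coh.push i).obj (Coh.structureModule Z)) ⊆ closure {ξ} :=
        range_eq_closure i ▸ support_push_subset i isQCoh_structureModule
      have hIc : Coh.IsCoh ((Coh.push i).obj I) :=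
        isCoh_of_mono (e.inv) hc (isQCoh_pushforward i hI)
      haveI : Mono ((Coh.push i).map ι) := Functor.map_mono _ ι
      refine h13 (ShortComplex.mk ((Coh.push i).map ι) (cokernel.π _) (cokernel.condition _))
        (.mk' (ShortComplex.exact_of_g_is_cokernel _ (cokernelIsCokernel _)) ‹_› inferInstance)
        hIc hO (isCoh_cokernel hIc.1 hO _) ((hOs.trans hP).trans hX') hO' (hsmall _ (isCoh_cokernel hIc.1 hO _) ?_
          (mem_support_push_ideal i ι hI hI0).2)
      exact (support_of_epi hO.1 (isCoh_cokernel hIc.1 hO _).1 (cokernel.π _)).trans hOs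

/-- Two out of three properties pass from a module simple at `ξ` to the structure sheaf of the closure
of `ξ`. -/
theorem push_structure_of_simple [IsNoetherian X] (P : X.Modules → Prop)
    (hiso : ∀ M N : X.Modules, Nonempty (M ≅ N) → P M → P N)
    (ξ : X) (h23 : ∀ S : ShortComplex X.Modules, S.ShortExact → Coh.IsCoh S.X₁ → Coh.IsCoh S.X₂ → Coh.IsCoh S.X₃ →
      CohB1.support S.X₂ ⊆ closure {ξ} →
      (P S.X₁ → P S.X₂ → P S.X₃) ∧ (P S.X₁ → P S.X₃ → P S.X₂) ∧ (P S.X₂ → P S.X₃ → P S.X₁))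
    (hsmall : ∀ M : X.Modules, Coh.IsCoh M → CohB1.support M ⊆ closure {ξ} → ξ ∉ CohB1.support M → P M)
    {G : X.Modules} (hG : Coh.IsCoh G) (hGs : CohB1.support G ⊆ closure {ξ}) (hξ : ξ ∈ CohB1.support G)
    (hsimple : SimpleAt ξ G) (hPG : P G)
    {Z : Scheme.{u}} (i : Z ⟶ X) [IsClosedImmersion i] [IsIntegral Z] (hr : Set.range i = closure {ξ}) :
    P ((Coh.push i).obj (Coh.structureModule Z)) := by
  have hξ' : i (genericPoint Z) = ξ :=
    ((show Specializes (i (genericPoint Z)) ξ from specializes_iff_mem_closure.2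
      ((range_eq_closure i).le (hr.ge (subset_closure rfl)))).antisymm
    (specializes_iff_mem_closure.2 (hr.le ⟨_, rfl⟩))).eq
  induction filt_of_isCoh hG with
  | @zero N h => exact absurd hξ (by rw [support_eq_empty_of_isZero h hG.1]; exact fun h => h)
  | @step N M' φ _ _ hNc hMc hex ih =>
    obtain ⟨Z', i', hi', hZ', I, ι, hι, hI, hI0, ⟨e⟩⟩ := hex
    haveI := hi'; haveI := hZ'; haveI := hι
    have hc := isCoh_cokernel hNc.1 hMc φ
    have hNs : CohB1.support N ⊆ closure {ξ} := (mem_support_of_mono hNc.1 hMc.1 φ).trans hGs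
    have hCs : CohB1.support (cokernel φ) ⊆ closure {ξ} :=
      (support_of_epi hMc.1 hc.1 (cokernel.π φ)).trans hGs
    have hS : (ShortComplex.mk φ (cokernel.π φ) (cokernel.condition φ)).ShortExact :=
      .mk' (ShortComplex.exact_of_g_is_cokernel _ (cokernelIsCokernel φ)) ‹_› inferInstance
    by_cases hN : ξ ∈ CohB1.support N
    · refine ih hNc hNs hN (fun L k hk hL hL' hC => ?_) ((h23 _ hS hNc hMc hc hGs).2.2 hPG
        (hsmall _ hc hCs (hsimple N φ ‹_› hNc.1 hN)))
      haveI := hk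
      refine hsimple L (k ≫ φ) (mono_comp _ _) hL hL' ?_
      let d : cokernel k ⟶ cokernel (k ≫ φ) := cokernel.map k (k ≫ φ) (𝟙 _) φ (by rw [Category.id_comp])
      have hq1 : Coh.IsQCoh (cokernel k) := isQCoh_cokernel hL hNc.1 k
      have hq2 : Coh.IsQCoh (cokernel (k ≫ φ)) := isQCoh_cokernel hL hMc.1 _
      obtain ⟨U, hU, hξU⟩ := exists_affine_mem ξ
      obtain ⟨y, hy⟩ := (mem_support_iff hq1 hU hξU).1 hC
      obtain ⟨y, rfl⟩ := app_surjective_of_epi hNc.1 hq1 (cokernel.π k) hU y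
      refine (mem_support_iff hq2 hU hξU).2 ⟨(cokernel.π (k ≫ φ)).app U (φ.app U y), fun f hf h0 => hy f hf ?_⟩
      rw [← Scheme.Modules.Hom.app_smul] at h0 ⊢
      rw [← Scheme.Modules.Hom.app_smul] at h0
      have hS' : (ShortComplex.mk (k ≫ φ) (cokernel.π _) (cokernel.condition _)).ShortExact :=
        .mk' (ShortComplex.exact_of_g_is_cokernel _ (cokernelIsCokernel _)) (mono_comp _ _) inferInstance
      obtain ⟨w, hw⟩ := exists_app_f_eq hS' U (φ.app U (f • y)) h0
      rw [show f • y = k.app U w from app_injective φ U hw.symm]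
      exact congr(($(cokernel.condition k)).app U w)
    · have hξC : ξ ∈ CohB1.support (cokernel φ) :=
        (support_subset_union hS hNc.1 hMc.1 hc.1 hξ).resolve_left hN
      have hPI : P ((Coh.push i').obj I) :=
        hiso _ _ ⟨e⟩ ((h23 _ hS hNc hMc hc hGs).1 (hsmall _ hNc hNs hN) hPG)
      rw [support_iso e hc.1] at hξC hCs
      have hr' : Set.range i' = Set.range i := by
        rw [hr, range_eq_closure i', ← support_push_ideal i' ι hI hI0]
        exact hCs.antisymm ((isClosed_support_of_isFT (isQCoh_pushforward i' hI)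
          (isCoh_of_mono e.inv hc (isQCoh_pushforward i' hI)).2).closure_subset_iff.2
            (Set.singleton_subset_iff.2 hξC))
      refine hiso _ _ (push_structure_iso i i' hr') ?_
      have hIc : Coh.IsCoh ((Coh.push i').obj I) := isCoh_of_mono e.inv hc (isQCoh_pushforward i' hI)
      have hO : Coh.IsCoh ((Coh.push i').obj (Coh.structureModule Z')) := isCoh_push_structure i'
      have hOs : CohB1.support ((Coh.push i').obj (Coh.structureModule Z')) ⊆ closure {ξ} :=
        (hr'.trans hr) ▸ support_push_subset i' isQCoh_structureModule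
      have hξ'' : i' (genericPoint Z') = ξ := by
        have h1 : closure {i' (genericPoint Z')} = closure {ξ} := by rw [← range_eq_closure i', hr', hr]
        exact (inseparable_iff_closure_eq.2 h1).eq
      haveI : Mono ((Coh.push i').map ι) := Functor.map_mono _ ι
      refine (h23 (ShortComplex.mk ((Coh.push i').map ι) (cokernel.π _) (cokernel.condition _))
        (.mk' (ShortComplex.exact_of_g_is_cokernel _ (cokernelIsCokernel _)) ‹_› inferInstance)
        hIc hO (isCoh_cokernel hIc.1 hO _) hOs).2.1 hPI (hsmall _ (isCoh_cokernel hIc.1 hO _)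
          ((support_of_epi hO.1 (isCoh_cokernel hIc.1 hO _).1 (cokernel.π _)).trans hOs) ?_)
      exact hξ'' ▸ (mem_support_push_ideal i' ι hI hI0).2

end Groth.Agent.QCoh
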