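import Groth.Agent.QCoh.GodCx
import Groth.Agent.QCoh.Ab.LerayNat

/-!
# The Godement complex computes cohomology linearly
-/

set_option backward.isDefEq.respectTransparency false
set_option backward.isDefEq.respectTransparency.types false
set_option linter.style.haveILetI false

universe u

open CategoryTheory CategoryTheory.Limits AlgebraicGeometry TopologicalSpace Opposite

namespace Groth.Agent.QCoh

/-- Homology at a spot from a parametrisation of the cycles. -/
theorem nonempty_homology_equiv {R : Type u} [CommRing R] (K : CochainComplex (ModuleCat.{u} R) ℕ)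
    (i j k : ℕ) (hi : (ComplexShape.up ℕ).prev j = i) (hk : (ComplexShape.up ℕ).next j = k)
    {V H : Type u} [AddCommGroup V] [Module R V] [AddCommGroup H] [Module R H]
    (c : V →ₗ[R] K.X j) (hc : ∀ v, K.d j k (c v) = 0) (hs : ∀ y, K.d j k y = 0 → ∃ v, c v = y)
    (a : V →ₗ[R] H) (ha : Function.Surjective a) (h : ∀ v, a v = 0 ↔ ∃ x, K.d i j x = c v) :
    Nonempty ((K.homology j : ModuleCat.{u} R) ≃ₗ[R] H) := by
  let S := K.sc' i j k
  let c' : V →ₗ[R] LinearMap.ker S.g.hom := c.codRestrict _ fun v => hc v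
  let π : V →ₗ[R] (LinearMap.ker S.g.hom ⧸ LinearMap.range S.moduleCatToCycles) :=
    (LinearMap.range S.moduleCatToCycles).mkQ.comp c'
  have hπ : Function.Surjective π := fun y => by
    obtain ⟨z, rfl⟩ := Submodule.mkQ_surjective _ y
    obtain ⟨v, hv⟩ := hs z.1 z.2
    exact ⟨v, congrArg _ (Subtype.ext hv)⟩
  have hker : LinearMap.ker π = LinearMap.ker a := by
    ext v
    rw [LinearMap.mem_ker, LinearMap.mem_ker, h v]
    refine (Submodule.Quotient.mk_eq_zero _).trans ⟨?_, ?_⟩
    · rintro ⟨x, hx⟩; exact ⟨x, congrArg Subtype.val hx⟩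
    · rintro ⟨x, hx⟩; exact ⟨x, Subtype.ext hx⟩
  exact ⟨(K.homologyIsoSc' i j k hi hk ≪≫ S.moduleCatLeftHomologyData.homologyIso).toLinearEquiv.trans
    ((π.quotKerEquivOfSurjective hπ).symm.trans
      ((Submodule.quotEquivOfEq _ _ hker).trans (a.quotKerEquivOfSurjective ha)))⟩

variable {X : Scheme.{u}}

/-- Scalars on a short exact sequence of abelian sheaves. -/
noncomputable def smulSC (S : ShortComplex X.Modules) (r : Coh.Γtop X) :
    S.map (toAbFunctor X) ⟶ S.map (toAbFunctor X) where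
  τ₁ := Coh.smulAb S.X₁ r
  τ₂ := Coh.smulAb S.X₂ r
  τ₃ := Coh.smulAb S.X₃ r
  comm₁₂ := by
    ext U m
    exact Scheme.Modules.Hom.app_smul S.f (Coh.resTop X U r) m
  comm₂₃ := by
    ext U m
    exact Scheme.Modules.Hom.app_smul S.g (Coh.resTop X U r) m

theorem subsingleton_HH_God (N : X.Modules) (k : ℕ) : Subsingleton (Coh.HH X (God N) (k + 1)) :=
  Ab.subsingleton_H_of_HU_top (X := X.toPresheafedSpace.carrier) (abSheaf (God N)) (k + 1)
    (subsingleton_HU_God N ⊤ k)

variable {A : Type u} [CommRing A] (ρ : A →+* Coh.Γtop X) (M : X.Modules)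

/-- The connecting map, linearly. -/
noncomputable def connLin {S : ShortComplex X.Modules} (hS : S.ShortExact) (n : ℕ) :
    letI := modHH ρ S.X₃ n
    letI := modHH ρ S.X₁ (n + 1)
    Coh.HH X S.X₃ n →ₗ[A] Coh.HH X S.X₁ (n + 1) :=
  letI := modHH ρ S.X₃ n
  letI := modHH ρ S.X₁ (n + 1)
  { toFun := Ab.connecting (X := X.toPresheafedSpace.carrier) (toAb_shortExact hS) n
    map_add' := map_add (Ab.connecting (X := X.toPresheafedSpace.carrier) (toAb_shortExact hS) n)
    map_smul' := fun a x => (Ab.connecting_naturality (X := X.toPresheafedSpace.carrier)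
      (toAb_shortExact hS) (toAb_shortExact hS) (smulSC S (ρ a)) n x).symm }

theorem nonempty_shift (n : ℕ) : ∀ (k m : ℕ), m + k = n →
    letI := modHH ρ (godQ M k) (m + 1)
    letI := modHH ρ M (n + 1)
    Nonempty (Coh.HH X (godQ M k) (m + 1) ≃ₗ[A] Coh.HH X M (n + 1)) := by
  intro k
  induction k with
  | zero =>
    intro m h
    obtain rfl : m = n := h
    let := modHH ρ M (m + 1)
    exact ⟨LinearEquiv.refl A (Coh.HH X M (m + 1))⟩
  | succ k ih =>
    intro m h
    obtain ⟨e⟩ := ih (m + 1) (by omega)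
    let := modHH ρ (godQ M (k + 1)) (m + 1)
    let := modHH ρ (godQ M k) (m + 2)
    let := modHH ρ M (n + 1)
    exact ⟨(LinearEquiv.ofBijective (connLin ρ (godSES_shortExact M k) (m + 1))
      (Ab.connecting_bijective (X := X.toPresheafedSpace.carrier) (toAb_shortExact (godSES_shortExact M k)) (m + 1)
        (subsingleton_HH_God (godQ M k) m) (subsingleton_HH_God (godQ M k) (m + 1)))).trans e⟩

/-- Global sections as zeroth cohomology. -/
noncomputable def secH (N : X.Modules) :
    letI := secModule ρ N ⊤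
    letI := modHH ρ N 0
    Γ(N, ⊤) ≃ₗ[A] Coh.HH X N 0 :=
  letI := secModule ρ N ⊤
  letI := modHH ρ N 0
  AddEquiv.toLinearEquiv (Sheaf.H.equiv₀ (Coh.toAb N) isTerminalTop).symm fun a x => by
    apply (Sheaf.H.equiv₀ (Coh.toAb N) isTerminalTop).injective
    refine ((Sheaf.H.equiv₀ (Coh.toAb N) isTerminalTop).apply_symm_apply _).trans ?_
    refine Eq.trans ?_ (Sheaf.H.equiv₀_naturality isTerminalTop (Coh.smulAb N (ρ a))
      ((Sheaf.H.equiv₀ (Coh.toAb N) isTerminalTop).symm x))
    exact (congrArg ((Coh.smulAb N (ρ a)).hom.app (op ⊤))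
      ((Sheaf.H.equiv₀ (Coh.toAb N) isTerminalTop).apply_symm_apply x)).symm

/-- The Godement complex computes cohomology linearly. -/
theorem godCx_homology_equiv (n : ℕ) :
    letI := modHH ρ M n
    Nonempty (((godCx ρ ⊤ M).homology n : ModuleCat.{u} A) ≃ₗ[A] Coh.HH X M n) := by
  cases n with
  | zero =>
    let := modHH ρ M 0
    let := secModule ρ M ⊤
    refine nonempty_homology_equiv (godCx ρ ⊤ M) 0 0 1 (by simp) (by simp)
      (godAug ρ ⊤ M) (godAug_d ρ ⊤ M) (godAug_bijective ρ ⊤ M).2 (secH ρ M).toLinearMap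
      (secH ρ M).surjective fun v => ?_
    rw [(godCx ρ ⊤ M).shape 0 0 (by simp)]
    constructor
    · intro hv
      exact ⟨0, ((map_eq_zero_iff _ (godAug_bijective ρ ⊤ M).1).2 ((secH ρ M).map_eq_zero_iff.1 hv)).symm⟩
    · rintro ⟨x, hx⟩
      exact (secH ρ M).map_eq_zero_iff.2 ((map_eq_zero_iff _ (godAug_bijective ρ ⊤ M).1).1 hx.symm)
  | succ n =>
    let := modHH ρ M (n + 1)
    obtain ⟨e⟩ := nonempty_shift ρ M n n 0 (Nat.zero_add n)
    let := secModule ρ (godQ M (n + 1)) ⊤
    let := modHH ρ (godQ M (n + 1)) 0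
    let := modHH ρ (godQ M n) 1
    let c : Γ(godQ M (n + 1), ⊤) →ₗ[A] ((godCx ρ ⊤ M).X (n + 1) : ModuleCat.{u} A) :=
      appHom ρ (toGod (godQ M (n + 1))) ⊤
    let a : Γ(godQ M (n + 1), ⊤) →ₗ[A] Coh.HH X M (n + 1) :=
      e.toLinearMap.comp ((connLin ρ (godSES_shortExact M n) 0).comp (secH ρ (godQ M (n + 1))).toLinearMap)
    refine nonempty_homology_equiv (godCx ρ ⊤ M) n (n + 1) (n + 2) (by simp) (by simp) c
      (fun v => (godCx_d_apply ρ ⊤ M (n + 1) _).trans ((congrArg ((toGod (godQ M (n + 2))).app ⊤)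
        (app_g_f (S := godSES M (n + 1)) ⊤ v)).trans (map_zero _)))
      (fun y hy => ?_) a ?_ fun v => ?_
    · replace hy := (godCx_d_apply ρ ⊤ M (n + 1) y).symm.trans hy
      exact exists_of_godπ_app_eq_zero (n + 1) y
        ((toGod_app_injective (godQ M (n + 2)) ⊤) (hy.trans (map_zero _).symm))
    · exact e.surjective.comp ((Ab.connecting_surjective (X := X.toPresheafedSpace.carrier)
        (toAb_shortExact (godSES_shortExact M n)) 0 (subsingleton_HH_God (godQ M n) 0)).comp
          (secH ρ (godQ M (n + 1))).surjective)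
    · refine (e.map_eq_zero_iff).trans ((Ab.connecting_eq_zero_iff (X := X.toPresheafedSpace.carrier)
        (toAb_shortExact (godSES_shortExact M n)) 0 _).trans ⟨?_, ?_⟩)
      · rintro ⟨y, hy⟩
        refine ⟨Sheaf.H.equiv₀ (Coh.toAb (God (godQ M n))) isTerminalTop y,
          (godCx_d_apply ρ ⊤ M n _).trans (congrArg ((toGod (godQ M (n + 1))).app ⊤) ?_)⟩
        refine (Sheaf.H.equiv₀_naturality isTerminalTop
          ((godSES M n).map (toAbFunctor X)).g y).trans ?_
        exact (congrArg (Sheaf.H.equiv₀ (Coh.toAb (godQ M (n + 1))) isTerminalTop) hy).trans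
          ((Sheaf.H.equiv₀ (Coh.toAb (godQ M (n + 1))) isTerminalTop).apply_symm_apply v)
      · rintro ⟨x, hx⟩
        replace hx := toGod_app_injective (godQ M (n + 1)) ⊤ ((godCx_d_apply ρ ⊤ M n x).symm.trans hx)
        refine ⟨(Sheaf.H.equiv₀ (Coh.toAb (God (godQ M n))) isTerminalTop).symm x,
          (Sheaf.H.equiv₀ (Coh.toAb (godQ M (n + 1))) isTerminalTop).injective ?_⟩
        refine (Sheaf.H.equiv₀_naturality isTerminalTop ((godSES M n).map (toAbFunctor X)).g _).symm.trans ?_
        refine (congrArg _ ((Sheaf.H.equiv₀ (Coh.toAb (God (godQ M n))) isTerminalTop).apply_symm_apply x)).trans ?_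
        exact hx.trans ((Sheaf.H.equiv₀ (Coh.toAb (godQ M (n + 1))) isTerminalTop).apply_symm_apply v).symm

end Groth.Agent.QCoh
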