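import Groth.Agent.QCoh.RpushCoh

/-!
# Coherence of higher direct images of proper morphisms, from finiteness over affine bases
-/

universe u

set_option backward.isDefEq.respectTransparency false
set_option backward.isDefEq.respectTransparency.types false

open CategoryTheory CategoryTheory.Limits AlgebraicGeometry TopologicalSpace Opposite

namespace Groth.Agent.QCoh

variable {X S : Scheme.{u}} (f : X ⟶ S)

/-- The scheme over `V`, over the spectrum of the functions on `V`. -/
noncomputable def overSpec {V : S.Opens} (hV : IsAffineOpen V) :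
    ((f ⁻¹ᵁ V : X.Opens) : Scheme.{u}) ⟶ Spec Γ(S, V) :=
  (f ∣_ V) ≫ hV.isoSpec.hom

theorem overSpec_fromSpec {V : S.Opens} (hV : IsAffineOpen V) :
    overSpec f hV ≫ hV.fromSpec = (f ⁻¹ᵁ V).ι ≫ f := by
  rw [overSpec, Category.assoc, hV.isoSpec_hom_fromSpec, morphismRestrict_ι]

theorem toGlobal_overSpec {V : S.Opens} (hV : IsAffineOpen V) :
    Coh.toGlobal (overSpec f hV) = rhoV f V := by
  have e : (⊤ : (Spec Γ(S, V)).Opens) ≤ hV.fromSpec ⁻¹ᵁ V := hV.fromSpec_preimage_self.ge
  have h1 : hV.fromSpec.appLE V ⊤ e = (Scheme.ΓSpecIso Γ(S, V)).inv := by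
    rw [Scheme.Hom.appLE, hV.fromSpec_app_self, Category.assoc, ← Functor.map_comp,
      ← op_comp, Subsingleton.elim (_ ≫ _) (𝟙 (⊤ : (Spec Γ(S, V)).Opens)), op_id,
      CategoryTheory.Functor.map_id, Category.comp_id]
  have h2 : hV.fromSpec.appLE V ⊤ e ≫ (overSpec f hV).appLE ⊤ ⊤ le_top =
      ((f ⁻¹ᵁ V).ι ≫ f).appLE V ⊤ (f ⁻¹ᵁ V).ι_preimage_self.ge := by
    rw [Scheme.Hom.appLE_comp_appLE]
    simp only [overSpec_fromSpec]
  rw [h1] at h2
  refine RingHom.ext fun r => ?_
  have h3 : (overSpec f hV).appLE ⊤ ⊤ le_top = (overSpec f hV).appTop := by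
    simp [Scheme.Hom.appLE, Scheme.Hom.appTop]
    exact Category.comp_id _
  rw [h3] at h2
  refine (congr($h2 r) : _).trans ?_
  rw [Scheme.Hom.comp_appLE]
  rfl

/-- Restriction to an open subscheme preserves coherence. -/
theorem isCoh_restrict_open {U : X.Opens} {M : X.Modules} (hM : Coh.IsCoh M) :
    Coh.IsCoh (M.restrict U.ι) := by
  refine isCoh_iff.2 ⟨isQCoh_restrict U.ι hM.1, fun W => ?_⟩
  have := finite_sections hM (W.2.image_of_isOpenImmersion U.ι)
  obtain ⟨F, hF⟩ := this.fg_top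
  have key : ∀ x ∈ Submodule.span Γ(X, U.ι ''ᵁ W.1) (F : Set _),
      (M.restrictAppIso U.ι W.1).inv x ∈
        Submodule.span Γ(U, W.1) ((M.restrictAppIso U.ι W.1).inv '' (F : Set _)) := by
    intro x hx
    induction hx using Submodule.span_induction with
    | mem x hx => exact Submodule.subset_span ⟨x, hx, rfl⟩
    | zero => rw [map_zero]; exact zero_mem _
    | add x y _ _ hx hy => rw [map_add]; exact add_mem hx hy
    | smul a x _ hx =>
      have : (M.restrictAppIso U.ι W.1).inv (a • x) =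
          (U.ι.appIso W.1).hom a • (M.restrictAppIso U.ι W.1).inv x :=
        congr($(Scheme.Modules.smul_restrictAppIso_inv U.ι M W.1 a) x)
      rw [this]
      exact Submodule.smul_mem _ _ hx
  refine ⟨⟨(F.finite_toSet.image (M.restrictAppIso U.ι W.1).inv).toFinset, ?_⟩⟩
  rw [Set.Finite.coe_toFinset]
  refine eq_top_iff.2 fun y _ => ?_
  have := key ((M.restrictAppIso U.ι W.1).hom y) (hF ▸ Submodule.mem_top)
  rwa [show (M.restrictAppIso U.ι W.1).inv ((M.restrictAppIso U.ι W.1).hom y) = y from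
    congr($((M.restrictAppIso U.ι W.1).hom_inv_id) y)] at this

theorem isCoh_Rpush_of_finiteness [IsProper f] [IsLocallyNoetherian S] [HasInjectiveResolutions X.Modules]
    {M : X.Modules} (hM : Coh.IsCoh M) (p : ℕ)
    (hfin : ∀ (A : Type u) [CommRing A] [IsNoetherianRing A] (Y : Scheme.{u}) [Y.Over (Spec (CommRingCat.of A))]
      [IsProper (Y ↘ Spec (CommRingCat.of A))] (N : Y.Modules), Coh.IsCoh N →
        ∀ n : ℕ, Module.Finite A (Coh.HH Y N n)) :
    Coh.IsCoh ((Coh.Rpush f p).obj M) := by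
  refine isCoh_Rpush_of_finite f M hM.1 p fun V hV => ?_
  letI : ((f ⁻¹ᵁ V : X.Opens) : Scheme.{u}).Over (Spec (CommRingCat.of Γ(S, V))) := ⟨overSpec f hV⟩
  haveI : IsProper (((f ⁻¹ᵁ V : X.Opens) : Scheme.{u}) ↘ Spec (CommRingCat.of Γ(S, V))) := by
    show IsProper ((f ∣_ V) ≫ hV.isoSpec.hom)
    infer_instance
  haveI : IsNoetherianRing Γ(S, V) := IsLocallyNoetherian.component_noetherian ⟨V, hV⟩
  have := hfin Γ(S, V) _ (M.restrict (f ⁻¹ᵁ V).ι) (isCoh_restrict_open hM) p
  rw [← toGlobal_overSpec f hV]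
  exact this

end Groth.Agent.QCoh
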