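import Groth.Agent.QCoh.ClosedPush
import Groth.Agent.QCoh.Support
import Mathlib.RingTheory.LocalRing.Module
import Mathlib.RingTheory.Localization.Finiteness
import Mathlib.RingTheory.Flat.FaithfullyFlat.Basic

/-!
# The annihilator ideal sheaf of a quasi-coherent module of finite type; support of an inverse image
-/

universe u

set_option backward.isDefEq.respectTransparency false
set_option backward.isDefEq.respectTransparency.types false

open CategoryTheory CategoryTheory.Limits AlgebraicGeometry TopologicalSpace Opposite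
open scoped TensorProduct

namespace Groth.Agent.QCoh

variable {X : Scheme.{u}} {M : X.Modules}

theorem ann_map_basicOpen (hM : Coh.IsQCoh M) (hft : CohB1.IsFT M) {U : X.Opens} (hU : IsAffineOpen U)
    (f : Γ(X, U)) :
    (Module.annihilator Γ(X, U) Γ(M, U)).map (algebraMap Γ(X, U) Γ(X, X.basicOpen f)) =
      Module.annihilator Γ(X, X.basicOpen f) Γ(M, X.basicOpen f) := by
  letI := basicModule f M
  haveI := hU.isLocalization_basicOpen f
  haveI := isLocalizedModule_basicRes f hM hU
  refine le_antisymm (Ideal.map_le_iff_le_comap.2 fun a ha => ?_) fun b hb => ?_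
  · rw [Ideal.mem_comap, Module.mem_annihilator]
    intro y
    obtain ⟨⟨x, s⟩, hxs⟩ := IsLocalizedModule.surj (Submonoid.powers f) (basicRes f M) y
    refine (IsLocalization.map_units Γ(X, X.basicOpen f) s).smul_left_cancel.1 ?_
    rw [smul_zero, smul_comm]
    show a • (s.1 • y) = 0
    rw [show s.1 • y = basicRes f M x from hxs, ← map_smul, Module.mem_annihilator.1 ha, map_zero]
  · haveI := finite_of_isFT hM hft hU
    obtain ⟨n, v, hv⟩ := Module.Finite.exists_fin (R := Γ(X, U)) (M := Γ(M, U))
    obtain ⟨⟨a, s⟩, has⟩ := IsLocalization.surj (Submonoid.powers f) b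
    have h0 : ∀ i, ∃ t : Submonoid.powers f, t • (a • v i) = 0 := fun i => by
      refine (IsLocalizedModule.eq_zero_iff (Submonoid.powers f) (basicRes f M)).1 ?_
      rw [map_smul]
      show algebraMap Γ(X, U) Γ(X, X.basicOpen f) a • basicRes f M (v i) = 0
      rw [← has]
      rw [mul_comm, mul_smul, Module.mem_annihilator.1 hb, smul_zero]
    choose t ht using h0
    have hmem : (∏ i, t i : Submonoid.powers f).1 * a ∈ Module.annihilator Γ(X, U) Γ(M, U) := by
      rw [Module.mem_annihilator]
      intro m
      have hm : m ∈ Submodule.span Γ(X, U) (Set.range v) := hv ▸ Submodule.mem_top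
      induction hm using Submodule.span_induction with
      | mem _ h =>
        obtain ⟨i, rfl⟩ := h
        rw [← Finset.mul_prod_erase _ t (Finset.mem_univ i), mul_comm (t i), Submonoid.coe_mul,
          mul_assoc, mul_smul, mul_smul]
        exact (congrArg _ (ht i)).trans (smul_zero _)
      | zero => exact smul_zero _
      | add _ _ _ _ ha hb => rw [smul_add, ha, hb, add_zero]
      | smul r _ _ ha => rw [smul_comm, ha, smul_zero]
    rw [IsLocalization.mem_map_algebraMap_iff (Submonoid.powers f)]
    exact ⟨⟨⟨_, hmem⟩, (∏ i, t i) * s⟩, by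
      show b * algebraMap _ _ ((∏ i, t i : Submonoid.powers f).1 * s.1) =
        algebraMap _ _ ((∏ i, t i : Submonoid.powers f).1 * a)
      rw [map_mul, map_mul, ← mul_assoc, mul_comm b, mul_assoc, has]⟩

/-- The annihilator ideal sheaf. -/
noncomputable def annIdeal (hM : Coh.IsQCoh M) (hft : CohB1.IsFT M) : X.IdealSheafData :=
  Scheme.IdealSheafData.mkOfMemSupportIff
    (fun U => Module.annihilator Γ(X, U.1) Γ(M, U.1))
    (fun U f => ann_map_basicOpen hM hft U.2 f)
    (CohB1.support M) fun U x hx => by
      haveI := finite_of_isFT hM hft U.2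
      rw [← mem_moduleSupport_iff hM U.2 hx, Module.support_eq_zeroLocus, PrimeSpectrum.mem_zeroLocus,
        Scheme.mem_zeroLocus_iff]
      exact ⟨fun h a ha hxa => (mem_basicOpen_iff_notMem U.2 hx a).1 hxa (h ha),
        fun h a ha => by_contra fun hn => h a ha ((mem_basicOpen_iff_notMem U.2 hx a).2 hn)⟩

theorem nontrivial_extendField {K L V : Type u} [Field K] [Field L] [Algebra K L] [AddCommGroup V]
    [Module K V] [Nontrivial V] : Nontrivial (L ⊗[K] V) := inferInstance

/-- The support of a base change of a finite module. -/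
theorem mem_support_baseChange {A B : Type u} [CommRing A] [CommRing B] [Algebra A B] {M N : Type u}
    [AddCommGroup M] [Module A M] [Module.Finite A M] [AddCommGroup N] [Module A N] [Module B N]
    [IsScalarTower A B N] {l : M →ₗ[A] N} (h : IsBaseChange B l) (q : PrimeSpectrum B) :
    q ∈ Module.support B N ↔ PrimeSpectrum.comap (algebraMap A B) q ∈ Module.support A M := by
  haveI : Module.Finite B N := Module.Finite.equiv h.equiv
  set p := PrimeSpectrum.comap (algebraMap A B) q
  letI : Algebra p.asIdeal.ResidueField q.asIdeal.ResidueField :=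
    (Ideal.ResidueField.map p.asIdeal q.asIdeal (algebraMap A B) rfl).toAlgebra
  haveI : IsScalarTower A p.asIdeal.ResidueField q.asIdeal.ResidueField :=
    .of_algebraMap_eq fun r => by
      rw [RingHom.algebraMap_toAlgebra, Ideal.ResidueField.map_algebraMap,
        ← IsScalarTower.algebraMap_apply]
  rw [Module.mem_support_iff_nontrivial_residueField_tensorProduct,
    Module.mem_support_iff_nontrivial_residueField_tensorProduct]
  let e : q.asIdeal.ResidueField ⊗[B] N ≃ₗ[q.asIdeal.ResidueField]
      q.asIdeal.ResidueField ⊗[p.asIdeal.ResidueField] (p.asIdeal.ResidueField ⊗[A] M) :=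
    (TensorProduct.AlgebraTensorModule.congr (.refl _ _) h.equiv.symm) ≪≫ₗ
      (TensorProduct.AlgebraTensorModule.cancelBaseChange A B q.asIdeal.ResidueField
        q.asIdeal.ResidueField M) ≪≫ₗ
      (TensorProduct.AlgebraTensorModule.cancelBaseChange A p.asIdeal.ResidueField
        q.asIdeal.ResidueField q.asIdeal.ResidueField M).symm
  rw [e.toEquiv.nontrivial_congr]
  refine ⟨fun _ => ?_, fun h => @nontrivial_extendField _ _ _ _ _ _ _ _ h⟩
  by_contra hn
  rw [not_nontrivial_iff_subsingleton] at hn
  exact false_of_nontrivial_of_subsingleton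
    (q.asIdeal.ResidueField ⊗[p.asIdeal.ResidueField] (p.asIdeal.ResidueField ⊗[A] M))

theorem support_pullback {Y : Scheme.{u}} (f : Y ⟶ X) (hM : Coh.IsQCoh M) (hft : CohB1.IsFT M) :
    CohB1.support ((Scheme.Modules.pullback f).obj M) = f.base ⁻¹' CohB1.support M := by
  ext y
  obtain ⟨_, ⟨U, hU, rfl⟩, hxU, -⟩ :=
    X.isBasis_affineOpens.exists_subset_of_mem_open (Set.mem_univ (f y)) isOpen_univ
  obtain ⟨_, ⟨W, hW, rfl⟩, hyW, hWU⟩ :=
    Y.isBasis_affineOpens.exists_subset_of_mem_open (show y ∈ f ⁻¹ᵁ U from hxU) (f ⁻¹ᵁ U).2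
  replace hU : IsAffineOpen U := hU
  replace hW : IsAffineOpen W := hW
  let N := (Scheme.Modules.pullback f).obj M
  letI : Algebra Γ(X, U) Γ(Y, W) := (f.appLE U W hWU).hom.toAlgebra
  letI : Module Γ(X, U) Γ(N, W) := Module.compHom _ (f.appLE U W hWU).hom
  haveI : IsScalarTower Γ(X, U) Γ(Y, W) Γ(N, W) :=
    ⟨fun a b c => mul_smul ((f.appLE U W hWU).hom a) b c⟩
  haveI := finite_of_isFT hM hft hU
  let l : Γ(M, U) →ₗ[Γ(X, U)] Γ(N, W) :=
    { toFun := pullSec f M hWU
      map_add' := pullSec_add f M hWU
      map_smul' := pullSec_smul f M hWU }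
  rw [← mem_moduleSupport_iff (isQCoh_pullback f hM) hW hyW,
    mem_support_baseChange (isBaseChange_pullback hU f hW hM hWU (fun r => rfl) l fun x => rfl),
    show PrimeSpectrum.comap (algebraMap Γ(X, U) Γ(Y, W)) (hW.primeIdealOf ⟨y, hyW⟩) =
      hU.primeIdealOf ⟨f y, hWU hyW⟩ from IsAffineOpen.comap_primeIdealOf_appLE U hU W hW hWU hyW,
    mem_moduleSupport_iff hM hU]
  rfl

end Groth.Agent.QCoh
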