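import Groth.Prelude.Def_Coh
import Mathlib.Topology.Sheaves.Stalks

/-!
# Monomorphisms and sections of O_X-modules
-/

universe u

open CategoryTheory CategoryTheory.Limits AlgebraicGeometry TopologicalSpace Opposite

namespace Groth.Agent.QCoh

variable {X : Scheme.{u}} {M N : X.Modules}

theorem app_injective (φ : M ⟶ N) [Mono φ] (U : X.Opens) : Function.Injective (φ.app U) := by
  haveI : Mono ((Scheme.Modules.toPresheaf X).map φ) := Functor.map_mono _ _
  have h : Mono (((Scheme.Modules.toPresheaf X).map φ).app (op U)) :=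
    (NatTrans.mono_iff_mono_app _).1 this _
  exact (AddCommGrpCat.mono_iff_injective _).1 h

theorem mono_of_app_injective (φ : M ⟶ N) (h : ∀ U, Function.Injective (φ.app U)) : Mono φ :=
  ⟨fun {L} g g' e => Scheme.Modules.hom_ext _ _ fun U => by
    ext x
    exact h U (congrArg (fun (ψ : L ⟶ N) => ψ.app U x) e)⟩

theorem map_app_comm (φ : M ⟶ N) {U V : X.Opens} (i : V ⟶ U) (x : Γ(M, U)) :
    φ.app V (M.presheaf.map i.op x) = N.presheaf.map i.op (φ.app U x) :=
  congr($(φ.mapPresheaf.naturality i.op) x)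

/-- A section vanishing near every point vanishes. -/
theorem eq_zero_of_locally (U : X.Opens) (x : Γ(M, U))
    (h : ∀ p ∈ U, ∃ (V : X.Opens) (i : V ⟶ U), p ∈ V ∧ M.presheaf.map i.op x = 0) : x = 0 := by
  choose V i hp hV using fun p : U => h p.1 p.2
  refine TopCat.Sheaf.eq_of_locally_eq' ⟨M.presheaf, M.isSheaf⟩ V U i
    (fun p hp' => Opens.mem_iSup.2 ⟨⟨p, hp'⟩, hp ⟨p, hp'⟩⟩) x 0 fun p => ?_
  exact (hV p).trans (map_zero _).symm

/-- Monomorphisms may be checked on a basis of opens. -/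
theorem mono_of_isBasis (φ : M ⟶ N) {B : Set X.Opens} (hB : Opens.IsBasis B)
    (h : ∀ U ∈ B, Function.Injective (φ.app U)) : Mono φ := by
  refine mono_of_app_injective φ fun U => (injective_iff_map_eq_zero _).2 fun x hx => ?_
  refine eq_zero_of_locally U x fun p hp => ?_
  obtain ⟨V, hV, hpV, hVU⟩ := Opens.isBasis_iff_nbhd.1 hB hp
  refine ⟨V, homOfLE hVU, hpV, h V hV ?_⟩
  rw [map_app_comm, hx, map_zero, map_zero]

end Groth.Agent.QCoh
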