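import Groth.Agent.QCoh.PullbackBC
import Groth.Agent.QCoh.Qcqs
import Groth.Agent.QCoh.Sections
import Mathlib.LinearAlgebra.TensorProduct.Quotient
import Mathlib.AlgebraicGeometry.Morphisms.ClosedImmersion

/-!
# The unit of pullback-pushforward along a closed immersion
-/

universe u

set_option backward.isDefEq.respectTransparency false
set_option backward.isDefEq.respectTransparency.types false

open CategoryTheory CategoryTheory.Limits AlgebraicGeometry TopologicalSpace Opposite
open scoped TensorProduct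

namespace Groth.Agent.QCoh

variable {X : Scheme.{u}}

/-- Isomorphisms may be checked on a basis of opens. -/
theorem isIso_of_isBasis {M N : X.Modules} (φ : M ⟶ N) {B : Set X.Opens} (hB : Opens.IsBasis B)
    (h : ∀ U ∈ B, Function.Bijective (φ.app U)) : IsIso φ := by
  have := mono_of_isBasis φ hB fun U hU => (h U hU).1
  refine Scheme.Modules.Hom.isIso_iff_isIso_app.2 fun U => (ConcreteCategory.isIso_iff_bijective _).2
    ⟨app_injective φ U, fun y => ?_⟩
  have hx : ∀ p : U, ∃ V : X.Opens, V ∈ B ∧ p.1 ∈ V ∧ V ≤ U := fun p => Opens.isBasis_iff_nbhd.1 hB p.2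
  choose V hVB hpV hVU using hx
  choose x hx using fun p => (h (V p) (hVB p)).2 (N.presheaf.map (homOfLE (hVU p)).op y)
  obtain ⟨s, hs, -⟩ := TopCat.Sheaf.existsUnique_gluing' ⟨M.presheaf, M.isSheaf⟩ V U
    (fun p => homOfLE (hVU p)) (fun p hp => Opens.mem_iSup.2 ⟨⟨p, hp⟩, hpV ⟨p, hp⟩⟩) x fun p q => by
      refine app_injective φ _ ?_
      show φ.app _ (M.presheaf.map (Opens.infLELeft (V p) (V q)).op (x p)) =
        φ.app _ (M.presheaf.map (Opens.infLERight (V p) (V q)).op (x q))
      rw [map_app_comm, map_app_comm, hx, hx, ← ConcreteCategory.comp_apply,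
        ← ConcreteCategory.comp_apply, ← N.presheaf.map_comp, ← N.presheaf.map_comp]
      rfl
  refine ⟨s, TopCat.Sheaf.eq_of_locally_eq' ⟨N.presheaf, N.isSheaf⟩ V U (fun p => homOfLE (hVU p))
    (fun p hp => Opens.mem_iSup.2 ⟨⟨p, hp⟩, hpV ⟨p, hp⟩⟩) _ _ fun p => ?_⟩
  show N.presheaf.map (homOfLE (hVU p)).op (φ.app U s) = _
  exact (map_app_comm φ _ s).symm.trans ((congrArg _ (hs p)).trans (hx p))

/-- Base change along a surjection of rings: surjective, with kernel `I • M`. -/
theorem baseChange_surjection {A B : Type u} [CommRing A] [CommRing B] [Algebra A B]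
    (hsurj : Function.Surjective (algebraMap A B)) {M N : Type u} [AddCommGroup M] [Module A M]
    [AddCommGroup N] [Module A N] [Module B N] [IsScalarTower A B N] {l : M →ₗ[A] N}
    (h : IsBaseChange B l) :
    Function.Surjective l ∧
      LinearMap.ker l = RingHom.ker (algebraMap A B) • (⊤ : Submodule A M) := by
  set I := RingHom.ker (algebraMap A B)
  let e : (A ⧸ I) ≃ₗ[A] B :=
    (Ideal.quotientKerAlgEquivOfSurjective (f := Algebra.ofId A B) hsurj).toLinearEquiv
  have he : e (Ideal.Quotient.mk I 1) = 1 := map_one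
    (Ideal.quotientKerAlgEquivOfSurjective (f := Algebra.ofId A B) hsurj)
  let E : (M ⧸ I • (⊤ : Submodule A M)) ≃ₗ[A] N :=
    (TensorProduct.quotTensorEquivQuotSMul M I).symm ≪≫ₗ TensorProduct.congr e (.refl A M) ≪≫ₗ
      (h.equiv.restrictScalars A)
  have hl : ∀ x, E (Submodule.Quotient.mk x) = l x := fun x => by
    show h.equiv (TensorProduct.congr e (.refl A M) ((TensorProduct.quotTensorEquivQuotSMul M I).symm
      (Submodule.Quotient.mk x))) = l x
    rw [show (TensorProduct.quotTensorEquivQuotSMul M I).symm (Submodule.Quotient.mk x) =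
        Ideal.Quotient.mk I 1 ⊗ₜ[A] x from (LinearEquiv.symm_apply_eq _).2
          ((congrArg Submodule.Quotient.mk (one_smul A x).symm).trans
            (TensorProduct.quotTensorEquivQuotSMul_mk_tmul I 1 x).symm),
      TensorProduct.congr_tmul, LinearEquiv.refl_apply, he, h.equiv_tmul, one_smul]
  constructor
  · intro y
    obtain ⟨x, hx⟩ := Submodule.Quotient.mk_surjective _ (E.symm y)
    exact ⟨x, by rw [← hl, hx, E.apply_symm_apply]⟩
  · ext x
    rw [LinearMap.mem_ker, ← hl, LinearEquiv.map_eq_zero_iff, Submodule.Quotient.mk_eq_zero]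

variable {Z : Scheme.{u}} (i : Z ⟶ X) [IsClosedImmersion i] {G : X.Modules}

theorem unit_app_closed (hG : Coh.IsQCoh G) {U : X.Opens} (hU : IsAffineOpen U) :
    Function.Surjective (((Scheme.Modules.pullbackPushforwardAdjunction i).unit.app G).app U) ∧
      ∀ x, ((Scheme.Modules.pullbackPushforwardAdjunction i).unit.app G).app U x = 0 ↔
        x ∈ i.ker.ideal ⟨U, hU⟩ • (⊤ : Submodule Γ(X, U) Γ(G, U)) := by
  let N := (Scheme.Modules.pullback i).obj G
  letI : Algebra Γ(X, U) Γ(Z, i ⁻¹ᵁ U) := (i.app U).hom.toAlgebra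
  letI : Module Γ(X, U) Γ(N, i ⁻¹ᵁ U) := Module.compHom _ (i.app U).hom
  haveI : IsScalarTower Γ(X, U) Γ(Z, i ⁻¹ᵁ U) Γ(N, i ⁻¹ᵁ U) :=
    ⟨fun a b c => mul_smul ((i.app U).hom a) b c⟩
  have hp : ∀ x, pullSec i G (le_refl (i ⁻¹ᵁ U)) x =
      ((Scheme.Modules.pullbackPushforwardAdjunction i).unit.app G).app U x := fun x => map_id' _ _
  let l : Γ(G, U) →ₗ[Γ(X, U)] Γ(N, i ⁻¹ᵁ U) :=
    { toFun := pullSec i G le_rfl
      map_add' := pullSec_add i G le_rfl
      map_smul' := fun r x => (pullSec_smul i G le_rfl r x).trans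
        (congrArg (fun t => (t : Γ(Z, i ⁻¹ᵁ U)) • pullSec i G le_rfl x)
          (by rw [← Scheme.Hom.app_eq_appLE]; rfl)) }
  obtain ⟨hs, hk⟩ := baseChange_surjection (i.app_surjective U hU)
    (isBaseChange_pullback hU i (hU.preimage i) hG le_rfl
      (fun r => by rw [← Scheme.Hom.app_eq_appLE]; rfl) l fun x => rfl)
  refine ⟨fun y => ?_, fun x => ?_⟩
  · obtain ⟨x, hx⟩ := hs y
    exact ⟨x, (hp x).symm.trans hx⟩
  · rw [Scheme.Hom.ker_apply]
    refine Iff.trans ?_ (SetLike.ext_iff.1 hk x)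
    rw [LinearMap.mem_ker]
    exact ⟨fun h => (hp x).trans h, fun h => (hp x).symm.trans h⟩

/-- The unit is an isomorphism iff the ideal of the closed subscheme kills the module. -/
theorem isIso_unit_closed_iff (hG : Coh.IsQCoh G) :
    IsIso ((Scheme.Modules.pullbackPushforwardAdjunction i).unit.app G) ↔
      ∀ (U : X.affineOpens), ∀ a ∈ i.ker.ideal U, ∀ s : Γ(G, U.1), a • s = 0 := by
  refine ⟨fun h U a ha s => ?_, fun h => ?_⟩
  · refine app_injective ((Scheme.Modules.pullbackPushforwardAdjunction i).unit.app G) U.1 ?_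
    rw [map_zero]
    exact ((unit_app_closed i hG U.2).2 _).2 (Submodule.smul_mem_smul ha Submodule.mem_top)
  · refine isIso_of_isBasis _ X.isBasis_affineOpens fun U hU =>
      ⟨(injective_iff_map_eq_zero _).2 fun x hx => ?_, (unit_app_closed i hG hU).1⟩
    exact (Submodule.mem_bot Γ(X, U)).1 ((Submodule.smul_le.2 fun a ha n _ =>
      (Submodule.mem_bot _).2 (h ⟨U, hU⟩ a ha n)) (((unit_app_closed i hG hU).2 x).1 hx))

end Groth.Agent.QCoh
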