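import Groth.Prelude.Def_ClSub2
import Groth.Agent.QCoh.AnnIdeal
import Groth.Agent.QCoh.ClosedPush
import Groth.Agent.QCoh.DevissageP
import Mathlib.AlgebraicGeometry.Morphisms.Proper

/-!
# Closed subsets proper over the base
-/

set_option backward.isDefEq.respectTransparency false
set_option linter.style.haveILetI false

universe u

open CategoryTheory CategoryTheory.Limits AlgebraicGeometry TopologicalSpace Opposite

namespace Groth.Agent.QCoh

variable {X S : Scheme.{u}} {f : X ⟶ S}

theorem isSeparated_of_comp_surjective {T T' Z : Scheme.{u}} (h : T' ⟶ T) (g : T ⟶ Z) [Surjective h]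
    [UniversallyClosed h] [IsSeparated (h ≫ g)] : IsSeparated g := by
  let Δ := pullback.diagonal g
  let q := pullback.map (h ≫ g) (h ≫ g) g g h h (𝟙 Z) (by simp) (by simp)
  have hq : UniversallyClosed q :=
    MorphismProperty.pullbackMap (P := @UniversallyClosed) (inferInstance : UniversallyClosed h)
      (inferInstance : UniversallyClosed h) rfl rfl
  have hrange : IsClosed (Set.range Δ) := by
    have he : pullback.diagonal (h ≫ g) ≫ q = h ≫ Δ := by
      ext <;> simp [q, Δ]
    have h1 : Set.range Δ = q '' Set.range (pullback.diagonal (h ≫ g)) := by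
      rw [← Set.range_comp, show (⇑q ∘ ⇑(pullback.diagonal (h ≫ g))) = ⇑Δ ∘ ⇑h from by
        funext z; exact congr($he z), h.surjective.range_comp]
    rw [h1]
    exact q.isClosedMap _ (pullback.diagonal (h ≫ g)).isClosedEmbedding.isClosed_range
  exact ⟨IsClosedImmersion.of_isPreimmersion Δ hrange⟩

theorem isProper_of_comp_surjective {T T' Z : Scheme.{u}} (h : T' ⟶ T) (g : T ⟶ Z) [Surjective h]
    [UniversallyClosed h] [IsProper (h ≫ g)] [LocallyOfFiniteType g] : IsProper g :=
  haveI : IsSeparated g := isSeparated_of_comp_surjective h g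
  haveI : UniversallyClosed g := UniversallyClosed.of_comp_surjective h g
  { }

theorem ker_le_vanishingIdeal {Z : Scheme.{u}} (i : Z ⟶ X) [IsClosedImmersion i] (C : Closeds X)
    (hC : (C : Set X) ⊆ Set.range i) : i.ker ≤ Scheme.IdealSheafData.vanishingIdeal C := by
  rw [← Scheme.IdealSheafData.le_support_iff_le_vanishingIdeal]
  intro x hx
  show x ∈ (i.ker.support : Set X)
  rw [show (i.ker.support : Set X) = closure (Set.range i) from i.support_ker]
  exact subset_closure (hC hx)

theorem isProperOver_of_subset {Z : Scheme.{u}} (i : Z ⟶ X) [IsClosedImmersion i] [IsProper (i ≫ f)]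
    {C : Set X} (hC : IsClosed C) (hsub : C ⊆ Set.range i) : ClSub.IsProperOver f C := by
  refine ⟨hC, ?_⟩
  let j := (Scheme.IdealSheafData.vanishingIdeal ⟨C, hC⟩).subschemeι
  let h := IsClosedImmersion.lift i j (by
    rw [Scheme.IdealSheafData.ker_subschemeι]; exact ker_le_vanishingIdeal i _ hsub)
  have he : h ≫ i = j := IsClosedImmersion.lift_fac _ _ _
  haveI : IsClosedImmersion h := by
    haveI : IsClosedImmersion (h ≫ i) := by rw [he]; infer_instance
    exact IsClosedImmersion.of_comp h i
  show IsProper (j ≫ f)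
  rw [← he, Category.assoc]
  infer_instance

theorem range_vanishing {C : Set X} (hC : IsClosed C) :
    Set.range (Scheme.IdealSheafData.vanishingIdeal ⟨C, hC⟩).subschemeι = C := by
  rw [Scheme.IdealSheafData.range_subschemeι, Scheme.IdealSheafData.coe_support_vanishingIdeal]
  rfl

theorem isProper_comp_of_isProperOver [LocallyOfFiniteType f] {Z : Scheme.{u}} (i : Z ⟶ X) [IsClosedImmersion i]
    {C : Set X} (hP : ClSub.IsProperOver f C) (hsub : Set.range i ⊆ C) : IsProper (i ≫ f) := by
  obtain ⟨hC, hP⟩ := hP
  let D : Closeds X := ⟨Set.range i, i.isClosedEmbedding.isClosed_range⟩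
  haveI hP' : IsProper ((Scheme.IdealSheafData.vanishingIdeal ⟨C, hC⟩).subschemeι ≫ f) := hP
  have hsub' : Set.range i ⊆ Set.range (Scheme.IdealSheafData.vanishingIdeal ⟨C, hC⟩).subschemeι := by
    rw [range_vanishing]; exact hsub
  have hD := (isProperOver_of_subset (f := f) _ i.isClosedEmbedding.isClosed_range hsub').2
  haveI : IsProper ((Scheme.IdealSheafData.vanishingIdeal D).subschemeι ≫ f) := hD
  let j := (Scheme.IdealSheafData.vanishingIdeal D).subschemeι
  let h := IsClosedImmersion.lift i j (by
    rw [Scheme.IdealSheafData.ker_subschemeι]; exact ker_le_vanishingIdeal i _ le_rfl)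
  have he : h ≫ i = j := IsClosedImmersion.lift_fac _ _ _
  haveI : IsClosedImmersion h := by
    haveI : IsClosedImmersion (h ≫ i) := by rw [he]; infer_instance
    exact IsClosedImmersion.of_comp h i
  haveI : Surjective h := ⟨fun z => by
    have : i z ∈ Set.range j := by rw [range_vanishing]; exact ⟨z, rfl⟩
    obtain ⟨w, hw⟩ := this
    refine ⟨w, i.isClosedEmbedding.injective ?_⟩
    rw [← Scheme.Hom.comp_apply, he, hw]⟩
  haveI : IsProper (h ≫ i ≫ f) := by rw [← Category.assoc, he]; infer_instance
  exact isProper_of_comp_surjective h (i ≫ f)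

theorem isProperOver_iff [LocallyOfFiniteType f] {Z : Scheme.{u}} (i : Z ⟶ X) [IsClosedImmersion i] :
    ClSub.IsProperOver f (Set.range i) ↔ IsProper (i ≫ f) :=
  ⟨fun h => isProper_comp_of_isProperOver i h le_rfl,
    fun _ => isProperOver_of_subset i i.isClosedEmbedding.isClosed_range le_rfl⟩

/-- A module of finite type comes from its scheme-theoretic support. -/
theorem exists_closed_model {F : X.Modules} (hq : Coh.IsQCoh F) (hft : CohB1.IsFT F) :
    ∃ (Z : Scheme.{u}) (i : Z ⟶ X) (G : Z.Modules), IsClosedImmersion i ∧ Set.range i = CohB1.support F ∧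
      Coh.IsQCoh G ∧ CohB1.IsFT G ∧ Nonempty ((Scheme.Modules.pushforward i).obj G ≅ F) := by
  let I := annIdeal hq hft
  let i := I.subschemeι
  let G := (Scheme.Modules.pullback i).obj F
  have hiso : IsIso ((Scheme.Modules.pullbackPushforwardAdjunction i).unit.app F) :=
    (isIso_unit_closed_iff i hq).2 fun U a ha s => by
      rw [Scheme.IdealSheafData.ker_subschemeι] at ha
      have ha' : a ∈ Module.annihilator Γ(X, U.1) Γ(F, U.1) := by
        simpa [I, annIdeal] using ha
      exact Module.mem_annihilator.1 ha' s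
  have hG := isQCoh_pullback i hq
  refine ⟨I.subscheme, i, G, inferInstance, ?_, hG, ?_,
    ⟨(@asIso _ _ _ _ ((Scheme.Modules.pullbackPushforwardAdjunction i).unit.app F) hiso).symm⟩⟩
  · rw [Scheme.IdealSheafData.range_subschemeι]
    simp [I, annIdeal]
  · refine isFT_of_finite hG (fun U : X.affineOpens => i ⁻¹ᵁ U.1) ?_ (fun U => U.2.preimage i) fun U => ?_
    · exact top_le_iff.1 fun z _ => Opens.mem_iSup.2 <| by
        obtain ⟨_, ⟨W, hW, rfl⟩, hz, -⟩ :=
          X.isBasis_affineOpens.exists_subset_of_mem_open (Set.mem_univ (i z)) isOpen_univ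
        exact ⟨⟨W, hW⟩, hz⟩
    · haveI := finite_of_isFT hq hft U.2
      obtain ⟨hs, -⟩ := unit_app_closed i hq U.2
      obtain ⟨T, hT⟩ := (inferInstance : Module.Finite Γ(X, U.1) Γ(F, U.1)).fg_top
      let u := ((Scheme.Modules.pullbackPushforwardAdjunction i).unit.app F).app U.1
      refine ⟨⟨(T.finite_toSet.image u).toFinset, eq_top_iff.2 fun y hy => ?_⟩⟩
      clear hy
      obtain ⟨x, rfl⟩ := hs y
      rw [Set.Finite.coe_toFinset]
      have hx : x ∈ Submodule.span Γ(X, U.1) (T : Set Γ(F, U.1)) := hT ▸ Submodule.mem_top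
      induction hx using Submodule.span_induction with
      | mem x hx => exact Submodule.subset_span ⟨x, hx, rfl⟩
      | zero => rw [map_zero]; exact zero_mem _
      | add a b _ _ ha hb => rw [map_add]; exact add_mem ha hb
      | smul r a _ ha =>
        have : u (r • a) = (i.app U.1 r • (show Γ(G, i ⁻¹ᵁ U.1) from u a) : Γ(G, i ⁻¹ᵁ U.1)) :=
          (Scheme.Modules.Hom.app_smul ((Scheme.Modules.pullbackPushforwardAdjunction i).unit.app F) r a).trans
            (pushforward_smul i U.1 r _)
        show u (r • a) ∈ _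
        rw [this]
        exact Submodule.smul_mem _ _ ha

end Groth.Agent.QCoh
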