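import Groth.Agent.KFlatLib.Scheme.PreStalk
import Groth.Agent.QCoh.Sections
import Mathlib.Topology.Sheaves.SheafOfFunctions
import Mathlib.Topology.Sheaves.Forget
import Mathlib.Algebra.Category.ModuleCat.Sheaf.Abelian
import Mathlib.Topology.Sheaves.Flasque

/-!
# The Godement resolution of a module
-/

universe u

open CategoryTheory CategoryTheory.Limits AlgebraicGeometry TopologicalSpace Opposite

namespace Groth.Agent.QCoh

open KFlatLib

variable {X : Scheme.{u}}

/-- The stalk at `x` of a module. -/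
noncomputable abbrev stk (M : X.Modules) (x : X) : ModuleCat.{u} (X.presheaf.stalk x) :=
  stalkMod x (CohB1.toPMod M)

/-- The germ of a section of a module. -/
noncomputable def germM (M : X.Modules) (U : X.Opens) {x : X} (hx : x ∈ U) : Γ(M, U) →+ stk M x :=
  germP (CohB1.toPMod M) U hx

theorem germM_smul (M : X.Modules) (U : X.Opens) {x : X} (hx : x ∈ U) (r : Γ(X, U)) (s : Γ(M, U)) :
    germM M U hx (r • s) = X.presheaf.germ U x hx r • germM M U hx s :=
  germP_smul (P := CohB1.toPMod M) U hx r s

theorem germM_res (M : X.Modules) {U V : X.Opens} (i : V ⟶ U) {x : X} (hx : x ∈ V) (s : Γ(M, U)) :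
    germM M V hx (M.presheaf.map i.op s) = germM M U (i.le hx) s :=
  germP_res (P := CohB1.toPMod M) i hx s

theorem exists_germM (M : X.Modules) {x : X} (m : stk M x) :
    ∃ (U : X.Opens) (hx : x ∈ U) (s : Γ(M, U)), germM M U hx s = m :=
  exists_germP (P := CohB1.toPMod M) m

/-- The stalk as a module over sections. -/
noncomputable abbrev stkFiber (M : X.Modules) (U : (X.Opens)ᵒᵖ) (x : U.unop) :
    ModuleCat.{u} ((X.sheaf.obj ⋙ forget₂ CommRingCat RingCat.{u}).obj U) :=
  (ModuleCat.restrictScalars (X.presheaf.germ U.unop x.1 x.2).hom).obj (stk M x.1)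

/-- Families of germs. -/
noncomputable abbrev godObj (M : X.Modules) (U : (X.Opens)ᵒᵖ) :
    ModuleCat.{u} ((X.sheaf.obj ⋙ forget₂ CommRingCat RingCat.{u}).obj U) :=
  ModuleCat.of _ (∀ x : U.unop, stkFiber M U x)

/-- The presheaf of families of germs. -/
noncomputable def godP (M : X.Modules) : CohB1.PMod X where
  obj := godObj M
  map {U V} i := ModuleCat.ofHom
    (Y := (ModuleCat.restrictScalars
      ((X.sheaf.obj ⋙ forget₂ CommRingCat RingCat.{u}).map i).hom).obj (godObj M V))
    { toFun := fun s x => (s ⟨x.1, i.unop.le x.2⟩ : stk M x.1)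
      map_add' := fun _ _ => rfl
      map_smul' := fun r s => by
        funext x
        change X.presheaf.germ U.unop x.1 (i.unop.le x.2) r • (s ⟨x.1, i.unop.le x.2⟩ : stk M x.1) =
          X.presheaf.germ V.unop x.1 x.2 (X.presheaf.map i r) • (s ⟨x.1, i.unop.le x.2⟩ : stk M x.1)
        exact congrArg (fun t => t • (s ⟨x.1, i.unop.le x.2⟩ : stk M x.1))
          (TopCat.Presheaf.germ_res_apply X.presheaf i.unop x.1 x.2 r).symm }
  map_id U := ModuleCat.hom_ext (LinearMap.ext fun _ => rfl)
  map_comp i j := ModuleCat.hom_ext (LinearMap.ext fun _ => rfl)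

theorem isSheaf_godP (M : X.Modules) :
    Presheaf.IsSheaf (Opens.grothendieckTopology X) (godP M).presheaf :=
  (TopCat.Presheaf.isSheaf_iff_isSheaf_comp (forget AddCommGrpCat.{u})
    (show TopCat.Presheaf AddCommGrpCat.{u} X.toPresheafedSpace.carrier from (godP M).presheaf)).2
    (TopCat.Presheaf.toTypes_isSheaf X.toPresheafedSpace.carrier
      fun x => ((stk M x : ModuleCat (X.presheaf.stalk x)) : Type u))

/-- The Godement module. -/
noncomputable def God (M : X.Modules) : X.Modules where
  val := godP M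
  isSheaf := isSheaf_godP M

/-- Values of a section of the Godement module. -/
noncomputable def godVal {M : X.Modules} {U : X.Opens} (s : Γ(God M, U)) (x : X) (hx : x ∈ U) :
    stk M x := (show ∀ y : U, stk M y.1 from s) ⟨x, hx⟩

theorem god_ext {M : X.Modules} {U : X.Opens} {s t : Γ(God M, U)}
    (h : ∀ x (hx : x ∈ U), godVal s x hx = godVal t x hx) : s = t :=
  funext fun x : U => h x.1 x.2

theorem godVal_res {M : X.Modules} {U V : X.Opens} (i : V ⟶ U) (s : Γ(God M, U)) (x : X)
    (hx : x ∈ V) : godVal ((God M).presheaf.map i.op s) x hx = godVal s x (i.le hx) := rfl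

theorem godVal_smul {M : X.Modules} {U : X.Opens} (r : Γ(X, U)) (s : Γ(God M, U)) (x : X)
    (hx : x ∈ U) : godVal (r • s) x hx = X.presheaf.germ U x hx r • godVal s x hx := rfl

/-- The embedding into the Godement module. -/
noncomputable def toGod (M : X.Modules) : M ⟶ God M :=
  ⟨PresheafOfModules.homMk
    { app := fun U => AddCommGrpCat.ofHom (AddMonoidHom.mk'
        (fun s : Γ(M, U.unop) => (show Γ(God M, U.unop) from
          (fun x => germM M U.unop x.2 s : ∀ x : U.unop, stk M x.1)))
        fun s t => funext fun x => map_add (germM M U.unop x.2) s t)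
      naturality := fun U V i => AddCommGrpCat.ext fun s => funext fun x =>
        germM_res M i.unop x.2 s }
    fun U (r : Γ(X, U.unop)) (s : Γ(M, U.unop)) => funext fun x => germM_smul M U.unop x.2 r s⟩

theorem godVal_toGod (M : X.Modules) {U : X.Opens} (s : Γ(M, U)) (x : X) (hx : x ∈ U) :
    godVal ((toGod M).app U s) x hx = germM M U hx s := rfl

theorem toGod_app_injective (M : X.Modules) (U : X.Opens) : Function.Injective ((toGod M).app U) :=
  fun s t h => TopCat.Presheaf.section_ext (show TopCat.Sheaf AddCommGrpCat.{u} X.toPresheafedSpace.carrier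
    from ⟨M.presheaf, M.isSheaf⟩) U s t fun x hx =>
    (congrArg (fun z => godVal z x hx) h : godVal ((toGod M).app U s) x hx = godVal ((toGod M).app U t) x hx)

instance (M : X.Modules) : Mono (toGod M) := mono_of_app_injective _ (toGod_app_injective M)

instance isFlasque_God (M : X.Modules) :
    TopCat.Sheaf.IsFlasque (X := X.toPresheafedSpace.carrier) ⟨(God M).presheaf, (God M).isSheaf⟩ where
  epi {U V} i := by
    classical
    refine (AddCommGrpCat.epi_iff_surjective _).2 fun t => ?_
    refine ⟨(fun x => if hx : x.1 ∈ V.unop then godVal t x.1 hx else 0 : ∀ x : U.unop, stk M x.1), ?_⟩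
    exact funext fun x => dif_pos x.2

variable {X' : Scheme.{u}} (φ : X' ⟶ X) {M : X.Modules} {M' : X'.Modules}
  (η : M ⟶ (Scheme.Modules.pushforward φ).obj M')

/-- The map on stalks induced by a map to a direct image. -/
noncomputable def stkMap (y : X') : stk M (φ.base y) →+ stk M' y :=
  descP (fun U hU => (germM M' (φ ⁻¹ᵁ U) hU).comp
      (show Γ(M, U) →+ Γ(M', φ ⁻¹ᵁ U) from (η.app U).hom))
    fun U V i hV s => by
      show germM M' (φ ⁻¹ᵁ V) hV (η.app V (M.presheaf.map i.op s)) =
        germM M' (φ ⁻¹ᵁ U) (i.le hV) (η.app U s)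
      exact (congrArg (germM M' (φ ⁻¹ᵁ V) hV) (map_app_comm η i s)).trans
        (germM_res M' ((Opens.map φ.base).map i) hV _)

theorem stkMap_germM (y : X') (U : X.Opens) (hU : φ.base y ∈ U) (s : Γ(M, U)) :
    stkMap φ η y (germM M U hU s) = germM M' (φ ⁻¹ᵁ U) hU (η.app U s) :=
  descP_germP (P := CohB1.toPMod M) _ _ U hU s

theorem stkMap_smul (y : X') (a : X.presheaf.stalk (φ.base y)) (m : stk M (φ.base y)) :
    stkMap φ η y (a • m) = φ.stalkMap y a • stkMap φ η y m := by
  obtain ⟨U, hU, r, rfl⟩ := X.presheaf.exists_germ_eq (x := φ.base y) a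
  obtain ⟨W, i, hW, s, rfl⟩ := exists_germP_common (P := CohB1.toPMod M) hU m
  rw [← X.presheaf.germ_res_apply i _ hW r, Scheme.Hom.germ_stalkMap_apply]
  show stkMap φ η y (_ • germM M W hW s) = _ • stkMap φ η y (germM M W hW s)
  refine (congrArg (stkMap φ η y) (germM_smul M W hW _ _).symm).trans ?_
  refine (stkMap_germM φ η y W hW _).trans ?_
  refine (congrArg (germM M' (φ ⁻¹ᵁ W) hW) (Scheme.Modules.Hom.app_smul η _ _)).trans ?_
  refine (germM_smul M' (φ ⁻¹ᵁ W) hW _ _).trans ?_
  exact congrArg _ (stkMap_germM φ η y W hW s).symm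

/-- Functoriality of the Godement module. -/
noncomputable def godMap : God M ⟶ (Scheme.Modules.pushforward φ).obj (God M') :=
  ⟨PresheafOfModules.homMk
    { app := fun U => AddCommGrpCat.ofHom (AddMonoidHom.mk'
        (fun s : Γ(God M, U.unop) => (show Γ(God M', φ ⁻¹ᵁ U.unop) from
          (fun y => stkMap φ η y.1 (godVal s (φ.base y.1) y.2) : ∀ y : (φ ⁻¹ᵁ U.unop : X'.Opens), stk M' y.1)))
        fun s t => funext fun y => map_add (stkMap φ η y.1) _ _)
      naturality := fun U V i => AddCommGrpCat.ext fun s => funext fun y => rfl }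
    fun U (r : Γ(X, U.unop)) (s : Γ(God M, U.unop)) => funext fun y => by
      show stkMap φ η y.1 (godVal (r • s) _ y.2) =
        X'.presheaf.germ (φ ⁻¹ᵁ U.unop) y.1 y.2 (φ.app U.unop r) • stkMap φ η y.1 (godVal s _ y.2)
      refine (congrArg (stkMap φ η y.1) (godVal_smul r s (φ.base y.1) y.2)).trans ?_
      refine (stkMap_smul φ η y.1 _ _).trans ?_
      exact congrArg (fun a => a • stkMap φ η y.1 (godVal s _ y.2))
        (Scheme.Hom.germ_stalkMap_apply φ U.unop y.1 y.2 r)⟩

theorem godVal_godMap {U : X.Opens} (s : Γ(God M, U)) (y : X') (hy : φ.base y ∈ U) :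
    godVal (M := M') (U := φ ⁻¹ᵁ U) ((godMap φ η).app U s) y hy = stkMap φ η y (godVal s (φ.base y) hy) :=
  rfl

theorem toGod_godMap : toGod M ≫ godMap φ η = η ≫ (Scheme.Modules.pushforward φ).map (toGod M') := by
  refine Scheme.Modules.hom_ext _ _ ?_
  intro U
  ext s
  exact funext fun y => stkMap_germM φ η y.1 U y.2 s

end Groth.Agent.QCoh
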