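import Groth.Agent.QCoh.Sections
import Mathlib.Algebra.Category.ModuleCat.Presheaf.Submodule
import Mathlib.Topology.Sheaves.SheafCondition.UniqueGluing

/-!
# Submodules of sheaves of modules given by locally closed families of sections
-/

universe u

open CategoryTheory CategoryTheory.Limits AlgebraicGeometry TopologicalSpace Opposite

namespace Groth.Agent.QCoh

variable {X : Scheme.{u}}

/-- A family of submodules of sections, stable under restriction and of local nature. -/
structure SubMod (M : X.Modules) where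
  /-- the sections of the submodule -/
  mem : ∀ U : X.Opens, Submodule Γ(X, U) Γ(M, U)
  map_mem : ∀ {U V : X.Opens} (i : V ≤ U) {s : Γ(M, U)}, s ∈ mem U →
    M.presheaf.map (homOfLE i).op s ∈ mem V
  of_locally : ∀ (U : X.Opens) (s : Γ(M, U)), (∀ x ∈ U, ∃ (V : X.Opens) (i : V ≤ U),
    x ∈ V ∧ M.presheaf.map (homOfLE i).op s ∈ mem V) → s ∈ mem U

variable {M : X.Modules} (N : SubMod M)

/-- The family as a submodule of the presheaf of modules. -/
def SubMod.sub : M.val.Submodule where
  obj U := N.mem U.unop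
  map {U V} f := fun s hs => by
    have h := N.map_mem (leOfHom f.unop) hs
    exact h

theorem SubMod.isSheaf : Presheaf.IsSheaf (Opens.grothendieckTopology X)
    N.sub.toPresheafOfModules.presheaf := by
  refine (TopCat.Presheaf.isSheaf_iff_isSheafUniqueGluing (X := X.toPresheafedSpace.carrier)
    (N.sub.toPresheafOfModules.presheaf)).2 fun ι U sf hsf => ?_
  obtain ⟨s, hs, huniq⟩ := (TopCat.Presheaf.isSheaf_iff_isSheafUniqueGluing (X := X.toPresheafedSpace.carrier)
    M.presheaf).1 M.isSheaf U (fun i => (sf i).1) (fun i j => congrArg Subtype.val (hsf i j))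
  have hmem : s ∈ N.mem (iSup U) := N.of_locally _ s fun x hx => by
    obtain ⟨i, hi⟩ := Opens.mem_iSup.1 hx
    exact ⟨U i, le_iSup U i, hi, by
      have h := hs i
      exact h ▸ (sf i).2⟩
  exact ⟨⟨s, hmem⟩, fun i => Subtype.ext (hs i), fun t ht =>
    Subtype.ext (huniq t.1 fun i => congrArg Subtype.val (ht i))⟩

/-- The submodule as a sheaf of modules. -/
noncomputable def SubMod.toModules : X.Modules :=
  ⟨N.sub.toPresheafOfModules, N.isSheaf⟩

/-- The inclusion. -/
noncomputable def SubMod.ι : N.toModules ⟶ M :=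
  ⟨N.sub.ι⟩

theorem SubMod.ι_app_injective (U : X.Opens) : Function.Injective (N.ι.app U) :=
  fun _ _ h => Subtype.ext h

instance SubMod.mono_ι : Mono N.ι := mono_of_app_injective _ N.ι_app_injective

theorem SubMod.ι_app_mem (U : X.Opens) (s : Γ(N.toModules, U)) : N.ι.app U s ∈ N.mem U :=
  Subtype.prop (p := fun s => s ∈ N.mem U) s

theorem SubMod.exists_app_eq {U : X.Opens} {s : Γ(M, U)} (hs : s ∈ N.mem U) :
    ∃ t : Γ(N.toModules, U), N.ι.app U t = s :=
  ⟨(⟨s, hs⟩ : N.mem U), rfl⟩

end Groth.Agent.QCoh
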