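import Groth.Agent.KFlatLib.Scheme.QCohTensor
import Groth.Agent.QCoh.Stalk
import Mathlib.RingTheory.Localization.BaseChange
import Mathlib.RingTheory.LocalProperties.Exactness

/-!
# Sections of tensor products of quasi-coherent modules on affine opens
-/

set_option backward.isDefEq.respectTransparency false
set_option linter.style.haveILetI false
set_option maxHeartbeats 1000000

universe u

open CategoryTheory CategoryTheory.Limits AlgebraicGeometry TopologicalSpace Opposite MonoidalCategory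
open scoped TensorProduct

namespace Groth.Agent.QCoh

variable {X : Scheme.{u}} (M N : X.Modules)

/-- The tensor product of two sections. -/
noncomputable abbrev tmS {U : X.Opens} (s : Γ(M, U)) (t : Γ(N, U)) :
    Γ((DCoh.tensorBi.obj M).obj N, U) :=
  KFlatLib.tmSh M N s t

theorem tmS_add_left {U : X.Opens} (s s' : Γ(M, U)) (t : Γ(N, U)) :
    tmS M N (s + s') t = tmS M N s t + tmS M N s' t :=
  (congrArg _ (KFlatLib.tm_add_left (U := op U) s s' t)).trans (map_add _ _ _)

theorem tmS_add_right {U : X.Opens} (s : Γ(M, U)) (t t' : Γ(N, U)) :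
    tmS M N s (t + t') = tmS M N s t + tmS M N s t' :=
  (congrArg _ (KFlatLib.tm_add_right (U := op U) s t t')).trans (map_add _ _ _)

theorem tmS_smul_left {U : X.Opens} (r : Γ(X, U)) (s : Γ(M, U)) (t : Γ(N, U)) :
    tmS M N (r • s) t = r • tmS M N s t :=
  (congrArg _ (KFlatLib.tm_smul_left r s t)).trans (KFlatLib.app_sm _ r _)

theorem tmS_smul_right {U : X.Opens} (r : Γ(X, U)) (s : Γ(M, U)) (t : Γ(N, U)) :
    tmS M N s (r • t) = r • tmS M N s t :=
  (congrArg _ ((KFlatLib.tm_smul r s t).symm.trans (KFlatLib.tm_smul_left r s t))).trans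
    (KFlatLib.app_sm _ r _)

theorem map_tmS {U V : X.Opens} (i : V ⟶ U) (s : Γ(M, U)) (t : Γ(N, U)) :
    ((DCoh.tensorBi.obj M).obj N).presheaf.map i.op (tmS M N s t) =
      tmS M N (M.presheaf.map i.op s) (N.presheaf.map i.op t) :=
  (PresheafOfModules.naturality_apply
    (KFlatLib.unitShP (DCoh.toP.obj M ⊗ DCoh.toP.obj N)) i.op (KFlatLib.tm s t)).symm.trans rfl

/-- The tensor product of sections, as a linear map. -/
noncomputable def tmLin (U : X.Opens) :
    Γ(M, U) ⊗[Γ(X, U)] Γ(N, U) →ₗ[Γ(X, U)] Γ((DCoh.tensorBi.obj M).obj N, U) :=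
  TensorProduct.lift (LinearMap.mk₂ _ (tmS M N) (tmS_add_left M N) (tmS_smul_left M N)
    (tmS_add_right M N) (tmS_smul_right M N))

theorem tmLin_tmul {U : X.Opens} (s : Γ(M, U)) (t : Γ(N, U)) :
    tmLin M N U (s ⊗ₜ[Γ(X, U)] t) = tmS M N s t :=
  rfl

variable {M N}

theorem isLocalizedModule_germ_tmLin (hM : Coh.IsQCoh M) (hN : Coh.IsQCoh N) {U : X.Opens}
    (hU : IsAffineOpen U) {x : X} (hx : x ∈ U) :
    letI := stalkModule ((DCoh.tensorBi.obj M).obj N) hx
    IsLocalizedModule (hU.primeIdealOf ⟨x, hx⟩).asIdeal.primeCompl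
      (germLin ((DCoh.tensorBi.obj M).obj N) hx ∘ₗ tmLin M N U) := by
  let T := (DCoh.tensorBi.obj M).obj N
  let S := (hU.primeIdealOf ⟨x, hx⟩).asIdeal.primeCompl
  letI := stalkAlg (X := X) hx
  letI := stalkModule M hx
  letI := stalkModule N hx
  letI := stalkModule T hx
  haveI := isScalarTower_stalk M hx
  haveI := isScalarTower_stalk N hx
  haveI := isScalarTower_stalk T hx
  haveI : IsLocalization S (X.presheaf.stalk x) := isLocalization_stalk' hU hx
  haveI := isLocalizedModule_germLin hM hU hx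
  haveI := isLocalizedModule_germLin hN hU hx
  let e₁ : M.presheaf.stalk x ⊗[Γ(X, U)] N.presheaf.stalk x ≃ₗ[Γ(X, U)]
      M.presheaf.stalk x ⊗[X.presheaf.stalk x] N.presheaf.stalk x :=
    (IsLocalization.moduleTensorEquiv S (X.presheaf.stalk x) _ _).symm.restrictScalars _
  let e₂ : M.presheaf.stalk x ⊗[X.presheaf.stalk x] N.presheaf.stalk x ≃ₗ[X.presheaf.stalk x]
      T.presheaf.stalk x :=
    (KFlatLib.stalkTensorIso x M N).toLinearEquiv
  let e := e₁.trans (e₂.restrictScalars Γ(X, U))
  have h : germLin T hx ∘ₗ tmLin M N U = e.toLinearMap ∘ₗ TensorProduct.map (germLin M hx) (germLin N hx) := by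
    refine TensorProduct.ext' fun s t => ?_
    exact (KFlatLib.stalkTensorIso_gm M N U hx s t).symm
  show IsLocalizedModule S (germLin T hx ∘ₗ tmLin M N U)
  rw [h]
  infer_instance

theorem bijective_of_isLocalizedModule_comp {R : Type*} [CommRing R] {A B : Type*} [AddCommGroup A] [Module R A]
    [AddCommGroup B] [Module R B] (τ : A →ₗ[R] B) (C : ∀ (P : Ideal R) [P.IsMaximal], Type*)
    [∀ (P : Ideal R) [P.IsMaximal], AddCommGroup (C P)] [∀ (P : Ideal R) [P.IsMaximal], Module R (C P)]
    (g : ∀ (P : Ideal R) [P.IsMaximal], B →ₗ[R] C P)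
    (hg : ∀ (P : Ideal R) [P.IsMaximal], IsLocalizedModule P.primeCompl (g P))
    (hgt : ∀ (P : Ideal R) [P.IsMaximal], IsLocalizedModule P.primeCompl (g P ∘ₗ τ)) :
    Function.Bijective τ := by
  refine bijective_of_isLocalized_maximal C (fun P hP => g P ∘ₗ τ) C g τ fun P hP => ?_
  have : IsLocalizedModule.map P.primeCompl (g P ∘ₗ τ) (g P) τ = LinearMap.id := by
    refine IsLocalizedModule.ext P.primeCompl (g P ∘ₗ τ) (IsLocalizedModule.map_units (g P)) ?_
    exact LinearMap.ext fun z => IsLocalizedModule.map_apply P.primeCompl _ (g P) τ z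
  rw [this]
  exact Function.bijective_id

/-- Tensor products of sections over affine opens. -/
theorem bijective_tmLin (hM : Coh.IsQCoh M) (hN : Coh.IsQCoh N) {U : X.Opens} (hU : IsAffineOpen U) :
    Function.Bijective (tmLin M N U) := by
  let T := (DCoh.tensorBi.obj M).obj N
  have hT : Coh.IsQCoh T := KFlatLib.isQCoh_tensor hM hN
  choose y hy hyq using fun P : MaximalSpectrum Γ(X, U) => exists_point hU P.toPrimeSpectrum
  letI := fun P : MaximalSpectrum Γ(X, U) => stalkModule T (hy P)
  have hg : ∀ (P : Ideal Γ(X, U)) [hP : P.IsMaximal],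
      IsLocalizedModule P.primeCompl (germLin T (hy ⟨P, hP⟩)) := fun P hP => by
    have := isLocalizedModule_germLin hT hU (hy ⟨P, hP⟩)
    simp only [hyq] at this
    exact this
  have hgt : ∀ (P : Ideal Γ(X, U)) [hP : P.IsMaximal],
      IsLocalizedModule P.primeCompl (germLin T (hy ⟨P, hP⟩) ∘ₗ tmLin M N U) := fun P hP => by
    have := isLocalizedModule_germ_tmLin hM hN hU (hy ⟨P, hP⟩)
    simp only [hyq] at this
    exact this
  exact bijective_of_isLocalizedModule_comp (tmLin M N U) (fun P hP => T.presheaf.stalk (y ⟨P, hP⟩))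
    (fun P hP => germLin T (hy ⟨P, hP⟩)) (fun P hP => hg P) fun P hP => hgt P

end Groth.Agent.QCoh
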