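import Groth.Agent.QCoh.ExtendFT

/-!
# Quasi-coherence of cokernels from localisation properties
-/

universe u

set_option backward.isDefEq.respectTransparency false
set_option backward.isDefEq.respectTransparency.types false

open CategoryTheory CategoryTheory.Limits AlgebraicGeometry TopologicalSpace Opposite

namespace Groth.Agent.QCoh

variable {X : Scheme.{u}}

/-- An epimorphism of modules is locally surjective on sections. -/
theorem exists_local_preimage {M N : X.Modules} (φ : M ⟶ N) [Epi φ] {U : X.Opens} (s : Γ(N, U))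
    {x : X} (hx : x ∈ U) :
    ∃ (V : X.Opens) (i : V ≤ U), x ∈ V ∧ ∃ t : Γ(M, V), φ.app V t = rs N i s := by
  have h : Epi ((toAbFunctor X).map φ) := inferInstance
  obtain ⟨V, i, ⟨t, ht⟩, hxV⟩ :=
    (TopCat.Presheaf.isLocallySurjective_iff _).1
      ((TopCat.Sheaf.isLocallySurjective_iff_epi (X := X.toPresheafedSpace.carrier)
        ((toAbFunctor X).map φ)).2 h) U s x hx
  exact ⟨V, i, hxV, t, ht⟩

/-- A section killed by the cokernel is locally in the range. -/
theorem exists_local_range {A B : X.Modules} (α : A ⟶ B) {U : X.Opens} (z : Γ(B, U))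
    (hz : (cokernel.π α).app U z = 0) {x : X} (hx : x ∈ U) :
    ∃ (V : X.Opens) (i : V ≤ U), x ∈ V ∧ ∃ a : Γ(A, V), α.app V a = rs B i z := by
  have hι : (cokernel.π (Abelian.image.ι α)).app U z = 0 := by
    have h0 : α ≫ cokernel.π (Abelian.image.ι α) = 0 := by
      refine (congrArg (· ≫ cokernel.π (Abelian.image.ι α)) (Abelian.image.fac α).symm).trans ?_
      exact (Category.assoc _ _ _).trans ((congrArg _ (cokernel.condition _)).trans comp_zero)
    have := congr(($(cokernel.π_desc α _ h0)).app U z)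
    refine this.symm.trans ?_
    show (cokernel.desc α _ h0).app U ((cokernel.π α).app U z) = 0
    rw [hz, map_zero]
  obtain ⟨w, hw⟩ := (mem_range_iff_cokernel (Abelian.image.ι α) U z).1 hι
  obtain ⟨V, i, hxV, a, ha⟩ := exists_local_preimage (Abelian.factorThruImage α) w hx
  refine ⟨V, i, hxV, a, ?_⟩
  rw [← hw]
  refine (congr(($(Abelian.image.fac α)).app V a) : _).symm.trans ?_
  show (Abelian.image.ι α).app V ((Abelian.factorThruImage α).app V a) = _
  rw [ha]
  exact map_app_comm _ _ _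

/-- The localisation properties of the cokernel of `α` on affine opens. -/
structure LocRange {A B : X.Modules} (α : A ⟶ B) : Prop where
  surj : ∀ (V : X.Opens), IsAffineOpen V → ∀ (g : Γ(X, V)) (y : Γ(B, X.basicOpen g)),
    ∃ (n : ℕ) (z : Γ(B, V)) (a : Γ(A, X.basicOpen g)),
      α.app _ a = rs B (X.basicOpen_le g) z - rf X (X.basicOpen_le g) g ^ n • y
  inj : ∀ (V : X.Opens), IsAffineOpen V → ∀ (g : Γ(X, V)) (z : Γ(B, V)) (a : Γ(A, X.basicOpen g)),
    α.app _ a = rs B (X.basicOpen_le g) z → ∃ (n : ℕ) (a' : Γ(A, V)), α.app V a' = g ^ n • z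

variable {A B : X.Modules} {α : A ⟶ B}

theorem LocRange.mem_range (h : LocRange α) {V : X.Opens} (hV : IsAffineOpen V) (z : Γ(B, V))
    (hz : (cokernel.π α).app V z = 0) : ∃ a, α.app V a = z := by
  let I : Ideal Γ(X, V) := (LinearMap.range (appLin α V)).comap (LinearMap.toSpanSingleton _ _ z)
  have hI : I.radical = ⊤ := by
    refine top_unique ((hV.self_le_iSup_basicOpen_iff (s := (I.radical : Set Γ(X, V)))).1 ?_
      |>.ge.trans (Ideal.span_le.2 subset_rfl))
    intro x hx
    obtain ⟨P, i, hxP, a, ha⟩ := exists_local_range α z hz hx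
    obtain ⟨g, hg, hxg⟩ := hV.exists_basicOpen_le ⟨x, hxP⟩ hx
    obtain ⟨n, a', ha'⟩ := h.inj V hV g z (rs A hg a) (by
      refine (map_app_comm α _ a).trans ?_
      rw [ha]
      exact map_map _ _ _)
    exact Opens.mem_iSup.2 ⟨⟨g, ⟨n, a', ha'⟩⟩, hxg⟩
  have h1 : (1 : Γ(X, V)) ∈ I := (Ideal.eq_top_iff_one _).1 (Ideal.radical_eq_top.1 hI)
  obtain ⟨a, ha⟩ := h1
  exact ⟨a, ha.trans (one_smul _ z)⟩

theorem cokernel_π_app_app {U : X.Opens} (a : Γ(A, U)) : (cokernel.π α).app U (α.app U a) = 0 :=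
  congr(($(cokernel.condition α)).app U a)

/-- A section of the cokernel killed on a basic open by restriction is killed by a power. -/
theorem LocRange.pow_smul_eq_zero (h : LocRange α) {V : X.Opens} (hV : IsAffineOpen V) (g : Γ(X, V))
    (c : Γ(cokernel α, V)) (hc : rs _ (X.basicOpen_le g) c = 0) : ∃ n : ℕ, g ^ n • c = 0 := by
  have hx : ∀ x : V, ∃ f : Γ(X, V), x.1 ∈ X.basicOpen f ∧ ∃ n : ℕ,
      rs (cokernel α) (X.basicOpen_le f) (g ^ n • c) = 0 := by
    rintro ⟨x, hx⟩
    obtain ⟨P, i, hxP, b, hb⟩ := exists_local_preimage (cokernel.π α) c hx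
    obtain ⟨f, hf, hxf⟩ := hV.exists_basicOpen_le ⟨x, hxP⟩ hx
    refine ⟨f, hxf, ?_⟩
    let g' := rf X (X.basicOpen_le f) g
    have hD := hV.basicOpen f
    have hle : X.basicOpen g' ≤ X.basicOpen g := (basicOpen_res_inf _ g).le.trans inf_le_right
    have hbf : (cokernel.π α).app _ (rs B hf b) = rs (cokernel α) (X.basicOpen_le f) c := by
      refine (map_app_comm _ _ b).trans ?_
      rw [hb]
      exact map_map _ _ _
    obtain ⟨a, ha⟩ := h.mem_range (hD.basicOpen g') (rs B (X.basicOpen_le g') (rs B hf b)) (by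
      refine (map_app_comm _ _ _).trans ?_
      rw [hbf]
      show rs _ _ (rs _ _ c) = 0
      rw [rs_rs, ← rs_rs (X.basicOpen_le g) hle, hc]
      exact map_zero _)
    obtain ⟨n, a', ha'⟩ := h.inj _ hD g' (rs B hf b) a ha
    refine ⟨n, ?_⟩
    rw [rs_smul, ← hbf]
    have := cokernel_π_app_app (α := α) a'
    rw [ha', Scheme.Modules.Hom.app_smul] at this
    simpa only [g', rf, map_pow] using this
  choose f hxf n hn using hx
  obtain ⟨F, hF⟩ := hV.isCompact.elim_finite_subcover (fun x : V => (X.basicOpen (f x) : Set X))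
    (fun x => (X.basicOpen (f x)).2)
    fun x hx => Set.mem_iUnion.2 ⟨(⟨x, hx⟩ : V), hxf (⟨x, hx⟩ : V)⟩
  refine ⟨F.sup n, eq_zero_of_locally V _ fun x hx => ?_⟩
  obtain ⟨y, hy, hxy⟩ := Set.mem_iUnion₂.1 (hF hx)
  refine ⟨_, homOfLE (X.basicOpen_le (f y)), hxy, ?_⟩
  obtain ⟨d, hd⟩ := Nat.exists_eq_add_of_le' (Finset.le_sup (f := n) hy)
  show rs _ _ _ = 0
  rw [hd, pow_add, mul_smul, rs_smul, hn, smul_zero]

/-- Sections of the cokernel on affines are classes of sections. -/
theorem LocRange.surjective (h : LocRange α) {V : X.Opens} (hV : IsAffineOpen V) :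
    Function.Surjective ((cokernel.π α).app V) := by
  intro c
  let I : Ideal Γ(X, V) :=
    (LinearMap.range (appLin (cokernel.π α) V)).comap (LinearMap.toSpanSingleton _ _ c)
  have hI : I.radical = ⊤ := by
    refine top_unique ((hV.self_le_iSup_basicOpen_iff (s := (I.radical : Set Γ(X, V)))).1 ?_
      |>.ge.trans (Ideal.span_le.2 subset_rfl))
    intro x hx
    obtain ⟨P, i, hxP, b, hb⟩ := exists_local_preimage (cokernel.π α) c hx
    obtain ⟨g, hg, hxg⟩ := hV.exists_basicOpen_le ⟨x, hxP⟩ hx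
    obtain ⟨n, z, a, ha⟩ := h.surj V hV g (rs B hg b)
    have h0 : rs (cokernel α) (X.basicOpen_le g) ((cokernel.π α).app V z - g ^ n • c) = 0 := by
      have h1 := cokernel_π_app_app (α := α) a
      rw [ha, map_sub, Scheme.Modules.Hom.app_smul, map_app_comm, map_app_comm, hb] at h1
      simp only [rs, map_sub, map_smul'] at h1 ⊢
      rw [map_map] at h1
      simp only [rf, map_pow] at h1 ⊢
      exact h1
    obtain ⟨m, hm⟩ := h.pow_smul_eq_zero hV g _ h0
    refine Opens.mem_iSup.2 ⟨⟨g, ⟨m + n, g ^ m • z, ?_⟩⟩, hxg⟩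
    show (cokernel.π α).app V (g ^ m • z) = g ^ (m + n) • c
    rw [Scheme.Modules.Hom.app_smul, pow_add, mul_smul]
    rwa [smul_sub, sub_eq_zero] at hm
  have h1 : (1 : Γ(X, V)) ∈ I := (Ideal.eq_top_iff_one _).1 (Ideal.radical_eq_top.1 hI)
  obtain ⟨b, hb⟩ := h1
  exact ⟨b, hb.trans (one_smul _ c)⟩

/-- The cokernel is quasi-coherent. -/
theorem LocRange.isQCoh (h : LocRange α) : Coh.IsQCoh (cokernel α) := by
  refine isQCoh_of_sections (fun V hV g s => ?_) fun V hV g t ht => h.pow_smul_eq_zero hV g t ht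
  obtain ⟨y, rfl⟩ := h.surjective (hV.basicOpen g) s
  obtain ⟨n, z, a, ha⟩ := h.surj V hV g y
  refine ⟨n, (cokernel.π α).app V z, sub_eq_zero.1 ?_⟩
  have h1 := cokernel_π_app_app (α := α) a
  rw [ha, map_sub, Scheme.Modules.Hom.app_smul, map_app_comm] at h1
  exact h1

end Groth.Agent.QCoh
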