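import Groth.Agent.QCoh.DevissageP

/-!
# Dévissage with generators of higher rank
-/

universe u

set_option backward.isDefEq.respectTransparency false
set_option backward.isDefEq.respectTransparency.types false

open CategoryTheory CategoryTheory.Limits AlgebraicGeometry TopologicalSpace Opposite

namespace Groth.Agent.QCoh

variable {X : Scheme.{u}}

theorem hasFiniteBiproducts (X : Scheme.{u}) : HasFiniteBiproducts X.Modules :=
  HasFiniteBiproducts.of_hasFiniteProducts

attribute [local instance] hasFiniteBiproducts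

theorem app_sum {M N : X.Modules} {β : Type*} (s : Finset β) (f : β → (M ⟶ N)) (U : X.Opens) (x : Γ(M, U)) :
    (∑ b ∈ s, f b).app U x = ∑ b ∈ s, (f b).app U x := by
  classical
  induction s using Finset.induction with
  | empty => rw [Finset.sum_empty, Finset.sum_empty]; rfl
  | insert a t ha ih => rw [Finset.sum_insert ha, Finset.sum_insert ha, ← ih]; rfl

theorem biproduct_total' {β : Type u} [Fintype β] (T : β → X.Modules) :
    ∑ b, biproduct.π T b ≫ biproduct.ι T b = 𝟙 (⨁ T) := by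
  classical
  refine biproduct.hom_ext' _ _ fun j => ?_
  rw [Preadditive.comp_sum, Finset.sum_eq_single j]
  · simp
  · intro b _ hb
    rw [← Category.assoc, biproduct.ι_π_ne T (Ne.symm hb), zero_comp]
  · simp

theorem isCoh_biproduct {β : Type u} [Fintype β] (T : β → X.Modules) (h : ∀ b, Coh.IsCoh (T b)) :
    Coh.IsCoh (⨁ T) := by
  classical
  refine isCoh_iff.2 ⟨(isQCoh_iff_iso (biproduct.isoCoproduct T)).2
    (isQCoh_colimit (Discrete.functor T) fun b => (h b.as).1), fun U => ?_⟩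
  haveI := fun b => finite_sections (h b) U.2
  let e : ∀ b, Γ(T b, U.1) →ₗ[Γ(X, U.1)] Γ(⨁ T, U.1) := fun b =>
    { toFun := (biproduct.ι T b).app U.1
      map_add' := map_add _
      map_smul' := Scheme.Modules.Hom.app_smul _ }
  refine Module.Finite.of_surjective (∑ b, (e b).comp (LinearMap.proj b))
    fun x => ⟨fun b => (biproduct.π T b).app U.1 x, ?_⟩
  rw [LinearMap.sum_apply]
  refine (app_sum Finset.univ (fun b => biproduct.π T b ≫ biproduct.ι T b) U.1 x).symm.trans ?_
  rw [biproduct_total']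
  rfl

theorem exists_kernel_lift {M N : X.Modules} (f : M ⟶ N) (U : X.Opens) (x : Γ(M, U))
    (h : f.app U x = 0) : ∃ w, (kernel.ι f).app U w = x := by
  refine exists_app_f_eq (S := ShortComplex.mk (kernel.ι f) (Abelian.coimage.π f) (cokernel.condition _))
    (.mk' (ShortComplex.exact_of_g_is_cokernel _ (cokernelIsCokernel (kernel.ι f))) inferInstance
      inferInstance) U x ?_
  refine app_injective (Abelian.factorThruCoimage f) U ?_
  rw [map_zero]
  exact (congr(($(Abelian.coimage.fac f)).app U x) : _).trans h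

theorem notMem_support_kernel {M N : X.Modules} (hM : Coh.IsQCoh M) (hN : Coh.IsQCoh N) (f : M ⟶ N)
    {U : X.Opens} (hU : IsAffineOpen U) {ξ : X} (hξ : ξ ∈ U)
    (h : ∀ x : Γ(M, U), f.app U x = 0 → ∃ a : Γ(X, U), ξ ∈ X.basicOpen a ∧ a • x = 0) :
    ξ ∉ CohB1.support (kernel f) := by
  refine (notMem_support_iff (isQCoh_kernel hM hN f) hU hξ).2 fun w => ?_
  obtain ⟨a, ha, h0⟩ := h ((kernel.ι f).app U w) (congr(($(kernel.condition f)).app U w) : _)
  exact ⟨a, ha, app_injective (kernel.ι f) U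
    (((Scheme.Modules.Hom.app_smul _ a w).trans h0).trans (map_zero _).symm)⟩

theorem notMem_support_cokernel {M N : X.Modules} (hM : Coh.IsQCoh M) (hN : Coh.IsQCoh N) (f : M ⟶ N)
    {U : X.Opens} (hU : IsAffineOpen U) {ξ : X} (hξ : ξ ∈ U)
    (h : ∀ y : Γ(N, U), ∃ a : Γ(X, U), ξ ∈ X.basicOpen a ∧ ∃ x, f.app U x = a • y) :
    ξ ∉ CohB1.support (cokernel f) := by
  have hC := isQCoh_cokernel hM hN f
  refine (notMem_support_iff hC hU hξ).2 fun c => ?_
  obtain ⟨y, rfl⟩ := app_surjective_of_epi hN hC (cokernel.π f) hU c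
  obtain ⟨a, ha, x, hx⟩ := h y
  refine ⟨a, ha, ?_⟩
  rw [← Scheme.Modules.Hom.app_smul, ← hx]
  exact congr(($(cokernel.condition f)).app U x)

/-- Two out of three properties do not see modifications away from `ξ`. -/
theorem iff_of_small [IsNoetherian X] (P : X.Modules → Prop) (ξ : X)
    (h12 : ∀ S : ShortComplex X.Modules, S.ShortExact → Coh.IsCoh S.X₁ → Coh.IsCoh S.X₂ → Coh.IsCoh S.X₃ →
      CohB1.support S.X₂ ⊆ closure {ξ} →
      (P S.X₁ → P S.X₂ → P S.X₃) ∧ (P S.X₁ → P S.X₃ → P S.X₂) ∧ (P S.X₂ → P S.X₃ → P S.X₁))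
    (hsmall : ∀ M : X.Modules, Coh.IsCoh M → CohB1.support M ⊆ closure {ξ} → ξ ∉ CohB1.support M → P M)
    {M N : X.Modules} (hM : Coh.IsCoh M) (hN : Coh.IsCoh N) (hMs : CohB1.support M ⊆ closure {ξ})
    (hNs : CohB1.support N ⊆ closure {ξ}) (f : M ⟶ N) (hk : ξ ∉ CohB1.support (kernel f))
    (hc : ξ ∉ CohB1.support (cokernel f)) : P M ↔ P N := by
  have hK : Coh.IsCoh (kernel f) := isCoh_of_mono (kernel.ι f) hM (isQCoh_kernel hM.1 hN.1 f)
  have hC := isCoh_cokernel hM.1 hN f
  have hI : Coh.IsCoh (Abelian.coimage f) := isCoh_cokernel hK.1 hM (kernel.ι f)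
  have h0 : Abelian.factorThruCoimage f ≫ cokernel.π f = 0 := by
    rw [← cancel_epi (Abelian.coimage.π f), ← Category.assoc, Abelian.coimage.fac, cokernel.condition,
      comp_zero]
  let e : IsColimit (CokernelCofork.ofπ (cokernel.π f) h0) :=
    CokernelCofork.IsColimit.ofπ' _ _ fun {A} g hg =>
      ⟨cokernel.desc f g (by rw [← Abelian.coimage.fac f, Category.assoc, hg, comp_zero]),
        cokernel.π_desc _ _ _⟩
  have hS₁ : (ShortComplex.mk (kernel.ι f) (Abelian.coimage.π f) (cokernel.condition _)).ShortExact :=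
    .mk' (ShortComplex.exact_of_g_is_cokernel _ (cokernelIsCokernel (kernel.ι f))) inferInstance inferInstance
  have hS₂ : (ShortComplex.mk (Abelian.factorThruCoimage f) (cokernel.π f) h0).ShortExact :=
    .mk' (ShortComplex.exact_of_g_is_cokernel _ e) inferInstance inferInstance
  have hPK : P (kernel f) := hsmall _ hK ((mem_support_of_mono hK.1 hM.1 (kernel.ι f)).trans hMs) hk
  have hPC : P (cokernel f) := hsmall _ hC ((support_of_epi hN.1 hC.1 (cokernel.π f)).trans hNs) hc
  obtain ⟨a, b, -⟩ := h12 _ hS₁ hK hM hI hMs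
  obtain ⟨-, c, d⟩ := h12 _ hS₂ hI hN hC hNs
  exact ⟨fun h => c (a hPK h) hPC, fun h => b hPK (d h hPC)⟩

theorem exists_indep_gens {A M : Type u} [CommRing A] [AddCommGroup M] [Module A M] [Module.Finite A M]
    (p : Ideal A) [p.IsPrime] (hkill : ∀ a ∈ p, ∀ m : M, a • m = 0) :
    ∃ (r : ℕ) (s : ULift.{u} (Fin r) → M), (∀ c : ULift.{u} (Fin r) → A, ∑ k, c k • s k = 0 → ∀ k, c k ∈ p) ∧
      ∀ m : M, ∃ a ∉ p, ∃ c : ULift.{u} (Fin r) → A, ∑ k, c k • s k = a • m := by
  classical
  obtain ⟨n, v, hv⟩ := Module.Finite.exists_fin (R := A) (M := M)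
  let S : Finset (Finset (Fin n)) := Finset.univ.filter fun T =>
    ∀ c : Fin n → A, ∑ j ∈ T, c j • v j = 0 → ∀ j ∈ T, c j ∈ p
  obtain ⟨T, hT, hmax⟩ := S.exists_maximal ⟨∅, Finset.mem_filter.2 ⟨Finset.mem_univ _, fun c _ j hj =>
    absurd hj (Finset.notMem_empty j)⟩⟩
  have hT' := (Finset.mem_filter.1 hT).2
  let N : Submodule A M := Submodule.span A (v '' T)
  have hv' : ∀ j, ∃ a ∉ p, a • v j ∈ N := fun j => by
    by_cases hj : j ∈ T
    · exact ⟨1, fun h => Ideal.IsPrime.ne_top ‹_› ((Ideal.eq_top_iff_one _).2 h),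
        by rw [one_smul]; exact Submodule.subset_span ⟨j, hj, rfl⟩⟩
    by_contra hc
    push Not at hc
    refine hj (hmax (Finset.mem_filter.2 ⟨Finset.mem_univ _, fun c hc0 => ?_⟩)
      (Finset.subset_insert j T) (Finset.mem_insert_self j T))
    rw [Finset.sum_insert hj] at hc0
    have hcj : c j ∈ p := by
      by_contra hcj
      refine hc (c j) hcj ?_
      rw [eq_neg_of_add_eq_zero_left hc0]
      exact N.neg_mem (N.sum_mem fun i hi => N.smul_mem _ (Submodule.subset_span ⟨i, hi, rfl⟩))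
    rw [hkill _ hcj, zero_add] at hc0
    intro i hi
    obtain rfl | hi := Finset.mem_insert.1 hi
    · exact hcj
    · exact hT' c hc0 i hi
  let e : ULift.{u} (Fin T.card) ≃ T := Equiv.ulift.trans T.equivFin.symm
  refine ⟨T.card, fun k => v (e k), fun c hc k => ?_, fun m => ?_⟩
  · let c' : Fin n → A := fun j => if hj : j ∈ T then c (e.symm ⟨j, hj⟩) else 0
    have h1 : ∑ j ∈ T, c' j • v j = 0 := by
      rw [← Finset.sum_coe_sort, ← e.sum_comp]
      refine Eq.trans (Finset.sum_congr rfl fun k _ => ?_) hc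
      simp [c']
    simpa [c'] using hT' c' h1 (e k) (e k).2
  · have hm : m ∈ Submodule.span A (Set.range v) := hv ▸ Submodule.mem_top
    have hN : N = Submodule.span A (Set.range fun k => v (e k)) := by
      refine congrArg (Submodule.span A) (Set.ext fun x => ⟨?_, ?_⟩)
      · rintro ⟨j, hj, rfl⟩; exact ⟨e.symm ⟨j, hj⟩, by simp⟩
      · rintro ⟨k, rfl⟩; exact ⟨e k, (e k).2, rfl⟩
    suffices h : ∃ a ∉ p, a • m ∈ N by
      obtain ⟨a, ha, h'⟩ := h
      obtain ⟨c, hc⟩ := (Submodule.mem_span_range_iff_exists_fun A).1 (hN ▸ h')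
      exact ⟨a, ha, c, hc⟩
    induction hm using Submodule.span_induction with
    | mem x hx => obtain ⟨j, rfl⟩ := hx; exact hv' j
    | zero => exact ⟨1, fun h => Ideal.IsPrime.ne_top ‹_› ((Ideal.eq_top_iff_one _).2 h), by
        rw [smul_zero]; exact N.zero_mem⟩
    | add x y _ _ hx hy =>
      obtain ⟨a, ha, hax⟩ := hx
      obtain ⟨b, hb, hby⟩ := hy
      refine ⟨a * b, fun h => (Ideal.IsPrime.mem_or_mem ‹_› h).elim ha hb, ?_⟩
      rw [smul_add]
      exact N.add_mem (by rw [mul_comm, mul_smul]; exact N.smul_mem _ hax)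
        (by rw [mul_smul]; exact N.smul_mem _ hby)
    | smul t x _ hx =>
      obtain ⟨a, ha, hax⟩ := hx
      exact ⟨a, ha, by rw [smul_comm]; exact N.smul_mem _ hax⟩

/-- A module killed by the prime ideal of `ξ` is, near `ξ`, a sum of copies of the structure sheaf of the
closure of `ξ`, as far as two out of three properties can tell. -/
theorem exists_sum_structure [IsNoetherian X] (P : X.Modules → Prop)
    (ξ : X) (h23 : ∀ S : ShortComplex X.Modules, S.ShortExact → Coh.IsCoh S.X₁ → Coh.IsCoh S.X₂ → Coh.IsCoh S.X₃ →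
      CohB1.support S.X₂ ⊆ closure {ξ} →
      (P S.X₁ → P S.X₂ → P S.X₃) ∧ (P S.X₁ → P S.X₃ → P S.X₂) ∧ (P S.X₂ → P S.X₃ → P S.X₁))
    (hsmall : ∀ M : X.Modules, Coh.IsCoh M → CohB1.support M ⊆ closure {ξ} → ξ ∉ CohB1.support M → P M)
    {G : X.Modules} (hG : Coh.IsCoh G) (hGs : CohB1.support G ⊆ closure {ξ}) (hξ : ξ ∈ CohB1.support G)
    (hkill : ∀ (V : X.affineOpens) (a : Γ(X, V.1)), ξ ∉ X.basicOpen a → ∀ m : Γ(G, V.1), a • m = 0)
    (hPG : P G) {Z : Scheme.{u}} (i : Z ⟶ X) [IsClosedImmersion i] [IsIntegral Z]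
    (hr : Set.range i = closure {ξ}) :
    ∃ r : ℕ, 0 < r ∧ P (⨁ fun _ : ULift.{u} (Fin r) => (Coh.push i).obj (Coh.structureModule Z)) := by
  classical
  have hξ' : i (genericPoint Z) = ξ :=
    (inseparable_iff_closure_eq.2 ((range_eq_closure i).symm.trans hr)).eq
  obtain ⟨U, hU, hξU⟩ := exists_affine_mem ξ
  set p := hU.primeIdealOf ⟨ξ, hξU⟩ with hpdef
  have hD : ∀ a : Γ(X, U), ξ ∈ X.basicOpen a ↔ a ∉ p.asIdeal := mem_basicOpen_iff_notMem hU hξU
  haveI := finite_sections hG hU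
  obtain ⟨r, s, hind, hgen⟩ := exists_indep_gens (M := Γ(G, U)) p.asIdeal
    fun a ha m => hkill ⟨U, hU⟩ a (fun h => (hD a).1 h ha) m
  refine ⟨r, Nat.pos_of_ne_zero fun h0 => ?_, ?_⟩
  · subst h0
    obtain ⟨m, hm⟩ := (mem_support_iff hG.1 hU hξU).1 hξ
    obtain ⟨a, ha, c, hc⟩ := hgen m
    exact hm a ((hD a).2 ha) (hc.symm.trans (Fintype.sum_empty _))
  set Pb := (Scheme.Modules.pushforward U.ι).obj (G.restrict U.ι)
  let ψ : G ⟶ Pb := (Scheme.Modules.restrictAdjunction U.ι).unit.app G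
  have hPb : Coh.IsQCoh Pb := isQCoh_pushforward U.ι (isQCoh_restrict U.ι hG.1)
  let A := (Coh.push i).obj (Coh.structureModule Z)
  have hA : Coh.IsCoh A := isCoh_push_structure i
  let η : Coh.structureModule X ⟶ A := SheafOfModules.unitToPushforwardObjUnit i.toRingCatSheafHom
  have hη : ∀ (V : X.Opens) (a : Γ(X, V)), η.app V a = i.app V a := fun V a => rfl
  have hηk : ∀ (V : X.Opens) (a : Γ(X, V)), η.app V a = 0 ↔ ξ ∉ X.basicOpen a := fun V a => by
    rw [hη]
    refine not_iff_not.1 ((ne_zero_iff_mem_basicOpen (i.app V a)).trans ?_)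
    rw [not_not, ← hξ', ← Scheme.preimage_basicOpen]
    rfl
  haveI : Epi η := by
    refine Preadditive.epi_of_cokernel_zero (IsZero.eq_of_tgt (isZero_of_app_eq_zero
      (isQCoh_cokernel isQCoh_structureModule hA.1 η) fun V x => ?_) _ _)
    obtain ⟨y, rfl⟩ := app_surjective_of_epi hA.1 (isQCoh_cokernel isQCoh_structureModule hA.1 η)
      (cokernel.π η) V.2 x
    obtain ⟨a, rfl⟩ := i.app_surjective V.1 V.2 y
    exact congr(($(cokernel.condition η)).app V.1 a)
  have hfs : ∀ k, ∀ a : Γ(X, U), a • s k = 0 ↔ a ∈ p.asIdeal := fun k a => by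
    refine ⟨fun h => ?_, fun ha => hkill ⟨U, hU⟩ a (fun h => (hD a).1 h ha) (s k)⟩
    have := hind (Pi.single k a) (by
      rw [Finset.sum_eq_single k (fun b _ hb => by rw [Pi.single_eq_of_ne hb, zero_smul])
        (fun h => absurd (Finset.mem_univ k) h), Pi.single_eq_same]
      exact h) k
    rwa [Pi.single_eq_same] at this
  choose φ hφ1 hφ using fun k => exists_kernel_point hG.1 hU (s k) p (hfs k)
  have hker : ∀ k, kernel.ι η ≫ φ k = 0 := fun k => by
    refine Scheme.Modules.hom_ext _ _ fun W => ?_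
    ext x
    refine eq_zero_of_locally W _ fun q hq => ?_
    obtain ⟨_, ⟨V, hV, rfl⟩, hqV, hVW⟩ := X.isBasis_affineOpens.exists_subset_of_mem_open hq W.2
    refine ⟨V, homOfLE hVW, hqV, ?_⟩
    rw [← map_app_comm]
    refine (hφ k ⟨V, hV⟩ _).2 ?_
    rw [hU.fromSpec_primeIdealOf]
    exact (hηk V _).1 congr(($(kernel.condition η)).app V _)
  choose θ hθ using fun k => (⟨_, ((CokernelCofork.IsColimit.desc'
    (Abelian.epiIsCokernelOfKernel _ (kernelIsKernel η)) (φ k) (hker k))).2⟩ : ∃ θ, η ≫ θ = φ k)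
  let T : ULift.{u} (Fin r) → X.Modules := fun _ => A
  let Θ : (⨁ T) ⟶ Pb := biproduct.desc θ
  have hT : Coh.IsCoh (⨁ T) := isCoh_biproduct T fun _ => hA
  -- the value of `Θ` over `U`
  have hval : ∀ x : Γ(⨁ T, U), ∃ c : ULift.{u} (Fin r) → Γ(X, U),
      (∀ k, η.app U (c k) = (biproduct.π T k).app U x) ∧
        Θ.app U x = ψ.app U (∑ k, c k • s k) := fun x => by
    choose c hc using fun k => i.app_surjective U hU
      (show Γ(Z, i ⁻¹ᵁ U) from (biproduct.π T k).app U x)
    refine ⟨c, fun k => (hη U (c k)).trans (hc k), ?_⟩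
    have h1 : ∀ k, (θ k).app U ((biproduct.π T k).app U x) = ψ.app U (c k • s k) := fun k => by
      rw [Scheme.Modules.Hom.app_smul,
        show ψ.app U (s k) = (φ k).app U (1 : Γ(X, U)) from (hφ1 k).symm,
        ← (show (biproduct.π T k).app U x = _ from ((hη U (c k)).trans (hc k)).symm).symm]
      exact ((congr(($(hθ k)).app U (c k)) : _).trans
        (congrArg ((φ k).app U) (mul_one (c k)).symm)).trans
        (Scheme.Modules.Hom.app_smul (M := Coh.structureModule X) (φ k) (c k) (1 : Γ(X, U)))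
    rw [map_sum, ← Finset.sum_congr rfl (fun k _ => h1 k),
      show Θ = ∑ k, biproduct.π T k ≫ θ k from (biproduct.hom_ext' _ _ fun j => by
        rw [biproduct.ι_desc, Preadditive.comp_sum, Finset.sum_eq_single j (fun b _ hb => by
          rw [← Category.assoc, biproduct.ι_π_ne T (Ne.symm hb), zero_comp])
          (fun h => absurd (Finset.mem_univ j) h)]
        simp), app_sum]
    rfl
  have hTs : CohB1.support (⨁ T) ⊆ closure {ξ} := fun x hx => by
    by_contra hx'
    obtain ⟨W, hW, hxW⟩ := exists_affine_mem x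
    refine ((notMem_support_iff hT.1 hW hxW).2 fun m => ?_) hx
    have hAx := (notMem_support_iff hA.1 hW hxW).1
      (fun h => hx' (hr.le (support_push_subset i isQCoh_structureModule h)))
    choose f hf hf0 using fun k => hAx ((biproduct.π T k).app W m)
    refine ⟨∏ k, f k, ?_, ?_⟩
    · rw [X.mem_basicOpen _ x hxW, map_prod]
      exact IsUnit.prod_univ_iff.2 fun k => (X.mem_basicOpen (f k) x hxW).1 (hf k)
    · have hm : m = ∑ k, (biproduct.ι T k).app W ((biproduct.π T k).app W m) := by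
        refine Eq.trans ?_ (app_sum Finset.univ (fun b => biproduct.π T b ≫ biproduct.ι T b) W m)
        rw [biproduct_total']; rfl
      rw [hm, Finset.smul_sum]
      refine Finset.sum_eq_zero fun k _ => ?_
      rw [← Scheme.Modules.Hom.app_smul, ← Finset.mul_prod_erase _ f (Finset.mem_univ k), mul_comm,
        mul_smul, hf0 k, smul_zero, map_zero]
  -- the common submodule
  have hCψ := isQCoh_cokernel hG.1 hPb ψ
  let c := Θ ≫ cokernel.π ψ
  let K := kernel c
  have hK : Coh.IsCoh K := isCoh_of_mono (kernel.ι c) hT (isQCoh_kernel hT.1 hCψ c)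
  have hKs : CohB1.support K ⊆ closure {ξ} := (mem_support_of_mono hK.1 hT.1 (kernel.ι c)).trans hTs
  have hU0 : ∀ y : Γ(Pb, U), (cokernel.π ψ).app U y = 0 := fun y => by
    obtain ⟨y', hy'⟩ : ∃ y', ψ.app U y' = y := by
      have he : U.ι ''ᵁ (U.ι ⁻¹ᵁ U) = U := by
        rw [U.ι.image_preimage_eq_opensRange_inf, Scheme.Opens.opensRange_ι, inf_idem]
      refine ⟨G.presheaf.map (homOfLE he.ge).op y, ?_⟩
      show ((Scheme.Modules.restrictAdjunction U.ι).unit.app G).app U _ = _
      rw [Scheme.Modules.restrictAdjunction_unit_app_app]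
      exact (map_map (M := G) _ _ (show Γ(G, U.ι ''ᵁ (U.ι ⁻¹ᵁ U)) from y)).trans (map_id' (M := G) _ _)
    rw [← hy']
    exact congr(($(cokernel.condition ψ)).app U y')
  -- `P G → P (image ψ) → P K → P (⨁ T)`
  let I := Abelian.coimage ψ
  have hψk : Coh.IsCoh (kernel ψ) := isCoh_of_mono (kernel.ι ψ) hG (isQCoh_kernel hG.1 hPb ψ)
  have hI : Coh.IsCoh I := isCoh_cokernel hψk.1 hG (kernel.ι ψ)
  have hIs : CohB1.support I ⊆ closure {ξ} :=
    (support_of_epi hG.1 hI.1 (Abelian.coimage.π ψ)).trans hGs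
  have hψ0 : Abelian.factorThruCoimage ψ ≫ cokernel.π ψ = 0 := by
    rw [← cancel_epi (Abelian.coimage.π ψ), ← Category.assoc, Abelian.coimage.fac, cokernel.condition,
      comp_zero]
  have eI : IsColimit (CokernelCofork.ofπ (cokernel.π ψ) hψ0) :=
    CokernelCofork.IsColimit.ofπ' _ _ fun {A} g hg =>
      ⟨cokernel.desc ψ g (by rw [← Abelian.coimage.fac ψ, Category.assoc, hg, comp_zero]),
        cokernel.π_desc _ _ _⟩
  obtain ⟨l, hl⟩ := KernelFork.IsLimit.lift' (Abelian.monoIsKernelOfCokernel _ eI)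
    (kernel.ι c ≫ Θ) ((Category.assoc _ _ _).trans (kernel.condition c))
  have hψI : ∀ m : Γ(G, U), (Abelian.factorThruCoimage ψ).app U ((Abelian.coimage.π ψ).app U m) = ψ.app U m :=
    fun m => congr(($(Abelian.coimage.fac ψ)).app U m)
  have hψinj : Function.Injective (ψ.app U) := unit_restrict_app_injective U G le_rfl
  have hl' : ∀ w : Γ(K, U), (Abelian.factorThruCoimage ψ).app U (l.app U w) = Θ.app U ((kernel.ι c).app U w) :=
    fun w => congr(($hl).app U w)
  refine ((iff_of_small P ξ h23 hsmall hK hT hKs hTs (kernel.ι c)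
    (notMem_support_kernel hK.1 hT.1 _ hU hξU fun w hw => ⟨1, by rw [Scheme.basicOpen_of_isUnit _ isUnit_one]; exact hξU,
      by rw [one_smul]; exact app_injective (kernel.ι c) U (hw.trans (map_zero _).symm)⟩)
    (notMem_support_cokernel hK.1 hT.1 _ hU hξU fun y => ?_)).1 ?_ : P (⨁ T))
  · obtain ⟨w, hw⟩ := exists_kernel_lift c U y (hU0 _)
    exact ⟨1, by rw [Scheme.basicOpen_of_isUnit _ isUnit_one]; exact hξU, w, by rw [hw, one_smul]⟩
  refine (iff_of_small P ξ h23 hsmall hK hI hKs hIs l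
    (notMem_support_kernel hK.1 hI.1 _ hU hξU fun w hw => ?_)
    (notMem_support_cokernel hK.1 hI.1 _ hU hξU fun y => ?_)).2 ?_
  · refine ⟨1, by rw [Scheme.basicOpen_of_isUnit _ isUnit_one]; exact hξU, ?_⟩
    rw [one_smul]
    refine app_injective (kernel.ι c) U ?_
    rw [map_zero]
    obtain ⟨cs, hcs, hΘ⟩ := hval ((kernel.ι c).app U w)
    have h0 : ψ.app U (∑ k, cs k • s k) = 0 :=
      hΘ.symm.trans ((hl' w).symm.trans ((congrArg _ hw).trans (map_zero _)))
    have hc0 := hind cs (hψinj (h0.trans (map_zero _).symm))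
    have hm : ∀ x : Γ(⨁ T, U), x = ∑ k, (biproduct.ι T k).app U ((biproduct.π T k).app U x) := fun x => by
      refine Eq.trans ?_ (app_sum Finset.univ (fun b => biproduct.π T b ≫ biproduct.ι T b) U x)
      rw [biproduct_total']; rfl
    rw [hm ((kernel.ι c).app U w)]
    refine Finset.sum_eq_zero fun k _ => ?_
    rw [← hcs k, (hηk U (cs k)).2 fun h => (hD _).1 h (hc0 k), map_zero]
  · obtain ⟨m, rfl⟩ := app_surjective_of_epi hG.1 hI.1 (Abelian.coimage.π ψ) hU y
    obtain ⟨a, ha, cs, hcs⟩ := hgen m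
    let x : Γ(⨁ T, U) := ∑ k, (biproduct.ι T k).app U (η.app U (cs k))
    obtain ⟨w, hw⟩ := exists_kernel_lift c U x (hU0 _)
    refine ⟨a, (hD a).2 ha, w, app_injective (Abelian.factorThruCoimage ψ) U ?_⟩
    refine (hl' w).trans ?_
    rw [hw, ← Scheme.Modules.Hom.app_smul, hψI, ← hcs, map_sum]
    rw [map_sum]
    refine Finset.sum_congr rfl fun k _ => ?_
    rw [show Θ.app U ((biproduct.ι T k).app U (η.app U (cs k))) = (φ k).app U (cs k) from
      (congr(($(biproduct.ι_desc θ k)).app U (η.app U (cs k))) : _).trans (congr(($(hθ k)).app U (cs k)) : _),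
      Scheme.Modules.Hom.app_smul, show ψ.app U (s k) = (φ k).app U (1 : Γ(X, U)) from (hφ1 k).symm]
    exact (congrArg ((φ k).app U) (mul_one (cs k)).symm).trans
      (Scheme.Modules.Hom.app_smul (M := Coh.structureModule X) (φ k) (cs k) (1 : Γ(X, U)))
  · refine (iff_of_small P ξ h23 hsmall hG hI hGs hIs (Abelian.coimage.π ψ)
      (notMem_support_kernel hG.1 hI.1 _ hU hξU fun m hm => ?_)
      (notMem_support_cokernel hG.1 hI.1 _ hU hξU fun y => ?_)).1 hPG
    · refine ⟨1, by rw [Scheme.basicOpen_of_isUnit _ isUnit_one]; exact hξU, ?_⟩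
      rw [one_smul]
      refine hψinj ?_
      rw [← hψI, hm, map_zero, map_zero]
    · obtain ⟨m, hm⟩ := app_surjective_of_epi hG.1 hI.1 (Abelian.coimage.π ψ) hU y
      exact ⟨1, by rw [Scheme.basicOpen_of_isUnit _ isUnit_one]; exact hξU, m, by rw [hm, one_smul]⟩

end Groth.Agent.QCoh
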