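import Groth.Agent.QCoh.ArtinRees
import Groth.Agent.QCoh.AnnIdeal
import Groth.Agent.QCoh.DevissageSum
import Groth.Prelude.Def_Dual3

/-!
# Comparing quasi-coherent submodules through their sections on affines
-/

universe u

set_option backward.isDefEq.respectTransparency false
set_option backward.isDefEq.respectTransparency.types false

open CategoryTheory CategoryTheory.Limits AlgebraicGeometry TopologicalSpace Opposite

namespace Groth.Agent.QCoh

variable {X : Scheme.{u}}

attribute [local instance] hasFiniteBiproducts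

/-- The map on sections as a linear map. -/
noncomputable def appLin {M N : X.Modules} (φ : M ⟶ N) (U : X.Opens) : Γ(M, U) →ₗ[Γ(X, U)] Γ(N, U) where
  toFun := φ.app U
  map_add' := map_add _
  map_smul' := Scheme.Modules.Hom.app_smul _

theorem appLin_comp {M N K : X.Modules} (φ : M ⟶ N) (ψ : N ⟶ K) (U : X.Opens) :
    appLin (φ ≫ ψ) U = (appLin ψ U).comp (appLin φ U) := rfl

/-- A morphism of quasi-coherent modules vanishes if it does so on an affine cover. -/
theorem hom_eq_zero_of_cover {M N : X.Modules} (hM : Coh.IsQCoh M) (hN : Coh.IsQCoh N) (f : M ⟶ N)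
    {κ : Type*} (U : κ → X.Opens) (haff : ∀ k, IsAffineOpen (U k)) (hU : ∀ x : X, ∃ k, x ∈ U k)
    (h : ∀ k x, f.app (U k) x = 0) : f = 0 := by
  have hQ : Coh.IsQCoh (Abelian.coimage f) := isQCoh_cokernel (isQCoh_kernel hM hN f) hM _
  have hz : IsZero (Abelian.coimage f) := isZero_of_cover hQ U haff hU fun k => by
    refine subsingleton_of_forall_eq 0 fun y => ?_
    obtain ⟨x, rfl⟩ := app_surjective_of_epi hM hQ (Abelian.coimage.π f) (haff k) y
    refine app_injective (Abelian.factorThruCoimage f) (U k) ?_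
    rw [map_zero]
    exact (congr(($(Abelian.coimage.fac f)).app (U k) x) : _).trans (h k x)
  rw [← Abelian.coimage.fac f, hz.eq_of_tgt (Abelian.coimage.π f) 0, zero_comp]

theorem mem_range_iff_cokernel {A M : X.Modules} (a : A ⟶ M) [Mono a] (U : X.Opens) (x : Γ(M, U)) :
    (cokernel.π a).app U x = 0 ↔ x ∈ LinearMap.range (appLin a U) := by
  refine ⟨fun h => ?_, ?_⟩
  · exact exists_app_f_eq (S := ShortComplex.mk a (cokernel.π a) (cokernel.condition a))
      (.mk' (ShortComplex.exact_of_g_is_cokernel _ (cokernelIsCokernel a)) ‹_› inferInstance) U x h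
  · rintro ⟨y, rfl⟩
    exact congr(($(cokernel.condition a)).app U y)

/-- Quasi-coherent submodules are ordered as their sections on an affine cover. -/
theorem subobject_le_of_cover {A B M : X.Modules} (hA : Coh.IsQCoh A) (hB : Coh.IsQCoh B) (hM : Coh.IsQCoh M)
    (a : A ⟶ M) [Mono a] (b : B ⟶ M) [Mono b]
    {κ : Type*} (U : κ → X.Opens) (haff : ∀ k, IsAffineOpen (U k)) (hU : ∀ x : X, ∃ k, x ∈ U k)
    (h : ∀ k, LinearMap.range (appLin a (U k)) ≤ LinearMap.range (appLin b (U k))) :
    Subobject.mk a ≤ Subobject.mk b := by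
  have h0 : a ≫ cokernel.π b = 0 := hom_eq_zero_of_cover hA (isQCoh_cokernel hB hM b) _ U haff hU
    fun k x => (mem_range_iff_cokernel b (U k) _).2 (h k ⟨x, rfl⟩)
  obtain ⟨l, hl⟩ := KernelFork.IsLimit.lift' (Abelian.monoIsKernelOfCokernel _ (cokernelIsCokernel b)) a h0
  exact Subobject.mk_le_mk_of_comm l hl

theorem subobject_eq_of_cover {A B M : X.Modules} (hA : Coh.IsQCoh A) (hB : Coh.IsQCoh B) (hM : Coh.IsQCoh M)
    (a : A ⟶ M) [Mono a] (b : B ⟶ M) [Mono b]
    {κ : Type*} (U : κ → X.Opens) (haff : ∀ k, IsAffineOpen (U k)) (hU : ∀ x : X, ∃ k, x ∈ U k)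
    (h : ∀ k, LinearMap.range (appLin a (U k)) = LinearMap.range (appLin b (U k))) :
    Subobject.mk a = Subobject.mk b :=
  (subobject_le_of_cover hA hB hM a b U haff hU fun k => (h k).le).antisymm
    (subobject_le_of_cover hB hA hM b a U haff hU fun k => (h k).ge)

/-- The intersection of two submodules, as a kernel. -/
noncomputable def interι {A B M : X.Modules} (a : A ⟶ M) (b : B ⟶ M) :
    kernel (biprod.lift (cokernel.π a) (cokernel.π b)) ⟶ M := kernel.ι _

instance {A B M : X.Modules} (a : A ⟶ M) (b : B ⟶ M) : Mono (interι a b) := by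
  unfold interι; infer_instance

theorem mk_interι {A B M : X.Modules} (a : A ⟶ M) [Mono a] (b : B ⟶ M) [Mono b] :
    Subobject.mk (interι a b) = Subobject.mk a ⊓ Subobject.mk b := by
  refine le_antisymm (le_inf ?_ ?_) ?_
  · have h0 : interι a b ≫ cokernel.π a = 0 := by
      have := kernel.condition (biprod.lift (cokernel.π a) (cokernel.π b)) =≫ biprod.fst
      rwa [Category.assoc, biprod.lift_fst, zero_comp] at this
    obtain ⟨l, hl⟩ := KernelFork.IsLimit.lift' (Abelian.monoIsKernelOfCokernel _ (cokernelIsCokernel a)) _ h0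
    exact Subobject.mk_le_mk_of_comm l hl
  · have h0 : interι a b ≫ cokernel.π b = 0 := by
      have := kernel.condition (biprod.lift (cokernel.π a) (cokernel.π b)) =≫ biprod.snd
      rwa [Category.assoc, biprod.lift_snd, zero_comp] at this
    obtain ⟨l, hl⟩ := KernelFork.IsLimit.lift' (Abelian.monoIsKernelOfCokernel _ (cokernelIsCokernel b)) _ h0
    exact Subobject.mk_le_mk_of_comm l hl
  · set s := Subobject.mk a ⊓ Subobject.mk b
    have ha : s.arrow ≫ cokernel.π a = 0 := by
      rw [← Subobject.ofLE_arrow (inf_le_left : s ≤ Subobject.mk a), Category.assoc,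
        ← Subobject.underlyingIso_hom_comp_eq_mk a, Category.assoc, cokernel.condition, comp_zero, comp_zero]
    have hb : s.arrow ≫ cokernel.π b = 0 := by
      rw [← Subobject.ofLE_arrow (inf_le_right : s ≤ Subobject.mk b), Category.assoc,
        ← Subobject.underlyingIso_hom_comp_eq_mk b, Category.assoc, cokernel.condition, comp_zero, comp_zero]
    exact Subobject.le_mk_of_comm (kernel.lift _ s.arrow (by
      apply biprod.hom_ext <;> simp [ha, hb])) (kernel.lift_ι _ _ _)

theorem isQCoh_inter {A B M : X.Modules} (hA : Coh.IsQCoh A) (hB : Coh.IsQCoh B) (hM : Coh.IsQCoh M)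
    (a : A ⟶ M) (b : B ⟶ M) : Coh.IsQCoh (kernel (biprod.lift (cokernel.π a) (cokernel.π b))) := by
  have h₁ := isQCoh_cokernel hA hM a
  have h₂ := isQCoh_cokernel hB hM b
  let S : ShortComplex X.Modules := ShortComplex.mk
    (biprod.inl : cokernel a ⟶ cokernel a ⊞ cokernel b) biprod.snd biprod.inl_snd
  have hS : S.ShortExact := (ShortComplex.Splitting.ofHasBinaryBiproduct _ _).shortExact
  exact isQCoh_kernel hM (isQCoh_X₂ hS h₁ h₂) _

theorem range_interι {A B M : X.Modules} (a : A ⟶ M) [Mono a] (b : B ⟶ M) [Mono b] (U : X.Opens) :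
    LinearMap.range (appLin (interι a b) U) =
      LinearMap.range (appLin a U) ⊓ LinearMap.range (appLin b U) := by
  ext x
  rw [Submodule.mem_inf, ← mem_range_iff_cokernel a U x, ← mem_range_iff_cokernel b U x]
  constructor
  · rintro ⟨y, rfl⟩
    have h := congr(($(kernel.condition (biprod.lift (cokernel.π a) (cokernel.π b)))).app U y)
    refine ⟨?_, ?_⟩
    · refine (congr(($(biprod.lift_fst (cokernel.π a) (cokernel.π b))).app U ((interι a b).app U y)) :
        _).symm.trans ?_
      exact (congrArg ((biprod.fst : cokernel a ⊞ cokernel b ⟶ cokernel a).app U) h).trans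
        (map_zero ((biprod.fst : cokernel a ⊞ cokernel b ⟶ cokernel a).app U).hom)
    · refine (congr(($(biprod.lift_snd (cokernel.π a) (cokernel.π b))).app U ((interι a b).app U y)) :
        _).symm.trans ?_
      exact (congrArg ((biprod.snd : cokernel a ⊞ cokernel b ⟶ cokernel b).app U) h).trans
        (map_zero ((biprod.snd : cokernel a ⊞ cokernel b ⟶ cokernel b).app U).hom)
  · rintro ⟨h1, h2⟩
    refine exists_kernel_lift _ U x ?_
    have ht : biprod.fst ≫ biprod.inl + biprod.snd ≫ biprod.inr = 𝟙 (cokernel a ⊞ cokernel b) := biprod.total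
    have h3 : biprod.lift (cokernel.π a) (cokernel.π b) =
        cokernel.π a ≫ biprod.inl + cokernel.π b ≫ biprod.inr := by
      apply biprod.hom_ext <;> simp
    rw [h3]
    show (biprod.inl : cokernel a ⟶ cokernel a ⊞ cokernel b).app U ((cokernel.π a).app U x) +
      (biprod.inr : cokernel b ⟶ cokernel a ⊞ cokernel b).app U ((cokernel.π b).app U x) = 0
    rw [h1, h2, map_zero, map_zero, add_zero]

/-- Sections of `J • N` on an affine. -/
theorem range_idealMul_comp (J : X.IdealSheafData) {N M : X.Modules} (hN : Coh.IsQCoh N) (j : N ⟶ M)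
    {U : X.Opens} (hU : IsAffineOpen U) :
    LinearMap.range (appLin (Dual3.idealMulι J N ≫ j) U) =
      J.ideal ⟨U, hU⟩ • LinearMap.range (appLin j U) := by
  rw [appLin_comp, LinearMap.range_comp, ← Submodule.map_top (appLin j U), ← Submodule.map_smul'']
  congr 1
  ext x
  have key := ((unit_app_closed J.subschemeι hN hU).2 x)
  rw [Scheme.IdealSheafData.ker_subschemeι] at key
  rw [← key]
  constructor
  · rintro ⟨w, rfl⟩
    exact congr(($(kernel.condition ((Scheme.Modules.pullbackPushforwardAdjunction J.subschemeι).unit.app N))).app U w)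
  · intro h
    exact exists_kernel_lift _ U x h

theorem range_idealMul (J : X.IdealSheafData) {M : X.Modules} (hM : Coh.IsQCoh M) {U : X.Opens}
    (hU : IsAffineOpen U) :
    LinearMap.range (appLin (Dual3.idealMulι J M) U) =
      J.ideal ⟨U, hU⟩ • (⊤ : Submodule Γ(X, U) Γ(M, U)) := by
  have h := range_idealMul_comp J hM (𝟙 M) hU
  rw [Category.comp_id] at h
  rw [h]
  congr 1
  exact LinearMap.range_eq_top.2 fun x => ⟨x, rfl⟩

theorem isQCoh_idealMul (J : X.IdealSheafData) {M : X.Modules} (hM : Coh.IsQCoh M) :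
    Coh.IsQCoh ((Dual3.idealMul J).obj M) :=
  isQCoh_kernel hM
    (show Coh.IsQCoh ((Scheme.Modules.pullback J.subschemeι ⋙
        Scheme.Modules.pushforward J.subschemeι).obj M) from
      isQCoh_pushforward J.subschemeι (isQCoh_pullback J.subschemeι hM)) _

/-- A high power of an ideal kills a coherent module supported in its zero set. -/
theorem exists_pow_kills [IsNoetherian X] {N : X.Modules} (hN : Coh.IsCoh N) (J : X.IdealSheafData)
    (hs : CohB1.support N ⊆ (J.support : Set X)) :
    ∃ n : ℕ, ∀ V : X.affineOpens, J.ideal V ^ n ≤ Module.annihilator Γ(X, V.1) Γ(N, V.1) := by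
  classical
  choose U hU hxU using fun x : X => exists_affine_mem x
  obtain ⟨t, ht⟩ := isCompact_univ.elim_finite_subcover (fun x : X => (U x : Set X))
    (fun x => (U x).2) (fun x _ => Set.mem_iUnion.2 ⟨x, hxU x⟩)
  choose m hm using fun x => exists_pow_le_annihilator hN J hs ⟨U x, hU x⟩
  refine ⟨t.sup m, fun V => ?_⟩
  have hle : J ^ t.sup m ≤ annIdeal hN.1 hN.2 := by
    refine Scheme.IdealSheafData.le_of_iSup_eq_top (fun x : t => (⟨U x.1, hU x.1⟩ : X.affineOpens))
      (eq_top_iff.2 fun p _ => ?_) fun x => ?_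
    · obtain ⟨x, hx, hp⟩ := Set.mem_iUnion₂.1 (ht (Set.mem_univ p))
      exact Opens.mem_iSup.2 ⟨⟨x, hx⟩, hp⟩
    · rw [Scheme.IdealSheafData.ideal_pow, Pi.pow_apply]
      exact (Ideal.pow_le_pow_right (Finset.le_sup (f := m) x.2)).trans (hm x.1)
  have := hle V
  rw [Scheme.IdealSheafData.ideal_pow, Pi.pow_apply] at this
  exact this

end Groth.Agent.QCoh
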