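import Groth.Agent.QCoh.Submod
import Groth.Agent.QCoh.Qcqs
import Groth.Agent.QCoh.FT
import Groth.Agent.QCoh.SubCompare

/-!
# Extending quasi-coherent submodules of finite type

A submodule of a quasi-coherent module is described on an open `W` by finite generating sets over
affine opens; such a description extends across an affine open meeting `W` in a quasi-compact open.
-/

universe u v

set_option backward.isDefEq.respectTransparency false
set_option backward.isDefEq.respectTransparency.types false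

open CategoryTheory CategoryTheory.Limits AlgebraicGeometry TopologicalSpace Opposite

namespace Groth.Agent.QCoh

variable {X : Scheme.{u}} {G : X.Modules}

/-- Restriction of sections of a module. -/
noncomputable abbrev rs (G : X.Modules) {U V : X.Opens} (h : V ≤ U) (s : Γ(G, U)) : Γ(G, V) :=
  G.presheaf.map (homOfLE h).op s

/-- Restriction of functions. -/
noncomputable abbrev rf (X : Scheme.{u}) {U V : X.Opens} (h : V ≤ U) (a : Γ(X, U)) : Γ(X, V) :=
  X.presheaf.map (homOfLE h).op a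

theorem rs_rs {U V W : X.Opens} (h : V ≤ U) (h' : W ≤ V) (s : Γ(G, U)) :
    rs G h' (rs G h s) = rs G (h'.trans h) s := map_map _ _ _

theorem rs_self {U : X.Opens} (h : U ≤ U) (s : Γ(G, U)) : rs G h s = s := map_id' _ _

theorem rs_smul {U V : X.Opens} (h : V ≤ U) (a : Γ(X, U)) (s : Γ(G, U)) :
    rs G h (a • s) = rf X h a • rs G h s := map_smul' _ _ _

theorem rs_mem_span {U V : X.Opens} (h : V ≤ U) {T : Set Γ(G, U)} {s : Γ(G, U)}
    (hs : s ∈ Submodule.span Γ(X, U) T) : rs G h s ∈ Submodule.span Γ(X, V) (rs G h '' T) := by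
  induction hs using Submodule.span_induction with
  | mem x hx => exact Submodule.subset_span ⟨x, hx, rfl⟩
  | zero => rw [rs, map_zero]; exact zero_mem _
  | add x y _ _ hx hy => rw [rs, map_add]; exact add_mem hx hy
  | smul a x _ hx => rw [rs_smul]; exact Submodule.smul_mem _ _ hx

theorem span_image_rs_le {U V W : X.Opens} (h : V ≤ U) (h' : W ≤ V) {T : Set Γ(G, U)} {s : Γ(G, V)}
    (hs : s ∈ Submodule.span Γ(X, V) (rs G h '' T)) :
    rs G h' s ∈ Submodule.span Γ(X, W) (rs G (h'.trans h) '' T) := by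
  have := rs_mem_span h' hs
  rwa [Set.image_image, show (fun x => rs G h' (rs G h x)) = rs G (h'.trans h) from
    funext fun x => rs_rs h h' x] at this

theorem isUnit_rf_basicOpen {V : X.Opens} (f : Γ(X, V)) :
    IsUnit (rf X (X.basicOpen_le f) f) :=
  X.toRingedSpace.isUnit_res_basicOpen f

/-- An element of the span of restrictions to a basic open lifts, up to a power, to the span. -/
theorem exists_lift_span {V : X.Opens} (hV : IsAffineOpen V) (f : Γ(X, V)) (T : Set Γ(G, V))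
    {y : Γ(G, X.basicOpen f)}
    (hy : y ∈ Submodule.span Γ(X, X.basicOpen f) (rs G (X.basicOpen_le f) '' T)) :
    ∃ (n : ℕ), ∃ u ∈ Submodule.span Γ(X, V) T,
      rs G (X.basicOpen_le f) u = rf X (X.basicOpen_le f) f ^ n • y := by
  induction hy using Submodule.span_induction with
  | mem x hx =>
    obtain ⟨t, ht, rfl⟩ := hx
    exact ⟨0, t, Submodule.subset_span ht, by rw [pow_zero, one_smul]⟩
  | zero => exact ⟨0, 0, zero_mem _, by rw [rs, map_zero, smul_zero]⟩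
  | add x y _ _ hx hy =>
    obtain ⟨n, u, hu, hux⟩ := hx
    obtain ⟨m, w, hw, hwy⟩ := hy
    refine ⟨n + m, f ^ m • u + f ^ n • w,
      add_mem (Submodule.smul_mem _ _ hu) (Submodule.smul_mem _ _ hw), ?_⟩
    rw [rs, map_add, ← rs, ← rs, rs_smul, rs_smul, hux, hwy]
    simp only [rf, map_pow, smul_add, ← mul_smul, ← pow_add, Nat.add_comm m n]
  | smul a x _ hx =>
    obtain ⟨n, u, hu, hux⟩ := hx
    haveI := hV.isLocalization_basicOpen f
    obtain ⟨⟨b, ⟨_, k, rfl⟩⟩, hb⟩ := IsLocalization.surj (Submonoid.powers f) a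
    refine ⟨k + n, b • u, Submodule.smul_mem _ _ hu, ?_⟩
    have hb' : rf X (X.basicOpen_le f) b = rf X (X.basicOpen_le f) f ^ k * a := by
      rw [rf, ← map_pow, mul_comm]
      exact hb.symm
    rw [rs_smul, hux, hb', pow_add, ← mul_smul, ← mul_smul]
    congr 1; ring

/-- If the restriction to a basic open is in the span, a power multiple is in the span. -/
theorem exists_pow_smul_mem_span (hG : Coh.IsQCoh G) {V : X.Opens} (hV : IsAffineOpen V)
    (f : Γ(X, V)) (T : Set Γ(G, V)) (z : Γ(G, V))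
    (hz : rs G (X.basicOpen_le f) z ∈
      Submodule.span Γ(X, X.basicOpen f) (rs G (X.basicOpen_le f) '' T)) :
    ∃ n : ℕ, f ^ n • z ∈ Submodule.span Γ(X, V) T := by
  obtain ⟨n, u, hu, huz⟩ := exists_lift_span hV f T hz
  have h0 : rs G (X.basicOpen_le f) (f ^ n • z - u) = 0 := by
    rw [rs, map_sub, ← rs, ← rs, rs_smul, huz, rf, map_pow]
    exact sub_self _
  obtain ⟨m, hm⟩ := exists_pow_smul_eq_zero hG hV f _ h0
  refine ⟨m + n, ?_⟩
  rw [smul_sub, sub_eq_zero, ← mul_smul, ← pow_add] at hm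
  exact hm ▸ Submodule.smul_mem _ _ hu

/-- On an affine open, local membership in the span of a set of sections is membership. -/
theorem mem_span_of_locally (hG : Coh.IsQCoh G) {V : X.Opens} (hV : IsAffineOpen V) (T : Set Γ(G, V))
    (s : Γ(G, V)) (h : ∀ x ∈ V, ∃ (P : X.Opens) (hP : P ≤ V), x ∈ P ∧
      rs G hP s ∈ Submodule.span Γ(X, P) (rs G hP '' T)) :
    s ∈ Submodule.span Γ(X, V) T := by
  let I : Ideal Γ(X, V) := (Submodule.span Γ(X, V) T).comap (LinearMap.toSpanSingleton _ _ s)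
  have hI : I.radical = ⊤ := by
    refine top_unique ((hV.self_le_iSup_basicOpen_iff (s := (I.radical : Set Γ(X, V)))).1 ?_
      |>.ge.trans (Ideal.span_le.2 subset_rfl))
    intro x hx
    obtain ⟨P, hP, hxP, hsP⟩ := h x hx
    obtain ⟨f, hfP, hxf⟩ := hV.exists_basicOpen_le ⟨x, hxP⟩ hx
    have h1 := span_image_rs_le hP hfP hsP
    rw [rs_rs] at h1
    obtain ⟨n, hn⟩ := exists_pow_smul_mem_span hG hV f T s h1
    exact Opens.mem_iSup.2 ⟨⟨f, ⟨n, hn⟩⟩, hxf⟩
  have h1 : (1 : Γ(X, V)) ∈ I := (Ideal.eq_top_iff_one _).1 (Ideal.radical_eq_top.1 hI)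
  simpa [I] using h1

/-- The submodule `N` is generated on the open `V` by the finite family `T`. -/
structure GenBy (N : SubMod G) (V : X.Opens) (T : Set Γ(G, V)) : Prop where
  fin : T.Finite
  mem : ∀ t ∈ T, t ∈ N.mem V
  gen : ∀ (O : X.Opens) (h : O ≤ V) (s : Γ(G, O)), s ∈ N.mem O → ∀ x ∈ O,
    ∃ (P : X.Opens) (hP : P ≤ O), x ∈ P ∧
      rs G hP s ∈ Submodule.span Γ(X, P) (rs G (hP.trans h) '' T)

theorem GenBy.restrict {N : SubMod G} {V : X.Opens} {T : Set Γ(G, V)} (hT : GenBy N V T)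
    {D : X.Opens} (h : D ≤ V) : GenBy N D (rs G h '' T) := by
  refine ⟨hT.fin.image _, ?_, fun O hO s hs x hx => ?_⟩
  · rintro _ ⟨t, ht, rfl⟩
    exact N.map_mem h (hT.mem t ht)
  · obtain ⟨P, hP, hxP, hsP⟩ := hT.gen O (hO.trans h) s hs x hx
    refine ⟨P, hP, hxP, ?_⟩
    rwa [Set.image_image, show (fun t => rs G (hP.trans hO) (rs G h t)) =
      rs G (hP.trans (hO.trans h)) from funext fun t => rs_rs h _ t]

theorem GenBy.mem_span {N : SubMod G} (hG : Coh.IsQCoh G) {V : X.Opens} {T : Set Γ(G, V)}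
    (hT : GenBy N V T) (hV : IsAffineOpen V) {s : Γ(G, V)} (hs : s ∈ N.mem V) :
    s ∈ Submodule.span Γ(X, V) T :=
  mem_span_of_locally hG hV T s fun x hx => hT.gen V le_rfl s hs x hx

theorem GenBy.span_le {N : SubMod G} {V : X.Opens} {T : Set Γ(G, V)} (hT : GenBy N V T) :
    Submodule.span Γ(X, V) T ≤ N.mem V := Submodule.span_le.2 hT.mem

theorem GenBy.congr {N N' : SubMod G} {V : X.Opens} {T : Set Γ(G, V)} (hT : GenBy N V T)
    (h : ∀ O, O ≤ V → N.mem O = N'.mem O) : GenBy N' V T :=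
  ⟨hT.fin, fun t ht => h V le_rfl ▸ hT.mem t ht,
    fun O hO s hs => hT.gen O hO s ((h O hO).symm ▸ hs)⟩

/-- The submodule is quasi-coherent of finite type on `W`. -/
def FTOn (N : SubMod G) (W : X.Opens) : Prop :=
  ∀ x ∈ W, ∃ V : X.Opens, IsAffineOpen V ∧ x ∈ V ∧ V ≤ W ∧ ∃ T : Set Γ(G, V), GenBy N V T

theorem FTOn.exists_gen_le {N : SubMod G} {W : X.Opens} (hN : FTOn N W) {V : X.Opens}
    (hV : IsAffineOpen V) {x : X} (hx : x ∈ W) (hxV : x ∈ V) :
    ∃ f : Γ(X, V), X.basicOpen f ≤ W ∧ x ∈ X.basicOpen f ∧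
      ∃ T : Set Γ(G, X.basicOpen f), GenBy N (X.basicOpen f) T := by
  obtain ⟨V', _, hxV', hV'W, T, hT⟩ := hN x hx
  obtain ⟨f, hf, hxf⟩ := hV.exists_basicOpen_le ⟨x, hxV'⟩ hxV
  exact ⟨f, hf.trans hV'W, hxf, _, hT.restrict hf⟩

theorem pow_smul_mem_of_le {N : SubMod G} {V : X.Opens} {f : Γ(X, V)} {z : Γ(G, V)} {P : X.Opens}
    (h : P ≤ V) {n m : ℕ} (hnm : n ≤ m) (hz : rs G h (f ^ n • z) ∈ N.mem P) :
    rs G h (f ^ m • z) ∈ N.mem P := by
  obtain ⟨k, rfl⟩ := Nat.exists_eq_add_of_le' hnm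
  rw [pow_add, mul_smul, rs_smul]
  exact Submodule.smul_mem _ _ hz

/-- A section lying in `N` on a basic open lies in `N` on a quasi-compact part of `W`, up to a power. -/
theorem exists_pow_smul_mem {N : SubMod G} {W V : X.Opens} (hG : Coh.IsQCoh G) (hN : FTOn N W)
    (hV : IsAffineOpen V) {K : X.Opens} (hKV : K ≤ V) (hKW : K ≤ W) (hK : IsCompact (K : Set X))
    (f : Γ(X, V)) (z : Γ(G, V))
    (hz : rs G (inf_le_right.trans hKV) z ∈ N.mem (X.basicOpen f ⊓ K)) :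
    ∃ n : ℕ, rs G hKV (f ^ n • z) ∈ N.mem K := by
  have h : ∀ x : K, ∃ g : Γ(X, V), X.basicOpen g ≤ K ∧ x.1 ∈ X.basicOpen g ∧
      ∃ n : ℕ, rs G (X.basicOpen_le g) (f ^ n • z) ∈ N.mem (X.basicOpen g) := by
    rintro ⟨x, hx⟩
    obtain ⟨g₀, -, hxg₀, T₀, hT₀⟩ := hN.exists_gen_le hV (hKW hx) (hKV hx)
    obtain ⟨g, hg, hxg⟩ := hV.exists_basicOpen_le (V := X.basicOpen g₀ ⊓ K) ⟨x, ⟨hxg₀, hx⟩⟩ (hKV hx)
    have hgK : X.basicOpen g ≤ K := hg.trans inf_le_right
    refine ⟨g, hgK, hxg, ?_⟩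
    have hT := hT₀.restrict (hg.trans inf_le_left)
    have hD : IsAffineOpen (X.basicOpen g) := hV.basicOpen g
    let f' := rf X (X.basicOpen_le g) f
    have he : X.basicOpen f' = X.basicOpen g ⊓ X.basicOpen f := Scheme.basicOpen_res _ _ _
    have hle : X.basicOpen f' ≤ X.basicOpen f ⊓ K :=
      le_inf (he.le.trans inf_le_right) ((he.le.trans inf_le_left).trans hgK)
    have h1 := N.map_mem hle hz
    change rs G hle (rs G _ z) ∈ N.mem _ at h1
    rw [rs_rs] at h1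
    have h2 : rs G (X.basicOpen_le f') (rs G (X.basicOpen_le g) z) ∈
        N.mem (X.basicOpen f') := by rwa [rs_rs]
    obtain ⟨n, hn⟩ := exists_pow_smul_mem_span hG hD f' _ _
      ((hT.restrict (X.basicOpen_le f')).mem_span hG (hD.basicOpen f') h2)
    refine ⟨n, ?_⟩
    rw [rs_smul, rf, map_pow]
    exact hT.span_le hn
  choose g hgK hxg n hn using h
  obtain ⟨F, hF⟩ := hK.elim_finite_subcover (fun x : K => (X.basicOpen (g x) : Set X))
    (fun x => (X.basicOpen (g x)).2) fun x hx => Set.mem_iUnion.2 ⟨(⟨x, hx⟩ : K), hxg (⟨x, hx⟩ : K)⟩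
  refine ⟨F.sup n, N.of_locally _ _ fun x hx => ?_⟩
  obtain ⟨y, hy, hxy⟩ := Set.mem_iUnion₂.1 (hF hx)
  refine ⟨X.basicOpen (g y), hgK y, hxy, ?_⟩
  change rs G (hgK y) (rs G hKV _) ∈ N.mem _
  rw [rs_rs]
  exact pow_smul_mem_of_le _ (Finset.le_sup hy) (hn y)

/-- Extension of a submodule of finite type across an affine open. -/
theorem exists_ft_step (hG : Coh.IsQCoh G) {N : SubMod G} {W : X.Opens} (hN : FTOn N W) {V : X.Opens}
    (hV : IsAffineOpen V) (hVW : IsCompact ((V ⊓ W : X.Opens) : Set X)) :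
    ∃ N' : SubMod G, (∀ O, O ≤ W → N'.mem O = N.mem O) ∧ FTOn N' (W ⊔ V) := by
  have h : ∀ x : (V ⊓ W : X.Opens), ∃ f : Γ(X, V), X.basicOpen f ≤ W ∧ x.1 ∈ X.basicOpen f ∧
      ∃ T : Set Γ(G, X.basicOpen f), GenBy N (X.basicOpen f) T :=
    fun x => hN.exists_gen_le hV x.2.2 x.2.1
  choose f hfW hxf T hT using h
  obtain ⟨F, hF⟩ := hVW.elim_finite_subcover (fun x : (V ⊓ W : X.Opens) => (X.basicOpen (f x) : Set X))
    (fun x => (X.basicOpen (f x)).2)
    fun x hx => Set.mem_iUnion.2 ⟨(⟨x, hx⟩ : (V ⊓ W : X.Opens)), hxf _⟩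
  have hz : ∀ (x : (V ⊓ W : X.Opens)) (t : T x), ∃ z : Γ(G, V),
      rs G inf_le_left z ∈ N.mem (V ⊓ W) ∧
      t.1 ∈ Submodule.span Γ(X, X.basicOpen (f x)) {rs G (X.basicOpen_le (f x)) z} := by
    intro x t
    obtain ⟨n, z, hz⟩ := exists_pow_smul_eq_map hG hV (f x) t.1
    have hle : X.basicOpen (f x) ⊓ (V ⊓ W) ≤ X.basicOpen (f x) := inf_le_left
    have hzN : rs G (inf_le_right.trans inf_le_left) z ∈ N.mem (X.basicOpen (f x) ⊓ (V ⊓ W)) := by
      rw [← rs_rs (X.basicOpen_le (f x)) hle]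
      refine N.map_mem hle ?_
      rw [rs, hz]
      exact Submodule.smul_mem _ _ ((hT x).mem t.1 t.2)
    obtain ⟨m, hm⟩ := exists_pow_smul_mem hG hN hV inf_le_left inf_le_right hVW (f x) z hzN
    refine ⟨f x ^ m • z, hm, ?_⟩
    have hu := (isUnit_rf_basicOpen (f x)).pow (m + n)
    have he : rs G (X.basicOpen_le (f x)) (f x ^ m • z) =
        rf X (X.basicOpen_le (f x)) (f x) ^ (m + n) • t.1 := by
      rw [rs_smul, rs, hz, pow_add, mul_smul]
      simp only [rf, map_pow]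
    rw [he, Submodule.span_singleton_smul_eq hu]
    exact Submodule.mem_span_singleton_self _
  choose z hzN hzT using hz
  let TV : Set Γ(G, V) := ⋃ x ∈ F, Set.range (z x)
  have hTVfin : TV.Finite := F.finite_toSet.biUnion fun x _ => by
    have := (hT x).fin.to_subtype
    exact Set.finite_range _
  let N' : SubMod G :=
  { mem := fun O =>
    { carrier := {s | rs G inf_le_left s ∈ N.mem (O ⊓ W) ∧ ∀ x ∈ O, x ∈ V →
        ∃ (P : X.Opens) (hPO : P ≤ O) (hPV : P ≤ V), x ∈ P ∧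
          rs G hPO s ∈ Submodule.span Γ(X, P) (rs G hPV '' TV)}
      zero_mem' := ⟨by rw [rs, map_zero]; exact zero_mem _, fun x hx hxV =>
        ⟨O ⊓ V, inf_le_left, inf_le_right, ⟨hx, hxV⟩, by rw [rs, map_zero]; exact zero_mem _⟩⟩
      add_mem' := fun {a b} ha hb => ⟨by rw [rs, map_add]; exact add_mem ha.1 hb.1, fun x hx hxV => by
        obtain ⟨P, hPO, hPV, hxP, hP⟩ := ha.2 x hx hxV
        obtain ⟨Q, hQO, hQV, hxQ, hQ⟩ := hb.2 x hx hxV
        refine ⟨P ⊓ Q, inf_le_left.trans hPO, inf_le_left.trans hPV, ⟨hxP, hxQ⟩, ?_⟩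
        rw [rs, map_add]
        refine add_mem ?_ ?_
        · have := span_image_rs_le hPV (inf_le_left : P ⊓ Q ≤ P) hP
          rwa [rs_rs] at this
        · have := span_image_rs_le hQV (inf_le_right : P ⊓ Q ≤ Q) hQ
          rwa [rs_rs] at this⟩
      smul_mem' := fun a s hs => ⟨by rw [rs_smul]; exact Submodule.smul_mem _ _ hs.1, fun x hx hxV => by
        obtain ⟨P, hPO, hPV, hxP, hP⟩ := hs.2 x hx hxV
        exact ⟨P, hPO, hPV, hxP, by rw [rs_smul]; exact Submodule.smul_mem _ _ hP⟩⟩ }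
    map_mem := fun {O O'} i {s} hs => ⟨by
        have := N.map_mem (inf_le_inf_right W i) hs.1
        change rs G _ (rs G _ s) ∈ _ at this
        rw [rs_rs] at this
        change rs G _ (rs G i s) ∈ _
        rwa [rs_rs], fun x hx hxV => by
        obtain ⟨P, hPO, hPV, hxP, hP⟩ := hs.2 x (i hx) hxV
        refine ⟨P ⊓ O', inf_le_right, inf_le_left.trans hPV, ⟨hxP, hx⟩, ?_⟩
        have := span_image_rs_le hPV (inf_le_left : P ⊓ O' ≤ P) hP
        rw [rs_rs] at this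
        change rs G _ (rs G i s) ∈ _
        rwa [rs_rs]⟩
    of_locally := fun O s hs => ⟨N.of_locally _ _ fun x hx => by
        obtain ⟨P, i, hxP, hP, -⟩ := hs x hx.1
        refine ⟨P ⊓ W, inf_le_inf_right W i, ⟨hxP, hx.2⟩, ?_⟩
        change rs G _ (rs G _ s) ∈ _
        change rs G _ (rs G i s) ∈ _ at hP
        rw [rs_rs] at hP ⊢
        exact hP, fun x hx hxV => by
        obtain ⟨P, i, hxP, -, hP⟩ := hs x hx
        obtain ⟨Q, hQP, hQV, hxQ, hQ⟩ := hP x hxP hxV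
        change rs G _ (rs G i s) ∈ _ at hQ
        rw [rs_rs] at hQ
        exact ⟨Q, hQP.trans i, hQV, hxQ, hQ⟩⟩ }
  have hW : ∀ O, O ≤ W → N'.mem O = N.mem O := fun O hO => by
    ext s
    refine ⟨fun hs => ?_, fun hs => ⟨N.map_mem _ hs, fun x hx hxV => ?_⟩⟩
    · have := N.map_mem (le_inf le_rfl hO) hs.1
      change rs G _ (rs G _ s) ∈ _ at this
      rwa [rs_rs, rs_self] at this
    · obtain ⟨y, hy, hxy⟩ := Set.mem_iUnion₂.1 (hF ⟨hxV, hO hx⟩)
      obtain ⟨P, hP, hxP, hsP⟩ := (hT y).gen (O ⊓ X.basicOpen (f y)) inf_le_right _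
        (N.map_mem inf_le_left hs) x ⟨hx, hxy⟩
      change rs G hP (rs G _ s) ∈ _ at hsP
      rw [rs_rs] at hsP
      have hPf : P ≤ X.basicOpen (f y) := hP.trans inf_le_right
      refine ⟨P, hP.trans inf_le_left, hPf.trans (X.basicOpen_le _), hxP,
        Submodule.span_le.2 ?_ hsP⟩
      rintro _ ⟨t, ht, rfl⟩
      refine span_image_rs_le (X.basicOpen_le (f y)) hPf (Submodule.span_mono ?_ (hzT y ⟨t, ht⟩))
      exact Set.singleton_subset_iff.2 ⟨_, Set.mem_biUnion hy ⟨_, rfl⟩, rfl⟩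
  refine ⟨N', hW, fun x hx => ?_⟩
  rcases hx with hx | hx
  · obtain ⟨V', hV', hxV', hle, T', hT'⟩ := hN x hx
    exact ⟨V', hV', hxV', hle.trans le_sup_left, T', hT'.congr fun O hO => (hW O (hO.trans hle)).symm⟩
  · refine ⟨V, hV, hx, le_sup_right, TV, hTVfin, fun t ht => ⟨?_, fun y hy _ => ?_⟩,
      fun O hO s hs y hy => ?_⟩
    · obtain ⟨y, _, t', rfl⟩ := Set.mem_iUnion₂.1 ht
      exact hzN y t'
    · exact ⟨V, le_rfl, le_rfl, hy, Submodule.subset_span ⟨t, ht, rfl⟩⟩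
    · obtain ⟨P, hPO, hPV, hyP, hP⟩ := hs.2 y hy (hO hy)
      exact ⟨P, hPO, hyP, hP⟩

/-- Gluing a chain of submodules of finite type given on increasing opens. -/
theorem exists_glue {ι : Type*} [Nonempty ι] (W : ι → X.Opens) (N : ι → SubMod G)
    (hN : ∀ i, FTOn (N i) (W i))
    (hc : ∀ i j, (W i ≤ W j ∧ ∀ O, O ≤ W i → (N j).mem O = (N i).mem O) ∨
      (W j ≤ W i ∧ ∀ O, O ≤ W j → (N i).mem O = (N j).mem O)) :
    ∃ N' : SubMod G, (∀ i O, O ≤ W i → N'.mem O = (N i).mem O) ∧ FTOn N' (⨆ i, W i) := by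
  let N' : SubMod G :=
  { mem := fun O =>
    { carrier := {s | ∀ i, rs G inf_le_left s ∈ (N i).mem (O ⊓ W i)}
      zero_mem' := fun i => by rw [rs, map_zero]; exact zero_mem _
      add_mem' := fun {a b} ha hb i => by rw [rs, map_add]; exact add_mem (ha i) (hb i)
      smul_mem' := fun a s hs i => by rw [rs_smul]; exact Submodule.smul_mem _ _ (hs i) }
    map_mem := fun {O O'} h {s} hs i => by
      have := (N i).map_mem (inf_le_inf_right (W i) h) (hs i)
      change rs G _ (rs G _ s) ∈ _ at this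
      rw [rs_rs] at this
      change rs G _ (rs G h s) ∈ _
      rwa [rs_rs]
    of_locally := fun O s hs i => (N i).of_locally _ _ fun x hx => by
      obtain ⟨P, h, hxP, hP⟩ := hs x hx.1
      refine ⟨P ⊓ W i, inf_le_inf_right _ h, ⟨hxP, hx.2⟩, ?_⟩
      have := hP i
      change rs G _ (rs G h s) ∈ _ at this
      change rs G _ (rs G _ s) ∈ _
      rw [rs_rs] at this ⊢
      exact this }
  have hW : ∀ i O, O ≤ W i → N'.mem O = (N i).mem O := fun i O hO => by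
    ext s
    refine ⟨fun hs => ?_, fun hs j => ?_⟩
    · have := (N i).map_mem (le_inf le_rfl hO) (hs i)
      change rs G _ (rs G _ s) ∈ _ at this
      rwa [rs_rs, rs_self] at this
    · have := (N i).map_mem (inf_le_left : O ⊓ W j ≤ O) hs
      rcases hc i j with h | h
      · rwa [h.2 _ (inf_le_left.trans hO)]
      · rwa [← h.2 _ inf_le_right]
  refine ⟨N', hW, fun x hx => ?_⟩
  obtain ⟨i, hi⟩ := Opens.mem_iSup.1 hx
  obtain ⟨V, hV, hxV, hle, T, hT⟩ := hN i x hi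
  exact ⟨V, hV, hxV, hle.trans (le_iSup W i), T, hT.congr fun O hO => (hW i O (hO.trans hle)).symm⟩

/-- Zorn: a submodule of finite type on `U` extends to the whole scheme. -/
theorem exists_ftOn_top (hG : Coh.IsQCoh G) (p : X.Opens → Prop) {U : X.Opens} (hpU : p U)
    (hsup : ∀ S : Set X.Opens, S.Nonempty → (∀ W ∈ S, p W) → p (sSup S))
    (hstep : ∀ W, U ≤ W → p W → W ≠ ⊤ → ∃ V : X.Opens, IsAffineOpen V ∧ ¬ V ≤ W ∧
      IsCompact ((V ⊓ W : X.Opens) : Set X) ∧ p (W ⊔ V))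
    {N₀ : SubMod G} (h₀ : FTOn N₀ U) :
    ∃ N : SubMod G, FTOn N ⊤ ∧ ∀ O, O ≤ U → N.mem O = N₀.mem O := by
  let S := {q : X.Opens × SubMod G // U ≤ q.1 ∧ p q.1 ∧ FTOn q.2 q.1 ∧
    ∀ O, O ≤ U → q.2.mem O = N₀.mem O}
  let R : S → S → Prop := fun a b =>
    a.1.1 ≤ b.1.1 ∧ ∀ O, O ≤ a.1.1 → b.1.2.mem O = a.1.2.mem O
  obtain ⟨m, hm⟩ : ∃ m : S, ∀ a, R m a → R a m := by
    refine exists_maximal_of_chains_bounded (r := R) (fun c hc => ?_)
      (fun {a b c} hab hbc => ⟨hab.1.trans hbc.1, fun O hO =>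
        (hbc.2 O (hO.trans hab.1)).trans (hab.2 O hO)⟩)
    rcases c.eq_empty_or_nonempty with rfl | ⟨a₀, ha₀⟩
    · exact ⟨⟨(U, N₀), le_rfl, hpU, h₀, fun _ _ => rfl⟩, fun a ha => (Set.notMem_empty a ha).elim⟩
    have : Nonempty c := ⟨⟨a₀, ha₀⟩⟩
    obtain ⟨N', hN', hft⟩ := exists_glue (G := G) (fun a : c => a.1.1.1) (fun a => a.1.1.2)
      (fun a => a.1.2.2.2.1) (fun a b => by
        by_cases hab : a = b
        · subst hab; exact .inl ⟨le_rfl, fun _ _ => rfl⟩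
        · exact hc a.2 b.2 fun h => hab (Subtype.ext h))
    refine ⟨⟨(⨆ a : c, a.1.1.1, N'), a₀.2.1.trans (le_iSup (fun a : c => a.1.1.1) ⟨a₀, ha₀⟩), ?_, hft,
      fun O hO => (hN' ⟨a₀, ha₀⟩ O (hO.trans a₀.2.1)).trans (a₀.2.2.2.2 O hO)⟩,
      fun a ha => ⟨le_iSup (fun a : c => a.1.1.1) ⟨a, ha⟩, hN' ⟨a, ha⟩⟩⟩
    rw [← sSup_range]
    exact hsup _ ⟨_, ⟨a₀, ha₀⟩, rfl⟩ (by rintro _ ⟨a, rfl⟩; exact a.1.2.2.1)
  obtain ⟨⟨W, N⟩, hUW, hpW, hft, hag⟩ := m
  dsimp only at hUW hpW hft hag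
  rcases eq_or_ne W ⊤ with rfl | hW
  · exact ⟨N, hft, hag⟩
  obtain ⟨V, hV, hnle, hK, hp⟩ := hstep W hUW hpW hW
  obtain ⟨N', hN', hft'⟩ := exists_ft_step hG hft hV hK
  have := hm ⟨(W ⊔ V, N'), hUW.trans le_sup_left, hp, hft',
    fun O hO => (hN' O (hO.trans hUW)).trans (hag O hO)⟩ ⟨le_sup_left, hN'⟩
  exact absurd (le_sup_right.trans this.1) hnle

theorem ι_app_smul {N : SubMod G} {O : X.Opens} (a : Γ(X, O)) (s : Γ(N.toModules, O)) :
    N.ι.app O (a • s) = a • N.ι.app O s := Scheme.Modules.Hom.app_smul _ _ _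

/-- A submodule of finite type on all of `X` is quasi-coherent. -/
theorem isQCoh_of_ftOn (hG : Coh.IsQCoh G) {N : SubMod G} (hN : FTOn N ⊤) :
    Coh.IsQCoh N.toModules := by
  refine isQCoh_of_sections (fun V hV f s => ?_) (fun V hV f t ht => ?_)
  · obtain ⟨n, z, hz⟩ := exists_pow_smul_eq_map hG hV f (N.ι.app _ s)
    have hzN : rs G (inf_le_right.trans le_rfl) z ∈ N.mem (X.basicOpen f ⊓ V) := by
      rw [← rs_rs (X.basicOpen_le f) inf_le_left]
      refine N.map_mem inf_le_left ?_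
      rw [rs, hz]
      exact Submodule.smul_mem _ _ (N.ι_app_mem _ s)
    obtain ⟨m, hm⟩ := exists_pow_smul_mem hG hN hV le_rfl le_top hV.isCompact f z hzN
    rw [rs_self] at hm
    obtain ⟨t, ht⟩ := N.exists_app_eq hm
    refine ⟨m + n, t, N.ι_app_injective _ ?_⟩
    rw [ι_app_smul, map_app_comm, ht]
    show rs G _ (f ^ m • z) = _
    rw [rs_smul, rs, hz, pow_add, mul_smul]
    simp only [rf, map_pow]
  · obtain ⟨n, hn⟩ := exists_pow_smul_eq_zero hG hV f (N.ι.app _ t) (by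
      rw [← map_app_comm, ht, map_zero])
    exact ⟨n, N.ι_app_injective _ (by rw [ι_app_smul, hn, map_zero])⟩

theorem isFT_of_ftOn (hG : Coh.IsQCoh G) {N : SubMod G} (hN : FTOn N ⊤) :
    CohB1.IsFT N.toModules := by
  choose V hV hxV _ T hT using fun x : X => hN x trivial
  refine isFT_of_finite (isQCoh_of_ftOn hG hN) V
    (top_unique fun x _ => Opens.mem_iSup.2 ⟨x, hxV x⟩) hV fun x => ?_
  have h : (N.mem (V x)).FG := by
    have he : N.mem (V x) = Submodule.span Γ(X, V x) (T x) :=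
      le_antisymm (fun s hs => (hT x).mem_span hG (hV x) hs) (hT x).span_le
    rw [he]
    exact Submodule.fg_span (hT x).fin
  exact Module.Finite.iff_fg.2 h

/-- The kernel of a morphism as a submodule. -/
noncomputable def kerSub {M : X.Modules} (φ : G ⟶ M) : SubMod G where
  mem O := LinearMap.ker (appLin φ O)
  map_mem {U V} i {s} hs := by
    change φ.app U s = 0 at hs
    change φ.app V _ = 0
    rw [map_app_comm, hs, map_zero]
  of_locally O s h := eq_zero_of_locally O (φ.app O s) fun x hx => by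
    obtain ⟨V, i, hxV, hV⟩ := h x hx
    exact ⟨V, homOfLE i, hxV, by rw [← map_app_comm]; exact hV⟩

section sub

variable {U : X.Opens} {G₀ : (U : Scheme.{u}).Modules} (i : G₀ ⟶ G.restrict U.ι)

/-- A section of a submodule on an open as a section of the ambient module. -/
noncomputable def secAmb (O : (U : Scheme.{u}).Opens) (g : Γ(G₀, O)) : Γ(G, U.ι ''ᵁ O) :=
  (G.restrictAppIso U.ι O).hom (i.app O g)

theorem secAmb_smul (O : (U : Scheme.{u}).Opens) (a : Γ(U, O)) (g : Γ(G₀, O)) :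
    secAmb i O (a • g) = (U.ι.appIso O).inv a • secAmb i O g := by
  show (G.restrictAppIso U.ι O).hom (i.app O (a • g)) = _
  rw [Scheme.Modules.Hom.app_smul]
  exact congr($(Scheme.Modules.smul_restrictAppIso_hom U.ι G O a) (i.app O g))

theorem secAmb_map {O O' : (U : Scheme.{u}).Opens} (h : O' ≤ O) (g : Γ(G₀, O)) :
    rs G (U.ι.image_mono h) (secAmb i O g) = secAmb i O' (rs G₀ h g) := by
  show _ = (G.restrictAppIso U.ι O').hom (i.app O' (G₀.presheaf.map (homOfLE h).op g))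
  rw [map_app_comm]
  rfl

theorem secAmb_mem_span {O : (U : Scheme.{u}).Opens} {T : Set Γ(G₀, O)} {g : Γ(G₀, O)}
    (hg : g ∈ Submodule.span Γ(U, O) T) :
    secAmb i O g ∈ Submodule.span Γ(X, U.ι ''ᵁ O) (secAmb i O '' T) := by
  induction hg using Submodule.span_induction with
  | mem x hx => exact Submodule.subset_span ⟨x, hx, rfl⟩
  | zero => rw [secAmb, map_zero, map_zero]; exact zero_mem _
  | add x y _ _ hx hy =>
    have : secAmb i O (x + y) = secAmb i O x + secAmb i O y := by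
      rw [secAmb, map_add, map_add]; rfl
    rw [this]; exact add_mem hx hy
  | smul a x _ hx => rw [secAmb_smul]; exact Submodule.smul_mem _ _ hx

/-- The largest submodule restricting to a given submodule on an open. -/
noncomputable def extSub : SubMod G :=
  kerSub ((Scheme.Modules.restrictAdjunction U.ι).unit.app G ≫
    (Scheme.Modules.pushforward U.ι).map (cokernel.π i))

theorem mem_extSub_iff [Mono i] {O : X.Opens} (s : Γ(G, O)) :
    s ∈ (extSub i).mem O ↔ ∃ g : Γ(G₀, U.ι ⁻¹ᵁ O),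
      secAmb i _ g = rs G (U.ι.image_preimage_le O) s := by
  show (cokernel.π i).app (U.ι ⁻¹ᵁ O)
    (((Scheme.Modules.restrictAdjunction U.ι).unit.app G).app O s) = 0 ↔ _
  rw [mem_range_iff_cokernel, Scheme.Modules.restrictAdjunction_unit_app_app]
  rfl

theorem ftOn_extSub [Mono i] (h₀ : Coh.IsQCoh G₀) (hft : CohB1.IsFT G₀) : FTOn (extSub i) U := by
  intro x hx
  obtain ⟨_, ⟨V', hV', rfl⟩, hxV', -⟩ := (U : Scheme.{u}).isBasis_affineOpens.exists_subset_of_mem_open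
    (Set.mem_univ (⟨x, hx⟩ : U)) isOpen_univ
  have := finite_of_isFT h₀ hft hV'
  obtain ⟨T, hT⟩ := Module.Finite.fg_top (R := Γ(U, V')) (M := Γ(G₀, V'))
  refine ⟨U.ι ''ᵁ V', hV'.image_of_isOpenImmersion U.ι, ⟨⟨x, hx⟩, hxV', rfl⟩,
    U.ι_image_le V', secAmb i V' '' T, T.finite_toSet.image _, ?_, fun O hO s hs y hy => ?_⟩
  · rintro _ ⟨t, -, rfl⟩
    refine (mem_extSub_iff i _).2 ⟨rs G₀ (U.ι.preimage_image_eq V').le t, ?_⟩
    rw [← secAmb_map]
  · obtain ⟨g, hg⟩ := (mem_extSub_iff i s).1 hs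
    obtain ⟨y', hy', rfl⟩ := hO hy
    have hle : U.ι ⁻¹ᵁ O ≤ V' := fun z hz => by
      obtain ⟨z', hz', e⟩ := hO hz
      exact U.ι.isOpenEmbedding.injective e ▸ hz'
    obtain ⟨a, ha, hya⟩ := hV'.exists_basicOpen_le (V := U.ι ⁻¹ᵁ O) ⟨y', hy⟩ hy'
    obtain ⟨n, t, ht⟩ := exists_pow_smul_eq_map h₀ hV' a (rs G₀ ha g)
    have hDV : U.ι ''ᵁ (U : Scheme.{u}).basicOpen a ≤ U.ι ''ᵁ V' :=
      U.ι.image_mono ((U : Scheme.{u}).basicOpen_le a)
    have hDO : U.ι ''ᵁ (U : Scheme.{u}).basicOpen a ≤ O :=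
      (U.ι.image_mono ha).trans (U.ι.image_preimage_le O)
    refine ⟨_, hDO, ⟨y', hya, rfl⟩, ?_⟩
    have hspan : rs G hDV (secAmb i V' t) ∈
        Submodule.span Γ(X, U.ι ''ᵁ (U : Scheme.{u}).basicOpen a) (rs G hDV '' (secAmb i V' '' T)) :=
      rs_mem_span hDV (secAmb_mem_span i (hT ▸ Submodule.mem_top))
    rw [secAmb_map i ((U : Scheme.{u}).basicOpen_le a), show rs G₀ ((U : Scheme.{u}).basicOpen_le a) t = _ from ht, secAmb_smul, ← secAmb_map, hg, rs_rs] at hspan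
    exact (Submodule.smul_mem_iff_of_isUnit _
      ((((isUnit_rf_basicOpen a).pow n).map _))).1 hspan

theorem exists_restrict_iso [Mono i] {N : SubMod G}
    (hN : ∀ O, O ≤ U → N.mem O = (extSub i).mem O) :
    ∃ e : N.toModules.restrict U.ι ≅ G₀,
      e.hom ≫ i = (Scheme.Modules.restrictFunctor U.ι).map N.ι := by
  let a := (Scheme.Modules.restrictFunctor U.ι).map N.ι
  have : Mono a := inferInstance
  have key : ∀ (O : (U : Scheme.{u}).Opens) (s : Γ(G, U.ι ''ᵁ O)), s ∈ N.mem (U.ι ''ᵁ O) ↔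
      ∃ g : Γ(G₀, O), secAmb i O g = s := fun O s => by
    rw [hN _ (U.ι_image_le O), mem_extSub_iff]
    have hle := (U.ι.preimage_image_eq O)
    constructor
    · rintro ⟨g, hg⟩
      refine ⟨rs G₀ hle.ge g, ?_⟩
      rw [← secAmb_map, hg, rs_rs, rs_self]
    · rintro ⟨g, rfl⟩
      exact ⟨rs G₀ hle.le g, (secAmb_map i hle.le g).symm⟩
  have h1 : a ≫ cokernel.π i = 0 := by
    refine Scheme.Modules.hom_ext _ _ fun O => ?_
    ext x
    show (cokernel.π i).app O (a.app O x) = 0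
    rw [mem_range_iff_cokernel]
    obtain ⟨g, hg⟩ := (key O _).1 (N.ι_app_mem (U.ι ''ᵁ O) x)
    exact ⟨g, hg⟩
  have h2 : i ≫ cokernel.π a = 0 := by
    refine Scheme.Modules.hom_ext _ _ fun O => ?_
    ext g
    show (cokernel.π a).app O (i.app O g) = 0
    rw [mem_range_iff_cokernel]
    obtain ⟨x, hx⟩ := N.exists_app_eq ((key O _).2 ⟨g, rfl⟩)
    exact ⟨x, hx⟩
  refine ⟨⟨Abelian.monoLift i a h1, Abelian.monoLift a i h2, ?_, ?_⟩, Abelian.monoLift_comp _ _ _⟩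
  · rw [← cancel_mono a, Category.assoc, Abelian.monoLift_comp, Abelian.monoLift_comp, Category.id_comp]
  · rw [← cancel_mono i, Category.assoc, Abelian.monoLift_comp, Abelian.monoLift_comp, Category.id_comp]

/-- The submodule generated by sections on an open, as large as possible outside it. -/
noncomputable def spanSub {V : X.Opens} (T : Set Γ(G, V)) : SubMod G where
  mem O :=
    { carrier := {s | ∀ x ∈ O, x ∈ V → ∃ (P : X.Opens) (hPO : P ≤ O) (hPV : P ≤ V), x ∈ P ∧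
          rs G hPO s ∈ Submodule.span Γ(X, P) (rs G hPV '' T)}
      zero_mem' := fun x hx hxV =>
        ⟨O ⊓ V, inf_le_left, inf_le_right, ⟨hx, hxV⟩, by rw [rs, map_zero]; exact zero_mem _⟩
      add_mem' := fun {a b} ha hb x hx hxV => by
        obtain ⟨P, hPO, hPV, hxP, hP⟩ := ha x hx hxV
        obtain ⟨Q, hQO, hQV, hxQ, hQ⟩ := hb x hx hxV
        refine ⟨P ⊓ Q, inf_le_left.trans hPO, inf_le_left.trans hPV, ⟨hxP, hxQ⟩, ?_⟩
        rw [rs, map_add]
        refine add_mem ?_ ?_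
        · have := span_image_rs_le hPV (inf_le_left : P ⊓ Q ≤ P) hP
          rwa [rs_rs] at this
        · have := span_image_rs_le hQV (inf_le_right : P ⊓ Q ≤ Q) hQ
          rwa [rs_rs] at this
      smul_mem' := fun a s hs x hx hxV => by
        obtain ⟨P, hPO, hPV, hxP, hP⟩ := hs x hx hxV
        exact ⟨P, hPO, hPV, hxP, by rw [rs_smul]; exact Submodule.smul_mem _ _ hP⟩ }
  map_mem {O O'} i {s} hs x hx hxV := by
    obtain ⟨P, hPO, hPV, hxP, hP⟩ := hs x (i hx) hxV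
    refine ⟨P ⊓ O', inf_le_right, inf_le_left.trans hPV, ⟨hxP, hx⟩, ?_⟩
    have := span_image_rs_le hPV (inf_le_left : P ⊓ O' ≤ P) hP
    rw [rs_rs] at this
    change rs G _ (rs G i s) ∈ _
    rwa [rs_rs]
  of_locally O s hs x hx hxV := by
    obtain ⟨P, i, hxP, hP⟩ := hs x hx
    obtain ⟨Q, hQP, hQV, hxQ, hQ⟩ := hP x hxP hxV
    change rs G _ (rs G i s) ∈ _ at hQ
    rw [rs_rs] at hQ
    exact ⟨Q, hQP.trans i, hQV, hxQ, hQ⟩

theorem mem_spanSub {V : X.Opens} {T : Set Γ(G, V)} {t : Γ(G, V)} (ht : t ∈ T) :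
    t ∈ (spanSub T).mem V :=
  fun _ hx _ => ⟨V, le_rfl, le_rfl, hx, Submodule.subset_span ⟨t, ht, rfl⟩⟩

theorem ftOn_spanSub {V : X.Opens} (hV : IsAffineOpen V) {T : Set Γ(G, V)} (hT : T.Finite) :
    FTOn (spanSub T) V :=
  fun x hx => ⟨V, hV, hx, le_rfl, T, hT, fun _ ht => mem_spanSub ht, fun O hO s hs y hy => by
    obtain ⟨P, hPO, hPV, hyP, hP⟩ := hs y hy (hO hy)
    exact ⟨P, hPO, hyP, hP⟩⟩

/-- A submodule of finite type on an open extends, given a suitable family of opens. -/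
theorem exists_extension [Mono i] (hG : Coh.IsQCoh G) (h₀ : Coh.IsQCoh G₀) (hft : CohB1.IsFT G₀)
    (p : X.Opens → Prop) (hpU : p U)
    (hsup : ∀ S : Set X.Opens, S.Nonempty → (∀ W ∈ S, p W) → p (sSup S))
    (hstep : ∀ W, U ≤ W → p W → W ≠ ⊤ → ∃ V : X.Opens, IsAffineOpen V ∧ ¬ V ≤ W ∧
      IsCompact ((V ⊓ W : X.Opens) : Set X) ∧ p (W ⊔ V)) :
    ∃ (G' : X.Modules) (i' : G' ⟶ G) (e : G'.restrict U.ι ≅ G₀),
      Mono i' ∧ Coh.IsQCoh G' ∧ CohB1.IsFT G' ∧
      e.hom ≫ i = (Scheme.Modules.restrictFunctor U.ι).map i' := by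
  obtain ⟨N, hN, hag⟩ := exists_ftOn_top hG p hpU hsup hstep (ftOn_extSub i h₀ hft)
  obtain ⟨e, he⟩ := exists_restrict_iso i hag
  exact ⟨N.toModules, N.ι, e, inferInstance, isQCoh_of_ftOn hG hN, isFT_of_ftOn hG hN, he⟩

end sub

/-- A family of opens along which one extends from `U`. -/
def ExtStep (U : X.Opens) : Prop :=
  ∃ p : X.Opens → Prop, p U ∧ (∀ S : Set X.Opens, S.Nonempty → (∀ W ∈ S, p W) → p (sSup S)) ∧
    ∀ W, U ≤ W → p W → W ≠ ⊤ → ∃ V : X.Opens, IsAffineOpen V ∧ ¬ V ≤ W ∧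
      IsCompact ((V ⊓ W : X.Opens) : Set X) ∧ p (W ⊔ V)

/-- Unions of `U` with members of a family. -/
theorem extStep_of_family (U : X.Opens) {ι : Type*} (V : ι → X.Opens) (hV : ∀ i, IsAffineOpen (V i))
    (p : Set ι → Prop) (h0 : p ∅)
    (hU : ∀ C : Set (Set ι), (∀ I ∈ C, p I) → p (⋃₀ C))
    (hstep : ∀ I, p I → U ⊔ ⨆ i ∈ I, V i ≠ ⊤ → ∃ j, ¬ V j ≤ U ⊔ ⨆ i ∈ I, V i ∧ p (insert j I) ∧
      IsCompact ((V j ⊓ (U ⊔ ⨆ i ∈ I, V i) : X.Opens) : Set X)) : ExtStep U := by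
  refine ⟨fun W => ∃ I, p I ∧ W = U ⊔ ⨆ i ∈ I, V i, ⟨∅, h0, by simp⟩, fun S hS h => ?_,
    fun W _ hW hne => ?_⟩
  · choose I hI hW using h
    refine ⟨⋃₀ {J | ∃ W hW, J = I W hW}, hU _ (by rintro _ ⟨W, hWS, rfl⟩; exact hI W hWS), ?_⟩
    refine le_antisymm (sSup_le fun W hWS => (hW W hWS).le.trans (sup_le le_sup_left
      (iSup₂_le fun i hi => le_sup_of_le_right (le_iSup₂ (f := fun i (_ : i ∈ ⋃₀ _) => V i) i
        ⟨_, ⟨W, hWS, rfl⟩, hi⟩)))) (sup_le ?_ ?_)
    · obtain ⟨W, hWS⟩ := hS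
      exact le_sSup_of_le hWS (le_sup_left.trans (hW W hWS).ge)
    · refine iSup₂_le fun i hi => ?_
      obtain ⟨_, ⟨W, hWS, rfl⟩, hi⟩ := hi
      exact le_sSup_of_le hWS
        (((le_iSup₂ (f := fun i (_ : i ∈ I W hWS) => V i) i hi).trans le_sup_right).trans (hW W hWS).ge)
  · obtain ⟨I, hI, rfl⟩ := hW
    obtain ⟨j, hj, hpj, hc⟩ := hstep I hI hne
    refine ⟨V j, hV j, hj, hc, insert j I, hpj, ?_⟩
    rw [iSup_insert, sup_assoc, sup_comm (⨆ i ∈ I, V i)]

theorem exists_notMem_of_ne_top {W : X.Opens} (h : W ≠ ⊤) : ∃ x : X, x ∉ W := by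
  by_contra! h'
  exact h (top_unique fun x _ => h' x)

/-- Quasi-compact opens of quasi-compact quasi-separated schemes. -/
theorem extStep_qcqs [CompactSpace X] [QuasiSeparatedSpace X] {U : X.Opens}
    (hU : IsCompact (U : Set X)) : ExtStep U := by
  obtain ⟨F, hF⟩ := isCompact_univ.elim_finite_subcover (fun V : X.affineOpens => (V.1 : Set X))
    (fun V => V.1.2) fun x _ => by
      obtain ⟨_, ⟨V, hV, rfl⟩, hxV, -⟩ := X.isBasis_affineOpens.exists_subset_of_mem_open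
        (Set.mem_univ x) isOpen_univ
      exact Set.mem_iUnion.2 ⟨⟨V, hV⟩, hxV⟩
  refine extStep_of_family U (fun V : F => V.1.1) (fun V => V.1.2) (fun _ => True)
    trivial (fun _ _ => trivial) fun I _ hne => ?_
  · obtain ⟨x, hx⟩ := exists_notMem_of_ne_top hne
    obtain ⟨V, hV, hxV⟩ := Set.mem_iUnion₂.1 (hF (Set.mem_univ x))
    refine ⟨⟨V, hV⟩, fun h => hx (h hxV), trivial, ?_⟩
    refine QuasiSeparatedSpace.inter_isCompact _ _ V.1.2 V.2.isCompact (U ⊔ _).2 ?_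
    simp only [Opens.coe_sup, Opens.coe_iSup]
    exact hU.union (I.toFinite.isCompact_biUnion fun W _ => W.1.2.isCompact)

theorem isCompact_inf_of_noetherian {U' V W : X.Opens} (hN : NoetherianSpace (U' : Set X))
    (h : V ≤ U') : IsCompact ((V ⊓ W : X.Opens) : Set X) := by
  have := Topology.IsInducing.subtypeVal.isCompact_iff.1
    (noetherianSpace_iff_isCompact.1 hN (Subtype.val ⁻¹' ((V ⊓ W : X.Opens) : Set X)))
  rwa [Subtype.image_preimage_coe, Set.inter_eq_right.2 fun y hy => h hy.1] at this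

/-- Locally Noetherian spaces. -/
theorem extStep_noetherian (hX : ∀ x : X, ∃ U : X.Opens, x ∈ U ∧ NoetherianSpace (U : Set X))
    (U : X.Opens) : ExtStep U := by
  refine ⟨fun _ => True, trivial, fun _ _ _ => trivial, fun W _ _ hne => ?_⟩
  obtain ⟨x, hx⟩ := exists_notMem_of_ne_top hne
  obtain ⟨U', hxU', hN⟩ := hX x
  obtain ⟨_, ⟨V, hV, rfl⟩, hxV, hVU⟩ := X.isBasis_affineOpens.exists_subset_of_mem_open hxU' U'.2
  exact ⟨V, hV, fun h => hx (h hxV), isCompact_inf_of_noetherian hN hVU, trivial⟩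

theorem quasiCompact_ι_of_compact [QuasiSeparatedSpace X] (U : X.Opens)
    (hU : IsCompact (U : Set X)) : QuasiCompact U.ι := by
  refine ⟨fun V hV hVc => U.ι.isOpenEmbedding.isInducing.isCompact_iff.2 ?_⟩
  rw [Set.image_preimage_eq_inter_range, Scheme.Opens.range_ι]
  exact QuasiSeparatedSpace.inter_isCompact _ _ hV hVc U.2 hU

theorem quasiCompact_ι_of_noetherian
    (hX : ∀ x : X, ∃ U : X.Opens, x ∈ U ∧ NoetherianSpace (U : Set X)) (U : X.Opens) :
    QuasiCompact U.ι := by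
  refine ⟨fun V hV hVc => U.ι.isOpenEmbedding.isInducing.isCompact_iff.2 ?_⟩
  rw [Set.image_preimage_eq_inter_range, Scheme.Opens.range_ι]
  have h : ∀ x : V, ∃ A : X.Opens, x.1 ∈ A ∧ IsCompact (((⟨V, hV⟩ : X.Opens) ⊓ A ⊓ U : X.Opens) : Set X) := by
    intro x
    obtain ⟨U', hxU', hN⟩ := hX x.1
    exact ⟨U', hxU', isCompact_inf_of_noetherian hN inf_le_right⟩
  choose A hxA hA using h
  obtain ⟨F, hF⟩ := hVc.elim_finite_subcover (fun x => (A x : Set X)) (fun x => (A x).2)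
    fun x hx => Set.mem_iUnion.2 ⟨⟨x, hx⟩, hxA _⟩
  have : V ∩ (U : Set X) = ⋃ x ∈ F, (((⟨V, hV⟩ : X.Opens) ⊓ A x ⊓ U : X.Opens) : Set X) := by
    ext y
    refine ⟨fun hy => ?_, fun hy => ?_⟩
    · obtain ⟨x, hx, hyx⟩ := Set.mem_iUnion₂.1 (hF hy.1)
      exact Set.mem_iUnion₂.2 ⟨x, hx, ⟨hy.1, hyx⟩, hy.2⟩
    · obtain ⟨x, -, ⟨hy1, -⟩, hy2⟩ := Set.mem_iUnion₂.1 hy
      exact ⟨hy1, hy2⟩
  rw [this]
  exact F.finite_toSet.isCompact_biUnion fun x _ => hA x

/-- The extension theorem for submodules. -/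
theorem exists_extension' (hG : Coh.IsQCoh G) {U : X.Opens} (hs : ExtStep U)
    {G₀ : (U : Scheme.{u}).Modules} (i : G₀ ⟶ G.restrict U.ι) [Mono i]
    (h₀ : Coh.IsQCoh G₀) (hft : CohB1.IsFT G₀) :
    ∃ (G' : X.Modules) (i' : G' ⟶ G) (e : G'.restrict U.ι ≅ G₀),
      Mono i' ∧ Coh.IsQCoh G' ∧ CohB1.IsFT G' ∧
      e.hom ≫ i = (Scheme.Modules.restrictFunctor U.ι).map i' := by
  obtain ⟨p, hp, hsup, hstep⟩ := hs
  exact exists_extension i hG h₀ hft p hp hsup hstep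

/-- Finitely many sections on an affine open lie in a submodule of finite type. -/
theorem exists_ftOn_contains (hG : Coh.IsQCoh G) {V : X.Opens} (hV : IsAffineOpen V) (hs : ExtStep V)
    (T : Set Γ(G, V)) (hT : T.Finite) : ∃ N : SubMod G, FTOn N ⊤ ∧ T ⊆ N.mem V := by
  obtain ⟨p, hp, hsup, hstep⟩ := hs
  obtain ⟨N, hN, hag⟩ := exists_ftOn_top hG p hp hsup hstep (ftOn_spanSub hV hT)
  exact ⟨N, hN, fun t ht => by rw [hag V le_rfl]; exact mem_spanSub ht⟩

/-- A quasi-coherent module of finite type on an open extends to one on `X`. -/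
theorem exists_extension_abs {U : X.Opens} (hs : ExtStep U) [QuasiCompact U.ι]
    (G₀ : (U : Scheme.{u}).Modules) (h₀ : Coh.IsQCoh G₀) (hft : CohB1.IsFT G₀) :
    ∃ G' : X.Modules, Coh.IsQCoh G' ∧ CohB1.IsFT G' ∧ Nonempty (G'.restrict U.ι ≅ G₀) := by
  have : IsIso (Scheme.Modules.restrictAdjunction U.ι).counit := inferInstance
  let c := (asIso ((Scheme.Modules.restrictAdjunction U.ι).counit.app G₀)).symm
  obtain ⟨G', i', e, -, h1, h2, -⟩ := exists_extension'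
    (isQCoh_pushforward U.ι h₀) hs c.hom h₀ hft
  exact ⟨G', h1, h2, ⟨e⟩⟩

end Groth.Agent.QCoh
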