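import Mathlib.RingTheory.Flat.CategoryTheory
import Mathlib.Algebra.Category.ModuleCat.ChangeOfRings
import Mathlib.Algebra.Homology.ShortComplex.ModuleCat
import Mathlib.Algebra.Homology.Additive
import Mathlib.Algebra.Homology.ShortComplex.ExactFunctor
import Mathlib.Algebra.Homology.ShortComplex.HomologicalComplex
import Mathlib.RingTheory.IsTensorProduct
import Mathlib.Algebra.Homology.HomologicalComplexAbelian

/-!
# Homology of complexes of modules under flat base change
-/

universe u

open CategoryTheory CategoryTheory.Limits TensorProduct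

namespace Groth.Agent.QCoh

variable (A B : Type u) [CommRing A] [CommRing B] [Algebra A B]

/-- `M ↦ B ⊗ M`. -/
noncomputable def bcFunctor : ModuleCat.{u} A ⥤ ModuleCat.{u} B where
  obj M := ModuleCat.of B (B ⊗[A] M)
  map f := ModuleCat.ofHom (f.hom.baseChange B)
  map_id M := by ext x; simp
  map_comp f g := by ext x; simp

instance : (bcFunctor A B).Additive where
  map_add {M N f g} := ModuleCat.hom_ext (LinearMap.baseChange_add f.hom g.hom)

theorem bcFunctor_preservesHomology [Module.Flat A B] : (bcFunctor A B).PreservesHomology :=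
  ((Functor.exact_tfae (bcFunctor A B)).out 1 2).1 fun S hS => by
    rw [ShortComplex.ShortExact.moduleCat_exact_iff_function_exact] at hS ⊢
    exact Module.Flat.lTensor_exact B hS

variable {A B}

/-- The map `B ⊗ M → N` attached to a semilinear map. -/
noncomputable def adjunct {M : ModuleCat.{u} A} {N : ModuleCat.{u} B}
    (f : M ⟶ (ModuleCat.restrictScalars (algebraMap A B)).obj N) :
    (bcFunctor A B).obj M ⟶ N :=
  letI : Module A N := Module.compHom N (algebraMap A B)
  haveI : IsScalarTower A B N := .of_algebraMap_smul fun _ _ => rfl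
  ModuleCat.ofHom ((TensorProduct.isBaseChange A M B).lift
    ({ toFun := fun m => f m, map_add' := f.hom.map_add, map_smul' := f.hom.map_smul } : M →ₗ[A] N))

theorem adjunct_tmul {M : ModuleCat.{u} A} {N : ModuleCat.{u} B}
    (f : M ⟶ (ModuleCat.restrictScalars (algebraMap A B)).obj N) (b : B) (m : M) :
    (adjunct f).hom (b ⊗ₜ[A] m : B ⊗[A] M) = (b • (show N from f m)) := by
  rw [show (b ⊗ₜ[A] m : B ⊗[A] M) = b • ((1 : B) ⊗ₜ m) by simp [TensorProduct.smul_tmul']]
  let : Module A N := Module.compHom N (algebraMap A B)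
  have : IsScalarTower A B N := .of_algebraMap_smul fun _ _ => rfl
  let g : M →ₗ[A] N := { toFun := fun m => f m, map_add' := f.hom.map_add, map_smul' := f.hom.map_smul }
  show (TensorProduct.isBaseChange A M B).lift g (b • ((1 : B) ⊗ₜ[A] m)) = _
  rw [map_smul]
  exact congrArg (b • ·) ((TensorProduct.isBaseChange A M B).lift_eq g m)

theorem adjunct_eq {M : ModuleCat.{u} A} {N : ModuleCat.{u} B}
    (f : M ⟶ (ModuleCat.restrictScalars (algebraMap A B)).obj N)
    (l : B ⊗[A] M →ₗ[B] N) (hl : ∀ m, l (1 ⊗ₜ m) = f m) : (adjunct f).hom = l := by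
  let : Module A N := Module.compHom N (algebraMap A B)
  have : IsScalarTower A B N := .of_algebraMap_smul fun _ _ => rfl
  refine TensorProduct.AlgebraTensorModule.ext (R := A) (A := B) ?_
  intro b m
  refine (adjunct_tmul f b m).trans ?_
  rw [show (b ⊗ₜ[A] m : B ⊗[A] M) = b • ((1 : B) ⊗ₜ m) by simp [TensorProduct.smul_tmul'],
    l.map_smul, hl]

theorem bijective_adjunct_of_isBaseChange {M : ModuleCat.{u} A} {N : ModuleCat.{u} B}
    [Module A N] [IsScalarTower A B N] (f : M ⟶ (ModuleCat.restrictScalars (algebraMap A B)).obj N)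
    (g : M →ₗ[A] N) (hg : ∀ m, g m = f m) (h : IsBaseChange B g) :
    Function.Bijective (adjunct f) := by
  rw [show ⇑(adjunct f) = ⇑(adjunct f).hom from rfl,
    adjunct_eq f h.equiv.toLinearMap fun m =>
      ((h.equiv_tmul 1 m).trans (one_smul _ _)).trans (hg m)]
  exact h.equiv.bijective

theorem homology_baseChange [Module.Flat A B] (K : CochainComplex (ModuleCat.{u} A) ℕ)
    (K' : CochainComplex (ModuleCat.{u} B) ℕ)
    (φ : K ⟶ ((ModuleCat.restrictScalars (algebraMap A B)).mapHomologicalComplex _).obj K')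
    (h : ∀ p, Function.Bijective (adjunct (φ.f p))) (p : ℕ) :
    Nonempty (B ⊗[A] (K.homology p : ModuleCat.{u} A) ≃ₗ[B] (K'.homology p : ModuleCat.{u} B)) := by
  let E := bcFunctor A B
  have : E.PreservesHomology := bcFunctor_preservesHomology A B
  let ψ : (E.mapHomologicalComplex _).obj K ⟶ K' :=
    { f := fun i => adjunct (φ.f i)
      comm' := fun i j _ => by
        let : Module A (K'.X j) := Module.compHom (K'.X j) (algebraMap A B)
        have : IsScalarTower A B (K'.X j) := .of_algebraMap_smul fun _ _ => rfl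
        refine ModuleCat.hom_ext (TensorProduct.AlgebraTensorModule.ext
          (R := A) (A := B) (M := B) (N := K.X i) (P := K'.X j) fun b m => ?_)
        show (K'.d i j).hom ((adjunct (φ.f i)).hom (b ⊗ₜ[A] m : B ⊗[A] K.X i)) =
          (adjunct (φ.f j)).hom ((K.d i j).hom.baseChange B (b ⊗ₜ m))
        refine (congrArg (K'.d i j).hom (adjunct_tmul (φ.f i) b m)).trans ?_
        refine ((K'.d i j).hom.map_smul b _).trans ?_
        refine Eq.trans ?_ (adjunct_tmul (φ.f j) b ((K.d i j).hom m)).symm
        exact congrArg (b • ·) (ConcreteCategory.congr_hom (φ.comm i j) m) }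
  have : ∀ i, IsIso (ψ.f i) := fun i => (ConcreteCategory.isIso_iff_bijective _).2 (h i)
  have : IsIso ψ := HomologicalComplex.Hom.isIso_of_components ψ
  exact ⟨(((K.sc p).mapHomologyIso E).symm ≪≫
    (HomologicalComplex.homologyFunctor (ModuleCat.{u} B) _ p).mapIso (asIso ψ)).toLinearEquiv⟩

end Groth.Agent.QCoh
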