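import Groth.Agent.QCoh.CechMod
import Groth.Agent.QCoh.BaseChangeCx
import Groth.Agent.QCoh.Localize
import Mathlib.RingTheory.TensorProduct.IsBaseChangePi

/-!
# Functoriality of the Čech complex of modules, and base change
-/

universe u

open CategoryTheory CategoryTheory.Limits AlgebraicGeometry TopologicalSpace Opposite TensorProduct

namespace Groth.Agent.QCoh

variable {X X' : Scheme.{u}} {A B : Type u} [CommRing A] [CommRing B] [Algebra A B]
  (ρ : A →+* Coh.Γtop X) (ρ' : B →+* Coh.Γtop X') {ι : Type u} (U : ι → X.Opens) (φ : X' ⟶ X)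

/-- The module of sections over an open, over a ring mapping to the global functions. -/
@[reducible] noncomputable def secModule (M : X.Modules) (V : X.Opens) : Module A Γ(M, V) :=
  Module.compHom Γ(M, V) ((X.presheaf.map (homOfLE (le_top : V ≤ ⊤)).op).hom.comp ρ)

theorem cxMod_smul_apply (M : X.Modules) (p : ℕ) (a : A) (c : (cxMod ρ U M).X p)
    (σ : Fin (p + 1) → ι) (W : {W : X.Opens // Ab.Le U σ W}) :
    letI := secModule ρ M W.1
    (a • c : (cxMod ρ U M).X p).1 σ W = a • (c.1 σ W) := rfl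

variable {M : X.Modules} {M' : X'.Modules} (η : M ⟶ (Scheme.Modules.pushforward φ).obj M')

theorem le_preimage {p : ℕ} {σ : Fin p → ι} {W : X'.Opens}
    (h : Ab.Le (fun i => φ ⁻¹ᵁ U i) σ W) : W ≤ φ ⁻¹ᵁ (⨅ a, U (σ a)) := by
  intro x hx
  show φ.base x ∈ ((⨅ a, U (σ a) : X.Opens) : Set X)
  rw [Opens.coe_iInf]
  exact Set.mem_iInter.2 fun a => h a hx

/-- Sections of `M'` from sections of `M`. -/
noncomputable def secMap {V : X.Opens} {W : X'.Opens} (h : W ≤ φ ⁻¹ᵁ V) (x : Γ(M, V)) : Γ(M', W) :=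
  M'.presheaf.map (homOfLE h).op (show Γ(M', φ ⁻¹ᵁ V) from η.app V x)

theorem secMap_map {V V₁ : X.Opens} (i : V₁ ≤ V) {W : X'.Opens} (h : W ≤ φ ⁻¹ᵁ V₁) (x : Γ(M, V)) :
    secMap φ η h (M.presheaf.map (homOfLE i).op x) = secMap φ η (h.trans (φ.preimage_mono i)) x := by
  unfold secMap
  rw [map_app_comm]
  exact map_map _ _ _

theorem map_secMap {V : X.Opens} {W W' : X'.Opens} (h : W ≤ φ ⁻¹ᵁ V) (i : W' ⟶ W) (x : Γ(M, V)) :
    M'.presheaf.map i.op (secMap φ η h x) = secMap φ η (i.le.trans h) x :=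
  map_map _ _ _

theorem secMap_add {V : X.Opens} {W : X'.Opens} (h : W ≤ φ ⁻¹ᵁ V) (x y : Γ(M, V)) :
    secMap φ η h (x + y) = secMap φ η h x + secMap φ η h y := by
  unfold secMap
  rw [map_add (η.app V).hom]
  exact map_add (M'.presheaf.map (homOfLE h).op).hom _ _

theorem secMap_zsmul {V : X.Opens} {W : X'.Opens} (h : W ≤ φ ⁻¹ᵁ V) (n : ℤ) (x : Γ(M, V)) :
    secMap φ η h (n • x) = n • secMap φ η h x :=
  map_zsmul (AddMonoidHom.mk' (secMap φ η h) (secMap_add φ η h)) n x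

variable (hρ : ∀ a, ρ' (algebraMap A B a) = φ.appTop (ρ a))

theorem secMap_smul {V : X.Opens} {W : X'.Opens} (h : W ≤ φ ⁻¹ᵁ V) (a : A) (x : Γ(M, V))
    (hρ : ∀ a, ρ' (algebraMap A B a) = φ.appTop (ρ a)) :
    secMap φ η h (X.presheaf.map (homOfLE (le_top : V ≤ ⊤)).op (ρ a) • x) =
      X'.presheaf.map (homOfLE (le_top : W ≤ ⊤)).op (ρ' (algebraMap A B a)) • secMap φ η h x := by
  unfold secMap
  rw [η.app_smul]
  refine (map_smul' (M := M') (homOfLE h) _ _).trans ?_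
  congr 1
  rw [hρ]
  show (φ.app V ≫ X'.presheaf.map (homOfLE h).op) (X.presheaf.map (homOfLE (le_top : V ≤ ⊤)).op (ρ a)) =
    (φ.app ⊤ ≫ X'.presheaf.map (homOfLE (le_top : W ≤ ⊤)).op) (ρ a)
  refine (congrArg (X'.presheaf.map (homOfLE h).op)
    (ConcreteCategory.congr_hom (φ.naturality (homOfLE (le_top : V ≤ ⊤)).op) (ρ a))).trans ?_
  exact ringMap_map _ _ _

/-- The pullback of Čech cochains. -/
noncomputable def cochainMap (p : ℕ) (c : Ab.natCochains M.presheaf U (p + 1)) :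
    Ab.natCochains M'.presheaf (fun i => φ ⁻¹ᵁ U i) (p + 1) :=
  ⟨fun σ W => secMap φ η (le_preimage U φ W.2) (c.1 σ ⟨_, fun a => iInf_le _ a⟩),
    fun σ W W' h h' i => map_secMap φ η _ i _⟩

/-- The pullback map of Čech complexes of modules. -/
noncomputable def cxModMap :
    cxMod ρ U M ⟶ ((ModuleCat.restrictScalars (algebraMap A B)).mapHomologicalComplex _).obj
      (cxMod ρ' (fun i => φ ⁻¹ᵁ U i) M') where
  f p := ModuleCat.ofHom (Y := (ModuleCat.restrictScalars (algebraMap A B)).obj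
      ((cxMod ρ' (fun i => φ ⁻¹ᵁ U i) M').X p))
    { toFun := fun c => cochainMap U φ η p c
      map_add' := fun c c' => Subtype.ext <| funext₂ fun σ W => secMap_add φ η _ _ _
      map_smul' := fun a c => Subtype.ext <| funext₂ fun σ W => secMap_smul ρ ρ' φ η _ a _ hρ }
  comm' p q h := by
    obtain rfl : p + 1 = q := h
    refine ModuleCat.hom_ext (LinearMap.ext fun c => ?_)
    show (Ab.natCx M'.presheaf (fun i => φ ⁻¹ᵁ U i)).d p (p + 1) (cochainMap U φ η p c) =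
      cochainMap U φ η (p + 1) ((Ab.natCx M.presheaf U).d p (p + 1) c)
    rw [Ab.natCx_d, Ab.natCx_d]
    refine Subtype.ext <| funext₂ fun σ W => ?_
    let L := AddMonoidHom.mk' (secMap φ η (le_preimage U φ W.2)) (secMap_add φ η (le_preimage U φ W.2))
    show ∑ a : Fin (p + 2), (-1 : ℤ) ^ (a : ℕ) •
        secMap φ η (le_preimage U φ (fun b => W.2 (a.succAbove b)))
          (c.1 (fun b => σ (a.succAbove b)) ⟨_, fun b => iInf_le _ b⟩) =
      L (∑ a : Fin (p + 2), (-1 : ℤ) ^ (a : ℕ) • c.1 (fun b => σ (a.succAbove b))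
        ⟨⨅ b, U (σ b), fun b => iInf_le (fun i => U (σ i)) (a.succAbove b)⟩)
    rw [map_sum]
    refine Finset.sum_congr rfl fun a _ => ?_
    rw [map_zsmul]
    refine congrArg _ ?_
    refine Eq.trans ?_ (congrArg L
      (c.2 (fun b => σ (a.succAbove b)) _ (⨅ b, U (σ b)) (fun b => iInf_le _ b)
        (fun b => iInf_le (fun i => U (σ i)) (a.succAbove b))
        (homOfLE (le_iInf fun b => iInf_le (fun i => U (σ i)) (a.succAbove b)))))
    exact (secMap_map φ η _ _ _).symm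

/-- A cochain is determined by its values on the intersections. -/
noncomputable def coordEquiv (M : X.Modules) (p : ℕ) :
    letI := fun σ : Fin (p + 1) → ι => secModule ρ M (⨅ a, U (σ a))
    (cxMod ρ U M).X p ≃ₗ[A] (∀ σ : Fin (p + 1) → ι, Γ(M, ⨅ a, U (σ a))) :=
  letI := fun σ : Fin (p + 1) → ι => secModule ρ M (⨅ a, U (σ a))
  { toFun := fun c σ => c.1 σ ⟨_, fun a => iInf_le _ a⟩
    map_add' := fun _ _ => rfl
    map_smul' := fun _ _ => rfl
    invFun := fun x => ⟨fun σ W => M.presheaf.map (homOfLE (le_iInf W.2)).op (x σ),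
      fun σ W W' h h' i => map_map _ _ _⟩
    left_inv := fun c => Subtype.ext <| funext₂ fun σ W => c.2 σ _ W.1 _ W.2 _
    right_inv := fun x => funext fun σ => map_id' _ _ }

/-- Sections of `M'` over a preimage as a linear map. -/
noncomputable def secLin (V : X.Opens) (W : X'.Opens) (h : W ≤ φ ⁻¹ᵁ V) :
    letI := secModule ρ M V
    letI := secModule (ρ'.comp (algebraMap A B)) M' W
    Γ(M, V) →ₗ[A] Γ(M', W) :=
  letI := secModule ρ M V
  letI := secModule (ρ'.comp (algebraMap A B)) M' W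
  { toFun := secMap φ η h
    map_add' := secMap_add φ η h
    map_smul' := fun a x => secMap_smul ρ ρ' φ η h a x hρ }

/-- The sections over every intersection change base. -/
def IsBC : Prop :=
  ∀ {p : ℕ} (σ : Fin (p + 1) → ι) (W : X'.Opens) (hW : W = ⨅ a, φ ⁻¹ᵁ U (σ a))
    (h : W ≤ φ ⁻¹ᵁ ⨅ a, U (σ a)),
    letI := secModule ρ M (⨅ a, U (σ a))
    letI := secModule ρ' M' W
    letI := secModule (ρ'.comp (algebraMap A B)) M' W
    haveI : IsScalarTower A B Γ(M', W) := .of_algebraMap_smul fun _ _ => rfl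
    IsBaseChange B (secLin ρ ρ' φ η hρ (⨅ a, U (σ a)) W h)

theorem bijective_adjunct_cxModMap [Finite ι] (hbc : IsBC ρ ρ' U φ η hρ) (p : ℕ) :
    Function.Bijective (adjunct ((cxModMap ρ ρ' U φ η hρ).f p)) := by
  let U' := fun i => φ ⁻¹ᵁ U i
  let _ := fun σ : Fin (p + 1) → ι => secModule ρ M (⨅ a, U (σ a))
  let _ := fun σ : Fin (p + 1) → ι => secModule ρ' M' (⨅ a, U' (σ a))
  let _ := fun σ : Fin (p + 1) → ι => secModule (ρ'.comp (algebraMap A B)) M' (⨅ a, U' (σ a))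
  have : ∀ σ : Fin (p + 1) → ι, IsScalarTower A B Γ(M', ⨅ a, U' (σ a)) :=
    fun σ => .of_algebraMap_smul fun _ _ => rfl
  let N := (cxMod ρ' U' M').X p
  let : Module A N := Module.compHom N (algebraMap A B)
  have : IsScalarTower A B N := .of_algebraMap_smul fun _ _ => rfl
  have hle : ∀ σ : Fin (p + 1) → ι, (⨅ a, U' (σ a)) ≤ φ ⁻¹ᵁ ⨅ a, U (σ a) :=
    fun σ => le_preimage U φ fun a => iInf_le _ a
  have hpi := IsBaseChange.pi (S := B) (fun σ : Fin (p + 1) → ι =>
    secLin ρ ρ' φ η hρ _ _ (hle σ)) fun σ => hbc σ _ rfl (hle σ)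
  let g : (cxMod ρ U M).X p →ₗ[A] N :=
    { toFun := fun c => cochainMap U φ η p c
      map_add' := fun c c' => ((cxModMap ρ ρ' U φ η hρ).f p).hom.map_add c c'
      map_smul' := fun a c => ((cxModMap ρ ρ' U φ η hρ).f p).hom.map_smul a c }
  refine bijective_adjunct_of_isBaseChange _ g (fun _ => rfl) ?_
  refine IsBaseChange.of_equiv ((LinearEquiv.baseChange A B _ _ (coordEquiv ρ U M p)).trans
    (hpi.equiv.trans (coordEquiv ρ' U' M' p).symm)) fun c => ?_
  refine (coordEquiv ρ' U' M' p).injective (funext fun σ => ?_)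
  simp only [LinearEquiv.trans_apply, LinearEquiv.baseChange_tmul, IsBaseChange.equiv_tmul, one_smul,
    LinearEquiv.apply_symm_apply]
  rfl

/-- Base change for Čech complexes. -/
theorem cxMod_baseChange [Module.Flat A B] [Finite ι] (hbc : IsBC ρ ρ' U φ η hρ) (p : ℕ) :
    Nonempty (B ⊗[A] ((cxMod ρ U M).homology p : ModuleCat.{u} A) ≃ₗ[B]
      ((cxMod ρ' (fun i => φ ⁻¹ᵁ U i) M').homology p : ModuleCat.{u} B)) :=
  homology_baseChange _ _ (cxModMap ρ ρ' U φ η hρ) (bijective_adjunct_cxModMap ρ ρ' U φ η hρ hbc) p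

include hρ in
/-- Base change in cohomology for a covering with affine intersections. -/
theorem HH_baseChange [Module.Flat A B] [Finite ι] (hbc : IsBC ρ ρ' U φ η hρ)
    (hcov : ⨆ i, U i = ⊤) (hU : ∀ {p : ℕ} (σ : Fin (p + 1) → ι), IsAffineOpen (⨅ a, U (σ a)))
    (hcov' : ⨆ i, φ ⁻¹ᵁ U i = ⊤)
    (hU' : ∀ {p : ℕ} (σ : Fin (p + 1) → ι), IsAffineOpen (⨅ a, φ ⁻¹ᵁ U (σ a)))
    (hM : Coh.IsQCoh M) (hM' : Coh.IsQCoh M') (p : ℕ) :
    letI := modHH ρ M p
    letI := modHH ρ' M' p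
    Nonempty (B ⊗[A] Coh.HH X M p ≃ₗ[B] Coh.HH X' M' p) := by
  let := modHH ρ M p
  let := modHH ρ' M' p
  obtain ⟨e⟩ := cxMod_homology_equiv ρ U hcov hU hM p
  obtain ⟨e'⟩ := cxMod_homology_equiv ρ' (fun i => φ ⁻¹ᵁ U i) hcov' hU' hM' p
  obtain ⟨b⟩ := cxMod_baseChange ρ ρ' U φ η hρ hbc p
  exact ⟨(LinearEquiv.baseChange A B _ _ e.symm).trans (b.trans e')⟩

end Groth.Agent.QCoh
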