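import Groth.Agent.QCoh.God
import Groth.Agent.QCoh.CechMap
import Groth.Agent.QCoh.Extension
import Groth.Agent.QCoh.HHExact
import Groth.Agent.SiteBase.Top
import Groth.Agent.QCoh.Ab.MV

/-!
# Cohomology of modules through the Godement resolution
-/

universe u

open CategoryTheory CategoryTheory.Limits AlgebraicGeometry TopologicalSpace Opposite

namespace Groth.Agent.QCoh

variable {X : Scheme.{u}}

/-- The cokernels of the Godement resolution. -/
noncomputable def godQ (M : X.Modules) : ℕ → X.Modules
  | 0 => M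
  | n + 1 => cokernel (toGod (godQ M n))

/-- The projection to the next cokernel. -/
noncomputable def godπ (M : X.Modules) (n : ℕ) : God (godQ M n) ⟶ godQ M (n + 1) :=
  cokernel.π (toGod (godQ M n))

theorem toGod_godπ (M : X.Modules) (n : ℕ) : toGod (godQ M n) ≫ godπ M n = 0 :=
  cokernel.condition _

/-- One step of the Godement resolution. -/
noncomputable abbrev godSES (M : X.Modules) (n : ℕ) : ShortComplex X.Modules :=
  ShortComplex.mk (toGod (godQ M n)) (godπ M n) (toGod_godπ M n)

theorem godSES_shortExact (M : X.Modules) (n : ℕ) : (godSES M n).ShortExact :=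
  { exact := ShortComplex.exact_of_g_is_cokernel _ (cokernelIsCokernel _)
    mono_f := inferInstanceAs (Mono (toGod (godQ M n)))
    epi_g := inferInstanceAs (Epi (cokernel.π (toGod (godQ M n)))) }

variable {X' : Scheme.{u}} (φ : X' ⟶ X) {M : X.Modules} {M' : X'.Modules}
  (η : M ⟶ (Scheme.Modules.pushforward φ).obj M')

/-- Functoriality of the cokernels. -/
noncomputable def godQMap : ∀ n, godQ M n ⟶ (Scheme.Modules.pushforward φ).obj (godQ M' n)
  | 0 => η
  | n + 1 => cokernel.desc (toGod (godQ M n))
      (godMap φ (godQMap n) ≫ (Scheme.Modules.pushforward φ).map (godπ M' n)) (by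
        rw [← Category.assoc, toGod_godMap, Category.assoc, ← Functor.map_comp, toGod_godπ,
          Functor.map_zero, comp_zero])

theorem godπ_godQMap (n : ℕ) :
    godπ M n ≫ godQMap φ η (n + 1) =
      godMap φ (godQMap φ η n) ≫ (Scheme.Modules.pushforward φ).map (godπ M' n) :=
  cokernel.π_desc _ _ _

variable {A : Type u} [CommRing A] (ρ : A →+* Coh.Γtop X)

/-- Sections of the Godement terms over an open, as modules. -/
noncomputable abbrev godTerm (W : X.Opens) (M : X.Modules) (n : ℕ) : ModuleCat.{u} A :=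
  letI := secModule ρ (God (godQ M n)) W
  ModuleCat.of A Γ(God (godQ M n), W)

/-- A morphism of modules on sections, linearly. -/
noncomputable def appHom {N N' : X.Modules} (f : N ⟶ N') (W : X.Opens) :
    letI := secModule ρ N W
    letI := secModule ρ N' W
    Γ(N, W) →ₗ[A] Γ(N', W) :=
  letI := secModule ρ N W
  letI := secModule ρ N' W
  { toFun := f.app W
    map_add' := map_add (f.app W).hom
    map_smul' := fun _ x => Scheme.Modules.Hom.app_smul f _ x }

/-- The Godement complex of sections over an open. -/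
noncomputable def godCx (W : X.Opens) (M : X.Modules) : CochainComplex (ModuleCat.{u} A) ℕ :=
  CochainComplex.of (godTerm ρ W M)
    (fun n => letI := secModule ρ (God (godQ M n)) W
      letI := secModule ρ (God (godQ M (n + 1))) W
      ModuleCat.ofHom (appHom ρ (godπ M n ≫ toGod (godQ M (n + 1))) W))
    fun n => ModuleCat.hom_ext (@LinearMap.ext _ _ _ _ _ _ _ _ (godTerm ρ W M n).isModule (godTerm ρ W M (n + 2)).isModule _ _ _ fun x => by
      show (toGod (godQ M (n + 2))).app W ((godπ M (n + 1)).app W ((toGod (godQ M (n + 1))).app W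
        ((godπ M n).app W x))) = 0
      rw [app_g_f (S := godSES M (n + 1))]
      exact map_zero _)

theorem godCx_d_apply (W : X.Opens) (M : X.Modules) (n : ℕ) (x : Γ(God (godQ M n), W)) :
    (show Γ(God (godQ M (n + 1)), W) from (godCx ρ W M).d n (n + 1) x) =
      (toGod (godQ M (n + 1))).app W ((godπ M n).app W x) := by
  simp only [godCx, CochainComplex.of_d]
  rfl

variable {B : Type u} [CommRing B] [Algebra A B] (ρ' : B →+* Coh.Γtop X')
  (hρ : ∀ a, ρ' (algebraMap A B a) = φ.appTop (ρ a))

/-- Restriction and pullback of the Godement complexes. -/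
noncomputable def godCxMap {W : X.Opens} {W' : X'.Opens} (h : W' ≤ φ ⁻¹ᵁ W) :
    godCx ρ W M ⟶ ((ModuleCat.restrictScalars (algebraMap A B)).mapHomologicalComplex _).obj
      (godCx ρ' W' M') where
  f n := letI := secModule ρ (God (godQ M n)) W
    ModuleCat.ofHom (X := Γ(God (godQ M n), W)) (Y := (ModuleCat.restrictScalars (algebraMap A B)).obj (godTerm ρ' W' M' n))
    { toFun := fun x => secMap φ (godMap φ (godQMap φ η n)) h x
      map_add' := secMap_add φ _ h
      map_smul' := fun a x => secMap_smul ρ ρ' φ _ h a x hρ }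
  comm' p q hpq := by
    obtain rfl : p + 1 = q := hpq
    refine ModuleCat.hom_ext (LinearMap.ext fun (x : Γ(God (godQ M p), W)) => ?_)
    show (show Γ(God (godQ M' (p + 1)), W') from
        (godCx ρ' W' M').d p (p + 1) (secMap φ (godMap φ (godQMap φ η p)) h x)) =
      secMap φ (godMap φ (godQMap φ η (p + 1))) h
        (show Γ(God (godQ M (p + 1)), W) from (godCx ρ W M).d p (p + 1) x)
    rw [godCx_d_apply, godCx_d_apply]
    have e1 : (godπ M p ≫ toGod (godQ M (p + 1))) ≫ godMap φ (godQMap φ η (p + 1)) =
        godMap φ (godQMap φ η p) ≫ (Scheme.Modules.pushforward φ).map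
          (godπ M' p ≫ toGod (godQ M' (p + 1))) := by
      rw [Category.assoc, toGod_godMap, ← Category.assoc, godπ_godQMap, Category.assoc, Functor.map_comp]
    unfold secMap
    rw [map_app_comm, map_app_comm]
    exact congrArg ((God (godQ M' (p + 1))).presheaf.map (homOfLE h).op)
      (congrArg (fun f => f.app W x) e1).symm

theorem subsingleton_HU_God (N : X.Modules) (W : X.Opens) (k : ℕ) :
    Subsingleton (CohTop.HU (X := X.toPresheafedSpace.carrier) (abSheaf (God N)) (k + 1) W) :=
  SiteBase.subsingleton_HU_of_isFlasque (X := X.toPresheafedSpace.carrier)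
    ⟨(God N).presheaf, (God N).isSheaf⟩ W k

theorem subsingleton_HU_godQ {W : X.Opens} : ∀ (n k : ℕ),
    Subsingleton (CohTop.HU (X := X.toPresheafedSpace.carrier) (abSheaf M) (n + k + 1) W) →
    Subsingleton (CohTop.HU (X := X.toPresheafedSpace.carrier) (abSheaf (godQ M n)) (k + 1) W) := by
  intro n
  induction n with
  | zero => intro k h; rw [Nat.zero_add] at h; exact h
  | succ n ih =>
    intro k h
    have h' := ih (k + 1) (by rw [show n + (k + 1) + 1 = n + 1 + k + 1 by omega]; exact h)
    exact SiteBase.subsingleton_HU_X₃ (toAb_shortExact (godSES_shortExact M n)) W (k + 1) h'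
      (subsingleton_HU_God (godQ M n) W k)

theorem godπ_app_surjective {W : X.Opens} {n : ℕ}
    (h : Subsingleton (CohTop.HU (X := X.toPresheafedSpace.carrier) (abSheaf M) (n + 1) W)) :
    Function.Surjective ((godπ M n).app W) :=
  SiteBase.surjective_sections_of_HU_one (toAb_shortExact (godSES_shortExact M n)) W
    (subsingleton_HU_godQ n 0 h)

theorem exists_of_godπ_app_eq_zero {W : X.Opens} (n : ℕ) (x : Γ(God (godQ M n), W))
    (hx : (godπ M n).app W x = 0) : ∃ a, (toGod (godQ M n)).app W a = x :=
  exists_app_f_eq (godSES_shortExact M n) W x hx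

theorem godCx_exactAt {W : X.Opens} {n : ℕ}
    (h : Subsingleton (CohTop.HU (X := X.toPresheafedSpace.carrier) (abSheaf M) (n + 1) W)) :
    (godCx ρ W M).ExactAt (n + 1) := by
  rw [HomologicalComplex.exactAt_iff' _ n (n + 1) (n + 2) (by simp) (by simp),
    ShortComplex.moduleCat_exact_iff]
  intro x hx
  replace hx : (show Γ(God (godQ M (n + 2)), W) from (godCx ρ W M).d (n + 1) (n + 2) x) = 0 := hx
  replace hx := (godCx_d_apply ρ W M (n + 1) x).symm.trans hx
  obtain ⟨a, ha⟩ := exists_of_godπ_app_eq_zero (n + 1) x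
    ((toGod_app_injective (godQ M (n + 2)) W) (hx.trans (map_zero _).symm))
  obtain ⟨b, rfl⟩ := godπ_app_surjective h a
  exact ⟨b, (godCx_d_apply ρ W M n b).trans ha⟩

/-- Sections map to the zeroth term. -/
noncomputable def godAug (W : X.Opens) (M : X.Modules) :
    letI := secModule ρ M W
    Γ(M, W) →ₗ[A] ((godCx ρ W M).X 0 : ModuleCat.{u} A) :=
  appHom ρ (toGod M) W

theorem godAug_d (W : X.Opens) (M : X.Modules) (x : Γ(M, W)) :
    (godCx ρ W M).d 0 1 (godAug ρ W M x) = 0 := by
  refine (godCx_d_apply ρ W M 0 _).trans ?_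
  show (toGod (godQ M 1)).app W ((godπ M 0).app W ((toGod (godQ M 0)).app W x)) = 0
  exact (congrArg ((toGod (godQ M 1)).app W) (app_g_f (S := godSES M 0) W x)).trans (map_zero _)

theorem godAug_bijective (W : X.Opens) (M : X.Modules) :
    Function.Injective (godAug ρ W M) ∧ ∀ y, (godCx ρ W M).d 0 1 y = 0 → ∃ x, godAug ρ W M x = y := by
  refine ⟨toGod_app_injective M W, fun y hy => ?_⟩
  replace hy : (show Γ(God (godQ M 1), W) from (godCx ρ W M).d 0 1 y) = 0 := hy
  replace hy := (godCx_d_apply ρ W M 0 y).symm.trans hy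
  exact exists_of_godπ_app_eq_zero (M := M) 0 y
    ((toGod_app_injective (godQ M 1) W) (hy.trans (map_zero _).symm))

theorem godCxMap_aug {W : X.Opens} {W' : X'.Opens} (h : W' ≤ φ ⁻¹ᵁ W) (x : Γ(M, W)) :
    (show Γ(God M', W') from (godCxMap φ η ρ ρ' hρ h).f 0 (godAug ρ W M x)) =
      (toGod M').app W' (secMap φ η h x) := by
  show secMap φ (godMap φ η) h ((toGod M).app W x) = _
  unfold secMap
  rw [map_app_comm]
  exact congrArg _ (congrArg (fun f => f.app W x) (toGod_godMap φ η))

end Groth.Agent.QCoh
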