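import Groth.Agent.QCoh.Support

set_option backward.isDefEq.respectTransparency false
set_option backward.isDefEq.respectTransparency.types false

universe u

open CategoryTheory CategoryTheory.Limits AlgebraicGeometry TopologicalSpace Opposite

namespace Groth.Agent.QCoh

variable {R : CommRingCat.{u}} (N : (Spec R).Modules)

theorem finite_top_iff :
    Module.Finite Γ(Spec R, ⊤) Γ(N, ⊤) ↔ Module.Finite R (moduleSpecΓFunctor.obj N) := by
  constructor
  · intro h
    letI : Algebra R Γ(Spec R, ⊤) := (Scheme.ΓSpecIso R).inv.hom.toAlgebra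
    letI : Module R Γ(N, ⊤) := Module.compHom _ (Scheme.ΓSpecIso R).inv.hom
    haveI : IsScalarTower R Γ(Spec R, ⊤) Γ(N, ⊤) := IsScalarTower.of_algebraMap_smul fun _ _ => rfl
    haveI : Module.Finite R Γ(Spec R, ⊤) := Module.Finite.of_surjective (Algebra.linearMap R Γ(Spec R, ⊤))
      fun a => ⟨(Scheme.ΓSpecIso R).hom a, (Scheme.ΓSpecIso R).hom_inv_id_apply a⟩
    have := Module.Finite.trans (R := R) Γ(Spec R, ⊤) Γ(N, ⊤)
    exact Module.Finite.of_surjective
      ({ toFun := fun x => (show moduleSpecΓFunctor.obj N from x), map_add' := fun _ _ => rfl,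
         map_smul' := fun _ _ => rfl } : Γ(N, ⊤) →ₗ[R] moduleSpecΓFunctor.obj N) (fun y => ⟨y, rfl⟩)
  · intro h
    exact Module.Finite.of_surjective (σ := (Scheme.ΓSpecIso R).inv.hom)
      (P := Γ(N, ⊤))
      { toFun := fun x : moduleSpecΓFunctor.obj N => (show Γ(N, ⊤) from x), map_add' := fun _ _ => rfl,
        map_smul' := fun _ _ => rfl } (fun y => ⟨y, rfl⟩)

theorem finitePresentation_top_iff :
    Module.FinitePresentation Γ(Spec R, ⊤) Γ(N, ⊤) ↔
      Module.FinitePresentation R (moduleSpecΓFunctor.obj N) := by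
  constructor
  · intro h
    letI : Algebra R Γ(Spec R, ⊤) := (Scheme.ΓSpecIso R).inv.hom.toAlgebra
    letI : Module R Γ(N, ⊤) := Module.compHom _ (Scheme.ΓSpecIso R).inv.hom
    haveI : IsScalarTower R Γ(Spec R, ⊤) Γ(N, ⊤) := IsScalarTower.of_algebraMap_smul fun _ _ => rfl
    let e : R ≃ₗ[R] Γ(Spec R, ⊤) := LinearEquiv.ofBijective (Algebra.linearMap R Γ(Spec R, ⊤))
      (ConcreteCategory.bijective_of_isIso (Scheme.ΓSpecIso R).inv)
    haveI : Module.FinitePresentation R Γ(Spec R, ⊤) := Module.FinitePresentation.of_equiv e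
    have := Module.FinitePresentation.trans (R := R) (M := Γ(N, ⊤)) Γ(Spec R, ⊤)
    exact Module.FinitePresentation.of_equiv
      ({ toFun := fun x => (show moduleSpecΓFunctor.obj N from x), invFun := fun x => x, map_add' := fun _ _ => rfl,
         map_smul' := fun _ _ => rfl } : Γ(N, ⊤) ≃ₗ[R] moduleSpecΓFunctor.obj N)
  · intro h
    letI : Algebra Γ(Spec R, ⊤) R := (Scheme.ΓSpecIso R).hom.hom.toAlgebra
    letI : Module Γ(Spec R, ⊤) (moduleSpecΓFunctor.obj N) := Module.compHom _ (Scheme.ΓSpecIso R).hom.hom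
    haveI : IsScalarTower Γ(Spec R, ⊤) R (moduleSpecΓFunctor.obj N) :=
      IsScalarTower.of_algebraMap_smul fun _ _ => rfl
    let e : Γ(Spec R, ⊤) ≃ₗ[Γ(Spec R, ⊤)] R := LinearEquiv.ofBijective (Algebra.linearMap Γ(Spec R, ⊤) R)
      (ConcreteCategory.bijective_of_isIso (Scheme.ΓSpecIso R).hom)
    haveI : Module.FinitePresentation Γ(Spec R, ⊤) R := Module.FinitePresentation.of_equiv e
    have := Module.FinitePresentation.trans (R := Γ(Spec R, ⊤)) (M := moduleSpecΓFunctor.obj N) R
    exact Module.FinitePresentation.of_equiv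
      ({ toFun := fun x => (show Γ(N, ⊤) from x), invFun := fun x => x, map_add' := fun _ _ => rfl,
         map_smul' := fun a x => congrArg (fun r => r • (show Γ(N, ⊤) from x)) ((Scheme.ΓSpecIso R).hom_inv_id_apply a) } :
        moduleSpecΓFunctor.obj N ≃ₗ[Γ(Spec R, ⊤)] Γ(N, ⊤))

theorem isFT_iff_finite (hN : Coh.IsQCoh N) :
    CohB1.IsFT N ↔ Module.Finite R (moduleSpecΓFunctor.obj N) := by
  refine ⟨fun h => (finite_top_iff N).1 (finite_of_isFT hN h (isAffineOpen_top _)), fun h => ?_⟩
  exact isFT_of_finite hN (fun _ : PUnit.{u + 1} => (⊤ : (Spec R).Opens)) (by simp [IsOpenCover])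
    (fun _ => isAffineOpen_top _) fun _ => (finite_top_iff N).2 h

theorem isFP_iff_finitePresentation (hN : Coh.IsQCoh N) :
    CohB1.IsFP N ↔ Module.FinitePresentation R (moduleSpecΓFunctor.obj N) := by
  refine ⟨fun h => (finitePresentation_top_iff N).1 (finitePresentation_of_isFP h (isAffineOpen_top _)), fun h => ?_⟩
  exact isFP_of_finitePresentation hN (fun _ : PUnit.{u + 1} => (⊤ : (Spec R).Opens)) (by simp [IsOpenCover])
    (fun _ => isAffineOpen_top _) fun _ => (finitePresentation_top_iff N).2 h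

theorem isFT_tilde_iff (M : ModuleCat.{u} R) : CohB1.IsFT (tilde M) ↔ Module.Finite R M :=
  (isFT_iff_finite _ inferInstance).trans (Module.Finite.equiv_iff (tilde.toTildeΓNatIso.app M).toLinearEquiv.symm)

theorem isFP_tilde_iff (M : ModuleCat.{u} R) : CohB1.IsFP (tilde M) ↔ Module.FinitePresentation R M := by
  let e : M ≃ₗ[R] moduleSpecΓFunctor.obj (tilde M) := (tilde.toTildeΓNatIso.app M).toLinearEquiv
  refine (isFP_iff_finitePresentation _ inferInstance).trans ⟨fun h => ?_, fun h => ?_⟩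
  · exact Module.FinitePresentation.of_equiv e.symm
  · exact Module.FinitePresentation.of_equiv e

end Groth.Agent.QCoh
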