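import Groth.Agent.QCoh.DevissageP
import Mathlib.RingTheory.Filtration

/-!
# The Artin–Rees lemma on a Noetherian scheme
-/

universe u

set_option backward.isDefEq.respectTransparency false
set_option backward.isDefEq.respectTransparency.types false

open CategoryTheory CategoryTheory.Limits AlgebraicGeometry TopologicalSpace Opposite

namespace Groth.Agent.QCoh

variable {X : Scheme.{u}}

theorem exists_pow_le_annihilator [IsNoetherian X] {N : X.Modules} (hN : Coh.IsCoh N) (J : X.IdealSheafData)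
    (hs : CohB1.support N ⊆ (J.support : Set X)) (U : X.affineOpens) :
    ∃ n : ℕ, J.ideal U ^ n ≤ Module.annihilator Γ(X, U.1) Γ(N, U.1) := by
  haveI := noetherian_sections (X := X) U
  haveI := finite_sections hN U.2
  refine Ideal.exists_pow_le_of_le_radical_of_fg ?_ (IsNoetherian.noetherian _)
  rw [Ideal.radical_eq_sInf]
  refine le_sInf fun q ⟨hle, hq⟩ a ha => ?_
  set x := U.2.fromSpec ⟨q, hq⟩ with hxdef
  have hxU : x ∈ U.1 := U.2.range_fromSpec.le (Set.mem_range_self _)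
  have hxN : x ∈ CohB1.support N := by
    refine (mem_moduleSupport_iff hN.1 U.2 hxU).1 ?_
    have hq' : U.2.primeIdealOf ⟨x, hxU⟩ = ⟨q, hq⟩ := U.2.fromSpec.isOpenEmbedding.injective (U.2.fromSpec_primeIdealOf _)
    rw [hq', Module.support_eq_zeroLocus]
    exact hle
  have hxJ := (Scheme.IdealSheafData.mem_support_iff_of_mem hxU).1 (hs hxN)
  rw [Scheme.mem_zeroLocus_iff] at hxJ
  by_contra hna
  exact hxJ a ha ((mem_basicOpen_fromSpec U.2 ⟨q, hq⟩ a).2 hna)

theorem eq_zero_of_mem_pow {A M N : Type u} [CommRing A] [IsNoetherianRing A] [AddCommGroup M] [Module A M]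
    [Module.Finite A M] [AddCommGroup N] [Module A N] (l : N →ₗ[A] M) (I : Ideal A) (m : ℕ)
    (hm : I ^ m ≤ Module.annihilator A N) :
    ∃ n₀ : ℕ, ∀ n, n₀ ≤ n → ∀ y, l y ∈ (I ^ n) • (⊤ : Submodule A M) → l y = 0 := by
  obtain ⟨c, hc⟩ := Ideal.exists_pow_inf_eq_pow_smul I (LinearMap.range l)
  refine ⟨c + m, fun n hn y hy => ?_⟩
  have h1 : l y ∈ I ^ n • (⊤ : Submodule A M) ⊓ LinearMap.range l := ⟨hy, LinearMap.mem_range_self l y⟩
  rw [hc n (by omega)] at h1
  refine (Submodule.mem_bot A).1 ((Submodule.smul_le (P := (⊥ : Submodule A M))).2 ?_ h1)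
  rintro r hr _ ⟨-, w, rfl⟩
  rw [Submodule.mem_bot, ← map_smul,
    Module.mem_annihilator.1 (hm (Ideal.pow_le_pow_right (by omega) hr)) w, map_zero]

theorem kernel_app_mem {M N : X.Modules} (hM : Coh.IsQCoh M) (k : N ⟶ M) (J : X.IdealSheafData)
    {U : X.Opens} (hU : IsAffineOpen U)
    (w : Γ(kernel (k ≫ (Scheme.Modules.pullbackPushforwardAdjunction J.subschemeι).unit.app M), U)) :
    k.app U ((kernel.ι (k ≫ (Scheme.Modules.pullbackPushforwardAdjunction J.subschemeι).unit.app M)).app U w) ∈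
      J.ideal ⟨U, hU⟩ • (⊤ : Submodule Γ(X, U) Γ(M, U)) := by
  have h0 := congrArg (fun φ => Scheme.Modules.Hom.app φ U w)
    (kernel.condition (k ≫ (Scheme.Modules.pullbackPushforwardAdjunction J.subschemeι).unit.app M))
  have h := ((unit_app_closed J.subschemeι hM hU).2 _).1 h0
  rw [Scheme.IdealSheafData.ker_subschemeι] at h
  exact h

/-- A coherent submodule supported in the closed subscheme of `J` meets a high multiple `Jⁿ • M` in
zero. -/
theorem exists_pow_mono [IsNoetherian X] {M N : X.Modules} (hM : Coh.IsCoh M) (hN : Coh.IsCoh N)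
    (k : N ⟶ M) [Mono k] (J : X.IdealSheafData) (hs : CohB1.support N ⊆ (J.support : Set X)) :
    ∃ n : ℕ, Mono (k ≫ (Scheme.Modules.pullbackPushforwardAdjunction (J ^ n).subschemeι).unit.app M) := by
  classical
  choose U hU hxU using fun x : X => exists_affine_mem x
  obtain ⟨t, ht⟩ := isCompact_univ.elim_finite_subcover (fun x : X => (U x : Set X))
    (fun x => (U x).2) (fun x _ => Set.mem_iUnion.2 ⟨x, hxU x⟩)
  let A : X → X.affineOpens := fun x => ⟨U x, hU x⟩
  have key : ∀ x, ∃ n₀ : ℕ, ∀ n, n₀ ≤ n → ∀ y : Γ(N, U x),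
      k.app (U x) y ∈ (J.ideal (A x) ^ n) • (⊤ : Submodule Γ(X, U x) Γ(M, U x)) → y = 0 := fun x => by
    haveI := noetherian_sections (X := X) (A x)
    haveI := finite_sections hM (hU x)
    obtain ⟨m, hm⟩ := exists_pow_le_annihilator hN J hs (A x)
    let l : Γ(N, U x) →ₗ[Γ(X, U x)] Γ(M, U x) :=
      { toFun := k.app (U x)
        map_add' := map_add _
        map_smul' := Scheme.Modules.Hom.app_smul k }
    obtain ⟨n₀, hn₀⟩ := eq_zero_of_mem_pow l (J.ideal (A x)) m hm
    exact ⟨n₀, fun n hn y hy => app_injective k (U x) ((hn₀ n hn y hy).trans (map_zero _).symm)⟩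
  choose n₀ hn₀ using key
  refine ⟨t.sup n₀, ?_⟩
  obtain ⟨J', hJ'⟩ : ∃ J', J' = J ^ t.sup n₀ := ⟨_, rfl⟩
  rw [← hJ']
  have hid : ∀ V, J'.ideal V = J.ideal V ^ t.sup n₀ := fun V => by
    rw [hJ', Scheme.IdealSheafData.ideal_pow, Pi.pow_apply]
  clear hJ'
  refine Preadditive.mono_of_kernel_zero (IsZero.eq_of_src ?_ _ _)
  have hq : Coh.IsQCoh ((Scheme.Modules.pullback J'.subschemeι ⋙
      Scheme.Modules.pushforward J'.subschemeι).obj M) :=
    isQCoh_pushforward J'.subschemeι (isQCoh_pullback J'.subschemeι hM.1)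
  refine isZero_of_cover (isQCoh_kernel hN.1 hq _) (fun x : t => U x.1) (fun x => hU x.1)
    (fun p => by
      obtain ⟨x, hx, hp⟩ := Set.mem_iUnion₂.1 (ht (Set.mem_univ p))
      exact ⟨⟨x, hx⟩, hp⟩)
    fun x => ⟨fun a b => app_injective (kernel.ι _) _ ?_⟩
  have hz := fun w => hn₀ x.1 _ (Finset.le_sup x.2) _ (by
    have h := kernel_app_mem hM.1 k J' (hU x.1) w
    rw [hid] at h
    exact h)
  exact (hz a).trans (hz b).symm

end Groth.Agent.QCoh
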