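import Groth.Agent.QCoh.DevissageSum
import Groth.Agent.QCoh.ArtinRees

/-!
# A coherent module is, near a generic point, a sum of copies of an ideal
-/

universe u

set_option backward.isDefEq.respectTransparency false
set_option backward.isDefEq.respectTransparency.types false

open CategoryTheory CategoryTheory.Limits AlgebraicGeometry TopologicalSpace Opposite

namespace Groth.Agent.QCoh

attribute [local instance] hasFiniteBiproducts

variable {X : Scheme.{u}}

theorem isQCoh_biproduct {β : Type u} [Fintype β] (T : β → X.Modules) (h : ∀ b, Coh.IsQCoh (T b)) :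
    Coh.IsQCoh (⨁ T) :=
  (isQCoh_iff_iso (biproduct.isoCoproduct T)).2 (isQCoh_colimit (Discrete.functor T) fun b => h b.as)

theorem biproduct_app_decomp {β : Type u} [Fintype β] (T : β → X.Modules) (W : X.Opens) (x : Γ(⨁ T, W)) :
    x = ∑ k, (biproduct.ι T k).app W ((biproduct.π T k).app W x) := by
  refine Eq.trans ?_ (app_sum Finset.univ (fun b => biproduct.π T b ≫ biproduct.ι T b) W x)
  rw [biproduct_total']; rfl

theorem biproduct_desc_app {β : Type u} [Fintype β] (T : β → X.Modules) {N : X.Modules} (f : ∀ b, T b ⟶ N)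
    (W : X.Opens) (x : Γ(⨁ T, W)) :
    (biproduct.desc f).app W x = ∑ k, (f k).app W ((biproduct.π T k).app W x) := by
  conv_lhs => rw [biproduct_app_decomp T W x]
  rw [map_sum]
  exact Finset.sum_congr rfl fun k _ => congr(($(biproduct.ι_desc f k)).app W _)

/-- Over `U`, a coherent module killed by the prime of `ξ` receives, injectively and with cokernel away
from `ξ`, a sum of copies of a nonzero ideal of the closure of `ξ`. -/
theorem exists_sum_ideal [IsNoetherian X] {F : X.Modules} (hF : Coh.IsCoh F) {Z : Scheme.{u}} (i : Z ⟶ X)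
    [IsClosedImmersion i] [IsIntegral Z] {U : X.Opens} (hU : IsAffineOpen U) (hξU : i (genericPoint Z) ∈ U)
    (hkill : ∀ a : Γ(X, U), i (genericPoint Z) ∉ X.basicOpen a → ∀ m : Γ(F, U), a • m = 0) :
    ∃ (r : ℕ) (I : Z.Modules) (ι : I ⟶ Coh.structureModule Z)
      (φ : (⨁ fun _ : ULift.{u} (Fin r) => (Coh.push i).obj I) ⟶ F),
      Mono ι ∧ Coh.IsCoh I ∧ ¬ IsZero I ∧ Mono φ ∧ i (genericPoint Z) ∉ CohB1.support (cokernel φ) ∧
        (i (genericPoint Z) ∈ CohB1.support F → 0 < r) := by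
  classical
  set ξ := i (genericPoint Z) with hξdef
  set p := hU.primeIdealOf ⟨ξ, hξU⟩ with hpdef
  have hD : ∀ a : Γ(X, U), ξ ∈ X.basicOpen a ↔ a ∉ p.asIdeal := mem_basicOpen_iff_notMem hU hξU
  haveI := finite_sections hF hU
  obtain ⟨r, s, hind, hgen⟩ := exists_indep_gens (M := Γ(F, U)) p.asIdeal
    fun a ha m => hkill a (fun h => (hD a).1 h ha) m
  set Pb := (Scheme.Modules.pushforward U.ι).obj (F.restrict U.ι)
  let ψ : F ⟶ Pb := (Scheme.Modules.restrictAdjunction U.ι).unit.app F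
  have hPb : Coh.IsQCoh Pb := isQCoh_pushforward U.ι (isQCoh_restrict U.ι hF.1)
  have hψinj : Function.Injective (ψ.app U) := unit_restrict_app_injective U F le_rfl
  have hψsurj : Function.Surjective (ψ.app U) := fun y => by
    have he : U.ι ''ᵁ (U.ι ⁻¹ᵁ U) = U := by
      rw [U.ι.image_preimage_eq_opensRange_inf, Scheme.Opens.opensRange_ι, inf_idem]
    refine ⟨F.presheaf.map (homOfLE he.ge).op y, ?_⟩
    show ((Scheme.Modules.restrictAdjunction U.ι).unit.app F).app U _ = _
    rw [Scheme.Modules.restrictAdjunction_unit_app_app]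
    exact (map_map (M := F) _ _ (show Γ(F, U.ι ''ᵁ (U.ι ⁻¹ᵁ U)) from y)).trans (map_id' (M := F) _ _)
  -- Artin–Rees: a submodule of `F` equal to it on `U`, embedded in `Pb`
  let J := Scheme.IdealSheafData.vanishingIdeal (⟨(U : Set X)ᶜ, U.2.isClosed_compl⟩ : Closeds X)
  have hψk : Coh.IsCoh (kernel ψ) := isCoh_of_mono (kernel.ι ψ) hF (isQCoh_kernel hF.1 hPb ψ)
  have hks : CohB1.support (kernel ψ) ⊆ (J.support : Set X) := fun x hx => by
    rw [Scheme.IdealSheafData.coe_support_vanishingIdeal]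
    intro hxU
    refine notMem_support_kernel hF.1 hPb ψ hU hxU (fun y hy => ⟨1, ?_, ?_⟩) hx
    · rw [Scheme.basicOpen_of_isUnit _ isUnit_one]; exact hxU
    · rw [one_smul]; exact hψinj (hy.trans (map_zero _).symm)
  obtain ⟨n, hn⟩ := exists_pow_mono hF hψk (kernel.ι ψ) J hks
  have hJU : (J ^ n).ideal ⟨U, hU⟩ = ⊤ := by
    rw [Scheme.IdealSheafData.ideal_pow, Pi.pow_apply]
    have : J.ideal ⟨U, hU⟩ = ⊤ := (Ideal.eq_top_iff_one _).2 (by
      rw [Scheme.IdealSheafData.vanishingIdeal_ideal, PrimeSpectrum.mem_vanishingIdeal]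
      exact fun q hq => absurd (hU.range_fromSpec.le (Set.mem_range_self q)) hq)
    rw [this, Ideal.top_pow]
  obtain ⟨J', hJ'⟩ : ∃ J', J' = J ^ n := ⟨_, rfl⟩
  rw [← hJ'] at hn hJU
  clear hJ'
  let u := (Scheme.Modules.pullbackPushforwardAdjunction J'.subschemeι).unit.app F
  have hu : Coh.IsQCoh ((Scheme.Modules.pullback J'.subschemeι ⋙
      Scheme.Modules.pushforward J'.subschemeι).obj F) :=
    isQCoh_pushforward J'.subschemeι (isQCoh_pullback J'.subschemeι hF.1)
  let F' := kernel u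
  have hF' : Coh.IsCoh F' := isCoh_of_mono (kernel.ι u) hF (isQCoh_kernel hF.1 hu u)
  have hι'surj : Function.Surjective ((kernel.ι u).app U) := fun y => by
    refine exists_kernel_lift u U y (((unit_app_closed J'.subschemeι hF.1 hU).2 y).2 ?_)
    rw [Scheme.IdealSheafData.ker_subschemeι, hJU, Submodule.top_smul]
    trivial
  let χ : F' ⟶ Pb := kernel.ι u ≫ ψ
  haveI : Mono χ := Preadditive.mono_of_cancel_zero _ fun {T} g hg => by
    have hl := kernel.lift_ι ψ (g ≫ kernel.ι u) ((Category.assoc _ _ _).trans hg)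
    have h0 : kernel.lift ψ (g ≫ kernel.ι u) ((Category.assoc _ _ _).trans hg) ≫ (kernel.ι ψ ≫ u) = 0 := by
      rw [← Category.assoc, hl, Category.assoc, kernel.condition, comp_zero]
    rw [zero_of_comp_mono (kernel.ι ψ ≫ u) h0] at hl
    exact zero_of_comp_mono (kernel.ι u) (hl.symm.trans zero_comp)
  -- maps from the structure sheaf of the closure
  let A := (Coh.push i).obj (Coh.structureModule Z)
  have hA : Coh.IsCoh A := isCoh_push_structure i
  let η : Coh.structureModule X ⟶ A := SheafOfModules.unitToPushforwardObjUnit i.toRingCatSheafHom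
  have hη : ∀ (V : X.Opens) (a : Γ(X, V)), η.app V a = i.app V a := fun V a => rfl
  have hηk : ∀ (V : X.Opens) (a : Γ(X, V)), η.app V a = 0 ↔ ξ ∉ X.basicOpen a := fun V a => by
    rw [hη]
    refine not_iff_not.1 ((ne_zero_iff_mem_basicOpen (i.app V a)).trans ?_)
    rw [not_not, ← Scheme.preimage_basicOpen]
    rfl
  haveI : Epi η := by
    refine Preadditive.epi_of_cokernel_zero (IsZero.eq_of_tgt (isZero_of_app_eq_zero
      (isQCoh_cokernel isQCoh_structureModule hA.1 η) fun V x => ?_) _ _)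
    obtain ⟨y, rfl⟩ := app_surjective_of_epi hA.1 (isQCoh_cokernel isQCoh_structureModule hA.1 η)
      (cokernel.π η) V.2 x
    obtain ⟨a, rfl⟩ := i.app_surjective V.1 V.2 y
    exact congr(($(cokernel.condition η)).app V.1 a)
  have hfs : ∀ k, ∀ a : Γ(X, U), a • s k = 0 ↔ a ∈ p.asIdeal := fun k a => by
    refine ⟨fun h => ?_, fun ha => hkill a (fun h => (hD a).1 h ha) (s k)⟩
    have := hind (Pi.single k a) (by
      rw [Finset.sum_eq_single k (fun b _ hb => by rw [Pi.single_eq_of_ne hb, zero_smul])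
        (fun h => absurd (Finset.mem_univ k) h), Pi.single_eq_same]
      exact h) k
    rwa [Pi.single_eq_same] at this
  choose φ₁ hφ1 hφ using fun k => exists_kernel_point hF.1 hU (s k) p (hfs k)
  have hker : ∀ k, kernel.ι η ≫ φ₁ k = 0 := fun k => by
    refine Scheme.Modules.hom_ext _ _ fun W => ?_
    ext x
    refine eq_zero_of_locally W _ fun q hq => ?_
    obtain ⟨_, ⟨V, hV, rfl⟩, hqV, hVW⟩ := X.isBasis_affineOpens.exists_subset_of_mem_open hq W.2
    refine ⟨V, homOfLE hVW, hqV, ?_⟩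
    rw [← map_app_comm]
    refine (hφ k ⟨V, hV⟩ _).2 ?_
    rw [hU.fromSpec_primeIdealOf]
    exact (hηk V _).1 congr(($(kernel.condition η)).app V _)
  choose θ hθ using fun k => (⟨_, ((CokernelCofork.IsColimit.desc'
    (Abelian.epiIsCokernelOfKernel _ (kernelIsKernel η)) (φ₁ k) (hker k))).2⟩ : ∃ θ, η ≫ θ = φ₁ k)
  let T : ULift.{u} (Fin r) → X.Modules := fun _ => A
  let Θ : (⨁ T) ⟶ Pb := biproduct.desc θ
  have hT : Coh.IsCoh (⨁ T) := isCoh_biproduct T fun _ => hA
  have hθU : ∀ k (a : Γ(X, U)), (θ k).app U (η.app U a) = ψ.app U (a • s k) := fun k a => by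
    rw [Scheme.Modules.Hom.app_smul, show ψ.app U (s k) = (φ₁ k).app U (1 : Γ(X, U)) from (hφ1 k).symm]
    exact ((congr(($(hθ k)).app U a) : _).trans
      (congrArg ((φ₁ k).app U) (mul_one a).symm)).trans
      (Scheme.Modules.Hom.app_smul (M := Coh.structureModule X) (φ₁ k) a (1 : Γ(X, U)))
  have hΘinjU : ∀ x : Γ(⨁ T, U), Θ.app U x = 0 → ∀ k, (biproduct.π T k).app U x = 0 := fun x hx => by
    choose c hc using fun k => i.app_surjective U hU
      (show Γ(Z, i ⁻¹ᵁ U) from (biproduct.π T k).app U x)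
    have hc' : ∀ k, η.app U (c k) = (biproduct.π T k).app U x := fun k => (hη U (c k)).trans (hc k)
    have h0 : ψ.app U (∑ k, c k • s k) = 0 := by
      rw [map_sum, ← hx, biproduct_desc_app]
      exact Finset.sum_congr rfl fun k _ => (hθU k (c k)).symm.trans (congrArg _ (hc' k))
    have hc0 := hind c (hψinj (h0.trans (map_zero _).symm))
    exact fun k => (hc' k).symm.trans ((hηk U (c k)).2 fun h => (hD _).1 h (hc0 k))
  haveI : Mono Θ := by
    refine mono_of_isBasis Θ X.isBasis_affineOpens fun W hW => (injective_iff_map_eq_zero _).2 fun x hx => ?_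
    rw [biproduct_app_decomp T W x]
    refine Finset.sum_eq_zero fun k _ => ?_
    suffices (biproduct.π T k).app W x = 0 by rw [this, map_zero]
    by_contra hne
    have hη' : genericPoint Z ∈ Z.basicOpen
        (show Γ(Z, i ⁻¹ᵁ W) from (biproduct.π T k).app W x) := (ne_zero_iff_mem_basicOpen _).1 hne
    obtain ⟨g, hg, hξg⟩ := hU.exists_basicOpen_le (V := W)
      ⟨ξ, Z.basicOpen_le _ hη'⟩ hξU
    obtain ⟨m, y, hy⟩ := exists_pow_smul_eq_map hT.1 hU g ((⨁ T).presheaf.map (homOfLE hg).op x)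
    have h1 : Pb.presheaf.map (homOfLE (X.basicOpen_le g)).op (Θ.app U y) = 0 := by
      rw [← map_app_comm, hy, Scheme.Modules.Hom.app_smul, map_app_comm, hx, map_zero, smul_zero]
    obtain ⟨l, hl⟩ := exists_pow_smul_eq_zero hPb hU g _ h1
    have h2 : g ^ l • (biproduct.π T k).app U y = 0 := by
      rw [← Scheme.Modules.Hom.app_smul]
      exact hΘinjU _ ((Scheme.Modules.Hom.app_smul Θ _ y).trans hl) k
    have h3 := congrArg (A.presheaf.map (homOfLE (X.basicOpen_le g)).op) h2
    rw [map_zero, map_smul', ← map_app_comm, hy, Scheme.Modules.Hom.app_smul, ← mul_smul, map_pow,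
      ← pow_add] at h3
    have hgu : IsUnit (X.presheaf.map (homOfLE (X.basicOpen_le g)).op g) :=
      RingedSpace.isUnit_res_basicOpen X.toRingedSpace g
    have h4 := (hgu.pow (l + m)).smul_left_cancel.1 (h3.trans (smul_zero _).symm)
    rw [map_app_comm] at h4
    have h5 : genericPoint Z ∈ Z.basicOpen (Z.presheaf.map ((Opens.map i.base).map (homOfLE hg)).op
        (show Γ(Z, i ⁻¹ᵁ W) from (biproduct.π T k).app W x)) :=
      (Z.basicOpen_res _ _).ge ⟨hξg, hη'⟩
    exact (ne_zero_iff_mem_basicOpen _).2 h5 h4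
  -- the ideal
  let c := Θ ≫ cokernel.π χ
  have hC : Coh.IsQCoh (cokernel χ) := isQCoh_cokernel hF'.1 hPb χ
  have hU0 : ∀ y : Γ(Pb, U), (cokernel.π χ).app U y = 0 := fun y => by
    obtain ⟨y', rfl⟩ := hψsurj y
    obtain ⟨y', rfl⟩ := hι'surj y'
    exact congr(($(cokernel.condition χ)).app U y')
  let cAll : A ⟶ ⨁ fun _ : ULift.{u} (Fin r) => cokernel χ :=
    biproduct.lift fun k => biproduct.ι T k ≫ c
  have hCC : Coh.IsQCoh (⨁ fun _ : ULift.{u} (Fin r) => cokernel χ) := isQCoh_biproduct _ fun _ => hC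
  let IX := kernel cAll
  have hIX : Coh.IsCoh IX := isCoh_of_mono (kernel.ι cAll) hA (isQCoh_kernel hA.1 hCC cAll)
  have hκsurj : Function.Surjective ((kernel.ι cAll).app U) := fun y => by
    refine exists_kernel_lift cAll U y ?_
    rw [biproduct_app_decomp _ U (cAll.app U y)]
    refine Finset.sum_eq_zero fun k _ => ?_
    rw [show (biproduct.π (fun _ : ULift.{u} (Fin r) => cokernel χ) k).app U (cAll.app U y) = (biproduct.ι T k ≫ c).app U y from
      congr(($(biproduct.lift_π (fun k => biproduct.ι T k ≫ c) k)).app U y)]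
    exact (congrArg _ (hU0 _)).trans (map_zero _)
  have hkX : IsIso ((Scheme.Modules.pullbackPushforwardAdjunction i).unit.app IX) := by
    refine (isIso_unit_closed_iff i hIX.1).2 fun V a ha x => app_injective (kernel.ι cAll) V.1 ?_
    rw [map_zero, Scheme.Modules.Hom.app_smul, Scheme.Hom.ker_apply] at *
    show (i.app V.1 a) • (show Γ(Coh.structureModule Z, i ⁻¹ᵁ V.1) from (kernel.ι cAll).app V.1 x) = 0
    rw [show i.app V.1 a = 0 from ha, zero_smul]
  haveI : IsLocallyNoetherian Z := LocallyOfFiniteType.isLocallyNoetherian i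
  let I := (Scheme.Modules.pullback i).obj IX
  let f : I ⟶ Coh.structureModule Z :=
    ((Scheme.Modules.pullbackPushforwardAdjunction i).homEquiv _ _).symm (kernel.ι cAll)
  let e : IX ≅ (Coh.push i).obj I :=
    @asIso _ _ _ _ ((Scheme.Modules.pullbackPushforwardAdjunction i).unit.app IX) hkX
  have hf : e.hom ≫ (Scheme.Modules.pushforward i).map f = kernel.ι cAll :=
    ((Adjunction.homEquiv_unit _ _ _ f).symm.trans (Equiv.apply_symm_apply _ _) : _)
  haveI : Mono ((Scheme.Modules.pushforward i).map f) := by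
    rw [show (Scheme.Modules.pushforward i).map f = e.inv ≫ kernel.ι cAll from (Iso.eq_inv_comp e).2 hf]
    infer_instance
  have hfm : Mono f := mono_of_mono_push i f
  have hI0 : ¬ IsZero I := fun hz => by
    have hz' : IsZero IX := IsZero.of_iso ((Coh.push i).map_isZero hz) e
    obtain ⟨w, hw⟩ := hκsurj (η.app U (1 : Γ(X, U)))
    have hw0 : w = 0 := congr(($(hz'.eq_of_src (𝟙 IX) 0)).app U w)
    rw [hw0, map_zero] at hw
    exact (hηk U 1).1 hw.symm (by rw [Scheme.basicOpen_of_isUnit _ isUnit_one]; exact hξU)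
  -- the morphism
  let S : ULift.{u} (Fin r) → X.Modules := fun _ => (Coh.push i).obj I
  let Φ : (⨁ S) ⟶ ⨁ T := biproduct.map fun _ => e.inv ≫ kernel.ι cAll
  have hΦc : Φ ≫ Θ ≫ cokernel.π χ = 0 := by
    refine biproduct.hom_ext' _ _ fun k => ?_
    rw [comp_zero, biproduct.ι_map_assoc, Category.assoc,
      show kernel.ι cAll ≫ biproduct.ι T k ≫ Θ ≫ cokernel.π χ = 0 from ?_, comp_zero]
    have := kernel.condition cAll =≫ biproduct.π _ k
    rwa [Category.assoc, biproduct.lift_π, zero_comp] at this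
  obtain ⟨φ', hφ'⟩ := KernelFork.IsLimit.lift' (Abelian.monoIsKernelOfCokernel _ (cokernelIsCokernel χ))
    (Φ ≫ Θ) ((Category.assoc _ _ _).trans hΦc)
  haveI : Mono Φ := Preadditive.mono_of_cancel_zero _ fun {W} g hg => biproduct.hom_ext _ _ fun k => by
    rw [zero_comp]
    refine zero_of_comp_mono (e.inv ≫ kernel.ι cAll) ?_
    have := hg =≫ biproduct.π T k
    rwa [Category.assoc, biproduct.map_π, zero_comp, ← Category.assoc] at this
  haveI : Mono φ' := mono_of_mono_fac hφ'
  have hSc : Coh.IsCoh (⨁ S) := isCoh_biproduct S fun _ => isCoh_of_mono e.inv hIX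
    (isQCoh_pushforward i (isQCoh_pullback i hIX.1))
  refine ⟨r, I, f, φ' ≫ kernel.ι u, hfm,
    isCoh_of_mono f isCoh_structureModule' (isQCoh_pullback i hIX.1), hI0, inferInstance, ?_, fun hξ => ?_⟩
  · refine notMem_support_cokernel hSc.1 hF.1 _ hU hξU fun m => ?_
    obtain ⟨a, ha, cs, hcs⟩ := hgen m
    choose w hw using fun k => hκsurj (η.app U (cs k))
    refine ⟨a, (hD a).2 ha, ∑ k, (biproduct.ι S k).app U (e.hom.app U (w k)), hψinj ?_⟩
    have h0 : ∀ z : Γ(⨁ S, U), ψ.app U ((φ' ≫ kernel.ι u).app U z) = Θ.app U (Φ.app U z) :=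
      fun z => congr(($hφ').app U z)
    refine (h0 _).trans ?_
    rw [map_sum, map_sum, ← hcs, map_sum]
    refine Finset.sum_congr rfl fun k _ => ?_
    rw [← hθU, ← hw k]
    have h1 : e.hom ≫ biproduct.ι S k ≫ Φ ≫ Θ = kernel.ι cAll ≫ θ k := by
      rw [biproduct.ι_map_assoc, Category.assoc, biproduct.ι_desc, e.hom_inv_id_assoc]
    exact congr(($h1).app U (w k))
  · refine Nat.pos_of_ne_zero fun h0 => ?_
    subst h0
    obtain ⟨m, hm⟩ := (mem_support_iff hF.1 hU hξU).1 hξ
    obtain ⟨a, ha, cs, hcs⟩ := hgen m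
    exact hm a ((hD a).2 ha) (hcs.symm.trans (Fintype.sum_empty _))

/-- A coherent module whose stalk at `ξ` is killed by the maximal ideal is killed by the prime of `ξ`
near `ξ`. -/
theorem exists_affine_kill [IsNoetherian X] {F : X.Modules} (hF : Coh.IsCoh F) (ξ : X)
    (hann : ∀ a ∈ IsLocalRing.maximalIdeal (X.presheaf.stalk ξ), ∀ m : F.presheaf.stalk ξ, a • m = 0) :
    ∃ U : X.Opens, IsAffineOpen U ∧ ξ ∈ U ∧
      ∀ a : Γ(X, U), ξ ∉ X.basicOpen a → ∀ m : Γ(F, U), a • m = 0 := by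
  classical
  obtain ⟨V, hV, hξV⟩ := exists_affine_mem ξ
  haveI := noetherian_sections (X := X) ⟨V, hV⟩
  haveI := finite_sections hF hV
  set p := hV.primeIdealOf ⟨ξ, hξV⟩
  obtain ⟨G, hG⟩ := IsNoetherian.noetherian (R := Γ(X, V)) p.asIdeal
  obtain ⟨n, v, hv⟩ := Module.Finite.exists_fin (R := Γ(X, V)) (M := Γ(F, V))
  have hgp : ∀ g : G, (g : Γ(X, V)) ∈ p.asIdeal := fun g => hG ▸ Submodule.subset_span g.2
  have h1 : ∀ (g : G) (j : Fin n), ∃ f : Γ(X, V), ξ ∈ X.basicOpen f ∧ f • ((g : Γ(X, V)) • v j) = 0 := by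
    intro g j
    refine (germ_eq_zero_iff hF.1 hV hξV _).1 ?_
    rw [germ_smul']
    refine hann _ ?_ _
    rw [IsLocalRing.mem_maximalIdeal]
    exact fun hu => (mem_basicOpen_iff_notMem hV hξV _).1 ((X.mem_basicOpen _ ξ hξV).2 hu) (hgp g)
  choose f hf hf0 using h1
  set c := ∏ x : G × Fin n, f x.1 x.2 with hc
  have hξc : ξ ∈ X.basicOpen c := by
    rw [X.mem_basicOpen _ ξ hξV, hc, map_prod]
    exact IsUnit.prod_univ_iff.2 fun x => (X.mem_basicOpen _ ξ hξV).1 (hf x.1 x.2)
  have hkill : ∀ b ∈ p.asIdeal, ∀ m : Γ(F, V), c • b • m = 0 := by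
    intro b hb m
    have hm : m ∈ Submodule.span Γ(X, V) (Set.range v) := hv ▸ Submodule.mem_top
    induction hm using Submodule.span_induction with
    | mem _ h =>
      obtain ⟨j, rfl⟩ := h
      rw [← hG] at hb
      induction hb using Submodule.span_induction with
      | mem g hg =>
        rw [hc, ← Finset.mul_prod_erase _ _ (Finset.mem_univ ((⟨g, hg⟩ : G), j)), mul_comm (f _ _), mul_smul,
          hf0 ⟨g, hg⟩ j, smul_zero]
      | zero => rw [zero_smul, smul_zero]
      | add x y _ _ hx hy => rw [add_smul, smul_add, hx, hy, add_zero]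
      | smul t x _ hx => rw [smul_eq_mul, mul_smul, smul_comm, hx, smul_zero]
    | zero => rw [smul_zero, smul_zero]
    | add x y _ _ hx hy => rw [smul_add, smul_add, hx, hy, add_zero]
    | smul t x _ hx => rw [smul_comm b, smul_comm c, hx, smul_zero]
  refine ⟨X.basicOpen c, hV.basicOpen c, hξc, fun a ha y => ?_⟩
  haveI := hV.isLocalization_basicOpen c
  obtain ⟨⟨b, ⟨_, k, rfl⟩⟩, hb⟩ := IsLocalization.surj (Submonoid.powers c) a
  obtain ⟨l, t, ht⟩ := exists_pow_smul_eq_map hF.1 hV c y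
  have hcu : IsUnit (algebraMap Γ(X, V) Γ(X, X.basicOpen c) c) :=
    IsLocalization.map_units _ (⟨c, 1, pow_one c⟩ : Submonoid.powers c)
  have hbp : b ∈ p.asIdeal := by
    by_contra hbp
    have h' : ξ ∈ X.basicOpen (algebraMap Γ(X, V) Γ(X, X.basicOpen c) b) :=
      (X.basicOpen_res b (homOfLE (X.basicOpen_le c)).op).ge
        ⟨hξc, (mem_basicOpen_iff_notMem hV hξV b).2 hbp⟩
    rw [show algebraMap Γ(X, V) Γ(X, X.basicOpen c) b = _ from hb.symm, Scheme.basicOpen_mul] at h'
    exact ha h'.1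
  have h2 : algebraMap Γ(X, V) Γ(X, X.basicOpen c) c •
      algebraMap Γ(X, V) Γ(X, X.basicOpen c) b • F.presheaf.map (homOfLE (X.basicOpen_le c)).op t = 0 := by
    refine Eq.trans ?_ ((congrArg (F.presheaf.map (homOfLE (X.basicOpen_le c)).op) (hkill b hbp t)).trans
      (map_zero _))
    rw [map_smul', map_smul']
    rfl
  refine ((hcu.pow k).mul (hcu.pow l)).mul hcu |>.smul_left_cancel.1 ?_
  rw [smul_zero, ← map_pow, ← map_pow]
  rw [ht] at h2
  refine Eq.trans ?_ h2
  rw [← mul_smul, ← mul_smul, ← mul_smul,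
    show X.presheaf.map (homOfLE (X.basicOpen_le c)).op c = algebraMap Γ(X, V) Γ(X, X.basicOpen c) c from rfl,
    show algebraMap Γ(X, V) Γ(X, X.basicOpen c) b = _ from hb.symm]
  congr 1
  simp only [map_pow]
  ring

theorem exists_open_isIso_restrict [IsNoetherian X] {M N : X.Modules} (hM : Coh.IsCoh M) (hN : Coh.IsCoh N)
    (φ : M ⟶ N) [Mono φ] {ξ : X} (h : ξ ∉ CohB1.support (cokernel φ)) :
    ∃ W : X.Opens, ξ ∈ W ∧ IsIso ((Scheme.Modules.restrictFunctor W.ι).map φ) := by
  have hC := isCoh_cokernel hM.1 hN φ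
  let W : X.Opens := ⟨(CohB1.support (cokernel φ))ᶜ, (isClosed_support_of_isFT hC.1 hC.2).isOpen_compl⟩
  refine ⟨W, h, isIso_of_isBasis _ W.toScheme.isBasis_affineOpens fun V hV => ?_⟩
  have hV' : IsAffineOpen (W.ι ''ᵁ V) := hV.image_of_isOpenImmersion W.ι
  have hS : (ShortComplex.mk φ (cokernel.π φ) (cokernel.condition φ)).ShortExact :=
    .mk' (ShortComplex.exact_of_g_is_cokernel _ (cokernelIsCokernel φ)) ‹_› inferInstance
  refine ⟨fun x y hxy => app_injective φ (W.ι ''ᵁ V) hxy, fun y => ?_⟩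
  obtain ⟨a, ha⟩ := exists_app_f_eq hS (W.ι ''ᵁ V) y
    (eq_zero_of_locally _ _ fun q hq => by
      have hqW : q ∈ W := by
        obtain ⟨q', -, rfl⟩ := hq
        exact q'.2
      have hq0 : q ∉ CohB1.support (cokernel φ) := hqW
      obtain ⟨f, hf, hf0⟩ := (notMem_support_iff hC.1 hV' hq).1 hq0
        ((cokernel.π φ).app (W.ι ''ᵁ V) y)
      exact ⟨_, homOfLE (X.basicOpen_le f), hf, res_eq_zero_of_smul_eq_zero _ f le_rfl _ hf0⟩)
  exact ⟨a, ha⟩

/-- Finite sums commute with direct image. -/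
noncomputable def pushSumIso {Z : Scheme.{u}} (i : Z ⟶ X) (r : ℕ) (I : Z.Modules) :
    haveI := hasFiniteBiproducts Z
    (Coh.push i).obj (∐ fun _ : Fin r => I) ≅ ⨁ fun _ : ULift.{u} (Fin r) => (Coh.push i).obj I :=
  haveI := hasFiniteBiproducts Z
  (Coh.push i).mapIso (biproduct.isoCoproduct fun _ : Fin r => I).symm ≪≫
  (Coh.push i).mapBiproduct (fun _ : Fin r => I) ≪≫
  biproduct.whiskerEquiv (f := fun _ : Fin r => (Coh.push i).obj I)
    (g := fun _ : ULift.{u} (Fin r) => (Coh.push i).obj I) Equiv.ulift.symm fun _ => Iso.refl _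

end Groth.Agent.QCoh
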