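import Groth.Agent.QCoh.TensorA
import Groth.Agent.QCoh.ClosedPush
import Groth.Agent.QCoh.Support
import Groth.Agent.QCoh.CokerQC
import Groth.Prelude.Def_Formal

/-!
# The map `F ⟶ F ⊗_A M` given by an element, and `F ⊗_A A/J ≅ F/JF`
-/

set_option backward.isDefEq.respectTransparency false
set_option backward.isDefEq.respectTransparency.types false
set_option linter.style.haveILetI false
set_option maxHeartbeats 1000000

universe u

open CategoryTheory CategoryTheory.Limits AlgebraicGeometry TopologicalSpace Opposite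
open scoped TensorProduct

namespace Groth.Agent.QCoh

variable {A : Type u} [CommRing A] {X : Scheme.{u}} [X.Over (Spec (CommRingCat.of A))]
  (F : X.Modules) (M : ModuleCat.{u} A)

local notation "π" => (X ↘ Spec (CommRingCat.of A))

/-- `s ↦ s ⊗ m` as an additive map of sections. -/
noncomputable def elemApp (m : M) (W : X.Opens) : Γ(F, W) →+ Γ(tA F M, W) where
  toFun s := tmS _ F (uSec M W m) s
  map_zero' := by
    have h := tmS_smul_right _ F (0 : Γ(X, W)) (uSec M W m) (0 : Γ(F, W))
    simpa using h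
  map_add' := tmS_add_right _ F _

/-- `s ↦ s ⊗ m`. -/
noncomputable def homOfElem (m : M) : F ⟶ tA F M :=
  ⟨PresheafOfModules.homMk
    { app := fun U => AddCommGrpCat.ofHom (elemApp F M m U.unop)
      naturality := fun U V i => by
        ext s
        refine Eq.symm ?_
        show (tA F M).presheaf.map i.unop.op (tmS _ F (uSec M U.unop m) s) =
          tmS _ F (uSec M V.unop m) (F.presheaf.map i.unop.op s)
        rw [map_tmS, map_uSec] }
    (fun U r s => tmS_smul_right (U := U.unop) _ F r (uSec M U.unop m) s)⟩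

theorem homOfElem_app (m : M) (W : X.Opens) (s : Γ(F, W)) :
    (homOfElem F M m).app W s = tauA F M W (letI := secModule (Coh.toGlobal π) F W; s ⊗ₜ[A] m) :=
  rfl

variable {F M}

theorem hom_ext_app {P Q : X.Modules} {φ ψ : P ⟶ Q} (h : ∀ W s, φ.app W s = ψ.app W s) : φ = ψ :=
  Scheme.Modules.hom_ext _ _ fun W => AddCommGrpCat.hom_ext (AddMonoidHom.ext (h W))

theorem homOfElem_naturality {M' : ModuleCat.{u} A} (g : M ⟶ M') (m : M) :
    homOfElem F M m ≫ (CohIII.tensorAFunctor A F).map g = homOfElem F M' (g.hom m) :=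
  hom_ext_app fun W s => tauA_naturality F g W s m

theorem homOfElem_smul (m : M) (a : A) :
    Formal.smulMod A F a ≫ homOfElem F M m = homOfElem F M (a • m) :=
  hom_ext_app fun W s => by
    letI := secModule (Coh.toGlobal π) F W
    show tauA F M W ((a • s) ⊗ₜ[A] m) = tauA F M W (s ⊗ₜ[A] (a • m))
    rw [TensorProduct.smul_tmul]

theorem bijective_homOfElem_self (hF : Coh.IsQCoh F) {W : X.Opens} (hW : IsAffineOpen W) :
    Function.Bijective ((homOfElem F (ModuleCat.of A A) (1 : A)).app W) := by
  letI := secModule (Coh.toGlobal π) F W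
  exact (bijective_tauA F hF (ModuleCat.of A A) hW).comp (TensorProduct.rid A Γ(F, W)).symm.bijective

theorem isIso_homOfElem_self (hF : Coh.IsQCoh F) : IsIso (homOfElem F (ModuleCat.of A A) (1 : A)) :=
  isIso_of_isBasis _ X.isBasis_affineOpens fun _ hW => bijective_homOfElem_self hF hW

variable (F)

/-- `F → F ⊗_A A/J`. -/
noncomputable abbrev quotHom (J : Ideal A) : F ⟶ tA F (ModuleCat.of A (A ⧸ J)) :=
  homOfElem F (ModuleCat.of A (A ⧸ J)) (Ideal.Quotient.mk J 1)

theorem quotHom_eq (J : Ideal A) :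
    homOfElem F (ModuleCat.of A A) (1 : A) ≫
      (CohIII.tensorAFunctor A F).map (ModuleCat.ofHom (Submodule.mkQ J : A →ₗ[A] A ⧸ J)) = quotHom F J :=
  homOfElem_naturality _ _

theorem smulFamily_quotHom (J : Ideal A) : Formal.smulFamily J F ≫ quotHom F J = 0 := by
  refine Sigma.hom_ext _ _ fun a => ?_
  rw [Formal.smulFamily, colimit.ι_desc_assoc, comp_zero]
  show Formal.smulMod A F (a : A) ≫ quotHom F J = 0
  rw [quotHom, homOfElem_smul]
  have h : (a : A) • (Ideal.Quotient.mk J (1 : A)) = (0 : A ⧸ J) := by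
    show Ideal.Quotient.mk J ((a : A) • (1 : A)) = 0
    rw [smul_eq_mul, mul_one]; exact Ideal.Quotient.eq_zero_iff_mem.2 a.2
  refine hom_ext_app fun W s => ?_
  letI := secModule (Coh.toGlobal π) F W
  rw [homOfElem_app]
  exact (congrArg (fun m => tauA F (ModuleCat.of A (A ⧸ J)) W
    (letI := secModule (Coh.toGlobal π) F W; s ⊗ₜ[A] m)) h).trans
      ((congrArg _ (TensorProduct.tmul_zero _ _)).trans (map_zero _))

theorem isIso_desc_quotHom {F : X.Modules} (hF : Coh.IsQCoh F) (J : Ideal A) :
    IsIso (cokernel.desc (Formal.smulFamily J F) (quotHom F J) (smulFamily_quotHom F J)) := by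
  have hC : Coh.IsQCoh (cokernel (Formal.smulFamily J F)) :=
    isQCoh_cokernel (isQCoh_colimit _ fun _ => hF) hF _
  refine isIso_of_isBasis _ X.isBasis_affineOpens fun W hW => ?_
  letI := secModule (Coh.toGlobal π) F W
  set d := cokernel.desc (Formal.smulFamily J F) (quotHom F J) (smulFamily_quotHom F J)
  have hd : ∀ s, d.app W ((cokernel.π (Formal.smulFamily J F)).app W s) = (quotHom F J).app W s := fun s =>
    congr(($(cokernel.π_desc (Formal.smulFamily J F) (quotHom F J) (smulFamily_quotHom F J))).app W s)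
  let e := TensorProduct.tensorQuotEquivQuotSMul Γ(F, W) J
  have hq : ∀ s : Γ(F, W), (quotHom F J).app W s = tauA F (ModuleCat.of A (A ⧸ J)) W (e.symm (Submodule.Quotient.mk s)) := by
    intro s
    rw [homOfElem_app]
    refine congrArg _ ?_
    rw [TensorProduct.tensorQuotEquivQuotSMul_symm_mk]
    rfl
  have hb := bijective_tauA F hF (ModuleCat.of A (A ⧸ J)) hW
  refine ⟨(injective_iff_map_eq_zero _).2 fun c hc => ?_, fun z => ?_⟩
  · obtain ⟨s, rfl⟩ := app_surjective_of_epi hF hC (cokernel.π (Formal.smulFamily J F)) hW c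
    rw [hd, hq] at hc
    have h1 : e.symm (Submodule.Quotient.mk s) = 0 := hb.1 (hc.trans (map_zero _).symm)
    rw [LinearEquiv.map_eq_zero_iff, Submodule.Quotient.mk_eq_zero] at h1
    refine Submodule.smul_induction_on h1 (fun a ha t _ => ?_) fun x y hx hy => (map_add _ x y).trans (by rw [hx, hy, add_zero])
    have hι : Sigma.ι (fun _ : J => F) ⟨a, ha⟩ ≫ Formal.smulFamily J F = Formal.smulMod A F a := Sigma.ι_desc _ _
    have h2 : Formal.smulMod A F a ≫ cokernel.π (Formal.smulFamily J F) = 0 := by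
      rw [← hι, Category.assoc, cokernel.condition, comp_zero]
    exact congr(($h2).app W t)
  · obtain ⟨w, rfl⟩ := hb.2 z
    obtain ⟨v, rfl⟩ := e.symm.surjective w
    obtain ⟨s, rfl⟩ := Submodule.Quotient.mk_surjective _ v
    exact ⟨_, (hd s).trans (hq s)⟩

end Groth.Agent.QCoh
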