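import Groth.Prelude.Def_Coh
import Mathlib.Algebra.Category.ModuleCat.Sheaf.Abelian
import Mathlib.Algebra.Category.ModuleCat.Presheaf.Sheafification
import Mathlib.CategoryTheory.Abelian.Exact

/-!
# The forgetful functor from modules to abelian sheaves is exact
-/

universe v v' u u'

open CategoryTheory CategoryTheory.Limits TopologicalSpace

namespace Groth.Agent.QCoh

variable {C : Type u'} [Category.{v'} C] {J : GrothendieckTopology C} (R : Sheaf J RingCat.{u})
  [HasSheafify J AddCommGrpCat.{v}] [J.WEqualsLocallyBijective AddCommGrpCat.{v}]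

theorem toSheaf_map_epi {M N : SheafOfModules.{v} R} (φ : M ⟶ N) [Epi φ] :
    Epi ((SheafOfModules.toSheaf R).map φ) := by
  let S := PresheafOfModules.sheafification.{v} (R := R) (𝟙 R.obj)
  let adj := PresheafOfModules.sheafificationAdjunction.{v} (R := R) (𝟙 R.obj)
  let G := PresheafOfModules.toPresheaf R.obj ⋙ presheafToSheaf J AddCommGrpCat.{v}
  let η : S ⋙ SheafOfModules.toSheaf R ≅ G := PresheafOfModules.sheafificationCompToSheaf (𝟙 R.obj)
  let ψ := (SheafOfModules.forget R ⋙ PresheafOfModules.restrictScalars (𝟙 R.obj)).map φ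
  have hS : S.IsLeftAdjoint := adj.isLeftAdjoint
  have h0 : Epi (S.map ψ) := by
    have e : S.map ψ = adj.counit.app M ≫ φ ≫ inv (adj.counit.app N) := by
      rw [← Category.assoc, IsIso.eq_comp_inv]
      exact adj.counit.naturality φ
    rw [e]
    infer_instance
  have hz : IsZero (S.obj (cokernel ψ)) :=
    (isZero_cokernel_of_epi (S.map ψ)).of_iso (PreservesCokernel.iso S ψ)
  have h2 : IsZero (G.obj (cokernel ψ)) :=
    ((SheafOfModules.toSheaf R).map_isZero hz).of_iso (η.app _).symm
  have h3 : Epi (G.map ψ) :=
    Preadditive.epi_of_isZero_cokernel _ (h2.of_iso (PreservesCokernel.iso G ψ).symm)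
  have e : (SheafOfModules.toSheaf R).map φ =
      inv ((SheafOfModules.toSheaf R).map (adj.counit.app M)) ≫ η.hom.app _ ≫ G.map ψ ≫
        η.inv.app _ ≫ (SheafOfModules.toSheaf R).map (adj.counit.app N) := by
    rw [IsIso.eq_inv_comp, ← η.hom.naturality_assoc, Iso.hom_inv_id_app_assoc, Functor.comp_map,
      ← Functor.map_comp, ← Functor.map_comp]
    exact congrArg _ (adj.counit.naturality φ).symm
  rw [e]
  infer_instance

instance toSheaf_preservesEpimorphisms : (SheafOfModules.toSheaf.{v} R).PreservesEpimorphisms :=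
  ⟨fun φ _ => toSheaf_map_epi R φ⟩

instance toSheaf_preservesHomology : (SheafOfModules.toSheaf.{v} R).PreservesHomology :=
  Functor.preservesHomology_of_preservesEpis_and_kernels _

instance toSheaf_preservesFiniteColimits : PreservesFiniteColimits (SheafOfModules.toSheaf.{v} R) :=
  (SheafOfModules.toSheaf R).preservesFiniteColimits_of_preservesHomology

/-- The underlying abelian sheaf, as a functor on O_X-modules. -/
noncomputable def toAbFunctor (X : AlgebraicGeometry.Scheme.{u}) :
    X.Modules ⥤ Sheaf (Opens.grothendieckTopology X) AddCommGrpCat.{u} :=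
  SheafOfModules.toSheaf X.ringCatSheaf

instance (X : AlgebraicGeometry.Scheme.{u}) : (toAbFunctor X).Additive :=
  inferInstanceAs (SheafOfModules.toSheaf X.ringCatSheaf).Additive

instance (X : AlgebraicGeometry.Scheme.{u}) : (toAbFunctor X).PreservesEpimorphisms :=
  toSheaf_preservesEpimorphisms X.ringCatSheaf

instance (X : AlgebraicGeometry.Scheme.{u}) : PreservesFiniteLimits (toAbFunctor X) :=
  inferInstanceAs (PreservesFiniteLimits (SheafOfModules.toSheaf X.ringCatSheaf))

instance toAbFunctor_preservesHomology (X : AlgebraicGeometry.Scheme.{u}) :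
    (toAbFunctor X).PreservesHomology :=
  Functor.preservesHomology_of_preservesEpis_and_kernels _

end Groth.Agent.QCoh
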