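import Groth.Agent.QCoh.Qcqs
import Groth.Agent.QCoh.ToSheaf
import Groth.Agent.QCoh.Ab.Cartan
import Mathlib.RingTheory.Ideal.Operations

/-!
# Standard coverings of affine opens are Cech acyclic for quasi-coherent modules
-/

universe u

open CategoryTheory CategoryTheory.Limits AlgebraicGeometry TopologicalSpace Opposite

namespace Groth.Agent.QCoh

variable {X : Scheme.{u}}

theorem iInf_basicOpen {V : X.Opens} : ∀ {p : ℕ} (g : Fin (p + 1) → Γ(X, V)),
    (⨅ a, X.basicOpen (g a)) = X.basicOpen (∏ a, g a) := by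
  intro p
  induction p with
  | zero => intro g; simp [iInf_unique]
  | succ p ih =>
    intro g
    rw [Fin.prod_univ_succ, Scheme.basicOpen_mul, ← ih]
    refine le_antisymm (le_inf (iInf_le _ 0) (le_iInf fun a => iInf_le _ a.succ)) (le_iInf fun a => ?_)
    exact Fin.cases inf_le_left (fun b => inf_le_right.trans (iInf_le _ b)) a

/-- Coverings of affine opens by finitely many basic opens. -/
def stdCovers (X : Scheme.{u}) : Ab.CoverSystem X.toPresheafedSpace.carrier where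
  Good V := IsAffineOpen (X := X) V
  Cov V {ι} U := IsAffineOpen (X := X) V ∧ Finite ι ∧ ∃ f : ι → Γ(X, V),
    Ideal.span (Set.range f) = ⊤ ∧ ∀ i, U i = X.basicOpen (f i)
  le := fun {V ι U} ⟨_, _, f, _, hU⟩ i => hU i ▸ X.basicOpen_le (f i)
  covers := fun {V ι U} ⟨hV, _, f, hf, hU⟩ => by
    rw [show U = fun i => X.basicOpen (f i) from funext hU]
    exact (hV.self_le_iSup_basicOpen_iff.2 hf).trans
      (iSup_le fun ⟨_, i, rfl⟩ => le_iSup (fun i => X.basicOpen (f i)) i)
  inter := fun {V ι U} ⟨hV, _, f, _, hU⟩ {p} σ => by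
    simp only [hU, iInf_basicOpen fun a => f (σ a)]
    exact hV.basicOpen _
  exists_refinement {V} hV N hN := by
    choose g hg hxg using fun x : V => IsAffineOpen.exists_basicOpen_le (V := (N x : X.Opens)) hV
      ⟨x.1, hN x⟩ x.2
    obtain ⟨s, hs⟩ := IsAffineOpen.isCompact hV |>.elim_finite_subcover
      (fun x : V => (X.basicOpen (g x) : Set X)) (fun x => (X.basicOpen (g x)).2)
      fun x hx => Set.mem_iUnion.2 ⟨⟨x, hx⟩, hxg ⟨x, hx⟩⟩
    refine ⟨s, fun i => X.basicOpen (g i.1),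
      ⟨hV, inferInstance, fun i => g i.1, ?_, fun _ => rfl⟩, fun i => ⟨i.1, hg i.1⟩⟩
    rw [← IsAffineOpen.self_le_iSup_basicOpen_iff hV]
    intro x hx
    obtain ⟨y, hy⟩ := Set.mem_iUnion.1 (hs hx)
    obtain ⟨hys, hy⟩ := Set.mem_iUnion.1 hy
    exact Opens.mem_iSup.2 ⟨⟨_, ⟨y, hys⟩, rfl⟩, hy⟩

/-- The abelian sheaf underlying a module, on the underlying space. -/
noncomputable abbrev abSheaf (M : X.Modules) :
    TopCat.Sheaf AddCommGrpCat.{u} X.toPresheafedSpace.carrier :=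
  ⟨M.presheaf, M.isSheaf⟩

theorem acyclic_of_span {M : X.Modules} (hM : Coh.IsQCoh M) {V : X.Opens}
    {ι : Type u} [Finite ι] (f : ι → Γ(X, V)) (hf : Ideal.span (Set.range f) = ⊤)
    (hB' : ∀ {q : ℕ} (σ : Fin (q + 1) → ι),
      IsCompact ((⨅ a, X.basicOpen (f (σ a)) : X.Opens) : Set X) ∧
        IsQuasiSeparated ((⨅ a, X.basicOpen (f (σ a)) : X.Opens) : Set X)) :
    Ab.Acyclic (abSheaf M).presheaf (fun i => X.basicOpen (f i)) := by
  have := Fintype.ofFinite ι
  intro p c hc hd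
  let U : ι → X.Opens := fun i => X.basicOpen (f i)
  let B : ∀ {q : ℕ}, (Fin (q + 1) → ι) → X.Opens := fun σ => ⨅ a, U (σ a)
  have hBV : ∀ {q : ℕ} (σ : Fin (q + 1) → ι), B σ ≤ V := fun σ =>
    (iInf_le _ 0).trans (X.basicOpen_le _)
  let g : ∀ {q : ℕ} (σ : Fin (q + 1) → ι), ι → Γ(X, B σ) := fun σ i =>
    X.presheaf.map (homOfLE (hBV σ)).op (f i)
  have hg : ∀ {q : ℕ} (σ : Fin (q + 1) → ι) i, X.basicOpen (g σ i) = B σ ⊓ U i := fun σ i =>
    basicOpen_res_inf _ _
  have hle : ∀ (τ : Fin (p + 1) → ι) i,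
      Ab.Le U (Fin.cons i τ) (X.basicOpen (g τ i)) := fun τ i =>
    Fin.cases ((hg τ i).le.trans inf_le_right) fun b => (X.basicOpen_le _).trans (iInf_le _ b)
  choose n t ht using fun (τ : Fin (p + 1) → ι) (i : ι) => exists_pow_smul_eq_map_of_isQuasiSeparated hM (hB' τ).1 (hB' τ).2
    (g τ i) (c (Fin.cons i τ) ⟨_, hle τ i⟩)
  let N := ∑ τ, ∑ i, n τ i
  let t' : ∀ τ i, Γ(M, B τ) := fun τ i => g τ i ^ (N - n τ i) • t τ i
  have ht' : ∀ τ i, M.presheaf.map (homOfLE (X.basicOpen_le (g τ i))).op (t' τ i) =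
      X.presheaf.map (homOfLE (X.basicOpen_le (g τ i))).op (g τ i) ^ N •
        (show Γ(M, X.basicOpen (g τ i)) from c (Fin.cons i τ) ⟨_, hle τ i⟩) := fun τ i => by
    have hn : n τ i ≤ N := (Finset.single_le_sum (f := fun i => n τ i) (fun _ _ => Nat.zero_le _)
      (Finset.mem_univ i)).trans (Finset.single_le_sum (f := fun τ => ∑ i, n τ i)
        (fun _ _ => Nat.zero_le _) (Finset.mem_univ τ))
    rw [map_smul', ht, ← mul_smul, map_pow, ← pow_add, Nat.sub_add_cancel hn]
  have hface : ∀ (σ : Fin (p + 2) → ι) (a : Fin (p + 2)), B σ ≤ B (fun b => σ (a.succAbove b)) :=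
    fun σ a => le_iInf fun b => iInf_le _ (a.succAbove b)
  have hD : ∀ x : (Fin (p + 2) → ι) × ι, ∃ m : ℕ, g x.1 x.2 ^ m •
      (g x.1 x.2 ^ N • (show Γ(M, B x.1) from c x.1 ⟨B x.1, fun a => iInf_le _ a⟩) -
        ∑ a : Fin (p + 2), (-1 : ℤ) ^ (a : ℕ) •
          M.presheaf.map (homOfLE (hface x.1 a)).op (t' (fun b => x.1 (a.succAbove b)) x.2)) = 0 := by
    rintro ⟨σ, i⟩
    refine exists_pow_smul_eq_zero_of_isCompact hM (hB' σ).1 (g σ i) _ ?_
    let W := X.basicOpen (g σ i)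
    have hWi : W ≤ U i := (hg σ i).le.trans inf_le_right
    have hWσ : Ab.Le U σ W := fun a => (X.basicOpen_le _).trans (iInf_le _ a)
    have e := congrFun (congrFun hd (Fin.cons i σ)) ⟨W, Fin.cases hWi hWσ⟩
    rw [Ab.d_cons c i σ W hWi hWσ] at e
    have e' : (show Γ(M, W) from c σ ⟨W, hWσ⟩) = _ := sub_eq_zero.1 e
    rw [map_sub, map_sum, map_smul', sub_eq_zero, map_pow]
    refine (congrArg (fun y : Γ(M, W) => X.presheaf.map (homOfLE (X.basicOpen_le (g σ i))).op
      (g σ i) ^ N • y) ((hc σ (B σ) W _ hWσ (homOfLE (X.basicOpen_le _))).trans e')).trans ?_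
    rw [Finset.smul_sum]
    refine Finset.sum_congr rfl fun a _ => ?_
    rw [map_zsmul, smul_comm]
    congr 1
    have hWa : W ≤ X.basicOpen (g (fun b => σ (a.succAbove b)) i) := by
      rw [hg]; exact le_inf ((X.basicOpen_le _).trans (hface σ a)) hWi
    rw [map_map, Subsingleton.elim (homOfLE (X.basicOpen_le (g σ i)) ≫ homOfLE (hface σ a))
      (homOfLE hWa ≫ homOfLE (X.basicOpen_le _)), ← map_map, ht', map_smul', map_pow]
    refine congrArg₂ (fun (r : Γ(X, W)) (y : Γ(M, W)) => r ^ N • y) ?_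
      (hc _ _ W _ _ (homOfLE hWa)).symm
    simp only [g, ringMap_map]
    rfl
  choose m hm using hD
  let K := ∑ x, m x
  obtain ⟨e, he⟩ := Ideal.mem_span_range_iff_exists_fun.1
    ((Ideal.eq_top_iff_one _).1 (by
      rw [show (fun i => f i ^ (K + N)) = (fun x => x ^ (K + N)) ∘ f from rfl, Set.range_comp]
      exact Ideal.span_pow_eq_top _ hf _) :
      (1 : Γ(X, V)) ∈ Ideal.span (Set.range fun i => f i ^ (K + N)))
  let H : ∀ τ : Fin (p + 1) → ι, Γ(M, B τ) := fun τ =>
    ∑ i, X.presheaf.map (homOfLE (hBV τ)).op (e i * f i ^ K) • t' τ i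
  let h : Ab.Cochain (abSheaf M).presheaf U (p + 1) := fun τ W =>
    M.presheaf.map (homOfLE (le_iInf W.2 : W.1 ≤ B τ)).op (H τ)
  have hn : Ab.IsNatural h := fun τ W W' hW hW' i => map_map _ _ (H τ)
  refine ⟨h, hn, funext₂ fun σ W => ?_⟩
  have red : ∀ {x : Ab.Cochain (abSheaf M).presheaf U (p + 2)}, Ab.IsNatural x →
      x σ W = M.presheaf.map (homOfLE (le_iInf W.2 : W.1 ≤ B σ)).op
        (x σ ⟨B σ, fun a => iInf_le _ a⟩) :=
    fun hx => (hx σ (B σ) W.1 _ W.2 _).symm
  rw [red (Ab.d_natural hn), red hc]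
  congr 1
  show ∑ a : Fin (p + 2), (-1 : ℤ) ^ (a : ℕ) • M.presheaf.map _ (H _) = _
  simp only [H, map_sum, map_smul', Finset.smul_sum]
  rw [Finset.sum_comm]
  refine Eq.trans (Finset.sum_congr rfl fun i _ => ?_) (?_ : ∑ i : ι,
    (X.presheaf.map (homOfLE (hBV σ)).op (e i * f i ^ (K + N))) •
      (show Γ(M, B σ) from c σ ⟨B σ, fun a => iInf_le _ a⟩) = _)
  · obtain ⟨k, hk⟩ := Nat.exists_eq_add_of_le
      (Finset.single_le_sum (f := m) (fun _ _ => Nat.zero_le _) (Finset.mem_univ (σ, i)))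
    have e1 := congrArg (fun y : Γ(M, B σ) =>
      (X.presheaf.map (homOfLE (hBV σ)).op (e i) * g σ i ^ k) • y) (hm (σ, i))
    simp only [smul_zero, smul_sub, sub_eq_zero, ← mul_smul, mul_assoc, ← pow_add,
      Finset.smul_sum] at e1
    rw [show K + N = k + (m (σ, i) + N) by omega, show K = k + m (σ, i) by omega, map_mul, map_pow]
    refine Eq.trans ?_ e1.symm
    refine Finset.sum_congr rfl fun a _ => ?_
    rw [smul_comm]
    simp only [g, ringMap_map, map_mul, map_pow]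
    rfl
  · rw [← Finset.sum_smul, ← map_sum, he, map_one, one_smul]

theorem acyclic_std {M : X.Modules} (hM : Coh.IsQCoh M) {V : X.Opens} (hV : IsAffineOpen V)
    {ι : Type u} [Finite ι] (f : ι → Γ(X, V)) (hf : Ideal.span (Set.range f) = ⊤) :
    Ab.Acyclic (abSheaf M).presheaf (fun i => X.basicOpen (f i)) :=
  acyclic_of_span hM f hf fun σ => by
    rw [iInf_basicOpen fun a => f (σ a)]
    exact ⟨(hV.basicOpen _).isCompact, (hV.basicOpen _).isQuasiSeparated⟩

/-- Serre's vanishing theorem. -/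
theorem subsingleton_HH_of_isAffine [IsAffine X] {M : X.Modules} (hM : Coh.IsQCoh M) (n : ℕ) :
    Subsingleton (Coh.HH X M (n + 1)) :=
  Ab.H_subsingleton (stdCovers X) (isAffineOpen_top X) (abSheaf M)
    (fun V hV ι U hU => by
      obtain ⟨_, _, f, hf, hfU⟩ := hU
      rw [show U = fun i => X.basicOpen (f i) from funext hfU]
      exact acyclic_std hM hV f hf) n

/-- Sections over affine opens are exact on the right for quasi-coherent kernels. -/
theorem app_surjective_of_shortExact {S : ShortComplex X.Modules} (hS : S.ShortExact)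
    (h₁ : Coh.IsQCoh S.X₁) {V : X.Opens} (hV : IsAffineOpen V) :
    Function.Surjective (S.g.app V) :=
  let T := S.map (toAbFunctor X)
  have : PreservesFiniteColimits (toAbFunctor X) :=
    (toAbFunctor X).preservesFiniteColimits_of_preservesHomology
  have hT : T.ShortExact := hS.map_of_exact _
  Ab.sections_surjective (T := T) (stdCovers X) hT
    (fun V hV ι U hU => by
      obtain ⟨_, _, f, hf, hfU⟩ := hU
      rw [show U = fun i => X.basicOpen (f i) from funext hfU]
      exact acyclic_std h₁ hV f hf) hV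

end Groth.Agent.QCoh
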