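import Groth.Agent.QCoh.Devissage
import Groth.Agent.QCoh.Extension
import Groth.Agent.S0045

/-!
# Filtrations of coherent modules by ideals of integral closed subschemes
-/

universe u

set_option backward.isDefEq.respectTransparency false
set_option backward.isDefEq.respectTransparency.types false

open CategoryTheory CategoryTheory.Limits AlgebraicGeometry TopologicalSpace Opposite

namespace Groth.Agent.QCoh

variable {X : Scheme.{u}}

theorem isZero_of_isZero_push {Z : Scheme.{u}} (i : Z ⟶ X) [IsClosedImmersion i] {I : Z.Modules}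
    (h : IsZero ((Coh.push i).obj I)) : IsZero I := by
  haveI : Mono ((Scheme.Modules.pushforward i).map (0 : I ⟶ I)) := ⟨fun _ _ _ => h.eq_of_tgt _ _⟩
  haveI := mono_of_mono_push i (0 : I ⟶ I)
  exact (IsZero.iff_id_eq_zero I).2 ((cancel_mono (0 : I ⟶ I)).1 (by rw [comp_zero, zero_comp]))

/-- The next step of a dévissage. -/
theorem exists_step [IsNoetherian X] {M L : X.Modules} (hM : Coh.IsCoh M) (hL : Coh.IsCoh L)
    (a : L ⟶ M) [Mono a] (ha : ¬ Epi a) :
    ∃ (L' : X.Modules) (φ : L ⟶ L') (b : L' ⟶ M), Mono φ ∧ Mono b ∧ φ ≫ b = a ∧ ¬ Epi φ ∧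
      Coh.IsCoh L' ∧
      ∃ (Z : Scheme.{u}) (i : Z ⟶ X), IsClosedImmersion i ∧ IsIntegral Z ∧
        ∃ (I : Z.Modules) (ι : I ⟶ Coh.structureModule Z), Mono ι ∧ Coh.IsQCoh I ∧ ¬ IsZero I ∧
          Nonempty (cokernel φ ≅ (Coh.push i).obj I) := by
  have hQ : Coh.IsCoh (cokernel a) := isCoh_cokernel hL.1 hM a
  have hQ0 : ¬ IsZero (cokernel a) := fun h =>
    ha (Preadditive.epi_of_cokernel_zero (h.eq_of_tgt _ _))
  obtain ⟨Z, i, hi, hZ, I, ι, hι, hI, hI0, k, hk, hPI⟩ := exists_mono_push_ideal hQ hQ0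
  let φ : L ⟶ pullback (cokernel.π a) k :=
    pullback.lift a 0 (by rw [cokernel.condition, zero_comp])
  have hφb : φ ≫ pullback.fst _ _ = a := pullback.lift_fst _ _ _
  haveI : Mono φ := mono_of_mono_fac hφb
  haveI : Epi (pullback.snd (cokernel.π a) k) := inferInstance
  have hker := Abelian.monoIsKernelOfCokernel _ (cokernelIsCokernel a)
  let S : ShortComplex X.Modules :=
    ShortComplex.mk φ (pullback.snd (cokernel.π a) k) (pullback.lift_snd _ _ _)
  have hS : S.ShortExact := .mk' (S.exact_of_f_is_kernel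
    (KernelFork.IsLimit.ofι' S.f S.zero fun {A} g hg =>
      let l := KernelFork.IsLimit.lift' hker (g ≫ pullback.fst _ _)
        (show (g ≫ pullback.fst _ _) ≫ cokernel.π a = 0 by
          rw [Category.assoc, pullback.condition, ← Category.assoc]
          exact (congrArg (· ≫ k) hg).trans zero_comp)
      ⟨l.1, pullback.hom_ext
        ((Category.assoc _ _ _).trans ((congrArg (l.1 ≫ ·) hφb).trans l.2))
        ((Category.assoc _ _ _).trans ((congrArg (l.1 ≫ ·) S.zero).trans (comp_zero.trans hg.symm)))⟩))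
    ‹_› ‹_›
  have hq : Coh.IsQCoh (pullback (cokernel.π a) k) := isQCoh_X₂ hS hL.1 hPI.1
  refine ⟨_, φ, pullback.fst _ _, inferInstance, inferInstance, hφb, fun hepi => hI0 ?_,
    isCoh_of_mono (pullback.fst (cokernel.π a) k) hM hq, Z, i, hi, hZ, I, ι, hι, hI, hI0,
    ⟨IsColimit.coconePointUniqueUpToIso (cokernelIsCokernel φ) hS.gIsCokernel⟩⟩
  haveI := hi
  haveI : Epi φ := hepi
  exact isZero_of_isZero_push i (IsZero.of_epi_eq_zero _ ((cancel_epi φ).1
    (S.zero.trans comp_zero.symm)))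

/-- Modules built from ideals of integral closed subschemes by successive extensions. -/
inductive Filt : X.Modules → Prop
  | zero {M : X.Modules} : IsZero M → Filt M
  | step {N M : X.Modules} (φ : N ⟶ M) [Mono φ] : Filt N → Coh.IsCoh N → Coh.IsCoh M →
      (∃ (Z : Scheme.{u}) (i : Z ⟶ X), IsClosedImmersion i ∧ IsIntegral Z ∧
        ∃ (I : Z.Modules) (ι : I ⟶ Coh.structureModule Z), Mono ι ∧ Coh.IsQCoh I ∧ ¬ IsZero I ∧
          Nonempty (cokernel φ ≅ (Coh.push i).obj I)) → Filt M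

theorem Filt.of_iso {M M' : X.Modules} (h : Filt M) (e : M ≅ M') (hM' : Coh.IsCoh M') : Filt M' := by
  induction h with
  | zero h => exact .zero (h.of_iso e.symm)
  | @step N M φ _ hN hNc _ hex _ =>
    obtain ⟨Z, i, hi, hZ, I, ι, hι, hI, hI0, ⟨e'⟩⟩ := hex
    exact .step (φ ≫ e.hom) hN hNc hM'
      ⟨Z, i, hi, hZ, I, ι, hι, hI, hI0, ⟨cokernelCompIsIso φ e.hom ≪≫ e'⟩⟩

theorem isCoh_isZero {M : X.Modules} [IsNoetherian X] (h : IsZero M) {N : X.Modules} (hN : Coh.IsCoh N) :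
    Coh.IsCoh M := by
  haveI : Mono (0 : M ⟶ N) := ⟨fun _ _ _ => h.eq_of_tgt _ _⟩
  exact isCoh_of_mono (0 : M ⟶ N) hN
    ((isQCoh_iff_iso ((h.iso (isZero_kernel_of_mono (𝟙 N))).symm)).1 (isQCoh_kernel hN.1 hN.1 (𝟙 N)))

theorem filt_of_isCoh [IsNoetherian X] {M : X.Modules} (hM : Coh.IsCoh M) : Filt M := by
  let S : Set (Subobject M) := {s | Coh.IsCoh (s : X.Modules) ∧ Filt (s : X.Modules)}
  have hz : IsZero (kernel (𝟙 M)) := isZero_kernel_of_mono _
  let s₀ : Subobject M := Subobject.mk (kernel.ι (𝟙 M))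
  have hs₀ : IsZero (s₀ : X.Modules) := hz.of_iso (Subobject.underlyingIso _)
  have h₀ : s₀ ∈ S := ⟨isCoh_isZero hs₀ hM, .zero hs₀⟩
  by_contra hn
  have key : ∀ s : S, ∃ t : S, s.1 < t.1 := fun ⟨s, hs⟩ => by
    have hepi : ¬ Epi s.arrow := fun h => hn <| by
      haveI := isIso_of_mono_of_epi s.arrow
      exact hs.2.of_iso (asIso s.arrow) hM
    obtain ⟨L', φ, b, hφ, hb, hφb, hφe, hL', hex⟩ := exists_step hM hs.1 s.arrow hepi
    have e := Subobject.underlyingIso b
    refine ⟨⟨Subobject.mk b, isCoh_of_mono (Subobject.mk b).arrow hM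
      ((isQCoh_iff_iso e.symm).1 hL'.1), (Filt.step φ hs.2 hs.1 hL' hex).of_iso e.symm
        (isCoh_of_mono (Subobject.mk b).arrow hM ((isQCoh_iff_iso e.symm).1 hL'.1))⟩,
      lt_of_le_of_ne (Subobject.le_mk_of_comm φ hφb) fun heq => hφe ?_⟩
    have hφ' : φ = Subobject.ofLEMk s b heq.le := (cancel_mono b).1
      (hφb.trans (Subobject.ofLEMk_comp heq.le).symm)
    rw [hφ', show Subobject.ofLEMk s b heq.le = (Subobject.isoOfEqMk s b heq).hom from rfl]
    infer_instance
  choose nxt hnxt using key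
  let F : ℕ → S := fun n => nxt^[n] ⟨s₀, h₀⟩
  have hsucc : ∀ n, (F n).1 < (F (n + 1)).1 := fun n => by
    show (nxt^[n] _).1 < (nxt^[n + 1] _).1
    rw [Function.iterate_succ_apply']
    exact hnxt _
  obtain ⟨n, hstop⟩ := Groth.Agent.S0045.result X M hM
    ⟨fun n => (F n).1, monotone_nat_of_le_succ fun n => (hsucc n).le⟩ fun n => (F n).2.1.1
  exact (hsucc n).ne (hstop (n + 1) (Nat.le_succ n)).symm

end Groth.Agent.QCoh
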