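import Groth.Agent.QCoh.GodLoc
import Groth.Agent.QCoh.CokerQC

/-!
# The Godement resolution and open immersions
-/

universe u

set_option backward.isDefEq.respectTransparency false
set_option backward.isDefEq.respectTransparency.types false

open CategoryTheory CategoryTheory.Limits AlgebraicGeometry TopologicalSpace Opposite

namespace Groth.Agent.QCoh

variable {X X' : Scheme.{u}} (j : X' ⟶ X) [IsOpenImmersion j] {M : X.Modules} {M' : X'.Modules}

/-- A map to a direct image is an isomorphism over the range. -/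
def BijOn (η : M ⟶ (Scheme.Modules.pushforward j).obj M') : Prop :=
  ∀ W : X.Opens, W ≤ j.opensRange → Function.Bijective (η.app W)

theorem germM_eq_zero {N : X.Modules} {U : X.Opens} {x : X} (hx : x ∈ U) (s : Γ(N, U))
    (h : germM N U hx s = 0) : ∃ (V : X.Opens) (hV : V ≤ U), x ∈ V ∧ rs N hV s = 0 := by
  obtain ⟨V, hxV, i₁, i₂, e⟩ := TopCat.Presheaf.germ_eq N.presheaf x hx hx s 0
    ((show N.presheaf.germ U x hx s = 0 from h).trans (map_zero _).symm)
  exact ⟨V, i₁.le, hxV, e.trans (map_zero _)⟩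

theorem bijective_stkMap {η : M ⟶ (Scheme.Modules.pushforward j).obj M'} (hη : BijOn j η) (y : X') :
    Function.Bijective (stkMap j η y) := by
  refine ⟨(injective_iff_map_eq_zero _).2 fun m hm => ?_, fun m' => ?_⟩
  · obtain ⟨U, hU, s, rfl⟩ := exists_germM M m
    rw [stkMap_germM] at hm
    obtain ⟨V', hV', hyV', hs⟩ := germM_eq_zero _ _ hm
    have hle : j ''ᵁ V' ≤ U := fun x hx => by obtain ⟨z, hz, rfl⟩ := hx; exact hV' hz
    have h0 : rs M hle s = 0 := by
      refine (hη _ (j.image_le_opensRange _)).1 ?_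
      rw [map_zero]
      refine (app_rs η hle s).trans ?_
      have := congrArg (rs M' (j.preimage_image_eq V').le) hs
      rwa [rs_rs, rs_zero] at this
    have := germM_res M (homOfLE hle) (show j.base y ∈ j ''ᵁ V' from ⟨y, hyV', rfl⟩) s
    rw [← this]
    show germM M _ _ (rs M hle s) = 0
    rw [h0, map_zero]
  · obtain ⟨V', hy, s', rfl⟩ := exists_germM M' m'
    obtain ⟨s, hs⟩ := (hη _ (j.image_le_opensRange V')).2 (rs M' (j.preimage_image_eq V').le s')
    refine ⟨germM M (j ''ᵁ V') ⟨y, hy, rfl⟩ s, ?_⟩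
    refine (stkMap_germM j η y (j ''ᵁ V') ⟨y, hy, rfl⟩ s).trans ?_
    refine (congrArg (germM M' _ _) hs).trans ?_
    exact germM_res M' (homOfLE (j.preimage_image_eq V').le) _ s'

theorem bijOn_godMap {η : M ⟶ (Scheme.Modules.pushforward j).obj M'} (hη : BijOn j η) :
    BijOn j (godMap j η) := by
  intro W hW
  refine ⟨fun s t hst => god_ext fun x hx => ?_, fun t => ?_⟩
  · obtain ⟨y, rfl⟩ := hW hx
    refine (bijective_stkMap j hη y).1 ?_
    rw [← godVal_godMap j η s y hx, ← godVal_godMap j η t y hx, hst]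
  · have h : ∀ x : W, ∃ m : stk M x.1, ∀ (z : X') (hz : z ∈ j ⁻¹ᵁ W) (e : j.base z = x.1),
        stkMap j η z (e.symm ▸ m) = godVal (U := j ⁻¹ᵁ W) t z hz := by
      rintro ⟨x, hx⟩
      obtain ⟨y, rfl⟩ := hW hx
      obtain ⟨m, hm⟩ := (bijective_stkMap j hη y).2 (godVal (U := j ⁻¹ᵁ W) t y hx)
      refine ⟨m, fun z hz e => ?_⟩
      obtain rfl : z = y := j.isOpenEmbedding.injective e
      exact hm
    choose m hm using h
    refine ⟨(m : ∀ x : W, stk M x.1), god_ext (U := j ⁻¹ᵁ W) fun z hz => ?_⟩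
    exact hm ⟨j.base z, hz⟩ z hz rfl

theorem bijOn_godQMap {η : M ⟶ (Scheme.Modules.pushforward j).obj M'} (hη : BijOn j η) :
    ∀ k, BijOn j (godQMap j η k)
  | 0 => hη
  | k + 1 => by
    have ih := bijOn_godQMap hη k
    haveI : Epi (godπ M k) := inferInstanceAs (Epi (cokernel.π _))
    haveI : Epi (godπ M' k) := inferInstanceAs (Epi (cokernel.π _))
    have hg := bijOn_godMap j ih
    have comm : ∀ {W : X.Opens} (a : Γ(God (godQ M k), W)),
        (godQMap j η (k + 1)).app W ((godπ M k).app W a) =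
          (godπ M' k).app (j ⁻¹ᵁ W) ((godMap j (godQMap j η k)).app W a) := fun {W} a =>
      congr(($(godπ_godQMap j η k)).app W a)
    have inj : ∀ W : X.Opens, W ≤ j.opensRange → Function.Injective ((godQMap j η (k + 1)).app W) := by
      intro W hW
      refine (injective_iff_map_eq_zero _).2 fun x hx => eq_zero_of_locally W x fun p hp => ?_
      obtain ⟨V, i, hpV, a, ha⟩ := exists_local_preimage (godπ M k) x hp
      refine ⟨V, homOfLE i, hpV, ?_⟩
      show rs _ i x = 0
      obtain ⟨c', hc'⟩ := exists_of_godπ_app_eq_zero k ((godMap j (godQMap j η k)).app V a) (by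
        rw [← comm, ha, app_rs, hx]
        exact rs_zero i)
      obtain ⟨c, hc⟩ := (ih V (i.trans hW)).2 c'
      have : a = (toGod (godQ M k)).app V c := by
        refine (hg V (i.trans hW)).1 ?_
        refine hc'.symm.trans ?_
        rw [← hc]
        exact (congr(($(toGod_godMap j (godQMap j η k))).app V c)).symm
      rw [← ha, this, godπ_toGod_app]
    intro W hW
    refine ⟨inj W hW, fun x' => ?_⟩
    let x'' : Γ(godQ M' (k + 1), j ⁻¹ᵁ W) := x'
    have h : ∀ p : W, ∃ (V : X.Opens) (i : V ≤ W), p.1 ∈ V ∧ ∃ s : Γ(godQ M (k + 1), V),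
        (godQMap j η (k + 1)).app V s = rs (godQ M' (k + 1)) (j.preimage_mono i) x'' := by
      rintro ⟨p, hp⟩
      obtain ⟨y, rfl⟩ := hW hp
      obtain ⟨V', i', hyV', a', ha'⟩ := exists_local_preimage (godπ M' k) x'' (show y ∈ j ⁻¹ᵁ W from hp)
      have hle : j ''ᵁ V' ≤ W := fun q hq => by obtain ⟨z, hz, rfl⟩ := hq; exact i' hz
      obtain ⟨a, ha⟩ := (hg _ (j.image_le_opensRange V')).2 (rs (God (godQ M' k)) (j.preimage_image_eq V').le a')
      refine ⟨_, hle, ⟨y, hyV', rfl⟩, (godπ M k).app _ a, ?_⟩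
      rw [comm]
      refine (congrArg ((godπ M' k).app _) ha).trans ?_
      rw [app_rs, ha', rs_rs]
    choose V i hpV s hs using h
    obtain ⟨x, hx, -⟩ := TopCat.Sheaf.existsUnique_gluing' ⟨(godQ M (k + 1)).presheaf, (godQ M (k + 1)).isSheaf⟩
      V W (fun p => homOfLE (i p)) (fun p hp => Opens.mem_iSup.2 ⟨⟨p, hp⟩, hpV _⟩) s
      (fun p q => by
        refine inj _ ((inf_le_left.trans (i p)).trans hW) ?_
        show (godQMap j η (k + 1)).app (V p ⊓ V q) (rs _ inf_le_left (s p)) =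
          (godQMap j η (k + 1)).app (V p ⊓ V q) (rs _ inf_le_right (s q))
        rw [app_rs, app_rs, hs, hs]
        show rs (godQ M' (k + 1)) (j.preimage_mono inf_le_left) _ =
          rs (godQ M' (k + 1)) (j.preimage_mono inf_le_right) _
        rw [rs_rs, rs_rs])
    refine ⟨x, TopCat.Sheaf.eq_of_locally_eq' ⟨(godQ M' (k + 1)).presheaf, (godQ M' (k + 1)).isSheaf⟩
      (fun p => j ⁻¹ᵁ V p) _ (fun p => homOfLE (j.preimage_mono (i p)))
      (fun z hz => Opens.mem_iSup.2 ⟨⟨j.base z, hz⟩, hpV ⟨j.base z, hz⟩⟩) _ _ fun p => ?_⟩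
    show rs (godQ M' (k + 1)) _ _ = rs (godQ M' (k + 1)) _ x''
    rw [← hs]
    refine (app_rs (godQMap j η (k + 1)) (i p) x).symm.trans ?_
    exact congrArg _ (hx p)

theorem bijOn_unit (M : X.Modules) :
    BijOn j ((Scheme.Modules.restrictAdjunction j).unit.app M) := by
  intro W hW
  have he : j ''ᵁ (j ⁻¹ᵁ W) = W := by
    rw [j.image_preimage_eq_opensRange_inf]; exact inf_eq_right.2 hW
  refine ⟨fun s t h => ?_, fun t => ?_⟩
  · rw [Scheme.Modules.restrictAdjunction_unit_app_app] at h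
    have := congrArg (rs M he.ge) h
    refine ((rs_self le_rfl s).symm.trans ?_).trans (rs_self le_rfl t)
    exact ((rs_rs _ _ s).symm.trans (this.trans (rs_rs _ _ t)) :)
  · let t' : Γ(M, j ''ᵁ (j ⁻¹ᵁ W)) := t
    refine ⟨rs M he.ge t', ?_⟩
    rw [Scheme.Modules.restrictAdjunction_unit_app_app]
    refine (rs_rs he.ge (j.image_preimage_le W) t').trans ?_
    exact rs_self le_rfl t'

end Groth.Agent.QCoh
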