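import Groth.Agent.QCoh.RpushGod
import Groth.Agent.QCoh.GodRestrict
import Groth.Agent.QCoh.GodHH

/-!
# Sections of higher direct images over affine opens
-/

universe u

set_option backward.isDefEq.respectTransparency false
set_option backward.isDefEq.respectTransparency.types false

open CategoryTheory CategoryTheory.Limits AlgebraicGeometry TopologicalSpace Opposite

namespace Groth.Agent.QCoh

/-- Classes of global sections of the Godement cokernels in cohomology. -/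
theorem exists_classMap {X : Scheme.{u}} {A : Type u} [CommRing A] (ρ : A →+* Coh.Γtop X)
    (M : X.Modules) (k : ℕ) :
    letI := secModule ρ (godQ M k) ⊤
    letI := modHH ρ M k
    ∃ a : Γ(godQ M k, ⊤) →ₗ[A] Coh.HH X M k,
      Function.Surjective a ∧ ∀ v, a v = 0 ↔ v ∈ bd M k ⊤ := by
  let := secModule ρ (godQ M k) ⊤
  let := modHH ρ M k
  cases k with
  | zero =>
    let := secModule ρ M ⊤
    exact ⟨(secH ρ M).toLinearMap, (secH ρ M).surjective, fun v =>
      (secH ρ M).map_eq_zero_iff.trans (Submodule.mem_bot _).symm⟩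
  | succ n =>
    obtain ⟨e⟩ := nonempty_shift ρ M n n 0 (Nat.zero_add n)
    let := modHH ρ (godQ M (n + 1)) 0
    let := modHH ρ (godQ M n) 1
    refine ⟨e.toLinearMap.comp ((connLin ρ (godSES_shortExact M n) 0).comp
      (secH ρ (godQ M (n + 1))).toLinearMap), e.surjective.comp ((Ab.connecting_surjective
        (X := X.toPresheafedSpace.carrier) (toAb_shortExact (godSES_shortExact M n)) 0
        (subsingleton_HH_God (godQ M n) 0)).comp (secH ρ (godQ M (n + 1))).surjective), fun v => ?_⟩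
    refine (e.map_eq_zero_iff).trans ((Ab.connecting_eq_zero_iff (X := X.toPresheafedSpace.carrier)
      (toAb_shortExact (godSES_shortExact M n)) 0 _).trans ⟨?_, ?_⟩)
    · rintro ⟨y, hy⟩
      refine ⟨Sheaf.H.equiv₀ (Coh.toAb (God (godQ M n))) isTerminalTop y, ?_⟩
      refine (Sheaf.H.equiv₀_naturality isTerminalTop
        ((godSES M n).map (toAbFunctor X)).g y).trans ?_
      exact (congrArg (Sheaf.H.equiv₀ (Coh.toAb (godQ M (n + 1))) isTerminalTop) hy).trans
        ((Sheaf.H.equiv₀ (Coh.toAb (godQ M (n + 1))) isTerminalTop).apply_symm_apply v)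
    · rintro ⟨x, hx⟩
      refine ⟨(Sheaf.H.equiv₀ (Coh.toAb (God (godQ M n))) isTerminalTop).symm x,
        (Sheaf.H.equiv₀ (Coh.toAb (godQ M (n + 1))) isTerminalTop).injective ?_⟩
      refine (Sheaf.H.equiv₀_naturality isTerminalTop ((godSES M n).map (toAbFunctor X)).g _).symm.trans ?_
      refine (congrArg _ ((Sheaf.H.equiv₀ (Coh.toAb (God (godQ M n))) isTerminalTop).apply_symm_apply x)).trans ?_
      exact hx.trans ((Sheaf.H.equiv₀ (Coh.toAb (godQ M (n + 1))) isTerminalTop).apply_symm_apply v).symm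

variable {X S : Scheme.{u}} (f : X ⟶ S) (M : X.Modules) (V : S.Opens)

/-- The scalars of the scheme over `V`. -/
noncomputable def rhoV : Γ(S, V) →+* Coh.Γtop ((f ⁻¹ᵁ V : X.Opens) : Scheme.{u}) :=
  ((f ⁻¹ᵁ V).ι.appLE (f ⁻¹ᵁ V) ⊤ (f ⁻¹ᵁ V).ι_preimage_self.ge).hom.comp (f.app V).hom

/-- Transfer of sections of the Godement cokernels to the scheme over `V`. -/
noncomputable def transferSec (k : ℕ) (z : Γ(godQ M k, f ⁻¹ᵁ V)) :
    Γ(godQ (M.restrict (f ⁻¹ᵁ V).ι) k, ⊤) :=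
  rs (godQ (M.restrict (f ⁻¹ᵁ V).ι) k) (f ⁻¹ᵁ V).ι_preimage_self.ge
    ((godQMap (f ⁻¹ᵁ V).ι ((Scheme.Modules.restrictAdjunction (f ⁻¹ᵁ V).ι).unit.app M) k).app (f ⁻¹ᵁ V) z)

omit f M V in
theorem bijective_rs_of_eq {X : Scheme.{u}} (G : X.Modules) {A B : X.Opens} (e : A = B) (h : B ≤ A) :
    Function.Bijective (rs G h) := by
  subst e
  exact ⟨fun a b hab => (rs_self h a).symm.trans (hab.trans (rs_self h b)), fun t => ⟨t, rs_self h t⟩⟩

theorem bijective_transferSec (k : ℕ) : Function.Bijective (transferSec f M V k) := by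
  have h := bijOn_godQMap (f ⁻¹ᵁ V).ι (bijOn_unit (f ⁻¹ᵁ V).ι M) k (f ⁻¹ᵁ V)
    (f ⁻¹ᵁ V).opensRange_ι.ge
  exact Function.Bijective.comp (bijective_rs_of_eq (godQ (M.restrict (f ⁻¹ᵁ V).ι) k)
    (f ⁻¹ᵁ V).ι_preimage_self (f ⁻¹ᵁ V).ι_preimage_self.ge) h

theorem transferSec_add (k : ℕ) (z w : Γ(godQ M k, f ⁻¹ᵁ V)) :
    transferSec f M V k (z + w) = transferSec f M V k z + transferSec f M V k w := by
  unfold transferSec
  rw [map_add]
  exact rs_add _ _ _

theorem transferSec_smul (k : ℕ) (r : Γ(S, V)) (z : Γ(godQ M k, f ⁻¹ᵁ V)) :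
    letI := secModule (rhoV f V) (godQ (M.restrict (f ⁻¹ᵁ V).ι) k) ⊤
    transferSec f M V k (f.app V r • z) = r • transferSec f M V k z := by
  unfold transferSec
  rw [Scheme.Modules.Hom.app_smul]
  refine (rs_smul (G := godQ (M.restrict (f ⁻¹ᵁ V).ι) k) _ ((f ⁻¹ᵁ V).ι.app (f ⁻¹ᵁ V) (f.app V r)) _).trans ?_
  refine congrArg (fun c => c • _) ?_
  exact (ringMap_id _ _).symm

theorem transferSec_bd (k : ℕ) (v : Γ(godQ (M.restrict (f ⁻¹ᵁ V).ι) k, ⊤))
    (hv : v ∈ bd (M.restrict (f ⁻¹ᵁ V).ι) k ⊤) :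
    ∃ z ∈ bd M k (f ⁻¹ᵁ V), transferSec f M V k z = v := by
  cases k with
  | zero =>
    refine ⟨0, zero_mem _, ?_⟩
    rw [(Submodule.mem_bot _).1 hv]
    unfold transferSec
    rw [map_zero]
    exact rs_zero _
  | succ n =>
    obtain ⟨b, rfl⟩ := hv
    obtain ⟨a, ha⟩ := (bijOn_godMap (f ⁻¹ᵁ V).ι (bijOn_godQMap (f ⁻¹ᵁ V).ι
      (bijOn_unit (f ⁻¹ᵁ V).ι M) n) (f ⁻¹ᵁ V) (f ⁻¹ᵁ V).opensRange_ι.ge).2
        (rs (God (godQ (M.restrict (f ⁻¹ᵁ V).ι) n)) (f ⁻¹ᵁ V).ι_preimage_self.le b)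
    refine ⟨_, ⟨a, rfl⟩, ?_⟩
    unfold transferSec
    refine (congrArg (rs (godQ (M.restrict (f ⁻¹ᵁ V).ι) (n + 1)) (f ⁻¹ᵁ V).ι_preimage_self.ge)
      ((congr(($(godπ_godQMap (f ⁻¹ᵁ V).ι
        ((Scheme.Modules.restrictAdjunction (f ⁻¹ᵁ V).ι).unit.app M) n)).app (f ⁻¹ᵁ V) a) : _).trans
        (congrArg ((godπ (M.restrict (f ⁻¹ᵁ V).ι) n).app _) ha))).trans ?_
    rw [app_rs]
    exact (rs_rs _ _ _).trans (rs_self le_rfl _)

/-- Finitely many classes generate the cohomology over `V`. -/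
theorem exists_gens_of_finite_HH (k : ℕ)
    (h : letI := modHH (rhoV f V) (M.restrict (f ⁻¹ᵁ V).ι) k
      Module.Finite Γ(S, V) (Coh.HH _ (M.restrict (f ⁻¹ᵁ V).ι) k)) :
    ∃ T : Set Γ((Scheme.Modules.pushforward f).obj (godQ M k), V), T.Finite ∧
      ∀ z : Γ((Scheme.Modules.pushforward f).obj (godQ M k), V),
        ∃ w ∈ Submodule.span Γ(S, V) T,
          (show Γ(godQ M k, f ⁻¹ᵁ V) from z - w) ∈ bd M k (f ⁻¹ᵁ V) := by
  let M' := M.restrict (f ⁻¹ᵁ V).ι
  let := secModule (rhoV f V) (godQ M' k) ⊤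
  let := modHH (rhoV f V) M' k
  obtain ⟨a, ha, hker⟩ := exists_classMap (rhoV f V) M' k
  let θ : Γ((Scheme.Modules.pushforward f).obj (godQ M k), V) →ₗ[Γ(S, V)] Coh.HH _ M' k :=
    a.comp
      (({ toFun := fun z => transferSec f M V k z
          map_add' := fun z w => transferSec_add f M V k z w
          map_smul' := fun r z => transferSec_smul f M V k r z } :
        Γ((Scheme.Modules.pushforward f).obj (godQ M k), V) →ₗ[Γ(S, V)] Γ(godQ M' k, ⊤)))
  have hθ : Function.Surjective θ := ha.comp (bijective_transferSec f M V k).2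
  obtain ⟨F, hF⟩ := h.fg_top
  choose z hz using hθ
  refine ⟨z '' (F : Set _), F.finite_toSet.image _, fun x => ?_⟩
  have hx : θ x ∈ Submodule.map θ (Submodule.span Γ(S, V) (z '' (F : Set _))) := by
    rw [Submodule.map_span, ← Set.image_comp, show θ ∘ z = id from funext hz, Set.image_id, hF]
    exact Submodule.mem_top
  obtain ⟨w, hw, hwx⟩ := hx
  refine ⟨w, hw, ?_⟩
  have h0 : θ (x - w) = 0 := by rw [map_sub, hwx, sub_self]
  obtain ⟨z', hz', he⟩ := transferSec_bd f M V k _ ((hker _).1 h0)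
  rw [(bijective_transferSec f M V k).1 he] at hz'
  exact hz'

theorem isFT_of_affine_finite {N : S.Modules} (hN : Coh.IsQCoh N)
    (h : ∀ V : S.Opens, IsAffineOpen V → Module.Finite Γ(S, V) Γ(N, V)) : CohB1.IsFT N :=
  isFT_of_finite hN (fun V : S.affineOpens => V.1)
    (top_unique fun x _ => by
      obtain ⟨_, ⟨W, hW, rfl⟩, hxW, -⟩ := S.isBasis_affineOpens.exists_subset_of_mem_open
        (Set.mem_univ x) isOpen_univ
      exact Opens.mem_iSup.2 ⟨⟨W, hW⟩, hxW⟩)
    (fun V => V.2) fun V => h V.1 V.2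

theorem isCoh_of_iso_finite {N N' : S.Modules} (e : N ≅ N') (hq : Coh.IsQCoh N')
    (h : ∀ V : S.Opens, IsAffineOpen V → Module.Finite Γ(S, V) Γ(N', V)) : Coh.IsCoh N := by
  have hN := (isQCoh_iff_iso e).2 hq
  refine ⟨hN, isFT_of_affine_finite hN fun V hV => ?_⟩
  haveI := h V hV
  refine Module.Finite.of_surjective (appLin e.inv V) fun x => ⟨e.hom.app V x, ?_⟩
  exact congr(($(e.hom_inv_id)).app V x)

/-- Higher direct images are coherent when the cohomology over affine opens is finite. -/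
theorem isCoh_Rpush_of_finite [QuasiCompact f] [QuasiSeparated f] [HasInjectiveResolutions X.Modules]
    (hM : Coh.IsQCoh M) (p : ℕ)
    (h : ∀ V : S.Opens, IsAffineOpen V →
      letI := modHH (rhoV f V) (M.restrict (f ⁻¹ᵁ V).ι) p
      Module.Finite Γ(S, V) (Coh.HH _ (M.restrict (f ⁻¹ᵁ V).ι) p)) :
    Coh.IsCoh ((Coh.Rpush f p).obj M) := by
  cases p with
  | zero =>
    haveI := SpObjSS.enoughInjectives_of_hasInjectiveResolutions (C := X.Modules)
    haveI := preservesFiniteLimits_push f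
    let e := (Scheme.Modules.pushforward f).rightDerivedZeroIsoSelf.app M
    refine isCoh_of_iso_finite e (isQCoh_pushforward f hM) fun V hV => ?_
    obtain ⟨T, hT, hgen⟩ := exists_gens_of_finite_HH f M V 0 (h V hV)
    have : Submodule.span Γ(S, V) T = ⊤ := eq_top_iff.2 fun z _ => by
      obtain ⟨w, hw, hwz⟩ := hgen z
      have : z = w := (sub_eq_zero (G := Γ((Scheme.Modules.pushforward f).obj (godQ M 0), V))).1 ((Submodule.mem_bot Γ(X, f ⁻¹ᵁ V) (M := Γ(godQ M 0, f ⁻¹ᵁ V))).1 hwz)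
      exact this ▸ hw
    exact ⟨this ▸ Submodule.fg_span hT⟩
  | succ q =>
    obtain ⟨e⟩ := nonempty_Rpush_iso f M q
    have hq := locRange_rpushModel f hM q
    refine isCoh_of_iso_finite e hq.isQCoh fun V hV => ?_
    obtain ⟨T, hT, hgen⟩ := exists_gens_of_finite_HH f M V (q + 1) (h V hV)
    let α := (Scheme.Modules.pushforward f).map (godπ M q)
    refine ⟨⟨(hT.image (appLin (cokernel.π α) V)).toFinset, ?_⟩⟩
    rw [Set.Finite.coe_toFinset, ← Submodule.map_span]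
    refine eq_top_iff.2 fun c _ => ?_
    obtain ⟨z, rfl⟩ := hq.surjective hV c
    obtain ⟨w, hw, b, hb⟩ := hgen z
    refine ⟨w, hw, (sub_eq_zero.1 ?_).symm⟩
    refine (map_sub ((cokernel.π α).app V).hom z w).symm.trans ?_
    exact (congrArg ((cokernel.π α).app V) (hb : (godπ M q).app _ b = _).symm).trans (cokernel_π_app_app (α := α) b)

end Groth.Agent.QCoh
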