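import Groth.Agent.QCoh.RpushGod
import Groth.Agent.QCoh.RpushCoh
import Groth.Agent.QCoh.ClosedPush

/-!
# Abelian higher direct images of quasi-coherent modules through the Godement resolution
-/

universe u v v' u₁ u₂

set_option backward.isDefEq.respectTransparency false
set_option backward.isDefEq.respectTransparency.types false

open CategoryTheory CategoryTheory.Limits AlgebraicGeometry TopologicalSpace Opposite

namespace Groth.Agent.QCoh

section abstract

variable {C : Type u₁} [Category.{v} C] [Abelian C] [EnoughInjectives C]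
  {D : Type u₂} [Category.{v'} D] [Abelian D] (F : C ⥤ D) [F.Additive] [PreservesFiniteLimits F]

/-- Derived functors from an acyclic resolution given by short exact sequences. -/
theorem nonempty_tower_iso (T : ℕ → ShortComplex C) (hT : ∀ n, (T n).ShortExact)
    (e : ∀ n, (T n).X₃ ≅ (T (n + 1)).X₁)
    (hacy : ∀ n i, IsZero ((F.rightDerived (i + 1)).obj (T n).X₂)) :
    ∀ q, Nonempty ((F.rightDerived (q + 1)).obj (T 0).X₁ ≅ cokernel (F.map (T q).g)) := by
  suffices h : ∀ (k i : ℕ), Nonempty ((F.rightDerived (i + 1)).obj (T k).X₁ ≅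
      (F.rightDerived (i + k + 1)).obj (T 0).X₁) by
    intro q
    obtain ⟨e₁⟩ := h q 0
    obtain ⟨e₂⟩ := nonempty_R1_iso F (hT q) (hacy q 0)
    exact ⟨eqToIso (by rw [Nat.zero_add]) ≪≫ e₁.symm ≪≫ e₂⟩
  intro k
  induction k with
  | zero => exact fun i => ⟨Iso.refl _⟩
  | succ k ih =>
    intro i
    obtain ⟨e₁⟩ := nonempty_shift_iso F (hT k) i (hacy k i) (hacy k (i + 1))
    obtain ⟨e₂⟩ := ih (i + 1)
    exact ⟨(F.rightDerived (i + 1)).mapIso (e k).symm ≪≫ e₁ ≪≫ e₂ ≪≫
      eqToIso (by rw [show i + 1 + k + 1 = i + (k + 1) + 1 by omega])⟩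

end abstract

variable {X Y Z : Scheme.{u}}

theorem preservesFiniteLimits_pushAb (f : X ⟶ Y) : PreservesFiniteLimits (Coh.pushAb f) :=
  Ab.push_preservesFiniteLimits f.base

/-- Flasque abelian sheaves are acyclic for direct images. -/
theorem isZero_RpushAb_of_flasque (f : X ⟶ Y) (F : CohTop.Ab X.toPresheafedSpace.carrier)
    (hF : TopCat.Sheaf.IsFlasque F) (i : ℕ) : IsZero ((Coh.RpushAb f (i + 1)).obj F) :=
  Ab.Rpush_isZero_of_class f.base (fun G => TopCat.Sheaf.IsFlasque G)
    (fun {T} hT h₁ h₂ => ⟨fun {U V} i => (AddCommGrpCat.epi_iff_surjective _).2 fun t => by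
      obtain ⟨b, hb⟩ := SiteBase.surjective_sections_of_HU_one hT V.unop
        (have := h₁; SiteBase.subsingleton_HU_of_isFlasque T.X₁ V.unop 0) t
      have := (haveI := h₂; SiteBase.isFlasque_of_injective T.X₂)
      obtain ⟨b', hb'⟩ := (AddCommGrpCat.epi_iff_surjective _).1 (this.epi i) b
      exact ⟨T.g.hom.app U b', ((ConcreteCategory.congr_hom (T.g.hom.naturality i) b').symm.trans
        (congrArg (T.g.hom.app V) hb')).trans hb⟩⟩)
    (fun {T} hT h₁ _ => by
      haveI := Ab.push_preservesFiniteLimits f.base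
      haveI := hT.mono_f
      haveI : Mono (T.map (CohTop.push f.base)).f := inferInstanceAs (Mono ((CohTop.push f.base).map T.f))
      haveI : Epi (T.map (CohTop.push f.base)).g := by
        refine (TopCat.Sheaf.isLocallySurjective_iff_epi _).1
          ((TopCat.Presheaf.isLocallySurjective_iff _).2 fun U t y hy => ?_)
        exact ⟨U, le_rfl, by
          obtain ⟨b, hb⟩ := SiteBase.surjective_sections_of_HU_one hT ((Opens.map f.base).obj U)
            (have := h₁; SiteBase.subsingleton_HU_of_isFlasque T.X₁ _ 0) t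
          exact ⟨b, hb.trans (by simp [TopCat.Presheaf.restrictOpen, TopCat.Presheaf.restrict])⟩, hy⟩
      exact
        { exact := ShortComplex.exact_of_f_is_kernel _
            (KernelFork.mapIsLimit _ hT.fIsKernel (CohTop.push f.base)) })
    F hF i

theorem isFlasque_pushAb (f : X ⟶ Y) {F : CohTop.Ab X.toPresheafedSpace.carrier}
    (hF : TopCat.Sheaf.IsFlasque F) :
    TopCat.Sheaf.IsFlasque (X := Y.toPresheafedSpace.carrier) ((Coh.pushAb f).obj F) :=
  ⟨fun i => hF.epi ((Opens.map f.base).op.map i)⟩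

/-- The direct image of the cokernel commutes with taking abelian sheaves. -/
theorem nonempty_toAb_cokernel {A B : X.Modules} (α : A ⟶ B) :
    Nonempty ((toAbFunctor X).obj (cokernel α) ≅ cokernel ((toAbFunctor X).map α)) := by
  have : PreservesFiniteColimits (toAbFunctor X) :=
    (toAbFunctor X).preservesFiniteColimits_of_preservesHomology
  exact ⟨PreservesCokernel.iso (toAbFunctor X) α⟩

/-- Abelian higher direct images of a module along any morphism. -/
theorem nonempty_RpushAb_iso (f : X ⟶ Y) (M : X.Modules) (q : ℕ) :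
    Nonempty ((Coh.RpushAb f (q + 1)).obj (Coh.toAb M) ≅ Coh.toAb (rpushModel f M q)) := by
  haveI := preservesFiniteLimits_pushAb f
  obtain ⟨e⟩ := nonempty_tower_iso (Coh.pushAb f) (fun n => (godSES M n).map (toAbFunctor X))
    (fun n => toAb_shortExact (godSES_shortExact M n)) (fun n => Iso.refl _)
    (fun n i => isZero_RpushAb_of_flasque f _ (isFlasque_God _) i) q
  obtain ⟨e'⟩ := nonempty_toAb_cokernel ((Scheme.Modules.pushforward f).map (godπ M q))
  exact ⟨e ≪≫ e'.symm⟩

theorem nonempty_RpushAb_zero_iso (f : X ⟶ Y) (M : X.Modules) :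
    Nonempty ((Coh.RpushAb f 0).obj (Coh.toAb M) ≅ Coh.toAb ((Coh.push f).obj M)) := by
  haveI := preservesFiniteLimits_pushAb f
  exact ⟨(Coh.pushAb f).rightDerivedZeroIsoSelf.app (Coh.toAb M)⟩

/-- Cohomology and global sections of higher direct images over an affine base. -/
theorem nonempty_HH_equiv_sections (f : X ⟶ Y) [QuasiCompact f] [QuasiSeparated f] [IsAffine Y]
    {M : X.Modules} (hM : Coh.IsQCoh M) (q : ℕ) :
    Nonempty (Coh.HH X M q ≃+ ↑(((Coh.RpushAb f q).obj (Coh.toAb M)).obj.obj (op ⊤))) := by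
  cases q with
  | zero =>
    obtain ⟨e⟩ := nonempty_RpushAb_zero_iso f M
    exact ⟨(Sheaf.H.equiv₀ (Coh.toAb M) isTerminalTop).trans
      (((sheafToPresheaf _ _).mapIso e).app (op ⊤)).addCommGroupIsoToAddEquiv.symm⟩
  | succ q =>
    obtain ⟨e⟩ := nonempty_RpushAb_iso f M q
    have hq := locRange_rpushModel f hM q
    let := secModule (RingHom.id Γ(X, ⊤) : Γ(X, ⊤) →+* Coh.Γtop X) (godQ M (q + 1)) ⊤
    let := modHH (RingHom.id Γ(X, ⊤) : Γ(X, ⊤) →+* Coh.Γtop X) M (q + 1)
    obtain ⟨a, ha, hker⟩ := exists_classMap (RingHom.id Γ(X, ⊤) : Γ(X, ⊤) →+* Coh.Γtop X) M (q + 1)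
    let α := (Scheme.Modules.pushforward f).map (godπ M q)
    let p : Γ(godQ M (q + 1), (⊤ : X.Opens)) →+ Γ(cokernel α, (⊤ : Y.Opens)) :=
      ((cokernel.π α).app ⊤).hom
    have hp : Function.Surjective p := hq.surjective (isAffineOpen_top Y)
    have hk : a.toAddMonoidHom.ker = p.ker := by
      ext v
      refine (hker v).trans ⟨?_, fun hv => ?_⟩
      · rintro ⟨b, rfl⟩
        exact cokernel_π_app_app (α := α) (U := (⊤ : Y.Opens)) b
      · obtain ⟨b, hb⟩ := hq.mem_range (isAffineOpen_top Y) v hv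
        exact ⟨b, hb⟩
    exact ⟨((QuotientAddGroup.quotientKerEquivOfSurjective a.toAddMonoidHom ha).symm.trans
      ((QuotientAddGroup.quotientAddEquivOfEq hk).trans
        (QuotientAddGroup.quotientKerEquivOfSurjective p hp))).trans
      (((sheafToPresheaf _ _).mapIso e).app (op ⊤)).addCommGroupIsoToAddEquiv.symm⟩

/-- Direct images along affine morphisms do not change higher direct images. -/
theorem nonempty_RpushAb_affine_push (f : X ⟶ Y) (g : Y ⟶ Z) [IsAffineHom f] {M : X.Modules}
    (hM : Coh.IsQCoh M) (p : ℕ) :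
    Nonempty ((Coh.RpushAb g p).obj (Coh.toAb ((Coh.push f).obj M)) ≅
      (Coh.RpushAb (f ≫ g) p).obj (Coh.toAb M)) := by
  haveI := preservesFiniteLimits_pushAb g
  cases p with
  | zero =>
    obtain ⟨e₁⟩ := nonempty_RpushAb_zero_iso g ((Coh.push f).obj M)
    obtain ⟨e₂⟩ := nonempty_RpushAb_zero_iso (f ≫ g) M
    exact ⟨e₁ ≪≫ e₂.symm⟩
  | succ q =>
    let S := fun n => (godSES M n).map (Scheme.Modules.pushforward f)
    have hS : ∀ n, (S n).ShortExact := fun n => by
      haveI := (Scheme.Modules.pullbackPushforwardAdjunction f).isRightAdjoint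
      haveI : Mono (S n).f :=
        inferInstanceAs (Mono ((Scheme.Modules.pushforward f).map (toGod (godQ M n))))
      haveI : Epi (S n).g := ⟨fun {L} a b e => by
        refine sub_eq_zero.1 (Scheme.Modules.hom_ext _ _ fun U => ?_)
        ext x
        refine eq_zero_of_locally U _ fun y hy => ?_
        obtain ⟨_, ⟨V, hV, rfl⟩, hyV, hVU⟩ := Y.isBasis_affineOpens.exists_subset_of_mem_open hy U.2
        refine ⟨V, homOfLE hVU, hyV, ?_⟩
        rw [← map_app_comm]
        obtain ⟨z, hz⟩ := godπ_app_surjective (M := M) (n := n)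
          (subsingleton_HU_of_isAffineOpen hM (hV.preimage f) n)
          (rs (godQ M (n + 1)) (f.preimage_mono hVU) x)
        have h0 := congr(($e).app V z)
        show a.app V _ - b.app V _ = 0
        rw [sub_eq_zero]
        exact ((congrArg (a.app V) hz).symm.trans h0).trans (congrArg (b.app V) hz)⟩
      exact
        { exact := ShortComplex.exact_of_f_is_kernel _
            (KernelFork.mapIsLimit _ (godSES_shortExact M n).fIsKernel (Scheme.Modules.pushforward f)) }
    obtain ⟨e⟩ := nonempty_tower_iso (Coh.pushAb g) (fun n => (S n).map (toAbFunctor Y))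
      (fun n => toAb_shortExact (hS n)) (fun n => Iso.refl _)
      (fun n i => isZero_RpushAb_of_flasque g _ (isFlasque_pushAb f (isFlasque_God _)) i) q
    obtain ⟨e'⟩ := nonempty_toAb_cokernel ((Scheme.Modules.pushforward (f ≫ g)).map (godπ M q))
    obtain ⟨e''⟩ := nonempty_RpushAb_iso (f ≫ g) M q
    exact ⟨e ≪≫ e'.symm ≪≫ e''.symm⟩

/-- Cokernels and direct images along affine morphisms. -/
theorem nonempty_cokernel_push_iso (g : Y ⟶ Z) [IsAffineHom g] {A B : Y.Modules} (α : A ⟶ B)
    (hq : LocRange α) (hq' : LocRange ((Scheme.Modules.pushforward g).map α)) :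
    Nonempty (cokernel ((Scheme.Modules.pushforward g).map α) ≅
      (Scheme.Modules.pushforward g).obj (cokernel α)) := by
  let c := cokernelComparison α (Scheme.Modules.pushforward g)
  have hc : ∀ (U : Z.Opens) (x : Γ((Scheme.Modules.pushforward g).obj B, U)),
      c.app U ((cokernel.π ((Scheme.Modules.pushforward g).map α)).app U x) =
        ((Scheme.Modules.pushforward g).map (cokernel.π α)).app U x := fun U x =>
    congr(($(π_comp_cokernelComparison α (Scheme.Modules.pushforward g))).app U x)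
  have : IsIso c := by
    refine isIso_of_isBasis c Z.isBasis_affineOpens fun U hU => ⟨?_, fun y => ?_⟩
    · refine (injective_iff_map_eq_zero _).2 fun x hx => ?_
      obtain ⟨z, rfl⟩ := hq'.surjective hU x
      rw [hc] at hx
      obtain ⟨b, hb⟩ := hq.mem_range (hU.preimage g) z hx
      obtain rfl : ((Scheme.Modules.pushforward g).map α).app U b = z := hb
      exact cokernel_π_app_app (α := (Scheme.Modules.pushforward g).map α) (U := U) b
    · obtain ⟨z, hz⟩ := hq.surjective (hU.preimage g) y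
      exact ⟨(cokernel.π ((Scheme.Modules.pushforward g).map α)).app U z, (hc U z).trans hz⟩
  exact ⟨asIso c⟩

theorem LocRange.of_iso {A B A' B' : X.Modules} {α : A ⟶ B} {α' : A' ⟶ B'} (a : A ≅ A') (b : B ≅ B')
    (w : α ≫ b.hom = a.hom ≫ α') (h : LocRange α) : LocRange α' := by
  have w' : ∀ (U : X.Opens) (x : Γ(A, U)), b.hom.app U (α.app U x) = α'.app U (a.hom.app U x) :=
    fun U x => congr(($w).app U x)
  have hb : ∀ (U : X.Opens) (x : Γ(B', U)), b.hom.app U (b.inv.app U x) = x :=
    fun U x => congr(($(b.inv_hom_id)).app U x)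
  have ha : ∀ (U : X.Opens) (x : Γ(A', U)), a.hom.app U (a.inv.app U x) = x :=
    fun U x => congr(($(a.inv_hom_id)).app U x)
  refine ⟨fun V hV g y => ?_, fun V hV g z x hx => ?_⟩
  · obtain ⟨n, z, x, hx⟩ := h.surj V hV g (b.inv.app _ y)
    refine ⟨n, b.hom.app V z, a.hom.app _ x, ?_⟩
    rw [← w', hx, map_sub, Scheme.Modules.Hom.app_smul, hb, app_rs]
  · obtain ⟨n, x', hx'⟩ := h.inj V hV g (b.inv.app V z) (a.inv.app _ x) (by
      have hb' : ∀ (U : X.Opens) (y : Γ(B, U)), b.inv.app U (b.hom.app U y) = y :=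
        fun U y => congr(($(b.hom_inv_id)).app U y)
      refine (hb' _ _).symm.trans ?_
      rw [w', ha, hx, app_rs])
    refine ⟨n, a.hom.app V x', ?_⟩
    rw [← w', hx', Scheme.Modules.Hom.app_smul, hb]

/-- Higher direct images commute with affine morphisms of the base. -/
theorem nonempty_RpushAb_affine_base (f : X ⟶ Y) (g : Y ⟶ Z) [QuasiSeparated f] [QuasiCompact f]
    [IsAffineHom g] {M : X.Modules} (hM : Coh.IsQCoh M) (p : ℕ) :
    Nonempty ((Coh.RpushAb (f ≫ g) p).obj (Coh.toAb M) ≅
      (Coh.pushAb g).obj ((Coh.RpushAb f p).obj (Coh.toAb M))) := by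
  cases p with
  | zero =>
    obtain ⟨e₁⟩ := nonempty_RpushAb_zero_iso (f ≫ g) M
    obtain ⟨e₂⟩ := nonempty_RpushAb_zero_iso f M
    exact ⟨e₁ ≪≫ ((Coh.pushAb g).mapIso e₂).symm⟩
  | succ q =>
    obtain ⟨e₁⟩ := nonempty_RpushAb_iso (f ≫ g) M q
    obtain ⟨e₂⟩ := nonempty_RpushAb_iso f M q
    let η := Scheme.Modules.pushforwardComp f g
    have w := η.hom.naturality (godπ M q)
    obtain ⟨e₃⟩ := nonempty_cokernel_push_iso g ((Scheme.Modules.pushforward f).map (godπ M q))
      (locRange_rpushModel f hM q) (LocRange.of_iso (η.app _).symm (η.app _).symm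
        (η.inv.naturality (godπ M q)) (locRange_rpushModel (f ≫ g) hM q))
    exact ⟨e₁ ≪≫ (toAbFunctor Z).mapIso ((cokernel.mapIso _ _ (η.app _) (η.app _) w).symm ≪≫ e₃) ≪≫
      ((Coh.pushAb g).mapIso e₂).symm⟩

end Groth.Agent.QCoh
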