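import Groth.Agent.QCoh.RpushExchange
import Groth.Agent.QCoh.Stalk
import Groth.Agent.S2381
import Groth.Agent.S2446

/-!
# Local constancy and exchange over a base
-/

set_option linter.style.haveILetI false
set_option maxHeartbeats 1000000
set_option backward.isDefEq.respectTransparency false

universe u

open CategoryTheory CategoryTheory.Limits AlgebraicGeometry TopologicalSpace TensorProduct

namespace Groth.Agent.QCoh

theorem subsingleton_Γ_of_isZero {Y : Scheme.{u}} {N : Y.Modules} (h : IsZero N) (U : Y.Opens) :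
    Subsingleton Γ(N, U) := by
  refine subsingleton_of_forall_eq 0 fun z => ?_
  exact (congr(($((IsZero.iff_id_eq_zero N).1 h)).app U z) :)

variable {X S : Scheme.{u}} {f : X ⟶ S} {M : X.Modules} [HasInjectiveResolutions X.Modules]

theorem exists_point_fromSpec {V : S.Opens} (hV : IsAffineOpen V) (x : PrimeSpectrum Γ(S, V)) :
    ∃ (z : S) (hz : z ∈ V), hV.primeIdealOf ⟨z, hz⟩ = x := by
  have hz : hV.fromSpec x ∈ V := by
    rw [← SetLike.mem_coe, ← hV.range_fromSpec]; exact ⟨x, rfl⟩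
  exact ⟨_, hz, hV.fromSpec.isOpenEmbedding.injective (hV.fromSpec_primeIdealOf ⟨_, hz⟩)⟩

theorem isLocallyConstant_fiberRank (p : ℕ)
    (h : ∀ y : S, ∃ (V : S.Opens) (hV : IsAffineOpen V) (P : ChainComplex (ModuleCat.{u} Γ(S, V)) ℤ),
      y ∈ V ∧ IsLocalModel f M hV P ∧ IsLocallyConstant (CohIII.dRank P (-(p : ℤ)))) :
    IsLocallyConstant (CohIII.fiberRank f M p) := by
  refine (IsLocallyConstant.iff_eventually_eq _).2 fun y => ?_
  obtain ⟨V, hV, P, hy, hP, hc⟩ := h y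
  have hW := hV.fromSpec.isOpenEmbedding.isOpenMap _
    (hc.isOpen_fiber (CohIII.fiberRank f M p y))
  refine Filter.eventually_of_mem (hW.mem_nhds ⟨hV.primeIdealOf ⟨y, hy⟩,
    ((hP.2.2.2.2.2 p y hy).1.symm), hV.fromSpec_primeIdealOf ⟨y, hy⟩⟩) ?_
  rintro _ ⟨x, hx, rfl⟩
  obtain ⟨z, hz, rfl⟩ := exists_point_fromSpec hV x
  exact ((congrArg (CohIII.fiberRank f M p) (hV.fromSpec_primeIdealOf ⟨z, hz⟩)).trans
    (hP.2.2.2.2.2 p z hz).1).trans hx

theorem IsLocalModel.exact_of_flat {V : S.Opens} {hV : IsAffineOpen V} {P : ChainComplex (ModuleCat.{u} Γ(S, V)) ℤ}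
    (hP : IsLocalModel f M hV P) (h : ∀ i : ℕ, Module.Flat Γ(S, V) Γ((Coh.Rpush f i).obj M, V)) (q : ℤ) :
    IsExactT P q := by
  obtain ⟨c, hc⟩ := hP.2.2.1
  refine (S2446.result P hP.flat c hc q).2 (fun r _ => ?_) q le_rfl
  rcases lt_or_ge 0 r with h' | h'
  · haveI : Subsingleton ((CohIII.TFun P r).obj (ModuleCat.of Γ(S, V) Γ(S, V))) :=
      ModuleCat.isZero_iff_subsingleton.1 (hP.2.2.2.1 r h' _)
    infer_instance
  · obtain ⟨i, rfl⟩ : ∃ i : ℕ, r = -(i : ℤ) := ⟨(-r).toNat, by lia⟩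
    obtain ⟨l⟩ := hP.2.2.2.2.1 i
    haveI := h i
    exact Module.Flat.of_linearEquiv ((FlatCxLib.tUnitIso (P := P) (-(i : ℤ))).toLinearEquiv.trans l.symm)

theorem isLocallyConstant_of_isFinLocFree [IsProper f] [IsLocallyNoetherian S] (hM : Coh.IsCoh M)
    (hfl : FlatMod.IsFlatOver f M) (hlf : ∀ i : ℕ, FlatMod.IsFinLocFree ((Coh.Rpush f i).obj M)) (p : ℕ) :
    IsLocallyConstant (CohIII.fiberRank f M p) := by
  refine isLocallyConstant_fiberRank p fun y => ?_
  obtain ⟨_, ⟨V, hV, rfl⟩, hy, -⟩ :=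
    S.isBasis_affineOpens.exists_subset_of_mem_open (Set.mem_univ y) isOpen_univ
  have hV' : IsAffineOpen V := hV
  haveI : IsNoetherianRing Γ(S, V) := IsLocallyNoetherian.component_noetherian ⟨V, hV'⟩
  obtain ⟨P, hP⟩ := exists_isLocalModel hM hfl hV'
  refine ⟨V, hV', P, hy, hP, (S2381.result P (fun i => ⟨hP.1 i, hP.flat i⟩) _).1 ?_⟩
  exact hP.exact_of_flat (fun i => (flat_sections_iff (isQCoh_Rpush f hM.1 i) hV').2
    fun x _ => (isFlat_and_isFP_iff.2 (hlf i)).1 x) _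

theorem exists_free_of_const [IsProper f] [IsLocallyNoetherian S] [IsReduced S] (hM : Coh.IsCoh M)
    (hfl : FlatMod.IsFlatOver f M) (p : ℕ) (hconst : IsLocallyConstant (CohIII.fiberRank f M p)) (y : S) :
    ∃ U : S.Opens, y ∈ U ∧ Nonempty (((Coh.Rpush f p).obj M).restrict U.ι ≅
      FlatMod.freeMod (U : Scheme.{u}) (CohIII.fiberRank f M p y)) := by
  obtain ⟨_, ⟨V, hV, rfl⟩, hy, -⟩ :=
    S.isBasis_affineOpens.exists_subset_of_mem_open (Set.mem_univ y) isOpen_univ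
  have hV' : IsAffineOpen V := hV
  haveI : IsNoetherianRing Γ(S, V) := IsLocallyNoetherian.component_noetherian ⟨V, hV'⟩
  obtain ⟨P, hP⟩ := exists_isLocalModel hM hfl hV'
  refine hP.exists_free hM.1 p hy ?_
  let x := hV'.primeIdealOf ⟨y, hy⟩
  haveI : IsNoetherianRing (Localization.AtPrime x.asIdeal) :=
    IsLocalization.isNoetherianRing x.asIdeal.primeCompl _ inferInstance
  have hc : IsLocallyConstant (CohIII.dRank P (-(p : ℤ))) := by
    have e : CohIII.dRank P (-(p : ℤ)) = CohIII.fiberRank f M p ∘ hV'.fromSpec := funext fun z => by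
      obtain ⟨w, hw, rfl⟩ := exists_point_fromSpec hV' z
      exact (hP.2.2.2.2.2 p w hw).1.symm.trans
        (congrArg (CohIII.fiberRank f M p) (hV'.fromSpec_primeIdealOf ⟨w, hw⟩).symm)
    rw [e]
    exact hconst.comp_continuous hV'.fromSpec.continuous
  exact (S2381.result (locCx P x) (fun i => ⟨finite_bcCx_X_aux P _ hP.1 i,
    FlatCxLib.flat_bcCx_X P hP.flat i⟩) _).2 inferInstance
    (by
      rw [show CohIII.dRank (locCx P x) (-(p : ℤ)) = CohIII.dRank P (-(p : ℤ)) ∘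
        PrimeSpectrum.comap (algebraMap _ (Localization.AtPrime x.asIdeal)) from funext (dRank_locCx P x _)]
      exact hc.comp_continuous (PrimeSpectrum.continuous_comap _))

theorem concentrated_of_isZero_Rpush [IsProper f] [IsLocallyNoetherian S] (hM : Coh.IsCoh M)
    (hfl : FlatMod.IsFlatOver f M) (hR : ∀ i : ℕ, 0 < i → IsZero ((Coh.Rpush f i).obj M)) (y : S)
    (i : ℕ) (hi : i ≠ 0) : Subsingleton (CohIII.fiberH f M y i) := by
  obtain ⟨_, ⟨V, hV, rfl⟩, hy, -⟩ :=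
    S.isBasis_affineOpens.exists_subset_of_mem_open (Set.mem_univ y) isOpen_univ
  have hV' : IsAffineOpen V := hV
  haveI : IsNoetherianRing Γ(S, V) := IsLocallyNoetherian.component_noetherian ⟨V, hV'⟩
  obtain ⟨P, hP⟩ := exists_isLocalModel hM hfl hV'
  obtain ⟨hrk, hfin⟩ := hP.2.2.2.2.2 i y hy
  haveI := hfin
  refine Module.finrank_zero_iff.1 (show CohIII.fiberRank f M i y = 0 from ?_)
  rw [hrk]
  obtain ⟨c, hc⟩ := hP.2.2.1
  have hH : ∀ j : ℕ, j ≠ 0 → Subsingleton (P.homology (-(j : ℤ))) := fun j hj => by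
    obtain ⟨l⟩ := hP.2.2.2.2.1 j
    haveI : Subsingleton Γ((Coh.Rpush f j).obj M, V) := subsingleton_Γ_of_isZero (hR j (by lia)) V
    exact l.symm.toEquiv.subsingleton
  have hex : ∀ q ≤ (-1 : ℤ), IsExactT P q := (S2446.result P hP.flat c hc (-1)).2 fun r hr => by
    obtain ⟨j, rfl⟩ : ∃ j : ℕ, r = -(j : ℤ) := ⟨(-r).toNat, by lia⟩
    haveI := hH j (by lia)
    haveI : Subsingleton ((CohIII.TFun P (-(j : ℤ))).obj (ModuleCat.of Γ(S, V) Γ(S, V))) :=
      (FlatCxLib.tUnitIso (P := P) (-(j : ℤ))).toLinearEquiv.toEquiv.subsingleton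
    infer_instance
  have hr : -(i : ℤ) - 1 + 1 = -(i : ℤ) := by lia
  haveI := (FlatCxLib.preservesEpi_iff hP.flat hr).1 (hex _ (by lia)).2
  rw [FlatCxLib.dRank_eq_fibreRank P hP.flat (show -(i : ℤ) + 1 = _ from rfl) hr]
  haveI := hH i hi
  haveI : Subsingleton (FlatCxLib.Hom' P (-(i : ℤ) + 1) (-(i : ℤ)) (-(i : ℤ) - 1)) :=
    (FlatCxLib.hom'Equiv (P := P) (show -(i : ℤ) + 1 = _ from rfl) hr).toEquiv.subsingleton
  exact Module.finrank_zero_of_subsingleton

end Groth.Agent.QCoh
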