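import Groth.Agent.QCoh.FlatFibre
import Groth.Agent.FlatCxLib.Exchange
import Groth.Agent.FlatCxLib.Local
import Groth.Agent.FlatCxLib.HomologyBC
import Groth.Agent.FlatCxLib.BaseChange
import Groth.Agent.FlatCxLib.Field

/-!
# Exchange properties of finite free complexes at a point of the base
-/

set_option linter.style.haveILetI false

universe u

open CategoryTheory CategoryTheory.Limits TensorProduct

namespace Groth.Agent.QCoh

variable {A : Type u} [CommRing A]

/-- The functor `T_q` is exact. -/
def IsExactT (P : ChainComplex (ModuleCat.{u} A) ℤ) (q : ℤ) : Prop :=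
  (CohIII.TFun P q).PreservesMonomorphisms ∧ (CohIII.TFun P q).PreservesEpimorphisms

theorem finrank_bc_eq_dRank {k : Type u} [Field k] (φ : A →+* k)
    (P : ChainComplex (ModuleCat.{u} A) ℤ) (x : PrimeSpectrum A) (hx : RingHom.ker φ = x.asIdeal) (q : ℤ) :
    Module.finrank k ((CohIII.bcCx φ P).homology q) = CohIII.dRank P q x := by
  have h1 : x.asIdeal ≤ RingHom.ker φ := hx.ge
  have h2 : x.asIdeal.primeCompl ≤ (IsUnit.submonoid k).comap φ :=
    fun a ha => isUnit_iff_ne_zero.2 fun h => ha (hx ▸ (RingHom.mem_ker).2 h)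
  let ι : x.asIdeal.ResidueField →+* k := Ideal.ResidueField.lift x.asIdeal φ h1 h2
  have h : ι.comp (algebraMap A x.asIdeal.ResidueField) = φ :=
    RingHom.ext fun a => Ideal.ResidueField.lift_algebraMap (I := x.asIdeal) φ h1 h2 a
  rw [← h]
  exact (LinearEquiv.finrank_eq ((HomologicalComplex.homologyFunctor _ _ q).mapIso
      (HomologicalComplex.Hom.isoOfComponents (fun n => (ModuleCat.extendScalarsComp
        (algebraMap A x.asIdeal.ResidueField) ι).app (P.X n))
        (fun a b _ => ((ModuleCat.extendScalarsComp (algebraMap A x.asIdeal.ResidueField) ι).hom.naturality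
          (P.d a b)).symm) :
        CohIII.bcCx (ι.comp (algebraMap A x.asIdeal.ResidueField)) P ≅
          CohIII.bcCx ι (CohIII.bcCx (algebraMap A x.asIdeal.ResidueField) P))).toLinearEquiv).trans
    (FlatCxLib.finrank_homology_extendScalars_field ι
      (CohIII.bcCx (algebraMap A x.asIdeal.ResidueField) P) q)

section Local

variable [IsLocalRing A] [IsNoetherianRing A] {P : ChainComplex (ModuleCat.{u} A) ℤ}
  (hfl : ∀ i, Module.Flat A (P.X i)) (hfin : ∀ i, Module.Finite A (P.X i))

omit [IsNoetherianRing A] in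
include hfin in
theorem isZero_T_residue {q : ℤ} (h : CohIII.dRank P q (IsLocalRing.closedPoint A) = 0) :
    IsZero ((CohIII.TFun P q).obj (ModuleCat.of A (IsLocalRing.ResidueField A))) := by
  let φ : A →+* IsLocalRing.ResidueField A := IsLocalRing.residue A
  let P'' := CohIII.bcCx φ P
  haveI := finite_homology_bc φ P hfin q
  have h0 : Module.finrank (IsLocalRing.ResidueField A) (P''.homology q) = 0 :=
    (finrank_bc_eq_dRank φ P (IsLocalRing.closedPoint A) IsLocalRing.ker_residue q).trans h
  haveI : Subsingleton (P''.homology q) := Module.finrank_zero_iff.1 h0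
  have h1 : IsZero ((CohIII.TFun P'' q).obj (ModuleCat.of (IsLocalRing.ResidueField A) (IsLocalRing.ResidueField A))) :=
    (ModuleCat.isZero_of_subsingleton (P''.homology q)).of_iso (FlatCxLib.tUnitIso (P := P'') q)
  obtain ⟨e⟩ := nonempty_bcT_iso P φ q
  let rs := (ModuleCat.restrictScalars φ).obj
    (ModuleCat.of (IsLocalRing.ResidueField A) (IsLocalRing.ResidueField A))
  let l : rs ≅ ModuleCat.of A (IsLocalRing.ResidueField A) :=
    LinearEquiv.toModuleIso
      { toFun := fun z => z, invFun := fun z => z, left_inv := fun _ => rfl, right_inv := fun _ => rfl,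
        map_add' := fun _ _ => rfl, map_smul' := fun _ _ => rfl }
  have h2 : IsZero ((forget₂ (ModuleCat.{u} A) AddCommGrpCat.{u}).obj ((CohIII.TFun P q).obj rs)) :=
    (Functor.map_isZero (forget₂ _ AddCommGrpCat.{u}) h1).of_iso
      (e.app (ModuleCat.of (IsLocalRing.ResidueField A) (IsLocalRing.ResidueField A))).symm
  haveI : Subsingleton ((CohIII.TFun P q).obj rs) :=
    AddCommGrpCat.subsingleton_of_isZero h2
  exact (ModuleCat.isZero_of_subsingleton _).of_iso ((CohIII.TFun P q).mapIso l).symm

include hfl hfin in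
theorem epi_and_isZero_of_dRank {q : ℤ} (h : CohIII.dRank P q (IsLocalRing.closedPoint A) = 0) :
    (CohIII.TFun P q).PreservesEpimorphisms ∧ (∀ M, IsZero ((CohIII.TFun P q).obj M)) ∧
      IsZero (P.homology q) := by
  obtain ⟨he, hz⟩ := FlatCxLib.isZero_of_isZero_residue hfl hfin (isZero_T_residue hfin h)
  exact ⟨he, hz, (hz (ModuleCat.of A A)).of_iso (FlatCxLib.tUnitIso q).symm⟩

include hfl hfin in
theorem free_of_isExactT {q : ℤ} (h : IsExactT P q) :
    Module.Free A (P.homology q) ∧
      Module.finrank A (P.homology q) = CohIII.dRank P q (IsLocalRing.closedPoint A) := by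
  have hp : q + 1 = q + 1 := rfl
  have hr : q - 1 + 1 = q := by lia
  haveI := (FlatCxLib.preservesEpi_iff hfl hr).1 h.2
  let H := FlatCxLib.Hom' P (q + 1) q (q - 1)
  let eT : H ≃ₗ[A] CohIII.T P q (ModuleCat.of A A) := FlatCxLib.hom'EquivT hp hr
  let e : H ≃ₗ[A] P.homology q := FlatCxLib.hom'Equiv hp hr
  haveI : Module.Finite A H := FlatCxLib.finite_hom' hfin _ _ _
  haveI : Module.Flat A H :=
    haveI := ((FlatCxLib.exact_iff hfl hp hr).1 h).2
    Module.Flat.of_linearEquiv eT
  haveI : Module.Free A H := Module.free_of_flat_of_isLocalRing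
  refine ⟨Module.Free.of_equiv e, ?_⟩
  rw [← e.finrank_eq, FlatCxLib.dRank_eq_fibreRank P hfl hp hr]
  exact (Module.finrank_baseChange (R := (IsLocalRing.closedPoint A).asIdeal.ResidueField) (S := A)
    (M' := H)).symm

end Local

section Point

variable (P : ChainComplex (ModuleCat.{u} A) ℤ) (x : PrimeSpectrum A)

/-- The complex over the local ring at `x`. -/
noncomputable abbrev locCx : ChainComplex (ModuleCat.{u} (Localization.AtPrime x.asIdeal)) ℤ :=
  CohIII.bcCx (algebraMap A (Localization.AtPrime x.asIdeal)) P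

theorem dRank_locCx (q : ℤ) (y : PrimeSpectrum (Localization.AtPrime x.asIdeal)) :
    CohIII.dRank (locCx P x) q y =
      CohIII.dRank P q (PrimeSpectrum.comap (algebraMap A (Localization.AtPrime x.asIdeal)) y) :=
  FlatCxLib.finrank_homology_bcCx_comp
    (Ideal.ResidueField.map (PrimeSpectrum.comap (algebraMap A _) y).asIdeal y.asIdeal
      (algebraMap A (Localization.AtPrime x.asIdeal)) rfl) P (algebraMap A (Localization.AtPrime x.asIdeal))
    (algebraMap (Localization.AtPrime x.asIdeal) y.asIdeal.ResidueField)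
    (algebraMap A (PrimeSpectrum.comap (algebraMap A (Localization.AtPrime x.asIdeal)) y).asIdeal.ResidueField)
    (RingHom.ext fun a => (Ideal.ResidueField.map_algebraMap (PrimeSpectrum.comap (algebraMap A (Localization.AtPrime x.asIdeal)) y).asIdeal y.asIdeal (algebraMap A (Localization.AtPrime x.asIdeal)) rfl a).symm) q

theorem dRank_locCx_closedPoint (q : ℤ) :
    CohIII.dRank (locCx P x) q (IsLocalRing.closedPoint _) = CohIII.dRank P q x :=
  (dRank_locCx P x q _).trans
    (congrArg (CohIII.dRank P q) (PrimeSpectrum.ext (IsLocalization.AtPrime.under_maximalIdeal _ x.asIdeal)))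

theorem finite_bcCx_X_aux {B : Type u} [CommRing B] (φ : A →+* B) (hfin : ∀ i, Module.Finite A (P.X i))
    (i : ℤ) : Module.Finite B ((CohIII.bcCx φ P).X i) := by
  letI := φ.toAlgebra
  haveI := hfin i
  exact inferInstanceAs (Module.Finite B (B ⊗[A] P.X i))

theorem nonempty_homology_bc_aux {B : Type u} [CommRing B] (φ : A →+* B) (q : ℤ) (inst : Algebra A B)
    (hinst : inst = φ.toAlgebra) :
    letI := inst
    Module.Flat A B → Nonempty ((CohIII.bcCx φ P).homology q ≃ₗ[B] B ⊗[A] P.homology q) := by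
  subst hinst
  intro h
  exact ⟨(FlatCxLib.homologyExtendScalarsIso φ h P q).toLinearEquiv⟩

theorem nonempty_homology_locCx (q : ℤ) :
    Nonempty ((locCx P x).homology q ≃ₗ[Localization.AtPrime x.asIdeal]
      Localization.AtPrime x.asIdeal ⊗[A] P.homology q) :=
  nonempty_homology_bc_aux P (algebraMap A _) q _ (Algebra.algebra_ext _ _ fun _ => rfl)
    (IsLocalization.flat _ x.asIdeal.primeCompl)

theorem isZero_T_locCx {q : ℤ} (h : ∀ N, IsZero (CohIII.T P q N)) (M) :
    IsZero ((CohIII.TFun (locCx P x) q).obj M) := by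
  obtain ⟨e⟩ := nonempty_bcT_iso P (algebraMap A (Localization.AtPrime x.asIdeal)) q
  haveI : Subsingleton ((CohIII.TFun (locCx P x) q).obj M) :=
    AddCommGrpCat.subsingleton_of_isZero ((Functor.map_isZero (forget₂ (ModuleCat.{u} A) AddCommGrpCat.{u})
      (h ((ModuleCat.restrictScalars (algebraMap A _)).obj M))).of_iso (e.app M))
  exact ModuleCat.isZero_of_subsingleton _

end Point

theorem isExactT_of_isZero {P : ChainComplex (ModuleCat.{u} A) ℤ} {q : ℤ}
    (h : ∀ M, IsZero ((CohIII.TFun P q).obj M)) : IsExactT P q :=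
  ⟨⟨fun {M _} _ _ => ⟨fun a b _ => (h M).eq_of_tgt a b⟩⟩, ⟨fun {_ N} _ _ => ⟨fun a b _ => (h N).eq_of_src a b⟩⟩⟩

/-- Vanishing at all other degrees forces exactness. -/
theorem isExactT_of_vanish {P : ChainComplex (ModuleCat.{u} A) ℤ} (hfl : ∀ i, Module.Flat A (P.X i)) (q : ℤ)
    (h : ∀ q', q' ≠ q → IsExactT P q') : IsExactT P q :=
  ⟨(FlatCxLib.preservesEpi_iff_preservesMono hfl (show q + 1 = q + 1 from rfl)).1 (h (q + 1) (by lia)).2,
    (FlatCxLib.preservesEpi_iff_preservesMono hfl (show q - 1 + 1 = q by lia)).2 (h (q - 1) (by lia)).1⟩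

end Groth.Agent.QCoh
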