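import Groth.Agent.QCoh.RpushModel
import Groth.Agent.QCoh.LocalExchange
import Groth.Agent.QCoh.LocFree

/-!
# Exchange properties of higher direct images near a point
-/

set_option linter.style.haveILetI false

universe u

open CategoryTheory CategoryTheory.Limits AlgebraicGeometry TopologicalSpace TensorProduct

namespace Groth.Agent.QCoh

variable {S : Scheme.{u}} {G : S.Modules}

theorem isZero_freeMod_zero' (S : Scheme.{u}) : IsZero (FlatMod.freeMod S 0) :=
  (IsZero.iff_id_eq_zero _).2 (Sigma.hom_ext _ _ fun i => i.elim0)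

theorem exists_free_nhd' (hM : Coh.IsQCoh G) {U : S.Opens} (hU : IsAffineOpen U) (f : Γ(S, U))
    [Module.Finite Γ(S, U) Γ(G, U)] [Nontrivial (Localization.Away f)]
    (hfree : Module.Free (Localization.Away f) (LocalizedModule.Away f Γ(G, U))) :
    Nonempty (G.restrict (S.basicOpen f).ι ≅ FlatMod.freeMod (S.basicOpen f : Scheme.{u})
      (Module.finrank (Localization.Away f) (LocalizedModule.Away f Γ(G, U)))) := by
  letI := basicModule f G
  haveI := hU.isLocalization_basicOpen f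
  haveI := isLocalizedModule_basicRes f hM hU
  haveI : IsScalarTower Γ(S, U) Γ(S, S.basicOpen f) Γ(G, S.basicOpen f) :=
    IsScalarTower.of_algebraMap_smul fun _ _ => rfl
  haveI : Module.Finite (Localization.Away f) (LocalizedModule.Away f Γ(G, U)) :=
    Module.Finite.of_isLocalizedModule (Submonoid.powers f) (LocalizedModule.mkLinearMap (Submonoid.powers f) Γ(G, U))
  obtain ⟨i, j, hij⟩ := exists_semilinear (Submonoid.powers f) (Localization.Away f) Γ(S, S.basicOpen f)
    (LocalizedModule.mkLinearMap (Submonoid.powers f) Γ(G, U)) (basicRes f G)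
  let b := Module.Free.chooseBasis (Localization.Away f) (LocalizedModule.Away f Γ(G, U))
  let κ := Module.Free.ChooseBasisIndex (Localization.Away f) (LocalizedModule.Away f Γ(G, U))
  letI : Module Γ(S, S.basicOpen f) (LocalizedModule.Away f Γ(G, U)) := Module.compHom _ i.symm.toRingHom
  let l : LocalizedModule.Away f Γ(G, U) ≃ₗ[Γ(S, S.basicOpen f)] Γ(G, S.basicOpen f) :=
    { j with map_smul' := fun r m => (hij (i.symm r) m).trans (congrArg (fun r => r • j m) (i.apply_symm_apply r)) }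
  let b' : Module.Basis κ Γ(S, S.basicOpen f) Γ(G, S.basicOpen f) :=
    (b.mapCoeffs i fun c x => congrArg (fun r => r • x) (i.symm_apply_apply c)).map l
  rw [Module.finrank_eq_card_chooseBasisIndex]
  exact exists_free_restrict hM (hU.basicOpen f)
    (b'.reindex ((Fintype.equivFin κ).trans Equiv.ulift.symm)).repr

theorem exists_free_nhd_of_localization (hG : Coh.IsQCoh G) {V : S.Opens} (hV : IsAffineOpen V)
    [IsNoetherianRing Γ(S, V)] [Module.Finite Γ(S, V) Γ(G, V)] {y : S} (hy : y ∈ V)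
    (hfree : Module.Free (Localization.AtPrime (hV.primeIdealOf ⟨y, hy⟩).asIdeal)
      (Localization.AtPrime (hV.primeIdealOf ⟨y, hy⟩).asIdeal ⊗[Γ(S, V)] Γ(G, V))) :
    ∃ U : S.Opens, y ∈ U ∧ Nonempty (G.restrict U.ι ≅ FlatMod.freeMod (U : Scheme.{u})
      (Module.finrank (Localization.AtPrime (hV.primeIdealOf ⟨y, hy⟩).asIdeal)
        (Localization.AtPrime (hV.primeIdealOf ⟨y, hy⟩).asIdeal ⊗[Γ(S, V)] Γ(G, V)))) := by
  let x := hV.primeIdealOf ⟨y, hy⟩
  haveI : Module.FinitePresentation Γ(S, V) Γ(G, V) := Module.finitePresentation_of_finite _ _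
  haveI : IsLocalizedModule x.asIdeal.primeCompl
      (TensorProduct.mk Γ(S, V) (Localization.AtPrime x.asIdeal) Γ(G, V) 1) :=
    (isLocalizedModule_iff_isBaseChange x.asIdeal.primeCompl (Localization.AtPrime x.asIdeal) _).2
      (TensorProduct.isBaseChange Γ(S, V) Γ(G, V) (Localization.AtPrime x.asIdeal))
  obtain ⟨r, hr, hfr, hrank⟩ := Module.FinitePresentation.exists_free_localizedModule_powers
    x.asIdeal.primeCompl (TensorProduct.mk Γ(S, V) (Localization.AtPrime x.asIdeal) Γ(G, V) 1)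
    (Localization.AtPrime x.asIdeal)
  haveI : Nontrivial (Localization.Away r) := (IsLocalization.Away.lift (S := Localization.Away r) r
    (IsLocalization.map_units (Localization.AtPrime x.asIdeal) (⟨r, hr⟩ : x.asIdeal.primeCompl))).domain_nontrivial
  obtain ⟨e⟩ := exists_free_nhd' hG hV r hfr
  exact ⟨_, (mem_basicOpen_iff_notMem hV hy r).2 hr, ⟨e ≪≫ eqToIso (congrArg _ hrank)⟩⟩

variable {X : Scheme.{u}} {f : X ⟶ S} {M : X.Modules} [HasInjectiveResolutions X.Modules]
  {V : S.Opens} {hV : IsAffineOpen V} {P : ChainComplex (ModuleCat.{u} Γ(S, V)) ℤ}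

theorem IsLocalModel.flat (hP : IsLocalModel f M hV P) (i : ℤ) : Module.Flat Γ(S, V) (P.X i) := by
  haveI := hP.2.1 i
  infer_instance

theorem IsLocalModel.finite_homology [IsNoetherianRing Γ(S, V)] (hP : IsLocalModel f M hV P) (q : ℤ) :
    Module.Finite Γ(S, V) (P.homology q) :=
  haveI := FlatCxLib.finite_hom' (P := P) hP.1 (q + 1) q (q - 1)
  Module.Finite.equiv (FlatCxLib.hom'Equiv (P := P) (show q + 1 = q + 1 from rfl) (show q - 1 + 1 = q by lia))

theorem IsLocalModel.isExactT_of_pos (hP : IsLocalModel f M hV P) (x : PrimeSpectrum Γ(S, V)) {q : ℤ}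
    (hq : 0 < q) : IsExactT (locCx P x) q :=
  isExactT_of_isZero (isZero_T_locCx P x (hP.2.2.2.1 q hq))

/-- Exactness at the local ring gives a free neighbourhood of the expected rank. -/
theorem IsLocalModel.exists_free [IsLocallyNoetherian S] [QuasiCompact f] [QuasiSeparated f] (hP : IsLocalModel f M hV P)
    (hM : Coh.IsQCoh M) (p : ℕ) {y : S} (hy : y ∈ V)
    (h : IsExactT (locCx P (hV.primeIdealOf ⟨y, hy⟩)) (-(p : ℤ))) :
    ∃ U : S.Opens, y ∈ U ∧ Nonempty (((Coh.Rpush f p).obj M).restrict U.ι ≅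
      FlatMod.freeMod (U : Scheme.{u}) (CohIII.fiberRank f M p y)) := by
  haveI : IsNoetherianRing Γ(S, V) := IsLocallyNoetherian.component_noetherian ⟨V, hV⟩
  let x := hV.primeIdealOf ⟨y, hy⟩
  obtain ⟨l⟩ := hP.2.2.2.2.1 p
  haveI := hP.finite_homology (-(p : ℤ))
  haveI : Module.Finite Γ(S, V) Γ((Coh.Rpush f p).obj M, V) := Module.Finite.equiv l.symm
  obtain ⟨eH⟩ := nonempty_homology_locCx P x (-(p : ℤ))
  obtain ⟨hfr, hrank⟩ := free_of_isExactT (P := locCx P x) (FlatCxLib.flat_bcCx_X P hP.flat)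
    (finite_bcCx_X_aux P _ hP.1) h
  let e := eH.trans (TensorProduct.AlgebraTensorModule.congr
    (LinearEquiv.refl (Localization.AtPrime x.asIdeal) (Localization.AtPrime x.asIdeal)) l.symm)
  obtain ⟨U, hU, ⟨i⟩⟩ := exists_free_nhd_of_localization (isQCoh_Rpush f hM p) hV hy
    (Module.Free.of_equiv e)
  exact ⟨U, hU, ⟨i ≪≫ eqToIso (congrArg _ (e.finrank_eq.symm.trans (hrank.trans
    ((dRank_locCx_closedPoint P x _).trans (hP.2.2.2.2.2 p y hy).1.symm))))⟩⟩

theorem IsLocalModel.dRank_eq_zero (hP : IsLocalModel f M hV P) {p : ℕ} {y : S} (hy : y ∈ V)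
    (h : Subsingleton (CohIII.fiberH f M y p)) :
    CohIII.dRank (locCx P (hV.primeIdealOf ⟨y, hy⟩)) (-(p : ℤ)) (IsLocalRing.closedPoint _) = 0 := by
  rw [dRank_locCx_closedPoint, ← (hP.2.2.2.2.2 p y hy).1]
  exact Module.finrank_zero_of_subsingleton

theorem IsLocalModel.isExactT_of_vanish [IsNoetherianRing Γ(S, V)] (hP : IsLocalModel f M hV P) {p : ℕ} {y : S}
    (hy : y ∈ V) (h : Subsingleton (CohIII.fiberH f M y p)) :
    IsExactT (locCx P (hV.primeIdealOf ⟨y, hy⟩)) (-(p : ℤ)) :=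
  isExactT_of_isZero (epi_and_isZero_of_dRank (FlatCxLib.flat_bcCx_X P hP.flat)
    (finite_bcCx_X_aux P _ hP.1) (hP.dRank_eq_zero hy h)).2.1

theorem exists_isZero_nhd [IsProper f] [IsLocallyNoetherian S] (hM : Coh.IsCoh M)
    (hfl : FlatMod.IsFlatOver f M) (y : S) (p : ℕ) (h : Subsingleton (CohIII.fiberH f M y p)) :
    ∃ U : S.Opens, y ∈ U ∧ IsZero (((Coh.Rpush f p).obj M).restrict U.ι) := by
  obtain ⟨_, ⟨V, hV, rfl⟩, hy, -⟩ :=
    S.isBasis_affineOpens.exists_subset_of_mem_open (Set.mem_univ y) isOpen_univ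
  have hV' : IsAffineOpen V := hV
  haveI : IsNoetherianRing Γ(S, V) := IsLocallyNoetherian.component_noetherian ⟨V, hV'⟩
  obtain ⟨P, hP⟩ := exists_isLocalModel hM hfl hV'
  obtain ⟨U, hU, ⟨i⟩⟩ := hP.exists_free hM.1 p hy (hP.isExactT_of_vanish hy h)
  have h0 : CohIII.fiberRank f M p y = 0 := Module.finrank_zero_of_subsingleton
  exact ⟨U, hU, (isZero_freeMod_zero' _).of_iso (i ≪≫ eqToIso (congrArg _ h0))⟩

theorem exists_free_of_concentrated [IsProper f] [IsLocallyNoetherian S] (hM : Coh.IsCoh M)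
    (hfl : FlatMod.IsFlatOver f M) (p : ℕ) (y : S)
    (h : ∀ i : ℕ, i ≠ p → Subsingleton (CohIII.fiberH f M y i)) :
    ∃ U : S.Opens, y ∈ U ∧ Nonempty (((Coh.Rpush f p).obj M).restrict U.ι ≅
      FlatMod.freeMod (U : Scheme.{u}) (CohIII.fiberRank f M p y)) := by
  obtain ⟨_, ⟨V, hV, rfl⟩, hy, -⟩ :=
    S.isBasis_affineOpens.exists_subset_of_mem_open (Set.mem_univ y) isOpen_univ
  have hV' : IsAffineOpen V := hV
  haveI : IsNoetherianRing Γ(S, V) := IsLocallyNoetherian.component_noetherian ⟨V, hV'⟩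
  obtain ⟨P, hP⟩ := exists_isLocalModel hM hfl hV'
  refine hP.exists_free hM.1 p hy (QCoh.isExactT_of_vanish (FlatCxLib.flat_bcCx_X P hP.flat) _ fun q hq => ?_)
  rcases lt_or_ge 0 q with h' | h'
  · exact hP.isExactT_of_pos _ h'
  · obtain ⟨i, rfl⟩ : ∃ i : ℕ, q = -(i : ℤ) := ⟨(-q).toNat, by lia⟩
    exact hP.isExactT_of_vanish hy (h i (fun e => hq (by rw [e])))

end Groth.Agent.QCoh
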