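import Groth.Prelude.Def_ega3
import Groth.Agent.FlatCxLib.BoundedFlat
import Groth.Agent.PCohLib.Infinite
import Mathlib.Algebra.Category.ModuleCat.Projective
import Mathlib.Algebra.Homology.Embedding.ExtendHomology
import Mathlib.Algebra.Homology.Embedding.CochainComplex
import Mathlib.RingTheory.Noetherian.Basic

/-!
# Finite free models of flat complexes with finite homology
-/

set_option backward.isDefEq.respectTransparency false
set_option backward.isDefEq.respectTransparency.types false
set_option linter.style.haveILetI false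

universe u

open CategoryTheory CategoryTheory.Limits MonoidalCategory
open scoped TensorProduct

namespace Groth.Agent.QCoh.FlatModel

open FlatCxLib (coneX)

variable {A : Type u} [CommRing A]

/-- `M ↦ P ⊗ M`. -/
noncomputable def tensorFunctor {ι : Type} {c : ComplexShape ι}
    (P : HomologicalComplex (ModuleCat.{u} A) c) : ModuleCat.{u} A ⥤ HomologicalComplex (ModuleCat.{u} A) c where
  obj M := CohIII.tensorObj P M
  map f := CohIII.tensorMap P f
  map_id M := by
    ext i : 2
    exact LinearMap.lTensor_id _ _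
  map_comp f g := by
    ext i : 2
    exact LinearMap.lTensor_comp _ _ _

/-- `T` as a composite. -/
noncomputable def tIso {ι : Type} {c : ComplexShape ι} (P : HomologicalComplex (ModuleCat.{u} A) c) (p : ι) :
    tensorFunctor P ⋙ HomologicalComplex.homologyFunctor _ _ p ≅ CohIII.TFun P p :=
  NatIso.ofComponents (fun _ => Iso.refl _) (fun f => (Category.comp_id _).trans (Category.id_comp _).symm)

theorem flat_range_of_tensor_exact {X Y Z : Type u} [AddCommGroup X] [Module A X] [AddCommGroup Y] [Module A Y]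
    [AddCommGroup Z] [Module A Z] [Module.Flat A Z] (f : X →ₗ[A] Y) (g : Y →ₗ[A] Z)
    (h : ∀ (M : Type u) [AddCommGroup M] [Module A M], Function.Exact (f.rTensor M) (g.rTensor M)) :
    Module.Flat A (LinearMap.range g) := by
  rw [Module.Flat.iff_lTensor_preserves_injective_linearMap]
  intro M M' _ _ _ _ i hi
  have hf : g ∘ₗ f = 0 := by
    have h1 := (h A).linearMap_comp_eq_zero
    refine LinearMap.ext fun x => ?_
    have h2 := congrArg (TensorProduct.rid A Z) (LinearMap.congr_fun h1 (x ⊗ₜ[A] (1 : A)))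
    simpa using h2
  rw [injective_iff_map_eq_zero]
  intro w hw
  obtain ⟨y, rfl⟩ := LinearMap.rTensor_surjective M g.surjective_rangeRestrict w
  have hsub : ∀ (N : Type u) [AddCommGroup N] [Module A N] (z : Y ⊗[A] N),
      (LinearMap.range g).subtype.rTensor N (g.rangeRestrict.rTensor N z) = g.rTensor N z := fun N _ _ z => by
    rw [← LinearMap.comp_apply, ← LinearMap.rTensor_comp]; rfl
  have h1 : i.lTensor Z (g.rTensor M y) = 0 := by
    have h2 := congrArg ((LinearMap.range g).subtype.rTensor M') hw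
    rw [map_zero] at h2
    rw [← hsub M y, ← LinearMap.comp_apply, LinearMap.lTensor_comp_rTensor,
      ← LinearMap.rTensor_comp_lTensor, LinearMap.comp_apply]
    exact h2
  have h3 : g.rTensor M y = 0 := Module.Flat.lTensor_preserves_injective_linearMap (M := Z) i hi
    (h1.trans (map_zero _).symm)
  obtain ⟨x, rfl⟩ := ((h M) y).1 h3
  rw [← LinearMap.comp_apply, ← LinearMap.rTensor_comp]
  have : g.rangeRestrict ∘ₗ f = 0 := LinearMap.ext fun x => Subtype.ext (LinearMap.congr_fun hf x)
  rw [this, LinearMap.rTensor_zero]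
  rfl

theorem flat_ker_of_high (K : CochainComplex (ModuleCat.{u} A) ℤ) (hK : ∀ i, Module.Flat A (K.X i))
    (hac : ∀ i, K.ExactAt i) {d : ℤ} (hd : ∀ i, d ≤ i → Module.Flat A (LinearMap.ker (K.d i (i + 1)).hom))
    (i : ℤ) : Module.Flat A (LinearMap.ker (K.d i (i + 1)).hom) := by
  suffices ∀ (n : ℕ) (i : ℤ), d ≤ i + n → Module.Flat A (LinearMap.ker (K.d i (i + 1)).hom) from
    this (d - i).toNat i (by lia)
  intro n
  induction n with
  | zero => intro i hi; exact hd i (by lia)
  | succ n ih =>
    intro i hi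
    have := hK i
    have h2 := ih (i + 1) (by lia)
    let e := LinearEquiv.ofEq _ _ (FlatCxLib.ker_eq_range_of_exactAt K (hac (i + 1)))
    have : Module.Flat A (LinearMap.range (K.d i (i + 1)).hom) := Module.Flat.of_linearEquiv e.symm
    exact FlatCxLib.flat_sub_of_flat (f := (LinearMap.ker (K.d i (i + 1)).hom).subtype)
      (g := (K.d i (i + 1)).hom.rangeRestrict) Subtype.val_injective
      (LinearMap.exact_iff.2 (by rw [LinearMap.ker_rangeRestrict, Submodule.range_subtype]))
      (LinearMap.surjective_rangeRestrict _)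

theorem exactAt_tensorRight (K : CochainComplex (ModuleCat.{u} A) ℤ) (hK : ∀ i, Module.Flat A (K.X i))
    (hac : ∀ i, K.ExactAt i) {d : ℤ} (hd : ∀ i, d ≤ i → Module.Flat A (LinearMap.ker (K.d i (i + 1)).hom))
    (M : ModuleCat.{u} A) (j : ℤ) : (CohIII.tensorObj K M).ExactAt j := by
  obtain ⟨i, rfl⟩ : ∃ i, i + 1 = j := ⟨j - 1, by lia⟩
  rw [HomologicalComplex.exactAt_iff' _ i (i + 1) (i + 1 + 1) (by simp) (by simp),
    ShortComplex.moduleCat_exact_iff_range_eq_ker]
  show LinearMap.range ((K.d i (i + 1)).hom.rTensor M) =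
    LinearMap.ker ((K.d (i + 1) (i + 1 + 1)).hom.rTensor M)
  let g := (K.d (i + 1) (i + 1 + 1)).hom
  have hflat := flat_ker_of_high K hK hac hd
  have hinj : Function.Injective ((LinearMap.range g).subtype.rTensor M) := by
    let π : K.X (i + 1 + 1) →ₗ[A] _ := (K.d (i + 1 + 1) (i + 1 + 1 + 1)).hom.rangeRestrict
    have := hflat (i + 1 + 1 + 1)
    have hR : Module.Flat A (LinearMap.range (K.d (i + 1 + 1) (i + 1 + 1 + 1)).hom) :=
      Module.Flat.of_linearEquiv
        (LinearEquiv.ofEq _ _ (FlatCxLib.ker_eq_range_of_exactAt K (hac (i + 1 + 1 + 1)))).symm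
    exact CAlgUI.ui_of_flat_quotient (g := π) Subtype.val_injective
      (LinearMap.exact_iff.2 (by
        rw [LinearMap.ker_rangeRestrict, Submodule.range_subtype]
        exact FlatCxLib.ker_eq_range_of_exactAt K (hac (i + 1 + 1))))
      (LinearMap.surjective_rangeRestrict _) M
  have hex : Function.Exact (K.d i (i + 1)).hom g.rangeRestrict := by
    rw [LinearMap.exact_iff, LinearMap.ker_rangeRestrict]
    exact FlatCxLib.ker_eq_range_of_exactAt K (hac (i + 1))
  have h1 : Function.Exact ((K.d i (i + 1)).hom.rTensor M) (g.rangeRestrict.rTensor M) :=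
    rTensor_exact M hex (LinearMap.surjective_rangeRestrict _)
  have h2 : g.rTensor M = (LinearMap.range g).subtype.rTensor M ∘ₗ g.rangeRestrict.rTensor M := by
    rw [← LinearMap.rTensor_comp]; rfl
  rw [← LinearMap.exact_iff.1 h1]
  show _ = LinearMap.ker (g.rTensor M)
  rw [h2, LinearMap.ker_comp_of_ker_eq_bot _ (LinearMap.ker_eq_bot.2 hinj)]

/-- The terms are finite free. -/
def finFree : ObjectProperty (ModuleCat.{u} A) := fun M => Module.Finite A M ∧ Module.Free A M

instance : (finFree (A := A)).IsClosedUnderIsomorphisms where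
  of_iso e h := by
    obtain ⟨h₁, h₂⟩ := h
    exact ⟨Module.Finite.equiv e.toLinearEquiv, Module.Free.of_equiv e.toLinearEquiv⟩

instance : (finFree (A := A)).ContainsZero where
  exists_zero := ⟨ModuleCat.of A PUnit, ModuleCat.isZero_of_subsingleton _, inferInstance, inferInstance⟩

theorem finFree_prod (X Y : ModuleCat.{u} A) (hX : finFree X) (hY : finFree Y) : finFree (X ⨯ Y) := by
  let e : X ⨯ Y ≅ ModuleCat.of A (X × Y) :=
    (biprod.isoProd X Y).symm ≪≫ ModuleCat.biprodIsoProd X Y
  obtain ⟨h₁, h₂⟩ := hX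
  obtain ⟨h₃, h₄⟩ := hY
  exact (finFree (A := A)).prop_of_iso e.symm ⟨inferInstance, inferInstance⟩

theorem finFree_liftable : PCoh.IsQuasiLiftable (finFree (A := A)) := by
  intro E F u hu hF
  obtain ⟨h₁, h₂⟩ := hF
  haveI : Projective F := ModuleCat.projective_of_free (Module.Free.chooseBasis A F)
  exact ⟨F, Projective.factorThru (𝟙 F) u, ⟨h₁, h₂⟩, by rw [Projective.factorThru_comp]; infer_instance⟩

variable [IsNoetherianRing A]

theorem finite_homology_of_finite (K : CochainComplex (ModuleCat.{u} A) ℤ) (j : ℤ)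
    (h : Module.Finite A (K.X j)) : Module.Finite A (K.homology j) := by
  haveI : IsNoetherian A (K.X j) := isNoetherian_of_isNoetherianRing_of_finite A _
  haveI : Module.Finite A (K.cycles j) :=
    Module.Finite.of_injective (K.iCycles j).hom ((ModuleCat.mono_iff_injective _).1 inferInstance)
  exact Module.Finite.of_surjective (K.homologyπ j).hom ((ModuleCat.epi_iff_surjective _).1 inferInstance)

theorem coneFT (F : CochainComplex (ModuleCat.{u} A) ℤ) (hfin : ∀ i, Module.Finite A (F.homology i)) (n : ℤ) :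
    PCohLib.ConeFT (finFree (A := A)) n F := by
  intro E u j hj hE _
  suffices hf : Module.Finite A ((CochainComplex.mappingCone u).homology j) by
    obtain ⟨m, f, hsurj⟩ := Module.Finite.exists_fin' A ((CochainComplex.mappingCone u).homology j)
    refine ⟨ModuleCat.of A (ULift.{u} (Fin m) → A), ModuleCat.ofHom (f ∘ₗ
      (LinearEquiv.funCongrLeft A A Equiv.ulift.symm).toLinearMap), ⟨inferInstance, inferInstance⟩,
      (ModuleCat.epi_iff_surjective _).2 (hsurj.comp (LinearEquiv.surjective _))⟩
  have hT := HomotopyCategory.mappingCone_triangleh_distinguished u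
  have hT' := Pretriangulated.rot_of_distTriang _ hT
  let Hj := HomotopyCategory.homologyFunctor (ModuleCat.{u} A) (ComplexShape.up ℤ) j
  have hex := Hj.map_distinguished_exact _ hT'
  let φ := HomotopyCategory.homologyFunctorFactors (ModuleCat.{u} A) (ComplexShape.up ℤ) j
  haveI : Module.Finite A (Hj.obj ((HomotopyCategory.quotient _ _).obj F)) :=
    @Module.Finite.equiv _ _ _ _ _ _ _ _ (hfin j) (φ.app F).symm.toLinearEquiv
  haveI : Module.Finite A (((CategoryTheory.shiftFunctor (CochainComplex (ModuleCat.{u} A) ℤ) (1 : ℤ)).obj E).homology j) :=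
    finite_homology_of_finite _ j (hE.2 (j + 1) (by lia)).1
  haveI : Module.Finite A (Hj.obj ((CategoryTheory.shiftFunctor _ (1 : ℤ)).obj
      ((HomotopyCategory.quotient _ _).obj E))) :=
    @Module.Finite.equiv _ _ _ _ _ _ _ _
      ‹Module.Finite A (((CategoryTheory.shiftFunctor (CochainComplex (ModuleCat.{u} A) ℤ) (1 : ℤ)).obj E).homology j)›
      ((φ.app _).symm ≪≫
        Hj.mapIso (((HomotopyCategory.quotient _ _).commShiftIso (1 : ℤ)).app E)).toLinearEquiv
  have hex' := (ShortComplex.moduleCat_exact_iff_range_eq_ker _).1 hex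
  haveI : Module.Finite A (Hj.obj ((HomotopyCategory.quotient _ _).obj (CochainComplex.mappingCone u))) := by
    let T := (Pretriangulated.shortComplexOfDistTriangle _ hT').map Hj
    haveI : Module.Finite A T.X₁ := ‹Module.Finite A (Hj.obj ((HomotopyCategory.quotient _ _).obj F))›
    haveI : Module.Finite A T.X₃ := ‹Module.Finite A (Hj.obj ((CategoryTheory.shiftFunctor _ (1 : ℤ)).obj
      ((HomotopyCategory.quotient _ _).obj E)))›
    show Module.Finite A T.X₂
    haveI : IsNoetherian A T.X₁ := isNoetherian_of_isNoetherianRing_of_finite A _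
    haveI : IsNoetherian A T.X₃ := isNoetherian_of_isNoetherianRing_of_finite A _
    haveI := isNoetherian_of_range_eq_ker T.f.hom T.g.hom hex'
    infer_instance
  exact @Module.Finite.equiv _ _ _ _ _ _ _ _
    ‹Module.Finite A (Hj.obj ((HomotopyCategory.quotient _ _).obj (CochainComplex.mappingCone u)))› (φ.app _).toLinearEquiv

variable (C : CochainComplex (ModuleCat.{u} A) ℕ)

/-- `C` in integral degrees. -/
noncomputable abbrev toZ : CochainComplex (ModuleCat.{u} A) ℤ := C.extend ComplexShape.embeddingUpNat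

omit [IsNoetherianRing A] in
theorem isZero_toZ (i : ℤ) (hi : i < 0) : IsZero ((toZ C).X i) :=
  C.isZero_extend_X _ i fun n => by simp; lia

omit [IsNoetherianRing A] in
theorem nonempty_tensor_toZ_iso :
    Nonempty (tensorFunctor (toZ C) ≅ tensorFunctor C ⋙ ComplexShape.embeddingUpNat.extendFunctor _) := by
  classical
  let e := ComplexShape.embeddingUpNat
  have hz : ∀ (M : ModuleCat.{u} A) (i : ℤ), (∀ n, e.f n ≠ i) → IsZero ((CohIII.tensorObj (toZ C) M).X i) :=
    fun M i hi => (tensorRight M).map_isZero (C.isZero_extend_X _ i hi)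
  let α : ∀ (M : ModuleCat.{u} A) (i : ℤ), (CohIII.tensorObj (toZ C) M).X i ≅
      ((CohIII.tensorObj C M).extend e).X i := fun M i =>
    if h : ∃ n, e.f n = i then
      (tensorRight M).mapIso (C.extendXIso e h.choose_spec) ≪≫
        ((CohIII.tensorObj C M).extendXIso e h.choose_spec).symm
    else (hz M i (by simpa using h)).iso ((CohIII.tensorObj C M).isZero_extend_X _ i (by simpa using h))
  have hα : ∀ (M : ModuleCat.{u} A) (n : ℕ) (i : ℤ) (h : e.f n = i), (α M i).hom =
      (tensorRight M).map (C.extendXIso e h).hom ≫ ((CohIII.tensorObj C M).extendXIso e h).inv := by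
    intro M n i h
    have h' : ∃ n, e.f n = i := ⟨n, h⟩
    obtain rfl : n = h'.choose := e.injective_f (h.trans h'.choose_spec.symm)
    simp [α, h']
  refine ⟨NatIso.ofComponents (fun M => HomologicalComplex.Hom.isoOfComponents (α M) fun i j hij => ?_)
    fun {M M'} g => ?_⟩
  · by_cases hi : ∃ n, e.f n = i
    · obtain ⟨n, hn⟩ := hi
      have hj : e.f (n + 1) = j := by
        simp only [e, ComplexShape.embeddingUpNat_f, ComplexShape.up_Rel] at hn hij ⊢
        lia
      rw [hα M n i hn, hα M (n + 1) j hj]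
      show ((tensorRight M).map (C.extendXIso e hn).hom ≫ ((CohIII.tensorObj C M).extendXIso e hn).inv) ≫
        ((CohIII.tensorObj C M).extend e).d i j = (tensorRight M).map ((C.extend e).d i j) ≫ _
      rw [HomologicalComplex.extend_d_eq _ _ hn hj, HomologicalComplex.extend_d_eq _ _ hn hj]
      simp only [Functor.map_comp, Category.assoc]
      rw [← Functor.map_comp_assoc (tensorRight M) (C.extendXIso e hj).inv, Iso.inv_hom_id]
      simp
    · exact (hz M i (by simpa using hi)).eq_of_src _ _
  · ext i : 1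
    by_cases hi : ∃ n, e.f n = i
    · obtain ⟨n, hn⟩ := hi
      show (CohIII.tensorMap (toZ C) g).f i ≫ (α M' i).hom =
        (α M i).hom ≫ (HomologicalComplex.extendMap (CohIII.tensorMap C g) e).f i
      rw [hα M n i hn, hα M' n i hn, HomologicalComplex.extendMap_f _ e hn]
      simp only [Category.assoc, Iso.inv_hom_id_assoc]
      show ((tensoringRight (ModuleCat.{u} A)).map g).app _ ≫ _ = _ ≫ ((tensoringRight _).map g).app _ ≫ _
      exact (((tensoringRight (ModuleCat.{u} A)).map g).naturality_assoc (C.extendXIso e hn).hom _).symm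
    · exact (hz M i (by simpa using hi)).eq_of_src _ _

omit [IsNoetherianRing A] in
theorem nonempty_tfun_toZ (p : ℕ) : Nonempty (CohIII.TFun (toZ C) (p : ℤ) ≅ CohIII.TFun C p) := by
  obtain ⟨α⟩ := nonempty_tensor_toZ_iso C
  exact ⟨(tIso (toZ C) p).symm ≪≫ Functor.isoWhiskerRight α _ ≪≫ Functor.associator _ _ _ ≪≫
    Functor.isoWhiskerLeft (tensorFunctor C) (show ComplexShape.embeddingUpNat.extendFunctor (ModuleCat.{u} A) ⋙
      HomologicalComplex.homologyFunctor _ _ (p : ℤ) ≅ HomologicalComplex.homologyFunctor _ _ p from NatIso.ofComponents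
      (fun K => K.extendHomologyIso ComplexShape.embeddingUpNat (by simp : (p : ℤ) = p))
      fun f => HomologicalComplex.extendHomologyIso_hom_naturality _ _ _) ≪≫ tIso C p⟩

/-- A complex of finite free modules computing `M ↦ H^p(C ⊗ M)`. -/
theorem exists_finiteFree (hflat : ∀ p, Module.Flat A (C.X p)) (hfin : ∀ p, Module.Finite A (C.homology p))
    (b : ℕ) (hvan : ∀ (M : ModuleCat.{u} A) (p : ℕ), b ≤ p → (CohIII.tensorObj C M).ExactAt p) :
    ∃ L : CochainComplex (ModuleCat.{u} A) ℤ,
      (∀ i, Module.Finite A (L.X i) ∧ Module.Free A (L.X i)) ∧ (∃ c : ℤ, ∀ i, c < i → IsZero (L.X i)) ∧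
      (∀ p : ℕ, Nonempty (CohIII.TFun L (p : ℤ) ≅ CohIII.TFun C p)) ∧
      ∀ i : ℤ, i < 0 → ∀ M : ModuleCat.{u} A, IsZero (CohIII.T L i M) := by
  let Z := toZ C
  let e := ComplexShape.embeddingUpNat
  obtain ⟨α⟩ := nonempty_tensor_toZ_iso C
  have hfl : ∀ i, Module.Flat A (Z.X i) := fun i => by
    by_cases hi : ∃ n, e.f n = i
    · obtain ⟨n, hn⟩ := hi
      exact @Module.Flat.of_linearEquiv _ _ _ _ _ _ _ _ (hflat n) (C.extendXIso e hn).toLinearEquiv
    · have := ModuleCat.subsingleton_of_isZero (C.isZero_extend_X e i (by simpa using hi))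
      infer_instance
  have hfinZ : ∀ i, Module.Finite A (Z.homology i) := fun i => by
    by_cases hi : 0 ≤ i
    · obtain ⟨n, rfl⟩ := Int.eq_ofNat_of_zero_le hi
      exact @Module.Finite.equiv _ _ _ _ _ _ _ _ (hfin n)
        (C.extendHomologyIso e (by simp [e] : e.f n = (n : ℤ))).symm.toLinearEquiv
    · exact finite_homology_of_finite _ i (by
        have := ModuleCat.subsingleton_of_isZero (isZero_toZ C i (by lia))
        infer_instance)
  have hexZ : ∀ (M : ModuleCat.{u} A) (i : ℤ), (b : ℤ) ≤ i → (CohIII.tensorObj Z M).ExactAt i := by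
    intro M i hi
    obtain ⟨n, rfl⟩ := Int.eq_ofNat_of_zero_le (show 0 ≤ i by lia)
    rw [HomologicalComplex.exactAt_iff_isZero_homology]
    refine IsZero.of_iso ?_ ((HomologicalComplex.homologyFunctor _ _ (n : ℤ)).mapIso (α.app M) ≪≫
      (CohIII.tensorObj C M).extendHomologyIso e (by simp [e] : e.f n = (n : ℤ)))
    exact (HomologicalComplex.exactAt_iff_isZero_homology _ _).1 (hvan M n (by exact_mod_cast hi))
  have hexZ' : ∀ i : ℤ, (b : ℤ) ≤ i → Z.ExactAt i := fun i hi =>
    (hexZ (ModuleCat.of A A) i hi).of_iso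
      (HomologicalComplex.Hom.isoOfComponents (fun k => (TensorProduct.rid A (Z.X k)).toModuleIso)
        fun k l _ => ModuleCat.MonoidalCategory.tensor_ext fun x a => by
          show (Z.d k l).hom (a • x) = a • (Z.d k l).hom x
          rw [map_smul])
  let O : CochainComplex (ModuleCat.{u} A) ℤ := HomologicalComplex.zero
  have hO : ∀ i, IsZero (O.X i) := fun i =>
    (HomologicalComplex.eval (ModuleCat.{u} A) (ComplexShape.up ℤ) i).map_isZero HomologicalComplex.isZero_zero
  obtain ⟨L, v, φ, -, hL, hq, -, hiso⟩ := PCohLib.exists_all (P := finFree (A := A)) finFree_prod finFree_liftable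
    (fun n => coneFT Z hfinZ n) (b : ℤ) (0 : O ⟶ Z)
    ⟨⟨0, fun i _ => hO i⟩, fun i => ObjectProperty.prop_of_isZero _ (hO i)⟩
    (PCohLib.exactGE_of_zero _ _ hO hexZ')
  have hLz : ∀ i, (b : ℤ) ≤ i → IsZero (L.X i) := fun i hi =>
    haveI := hiso i hi
    (hO i).of_iso (asIso (v.f i)).symm
  refine ⟨L, fun i => hL.2 i, ⟨b, fun i hi => hLz i (le_of_lt hi)⟩, ?_⟩
  let K := CochainComplex.mappingCone φ
  have hK : ∀ n, Module.Flat A (K.X n) := fun n => by
    have := hfl n
    have : Module.Flat A (L.X (n + 1)) := @Module.Flat.of_free _ _ _ _ _ (hL.2 (n + 1)).2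
    have : Module.Flat A (ModuleCat.of A (L.X (n + 1) × Z.X n)) :=
      FlatCxLib.flat_of_flat_sub_quotient LinearMap.inl_injective
        (Function.Exact.inl_snd (R := A) (M := L.X (n + 1)) (N := Z.X n)) LinearMap.snd_surjective
    exact Module.Flat.of_linearEquiv (coneX φ n ≪≫ ModuleCat.biprodIsoProd _ _).toLinearEquiv
  have hac : ∀ i, K.ExactAt i := (FlatCxLib.acyclic_mappingCone φ).1 hq
  have hhigh : ∀ i, (b : ℤ) + 1 ≤ i → Module.Flat A (LinearMap.ker (K.d i (i + 1)).hom) := by
    intro i hi
    obtain ⟨k, rfl⟩ : ∃ k, k + 1 = i := ⟨i - 1, by lia⟩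
    have hr : Module.Flat A (LinearMap.range (Z.d k (k + 1)).hom) := by
      have := hfl (k + 1)
      obtain ⟨j, rfl⟩ : ∃ j, j + 1 = k := ⟨k - 1, by lia⟩
      refine flat_range_of_tensor_exact (Z.d j (j + 1)).hom _ fun M _ _ => ?_
      have h := hexZ (ModuleCat.of A M) (j + 1) (by lia)
      rw [HomologicalComplex.exactAt_iff' _ j (j + 1) (j + 1 + 1) (by simp) (by simp),
        ShortComplex.ShortExact.moduleCat_exact_iff_function_exact] at h
      exact h
    have hb : ∀ l, k ≤ l → Function.Bijective ((CochainComplex.mappingCone.inr φ).f l).hom := fun l hl => by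
      have hzero : IsZero (L.X (l + 1)) := hLz _ (by lia)
      have : IsIso ((CochainComplex.mappingCone.inr φ).f l) := by
        refine ⟨(CochainComplex.mappingCone.snd φ).v l l (add_zero l), by simp, ?_⟩
        rw [← CochainComplex.mappingCone.id_X φ l (l + 1) rfl]
        have : (CochainComplex.mappingCone.fst φ).1.v l (l + 1) rfl = 0 := hzero.eq_of_tgt _ _
        simp [this]
      exact ConcreteCategory.bijective_of_isIso ((CochainComplex.mappingCone.inr φ).f l)
    let r := LinearEquiv.ofBijective _ (hb (k + 1) (by lia))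
    have hker : (LinearMap.range (Z.d k (k + 1)).hom).map r.toLinearMap = LinearMap.ker (K.d (k + 1) (k + 1 + 1)).hom := by
      rw [FlatCxLib.ker_eq_range_of_exactAt K (hac (k + 1)), ← LinearMap.range_comp]
      have hc := ModuleCat.hom_ext_iff.1 ((CochainComplex.mappingCone.inr φ).comm k (k + 1))
      simp only [ModuleCat.hom_comp] at hc
      rw [show r.toLinearMap ∘ₗ (Z.d k (k + 1)).hom = (K.d k (k + 1)).hom ∘ₗ
        ((CochainComplex.mappingCone.inr φ).f k).hom from hc.symm]
      exact LinearMap.range_comp_of_range_eq_top _ (LinearMap.range_eq_top.2 (hb k le_rfl).2)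
    exact Module.Flat.of_linearEquiv ((r.submoduleMap _).trans (LinearEquiv.ofEq _ _ hker)).symm
  haveI hqM : ∀ M : ModuleCat.{u} A, QuasiIso (((tensorRight M).mapHomologicalComplex (ComplexShape.up ℤ)).map φ) :=
    fun M => (FlatCxLib.acyclic_mappingCone _).2 fun j =>
      (exactAt_tensorRight K hK hac hhigh M j).of_iso
        (CochainComplex.mappingCone.mapHomologicalComplexIso φ (tensorRight M))
  refine ⟨fun p => ?_, fun i hi M => ?_⟩
  swap
  · refine IsZero.of_iso ?_ (@asIso _ _ _ _ (HomologicalComplex.homologyMap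
      (((tensorRight M).mapHomologicalComplex (ComplexShape.up ℤ)).map φ) i)
      ((quasiIsoAt_iff_isIso_homologyMap _ _).1 ((hqM M).quasiIsoAt _)))
    exact (HomologicalComplex.exactAt_iff_isZero_homology _ _).1
      (HomologicalComplex.ExactAt.of_isZero ((tensorRight M).map_isZero (isZero_toZ C i hi)))
  obtain ⟨β⟩ := nonempty_tfun_toZ C p
  refine ⟨(tIso L p).symm ≪≫ (show tensorFunctor L ⋙ HomologicalComplex.homologyFunctor _ _ (p : ℤ) ≅
    tensorFunctor Z ⋙ HomologicalComplex.homologyFunctor _ _ (p : ℤ) from NatIso.ofComponents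
    (fun M => @asIso _ _ _ _ (HomologicalComplex.homologyMap
      (((tensorRight M).mapHomologicalComplex (ComplexShape.up ℤ)).map φ) (p : ℤ))
      ((quasiIsoAt_iff_isIso_homologyMap _ _).1 ((hqM M).quasiIsoAt _)))
    (fun {M M'} g => ?_)) ≪≫ tIso Z p ≪≫ β⟩
  refine (HomologicalComplex.homologyMap_comp _ _ _).symm.trans
    (Eq.trans ?_ (HomologicalComplex.homologyMap_comp _ _ _))
  congr 1
  exact ((NatTrans.mapHomologicalComplex ((tensoringRight (ModuleCat.{u} A)).map g) (ComplexShape.up ℤ)).naturality φ).symm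

end Groth.Agent.QCoh.FlatModel
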