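import Groth.Agent.QCoh.CechTensorA
import Groth.Agent.QCoh.FlatModel
import Groth.Agent.QCoh.CechLoc
import Groth.Agent.QCoh.Bound
import Groth.Agent.S0002

/-!
# A finite free complex computing `M ↦ H^p(X, F ⊗_A M)`
-/

set_option backward.isDefEq.respectTransparency false
set_option backward.isDefEq.respectTransparency.types false
set_option linter.style.haveILetI false

universe u

open CategoryTheory CategoryTheory.Limits AlgebraicGeometry TopologicalSpace Opposite MonoidalCategory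
open scoped TensorProduct

namespace Groth.Agent.QCoh

variable {A : Type u} [CommRing A] {X : Scheme.{u}} [X.Over (Spec (CommRingCat.of A))]

/-- A complex in homological indexing. -/
def revCx (L : CochainComplex (ModuleCat.{u} A) ℤ) : ChainComplex (ModuleCat.{u} A) ℤ where
  X i := L.X (-i)
  d i j := L.d (-i) (-j)
  shape i j h := L.shape _ _ fun h' => h (by simp only [ComplexShape.up_Rel, ComplexShape.down_Rel] at *; lia)
  d_comp_d' i j k _ _ := L.d_comp_d _ _ _

theorem nonempty_tfun_revCx (L : CochainComplex (ModuleCat.{u} A) ℤ) (q : ℤ) :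
    Nonempty (CohIII.TFun (revCx L) q ≅ CohIII.TFun L (-q)) := by
  let φ : FlatModel.tensorFunctor (revCx L) ⋙
        HomologicalComplex.shortComplexFunctor' _ (ComplexShape.down ℤ) (q + 1) q (q - 1) ≅
      FlatModel.tensorFunctor L ⋙
        HomologicalComplex.shortComplexFunctor' _ (ComplexShape.up ℤ) (-(q + 1)) (-q) (-(q - 1)) :=
    NatIso.ofComponents (fun M => ShortComplex.isoMk (Iso.refl _) (Iso.refl _) (Iso.refl _)
      ((Category.id_comp _).trans (Category.comp_id _).symm) ((Category.id_comp _).trans (Category.comp_id _).symm))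
      fun g => by ext <;> rfl
  let a := HomologicalComplex.homologyFunctorIso' (ModuleCat.{u} A) (ComplexShape.down ℤ) (q + 1) q (q - 1)
    (by simp) (by simp)
  let b := HomologicalComplex.homologyFunctorIso' (ModuleCat.{u} A) (ComplexShape.up ℤ) (-(q + 1)) (-q) (-(q - 1))
    (by simp; lia) (by simp; lia)
  exact ⟨(FlatModel.tIso (revCx L) q).symm ≪≫ Functor.isoWhiskerLeft _ a ≪≫ (Functor.associator _ _ _).symm ≪≫
    Functor.isoWhiskerRight φ _ ≪≫ Functor.associator _ _ _ ≪≫ Functor.isoWhiskerLeft _ b.symm ≪≫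
    FlatModel.tIso L (-q)⟩

variable (F : X.Modules)

/-- The braiding between `F ⊗_A M` and its functorial form. -/
noncomputable def tensorAIso (M : Type u) [AddCommGroup M] [Module A M] :
    CohIII.tensorA A F M ≅ (CohIII.tensorAFunctor A F).obj (ModuleCat.of A M) :=
  DCoh.shP.mapIso (β_ (CohB1.toPMod F) (CohB1.toPMod (pullTilde (X := X) (ModuleCat.of A M))))

variable [IsNoetherianRing A] [IsProper (X ↘ Spec (CommRingCat.of A))]

/-- The finite free complex computing `M ↦ H^p(X, F ⊗_A M)`. -/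
theorem exists_finiteFree_model (hF : Coh.IsCoh F) (hfl : FlatMod.IsFlatOver (X ↘ Spec (CommRingCat.of A)) F) :
    ∃ L : CochainComplex (ModuleCat.{u} A) ℤ,
      (∀ i, Module.Finite A (L.X i) ∧ Module.Free A (L.X i)) ∧ (∃ c : ℤ, ∀ i, c < i → IsZero (L.X i)) ∧
      (∀ p : ℕ, Nonempty (CohIII.TFun L (p : ℤ) ⋙ forget₂ (ModuleCat.{u} A) AddCommGrpCat.{u} ≅
        CohIII.tensorAFunctor A F ⋙ CohIII.HAb X p)) ∧
      ∀ i : ℤ, i < 0 → ∀ M : ModuleCat.{u} A, IsZero (CohIII.T L i M) := by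
  haveI : CompactSpace X := QuasiCompact.compactSpace_of_compactSpace (X ↘ Spec (CommRingCat.of A))
  haveI : X.IsSeparated := ⟨by
    rw [← Limits.terminal.comp_from (X ↘ Spec (CommRingCat.of A))]
    infer_instance⟩
  have hq : Coh.IsQCoh F := hF.1
  obtain ⟨ι, _, U, hcov, hU⟩ := exists_affine_cover (X := X)
  obtain ⟨d, hd⟩ := exists_HH_bound (X := X)
  have hfin : ∀ p, Module.Finite A ((cechA (A := A) F U).homology p) := fun p => by
    have hf : Module.Finite A (Coh.HH X F p) := Groth.Agent.S0002.result A X F hF p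
    obtain ⟨e⟩ := cxMod_homology_equiv (Coh.toGlobal (X ↘ Spec (CommRingCat.of A))) U hcov hU hq p
    exact @Module.Finite.equiv _ _ _ _ _ _ _ _ hf e.symm
  obtain ⟨L, h1, h2, h3, h4⟩ := FlatModel.exists_finiteFree (cechA (A := A) F U)
    (flat_cechA F hq hfl hU) hfin d fun M p hp => by
      obtain ⟨e⟩ := nonempty_tfun_iso (A := A) F hq hcov hU p
      rw [HomologicalComplex.exactAt_iff_isZero_homology, ModuleCat.isZero_iff_subsingleton]
      have : Subsingleton (Coh.HH X (tA F M) p) := hd _ (isQCoh_tA F hq M) p hp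
      exact (e.app M).addCommGroupIsoToAddEquiv.toEquiv.subsingleton_congr.2 this
  refine ⟨L, h1, h2, fun p => ?_, h4⟩
  obtain ⟨e⟩ := h3 p
  obtain ⟨e'⟩ := nonempty_tfun_iso (A := A) F hq hcov hU p
  exact ⟨Functor.isoWhiskerRight e _ ≪≫ e'⟩

/-- The same in homological indexing: degree `-p` computes `H^p`. -/
theorem exists_chain_model (hF : Coh.IsCoh F) (hfl : FlatMod.IsFlatOver (X ↘ Spec (CommRingCat.of A)) F) :
    ∃ P : ChainComplex (ModuleCat.{u} A) ℤ,
      (∀ i, Module.Finite A (P.X i)) ∧ (∀ i, Module.Free A (P.X i)) ∧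
      (∃ c : ℤ, ∀ i, i < c → IsZero (P.X i)) ∧
      (∀ p : ℕ, Nonempty (CohIII.TFun P (-(p : ℤ)) ⋙ forget₂ (ModuleCat.{u} A) AddCommGrpCat.{u} ≅
        CohIII.tensorAFunctor A F ⋙ CohIII.HAb X p)) ∧
      ∀ q : ℤ, 0 < q → ∀ M : ModuleCat.{u} A, IsZero (CohIII.T P q M) := by
  obtain ⟨L, h1, ⟨c, h2⟩, h3, h4⟩ := exists_finiteFree_model F hF hfl
  refine ⟨revCx L, fun i => (h1 _).1, fun i => (h1 _).2, ⟨-c, fun i hi => h2 _ (by lia)⟩, fun p => ?_, fun q hq M => ?_⟩
  swap
  · obtain ⟨r⟩ := nonempty_tfun_revCx L q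
    exact (h4 (-q) (by lia) M).of_iso (r.app M)
  obtain ⟨e⟩ := h3 p
  obtain ⟨r⟩ := nonempty_tfun_revCx L (-(p : ℤ))
  exact ⟨Functor.isoWhiskerRight (r ≪≫ eqToIso (by rw [neg_neg])) _ ≪≫ e⟩

end Groth.Agent.QCoh
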