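import Groth.Agent.QCoh.CechBC
import Groth.Agent.QCoh.FlatExchange
import Groth.Agent.FlatCxLib.Field
import Groth.Agent.FlatCxLib.Rank

/-!
# Fibre cohomology through the finite free model
-/

set_option backward.isDefEq.respectTransparency false
set_option backward.isDefEq.respectTransparency.types false
set_option linter.style.haveILetI false
set_option maxHeartbeats 1000000

universe u

open CategoryTheory CategoryTheory.Limits AlgebraicGeometry TopologicalSpace Opposite MonoidalCategory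
open scoped TensorProduct

namespace Groth.Agent.QCoh

variable {A : Type u} [CommRing A] {X : Scheme.{u}} [X.Over (Spec (CommRingCat.of A))]

/-- `P` computes the cohomology of `F` after every base change. -/
def IsBCModel (F : X.Modules) (P : ChainComplex (ModuleCat.{u} A) ℤ) : Prop :=
  (∀ i, Module.Finite A (P.X i)) ∧ (∀ i, Module.Free A (P.X i)) ∧ (∃ c : ℤ, ∀ i, i < c → IsZero (P.X i)) ∧
  (∀ q : ℤ, 0 < q → ∀ M : ModuleCat.{u} A, IsZero (CohIII.T P q M)) ∧
  (∀ p : ℕ, Nonempty (CohIII.TFun P (-(p : ℤ)) ⋙ forget₂ (ModuleCat.{u} A) AddCommGrpCat.{u} ≅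
    CohIII.tensorAFunctor A F ⋙ CohIII.HAb X p)) ∧
  ∀ (B : Type u) [CommRing B] (φ : A →+* B) (X' : Scheme.{u}) (g : X' ⟶ X)
    (pB : X' ⟶ Spec (CommRingCat.of B)),
    IsPullback g pB (X ↘ Spec (CommRingCat.of A)) (Spec.map (CommRingCat.ofHom φ)) → ∀ p : ℕ,
    letI := modHH (Coh.toGlobal pB) ((Scheme.Modules.pullback g).obj F) p
    Nonempty (Coh.HH X' ((Scheme.Modules.pullback g).obj F) p ≃ₗ[B] (CohIII.bcCx φ P).homology (-(p : ℤ)))

theorem bcCx_isBCModel_aux [CompactSpace X] [X.IsSeparated] {F : X.Modules} (hF : Coh.IsQCoh F)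
    (P : ChainComplex (ModuleCat.{u} A) ℤ)
    (hP : ∀ p : ℕ, Nonempty (CohIII.TFun P (-(p : ℤ)) ⋙ forget₂ (ModuleCat.{u} A) AddCommGrpCat.{u} ≅
      CohIII.tensorAFunctor A F ⋙ CohIII.HAb X p))
    {B : Type u} [CommRing B] (φ : A →+* B) {X' : Scheme.{u}} [X'.Over (Spec (CommRingCat.of B))] (g : X' ⟶ X)
    (h : IsPullback g (X' ↘ Spec (CommRingCat.of B)) (X ↘ Spec (CommRingCat.of A))
      (Spec.map (CommRingCat.ofHom φ))) (p : ℕ) :
    letI := modHH (Coh.toGlobal (X' ↘ Spec (CommRingCat.of B))) ((Scheme.Modules.pullback g).obj F) p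
    Nonempty (Coh.HH X' ((Scheme.Modules.pullback g).obj F) p ≃ₗ[B] (CohIII.bcCx φ P).homology (-(p : ℤ))) := by
  letI := modHH (Coh.toGlobal (X' ↘ Spec (CommRingCat.of B))) ((Scheme.Modules.pullback g).obj F) p
  obtain ⟨κ, _, V, hcov, hV⟩ := exists_affine_cover (X := X)
  have hcov' : ⨆ i, g ⁻¹ᵁ V i = ⊤ := by rw [← Scheme.Hom.preimage_iSup, hcov]; rfl
  obtain ⟨ψ⟩ := nonempty_cechA_bc_iso φ g h hF V hV
  obtain ⟨e₁⟩ := cxMod_homology_equiv (Coh.toGlobal (X' ↘ Spec (CommRingCat.of B))) (fun i => g ⁻¹ᵁ V i) hcov'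
    (fun σ => isAffineOpen_preimage φ g h V hV σ) (isQCoh_pullback g hF) p
  obtain ⟨eC⟩ := nonempty_tfun_iso (A := A) F hF hcov hV p
  obtain ⟨eP⟩ := hP p
  obtain ⟨bC⟩ := nonempty_bcT_iso (cechA (A := A) F V) φ p
  obtain ⟨bP⟩ := nonempty_bcT_iso P φ (-(p : ℤ))
  obtain ⟨e₂⟩ := nonempty_tfun_linearEquiv
    (bC ≪≫ Functor.isoWhiskerLeft _ (eC ≪≫ eP.symm) ≪≫ bP.symm) (ModuleCat.of B B)
  exact ⟨e₁.symm.trans (((HomologicalComplex.homologyFunctor _ _ p).mapIso
    (ψ.symm ≪≫ (tensorSelfIso _).symm)).toLinearEquiv.trans (e₂.trans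
      ((HomologicalComplex.homologyFunctor _ _ (-(p : ℤ))).mapIso (tensorSelfIso _)).toLinearEquiv))⟩

theorem exists_isBCModel [IsNoetherianRing A] [IsProper (X ↘ Spec (CommRingCat.of A))] (F : X.Modules)
    (hF : Coh.IsCoh F) (hfl : FlatMod.IsFlatOver (X ↘ Spec (CommRingCat.of A)) F) :
    ∃ P : ChainComplex (ModuleCat.{u} A) ℤ, IsBCModel F P := by
  haveI : CompactSpace X := QuasiCompact.compactSpace_of_compactSpace (X ↘ Spec (CommRingCat.of A))
  haveI : X.IsSeparated := ⟨by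
    rw [← Limits.terminal.comp_from (X ↘ Spec (CommRingCat.of A))]
    infer_instance⟩
  obtain ⟨P, h1, h2, h3, h4, h5⟩ := exists_chain_model F hF hfl
  refine ⟨P, h1, h2, h3, h5, h4, fun B _ φ X' g pB h p => ?_⟩
  letI : X'.Over (Spec (CommRingCat.of B)) := ⟨pB⟩
  exact bcCx_isBCModel_aux hF.1 P h4 φ g h p

theorem flat_of_isBCModel {F : X.Modules} {P : ChainComplex (ModuleCat.{u} A) ℤ} (hP : IsBCModel F P) (i : ℤ) :
    Module.Flat A (P.X i) :=
  @Module.Flat.of_free _ _ _ _ _ (hP.2.1 i)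

theorem finite_homology_bc {k : Type u} [Field k] (φ : A →+* k) (P : ChainComplex (ModuleCat.{u} A) ℤ)
    (hfin : ∀ i, Module.Finite A (P.X i)) (q : ℤ) : Module.Finite k ((CohIII.bcCx φ P).homology q) := by
  let K := CohIII.bcCx φ P
  haveI : Module.Finite k (K.X q) := by
    letI := φ.toAlgebra
    have := hfin q
    exact inferInstanceAs (Module.Finite k (k ⊗[A] P.X q))
  haveI : Module.Finite k (K.cycles q) :=
    Module.Finite.of_injective (K.iCycles q).hom ((ModuleCat.mono_iff_injective _).1 inferInstance)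
  exact Module.Finite.of_surjective (K.homologyπ q).hom ((ModuleCat.epi_iff_surjective _).1 inferInstance)

variable {F : X.Modules} {P : ChainComplex (ModuleCat.{u} A) ℤ}

theorem fibre_of_isBCModel (hP : IsBCModel F P) (x : Spec (CommRingCat.of A)) (p : ℕ) :
    CohIII.fiberRank (X ↘ Spec (CommRingCat.of A)) F p x = CohIII.dRank P (-(p : ℤ)) x ∧
      Module.Finite ((Spec (CommRingCat.of A)).residueField x)
        (CohIII.fiberH (X ↘ Spec (CommRingCat.of A)) F x p) := by
  let π := X ↘ Spec (CommRingCat.of A)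
  let i := Scheme.Spec.residueFieldIso (CommRingCat.of A) x
  let φ : A →+* (Spec (CommRingCat.of A)).residueField x :=
    i.inv.hom.comp (algebraMap A x.asIdeal.ResidueField)
  have hφ : Spec.map (CommRingCat.ofHom φ) = (Spec (CommRingCat.of A)).fromSpecResidueField x :=
    (Spec.map_comp (CommRingCat.ofHom (algebraMap A x.asIdeal.ResidueField)) i.inv).trans
      (Scheme.Spec.map_residueFieldIso_inv_eq_fromSpecResidueField (CommRingCat.of A) x)
  have hsq : IsPullback (π.fiberι x) (π.fiberToSpecResidueField x) π (Spec.map (CommRingCat.ofHom φ)) := by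
    rw [hφ]
    exact IsPullback.of_hasPullback _ _
  obtain ⟨e⟩ := hP.2.2.2.2.2 _ φ (π.fiber x) (π.fiberι x) (π.fiberToSpecResidueField x) hsq p
  haveI := finite_homology_bc φ P hP.1 (-(p : ℤ))
  refine ⟨?_, Module.Finite.equiv e.symm⟩
  refine e.finrank_eq.trans ?_
  exact (LinearEquiv.finrank_eq ((HomologicalComplex.homologyFunctor _ _ (-(p : ℤ))).mapIso
      (HomologicalComplex.Hom.isoOfComponents (fun n => (ModuleCat.extendScalarsComp
        (algebraMap A x.asIdeal.ResidueField) i.inv.hom).app (P.X n))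
        (fun a b _ => ((ModuleCat.extendScalarsComp (algebraMap A x.asIdeal.ResidueField) i.inv.hom).hom.naturality
          (P.d a b)).symm) :
        CohIII.bcCx φ P ≅ CohIII.bcCx i.inv.hom (CohIII.bcCx (algebraMap A x.asIdeal.ResidueField) P))).toLinearEquiv).trans
    (FlatCxLib.finrank_homology_extendScalars_field i.inv.hom
      (CohIII.bcCx (algebraMap A x.asIdeal.ResidueField) P) (-(p : ℤ)))

theorem subsingleton_fibreH_iff (hP : IsBCModel F P) (x : Spec (CommRingCat.of A)) (p : ℕ) :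
    Subsingleton (CohIII.fiberH (X ↘ Spec (CommRingCat.of A)) F x p) ↔ CohIII.dRank P (-(p : ℤ)) x = 0 := by
  obtain ⟨h1, h2⟩ := fibre_of_isBCModel hP x p
  rw [← h1]
  haveI := h2
  exact Module.finrank_zero_iff.symm

end Groth.Agent.QCoh
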