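import Groth.Agent.QCoh.RpushProper
import Groth.Agent.QCoh.FlatFibre
import Groth.Agent.QCoh.LocalExchange
import Groth.Agent.MorLib.FlatBC

/-!
# The finite free model over an affine open of the base
-/

set_option backward.isDefEq.respectTransparency false
set_option backward.isDefEq.respectTransparency.types false
set_option linter.style.haveILetI false
set_option maxHeartbeats 1000000

universe u

open CategoryTheory CategoryTheory.Limits AlgebraicGeometry TopologicalSpace Opposite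

namespace Groth.Agent.QCoh

variable {X S : Scheme.{u}} (f : X ⟶ S) (M : X.Modules) (V : S.Opens)

/-- Sections of the Godement cokernels over `V`, in the cohomology over `V`. -/
theorem exists_theta_sections (k : ℕ) :
    letI := modHH (rhoV f V) (M.restrict (f ⁻¹ᵁ V).ι) k
    ∃ θ : Γ((Scheme.Modules.pushforward f).obj (godQ M k), V) →ₗ[Γ(S, V)] Coh.HH _ (M.restrict (f ⁻¹ᵁ V).ι) k,
      Function.Surjective θ ∧
        ∀ z : Γ((Scheme.Modules.pushforward f).obj (godQ M k), V), θ z = 0 ↔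
          (show Γ(godQ M k, f ⁻¹ᵁ V) from z) ∈ bd M k (f ⁻¹ᵁ V) := by
  let M' := M.restrict (f ⁻¹ᵁ V).ι
  let := secModule (rhoV f V) (godQ M' k) ⊤
  let := modHH (rhoV f V) M' k
  obtain ⟨a, ha, hker⟩ := exists_classMap (rhoV f V) M' k
  let τ : Γ((Scheme.Modules.pushforward f).obj (godQ M k), V) →ₗ[Γ(S, V)] Γ(godQ M' k, ⊤) :=
    { toFun := fun z => transferSec f M V k z
      map_add' := fun z w => transferSec_add f M V k z w
      map_smul' := fun r z => transferSec_smul f M V k r z }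
  refine ⟨a.comp τ, ha.comp (bijective_transferSec f M V k).2, fun z => (hker _).trans ⟨fun h => ?_, fun h => ?_⟩⟩
  · obtain ⟨z', hz', he⟩ := transferSec_bd f M V k _ h
    rw [(bijective_transferSec f M V k).1 he] at hz'
    exact hz'
  · cases k with
    | zero =>
      have hz : z = 0 := h
      show τ z ∈ _
      rw [hz, map_zero]
      exact zero_mem _
    | succ n =>
      obtain ⟨b, hb⟩ := h
      refine ⟨rs (God (godQ M' n)) (f ⁻¹ᵁ V).ι_preimage_self.ge
        ((godMap (f ⁻¹ᵁ V).ι (godQMap (f ⁻¹ᵁ V).ι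
          ((Scheme.Modules.restrictAdjunction (f ⁻¹ᵁ V).ι).unit.app M) n)).app (f ⁻¹ᵁ V) b), ?_⟩
      refine (app_rs _ _ _).trans ?_
      show _ = transferSec f M V (n + 1) z
      unfold transferSec
      refine congrArg (rs _ _) ?_
      refine ((congr(($(godπ_godQMap (f ⁻¹ᵁ V).ι
        ((Scheme.Modules.restrictAdjunction (f ⁻¹ᵁ V).ι).unit.app M) n)).app (f ⁻¹ᵁ V) b) : _).symm).trans ?_
      exact congrArg ((godQMap (f ⁻¹ᵁ V).ι _ (n + 1)).app _) hb

variable {f M V}

theorem nonempty_linearEquiv_of_surjective {R A B C : Type*} [CommRing R] [AddCommGroup A] [Module R A]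
    [AddCommGroup B] [Module R B] [AddCommGroup C] [Module R C] (p : A →ₗ[R] B) (q : A →ₗ[R] C)
    (hp : Function.Surjective p) (hq : Function.Surjective q) (h : ∀ a, p a = 0 ↔ q a = 0) :
    Nonempty (B ≃ₗ[R] C) :=
  ⟨((p.quotKerEquivOfSurjective hp).symm.trans (Submodule.quotEquivOfEq _ _ (Submodule.ext fun a =>
      (LinearMap.mem_ker).trans ((h a).trans (LinearMap.mem_ker).symm)))).trans
    (q.quotKerEquivOfSurjective hq)⟩

/-- Sections of higher direct images over affine opens. -/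
theorem nonempty_sections_HH [QuasiCompact f] [QuasiSeparated f] [HasInjectiveResolutions X.Modules]
    (hM : Coh.IsQCoh M) (hV : IsAffineOpen V) (p : ℕ) :
    letI := modHH (rhoV f V) (M.restrict (f ⁻¹ᵁ V).ι) p
    Nonempty (Γ((Coh.Rpush f p).obj M, V) ≃ₗ[Γ(S, V)] Coh.HH _ (M.restrict (f ⁻¹ᵁ V).ι) p) := by
  letI := modHH (rhoV f V) (M.restrict (f ⁻¹ᵁ V).ι) p
  obtain ⟨θ, hθ, hker⟩ := exists_theta_sections f M V p
  cases p with
  | zero =>
    haveI := SpObjSS.enoughInjectives_of_hasInjectiveResolutions (C := X.Modules)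
    haveI := preservesFiniteLimits_push f
    let e := (Scheme.Modules.pushforward f).rightDerivedZeroIsoSelf.app M
    refine ⟨(LinearEquiv.ofBijective (appLin e.hom V)
      (ConcreteCategory.bijective_of_isIso (e.hom.app V))).trans (LinearEquiv.ofBijective θ ⟨?_, hθ⟩)⟩
    rw [injective_iff_map_eq_zero]
    exact fun z hz => (hker z).1 hz
  | succ q =>
    obtain ⟨e⟩ := nonempty_Rpush_iso f M q
    let α := (Scheme.Modules.pushforward f).map (godπ M q)
    have hq := locRange_rpushModel f hM q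
    obtain ⟨l⟩ := nonempty_linearEquiv_of_surjective (appLin (cokernel.π α) V) θ (hq.surjective hV) hθ fun z => by
      refine Iff.trans ?_ (hker z).symm
      constructor
      · intro hz
        obtain ⟨a, ha⟩ := hq.mem_range hV z hz
        exact ⟨a, ha⟩
      · rintro ⟨b, rfl⟩
        exact cokernel_π_app_app (α := α) (U := V) b
    exact ⟨(LinearEquiv.ofBijective (appLin e.hom V) (ConcreteCategory.bijective_of_isIso (e.hom.app V))).trans l⟩

theorem isPullback_overSpec (hV : IsAffineOpen V) :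
    IsPullback (f ⁻¹ᵁ V).ι (overSpec f hV) f hV.fromSpec := by
  refine (isPullback_morphismRestrict f V).flip.of_iso (Iso.refl _) (Iso.refl _) hV.isoSpec (Iso.refl _) ?_ ?_ ?_ ?_
  · simp
  · simp [overSpec]
  · simp
  · simp [hV.isoSpec_hom_fromSpec]

theorem isFlatOver_of_iso {N N' : X.Modules} (e : N ≅ N') (hN : Coh.IsQCoh N)
    (h : FlatMod.IsFlatOver f N) : FlatMod.IsFlatOver f N' := by
  refine (isFlatOver_iff f ((isQCoh_iff_iso e.symm).2 hN)).2 fun U W hle hU hW => ?_
  letI : Module Γ(S, W) Γ(N, U) := Module.compHom _ (f.appLE W U hle).hom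
  letI : Module Γ(S, W) Γ(N', U) := Module.compHom _ (f.appLE W U hle).hom
  haveI := (isFlatOver_iff f hN).1 h U W hle hU hW
  let l : Γ(N, U) ≃ₗ[Γ(S, W)] Γ(N', U) :=
    AddEquiv.toLinearEquiv (AddEquiv.ofBijective (AddMonoidHom.mk' (e.hom.app U) (map_add (e.hom.app U).hom))
      (ConcreteCategory.bijective_of_isIso (e.hom.app U)))
      fun a x => (appLin e.hom U).map_smul (f.appLE W U hle a) x
  exact Module.Flat.of_linearEquiv l.symm

variable (f M)

/-- The value of functions on `V` at a point of `V`. -/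
noncomputable abbrev evalV {V : S.Opens} (y : S) (hy : y ∈ V) : Γ(S, V) →+* S.residueField y :=
  (S.evaluation V y hy).hom

/-- `P` is a model of the cohomology of `M` over the affine open `V`. -/
def IsLocalModel {V : S.Opens} (hV : IsAffineOpen V) [HasInjectiveResolutions X.Modules]
    (P : ChainComplex (ModuleCat.{u} Γ(S, V)) ℤ) : Prop :=
  (∀ i, Module.Finite Γ(S, V) (P.X i)) ∧ (∀ i, Module.Free Γ(S, V) (P.X i)) ∧
  (∃ c : ℤ, ∀ i, i < c → IsZero (P.X i)) ∧
  (∀ q : ℤ, 0 < q → ∀ N : ModuleCat.{u} Γ(S, V), IsZero (CohIII.T P q N)) ∧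
  (∀ p : ℕ, Nonempty (Γ((Coh.Rpush f p).obj M, V) ≃ₗ[Γ(S, V)] P.homology (-(p : ℤ)))) ∧
  ∀ (p : ℕ) (y : S) (hy : y ∈ V),
    CohIII.fiberRank f M p y = CohIII.dRank P (-(p : ℤ)) (hV.primeIdealOf ⟨y, hy⟩) ∧
      Module.Finite (S.residueField y) (CohIII.fiberH f M y p)

theorem ker_evalV {V : S.Opens} (hV : IsAffineOpen V) {y : S} (hy : y ∈ V) :
    RingHom.ker (evalV y hy) = (hV.primeIdealOf ⟨y, hy⟩).asIdeal := by
  ext a
  rw [RingHom.mem_ker, ← not_iff_not]
  exact (S.evaluation_ne_zero_iff_mem_basicOpen y hy a).trans (mem_basicOpen_iff_notMem hV hy a)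

theorem toSheaf_map_comp_smulAb' {Y : Scheme.{u}} {F G : Y.Modules} (φ : F ⟶ G) (s : Coh.Γtop Y) :
    (SheafOfModules.toSheaf Y.ringCatSheaf).map φ ≫ Coh.smulAb G s =
      Coh.smulAb F s ≫ (SheafOfModules.toSheaf Y.ringCatSheaf).map φ := by
  ext U m
  change (Coh.smulAb G s).hom.app U ((φ.val.app U).hom m) =
    (φ.val.app U).hom ((Coh.smulAb F s).hom.app U m)
  rw [Coh.smulAb_app, Coh.smulAb_app]
  exact ((φ.val.app U).hom.map_smul (Coh.resTop Y U s) m).symm

theorem bijective_map_iso {Y : Scheme.{u}} {N N' : Y.Modules} (e : N ≅ N') (p : ℕ) :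
    Function.Bijective (Sheaf.H.map ((SheafOfModules.toSheaf Y.ringCatSheaf).map e.hom) p) :=
  ConcreteCategory.bijective_of_isIso ((CohIII.HAb Y p).map e.hom)

/-- Isomorphic modules have the same cohomology. -/
noncomputable def HHcongr {A : Type u} [CommRing A] {Y : Scheme.{u}} (ρ : A →+* Coh.Γtop Y)
    {N N' : Y.Modules} (e : N ≅ N') (p : ℕ) :
    letI := modHH ρ N p
    letI := modHH ρ N' p
    Coh.HH Y N p ≃ₗ[A] Coh.HH Y N' p :=
  letI := modHH ρ N p
  letI := modHH ρ N' p
  LinearEquiv.ofBijective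
    { toFun := Sheaf.H.map ((SheafOfModules.toSheaf Y.ringCatSheaf).map e.hom) p
      map_add' := map_add _
      map_smul' := fun r x => by
        show Sheaf.H.map _ p (Sheaf.H.map (Coh.smulAb N (ρ r)) p x) =
          Sheaf.H.map (Coh.smulAb N' (ρ r)) p (Sheaf.H.map _ p x)
        rw [← Sheaf.H.map_comp_apply, ← Sheaf.H.map_comp_apply, toSheaf_map_comp_smulAb'] }
    (bijective_map_iso e p)

variable {f M}

theorem exists_isLocalModel [IsProper f] [IsLocallyNoetherian S] [HasInjectiveResolutions X.Modules]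
    (hM : Coh.IsCoh M) (hfl : FlatMod.IsFlatOver f M) {V : S.Opens} (hV : IsAffineOpen V) :
    ∃ P : ChainComplex (ModuleCat.{u} Γ(S, V)) ℤ, IsLocalModel f M hV P := by
  let U : X.Opens := f ⁻¹ᵁ V
  letI : (U : Scheme.{u}).Over (Spec (CommRingCat.of Γ(S, V))) := ⟨overSpec f hV⟩
  haveI : IsProper ((U : Scheme.{u}) ↘ Spec (CommRingCat.of Γ(S, V))) := by
    show IsProper ((f ∣_ V) ≫ hV.isoSpec.hom)
    infer_instance
  haveI : IsNoetherianRing Γ(S, V) := IsLocallyNoetherian.component_noetherian ⟨V, hV⟩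
  let M' := M.restrict U.ι
  have hpb := isPullback_overSpec (f := f) hV
  let eR : (Scheme.Modules.pullback U.ι).obj M ≅ M' :=
    ((Scheme.Modules.restrictFunctorIsoPullback U.ι).app M).symm
  have hfl' : FlatMod.IsFlatOver ((U : Scheme.{u}) ↘ Spec (CommRingCat.of Γ(S, V))) M' :=
    isFlatOver_of_iso (f := overSpec f hV) eR (isQCoh_pullback _ hM.1)
      fun x => MorLib.FlatBC.isFlatOverAt_baseChange f (overSpec f hV) U.ι hV.fromSpec hpb M x (hfl _)
  obtain ⟨P, hP⟩ := exists_isBCModel M' (isCoh_restrict_open hM) hfl'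
  refine ⟨P, hP.1, hP.2.1, hP.2.2.1, hP.2.2.2.1, fun p => ?_, fun p y hy => ?_⟩
  · obtain ⟨e₁⟩ := nonempty_sections_HH (f := f) hM.1 hV p
    rw [← toGlobal_overSpec f hV] at e₁
    obtain ⟨e₂⟩ := hP.2.2.2.2.2 Γ(S, V) (RingHom.id _) (U : Scheme.{u}) (𝟙 _) (overSpec f hV)
      (by
        rw [show CommRingCat.ofHom (RingHom.id Γ(S, V)) = 𝟙 _ from rfl, Spec.map_id]
        exact IsPullback.of_horiz_isIso ⟨by simp; rfl⟩) p
    let eid : CohIII.bcCx (RingHom.id Γ(S, V)) P ≅ P :=
      HomologicalComplex.Hom.isoOfComponents (fun n => (ModuleCat.extendScalarsId Γ(S, V)).app (P.X n))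
        fun a b _ => ((ModuleCat.extendScalarsId Γ(S, V)).hom.naturality (P.d a b)).symm
    exact ⟨e₁.trans (((HHcongr (Coh.toGlobal (overSpec f hV)) ((Scheme.Modules.pullbackId _).app M') p).symm).trans
      (e₂.trans ((HomologicalComplex.homologyFunctor _ _ (-(p : ℤ))).mapIso eid).toLinearEquiv))⟩
  · let φ := evalV y hy
    have hφ : Spec.map (CommRingCat.ofHom φ) ≫ hV.fromSpec = S.fromSpecResidueField y := by
      show Spec.map (S.presheaf.germ V y hy ≫ S.residue y) ≫ _ = _
      rw [Spec.map_comp, Category.assoc, Scheme.fromSpecResidueField]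
      exact congrArg (Spec.map (S.residue y) ≫ ·) (hV.fromSpecStalk_eq_fromSpecStalk hy)
    have hbig : IsPullback (f.fiberι y) (f.fiberToSpecResidueField y) f
        (Spec.map (CommRingCat.ofHom φ) ≫ hV.fromSpec) := by
      rw [hφ]; exact IsPullback.of_hasPullback _ _
    let g : f.fiber y ⟶ (U : Scheme.{u}) :=
      hpb.lift (f.fiberι y) (f.fiberToSpecResidueField y ≫ Spec.map (CommRingCat.ofHom φ))
        (by rw [Category.assoc]; exact hbig.w)
    have hg : g ≫ U.ι = f.fiberι y := hpb.lift_fst _ _ _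
    have hsq : IsPullback g (f.fiberToSpecResidueField y) (overSpec f hV) (Spec.map (CommRingCat.ofHom φ)) :=
      IsPullback.of_right (by rw [hg]; exact hbig) (hpb.lift_snd _ _ _) hpb
    obtain ⟨e₂⟩ := hP.2.2.2.2.2 (S.residueField y) φ (f.fiber y) g (f.fiberToSpecResidueField y) hsq p
    let eF : (Scheme.Modules.pullback g).obj M' ≅ CohIII.fiberMod f M y :=
      (Scheme.Modules.pullback g).mapIso eR.symm ≪≫ (Scheme.Modules.pullbackComp g U.ι).app M ≪≫
        (Scheme.Modules.pullbackCongr hg).app M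
    let e : CohIII.fiberH f M y p ≃ₗ[S.residueField y] ((CohIII.bcCx φ P).homology (-(p : ℤ))) :=
      (HHcongr (A := S.residueField y)
        (Coh.toGlobal (A := S.residueField y) (f.fiberToSpecResidueField y)) eF p).symm.trans e₂
    haveI := finite_homology_bc φ P hP.1 (-(p : ℤ))
    exact ⟨(LinearEquiv.finrank_eq e).trans (finrank_bc_eq_dRank φ P _ (ker_evalV hV hy) _),
      Module.Finite.equiv e.symm⟩

end Groth.Agent.QCoh
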