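import Groth.Agent.QCoh.GodCx
import Groth.Agent.QCoh.ExtendFT
import Groth.Agent.QCoh.Bound

/-!
# Localisation of the cohomology of quasi-compact opens, through the Godement resolution
-/

universe u

set_option backward.isDefEq.respectTransparency false
set_option backward.isDefEq.respectTransparency.types false

open CategoryTheory CategoryTheory.Limits AlgebraicGeometry TopologicalSpace Opposite

namespace Groth.Agent.QCoh

variable {X : Scheme.{u}}

theorem rf_rf {U V W : X.Opens} (h : V ≤ U) (h' : W ≤ V) (a : Γ(X, U)) :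
    rf X h' (rf X h a) = rf X (h'.trans h) a := ringMap_map _ _ _

theorem rs_zero {G : X.Modules} {U V : X.Opens} (h : V ≤ U) : rs G h 0 = 0 := map_zero _

theorem rs_add {G : X.Modules} {U V : X.Opens} (h : V ≤ U) (x y : Γ(G, U)) :
    rs G h (x + y) = rs G h x + rs G h y := map_add (G.presheaf.map (homOfLE h).op).hom x y

theorem rs_sub {G : X.Modules} {U V : X.Opens} (h : V ≤ U) (x y : Γ(G, U)) :
    rs G h (x - y) = rs G h x - rs G h y := map_sub (G.presheaf.map (homOfLE h).op).hom x y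

theorem app_rs {G H : X.Modules} (φ : G ⟶ H) {U V : X.Opens} (h : V ≤ U) (x : Γ(G, U)) :
    φ.app V (rs G h x) = rs H h (φ.app U x) := map_app_comm φ _ x

theorem exists_glue_sup {G : X.Modules} {U V W : X.Opens} (hW : W = U ⊔ V) (hUW : U ≤ W) (hVW : V ≤ W)
    (a : Γ(G, U)) (b : Γ(G, V))
    (h : rs G (inf_le_left : U ⊓ V ≤ U) a = rs G (inf_le_right : U ⊓ V ≤ V) b) :
    ∃ c : Γ(G, W), rs G hUW c = a ∧ rs G hVW c = b := by
  let O : Bool → X.Opens := fun i => cond i U V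
  obtain ⟨c, hc, -⟩ := TopCat.Sheaf.existsUnique_gluing' ⟨G.presheaf, G.isSheaf⟩ O W
    (fun i => homOfLE (by cases i <;> assumption))
    (hW.le.trans (sup_le (le_iSup O true) (le_iSup O false)))
    (fun i => by cases i <;> [exact b; exact a])
    (fun i j => by
      cases i <;> cases j
      · rfl
      · show G.presheaf.map (Opens.infLELeft V U).op b = G.presheaf.map (Opens.infLERight V U).op a
        have e := congrArg (rs G (le_of_eq (inf_comm V U))) h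
        rw [rs_rs, rs_rs] at e
        exact e.symm
      · exact h
      · rfl)
  exact ⟨c, hc true, hc false⟩

theorem eq_of_sup {G : X.Modules} {U V W : X.Opens} (hW : W = U ⊔ V) (hUW : U ≤ W) (hVW : V ≤ W)
    (a b : Γ(G, W)) (h₁ : rs G hUW a = rs G hUW b) (h₂ : rs G hVW a = rs G hVW b) : a = b :=
  TopCat.Sheaf.eq_of_locally_eq' ⟨G.presheaf, G.isSheaf⟩ (fun i : Bool => cond i U V) W
    (fun i => homOfLE (by cases i <;> assumption))
    (hW.le.trans (sup_le (le_iSup (fun i : Bool => cond i U V) true)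
      (le_iSup (fun i : Bool => cond i U V) false))) a b
    (fun i => by cases i <;> assumption)

theorem exists_rs_God {N : X.Modules} {U V : X.Opens} (h : V ≤ U) (t : Γ(God N, V)) :
    ∃ s, rs (God N) h s = t :=
  (AddCommGrpCat.epi_iff_surjective _).1 ((isFlasque_God N).epi (homOfLE h).op) t

theorem godπ_toGod_app (M : X.Modules) (k : ℕ) {U : X.Opens} (c : Γ(godQ M k, U)) :
    (godπ M k).app U ((toGod (godQ M k)).app U c) = 0 :=
  congr(($(toGod_godπ M k)).app U c)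

/-- The coboundaries among the sections of the Godement cokernels. -/
noncomputable def bd (M : X.Modules) : (k : ℕ) → (U : X.Opens) → Submodule Γ(X, U) Γ(godQ M k, U)
  | 0, _ => ⊥
  | k + 1, U => LinearMap.range (appLin (godπ M k) U)

theorem rs_mem_bd (M : X.Modules) : ∀ (k : ℕ) {U V : X.Opens} (h : V ≤ U) {x : Γ(godQ M k, U)},
    x ∈ bd M k U → rs (godQ M k) h x ∈ bd M k V
  | 0, _, _, h, _, hx => by rw [(Submodule.mem_bot _).1 hx, rs_zero]; exact zero_mem _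
  | k + 1, _, _, h, _, ⟨a, ha⟩ => ⟨rs _ h a, (app_rs _ h a).trans (congrArg _ ha)⟩

theorem exists_lift_bd (M : X.Modules) : ∀ (k : ℕ) {U V : X.Opens} (h : V ≤ U) {x : Γ(godQ M k, V)},
    x ∈ bd M k V → ∃ y ∈ bd M k U, rs (godQ M k) h y = x
  | 0, _, _, h, _, hx => ⟨0, zero_mem _, (rs_zero h).trans ((Submodule.mem_bot _).1 hx).symm⟩
  | k + 1, _, _, h, _, ⟨a, ha⟩ => by
    obtain ⟨a', rfl⟩ := exists_rs_God h a
    exact ⟨_, ⟨a', rfl⟩, (app_rs _ h a').symm.trans ha⟩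

theorem mem_bd_of_isAffineOpen {M : X.Modules} (hM : Coh.IsQCoh M) {U : X.Opens} (hU : IsAffineOpen U)
    (k : ℕ) (x : Γ(godQ M (k + 1), U)) : x ∈ bd M (k + 1) U :=
  godπ_app_surjective (subsingleton_HU_of_isAffineOpen hM hU k) x

variable (M : X.Modules) {W₀ : X.Opens} (h : Γ(X, W₀))

/-- A class vanishing where `h` is invertible is killed by a power of `h`. -/
def LocInj (k : ℕ) (W : X.Opens) (hW : W ≤ W₀) : Prop :=
  ∀ z : Γ(godQ M k, W),
    rs (godQ M k) (inf_le_left : W ⊓ X.basicOpen h ≤ W) z ∈ bd M k (W ⊓ X.basicOpen h) →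
      ∃ n : ℕ, rf X hW h ^ n • z ∈ bd M k W

/-- A class on the locus where `h` is invertible extends up to a power of `h`. -/
def LocSurj (k : ℕ) (W : X.Opens) (hW : W ≤ W₀) : Prop :=
  ∀ y : Γ(godQ M k, W ⊓ X.basicOpen h), ∃ (n : ℕ) (z : Γ(godQ M k, W)),
    rs (godQ M k) (inf_le_left : W ⊓ X.basicOpen h ≤ W) z -
      rf X ((inf_le_left : W ⊓ X.basicOpen h ≤ W).trans hW) h ^ n • y ∈ bd M k (W ⊓ X.basicOpen h)

variable {M h}

theorem LocInj.mono_pow {k : ℕ} {W : X.Opens} {hW : W ≤ W₀} {z : Γ(godQ M k, W)} {n m : ℕ} (hnm : n ≤ m)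
    (hz : rf X hW h ^ n • z ∈ bd M k W) : rf X hW h ^ m • z ∈ bd M k W := by
  obtain ⟨d, rfl⟩ := Nat.exists_eq_add_of_le' hnm
  rw [pow_add, mul_smul]
  exact Submodule.smul_mem _ _ hz

theorem LocSurj.mono_pow {k : ℕ} {W : X.Opens} {hW : W ≤ W₀} {z : Γ(godQ M k, W)}
    {y : Γ(godQ M k, W ⊓ X.basicOpen h)} {n m : ℕ} (hnm : n ≤ m)
    (hz : rs (godQ M k) (inf_le_left : W ⊓ X.basicOpen h ≤ W) z -
      rf X ((inf_le_left : W ⊓ X.basicOpen h ≤ W).trans hW) h ^ n • y ∈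
      bd M k (W ⊓ X.basicOpen h)) :
    ∃ z', rs (godQ M k) (inf_le_left : W ⊓ X.basicOpen h ≤ W) z' -
      rf X ((inf_le_left : W ⊓ X.basicOpen h ≤ W).trans hW) h ^ m • y ∈
      bd M k (W ⊓ X.basicOpen h) := by
  obtain ⟨d, rfl⟩ := Nat.exists_eq_add_of_le' hnm
  refine ⟨rf X hW h ^ d • z, ?_⟩
  rw [rs_smul, rf, map_pow, ← rf, rf_rf, pow_add, mul_smul, ← smul_sub]
  exact Submodule.smul_mem _ _ hz

theorem rf_pow_smul_rs {N : X.Modules} {U V : X.Opens} (hV : V ≤ U) (hU : U ≤ W₀) (n : ℕ) (x : Γ(N, U)) :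
    rs N hV (rf X hU h ^ n • x) = rf X (hV.trans hU) h ^ n • rs N hV x := by
  rw [rs_smul, rf, map_pow, ← rf, rf_rf]

/-- Injectivity passes to a union of two opens. -/
theorem locInj_sup {k : ℕ} {U V W : X.Opens} (hW : W = U ⊔ V) (hUW : U ≤ W) (hVW : V ≤ W)
    (hW₀ : W ≤ W₀) (iU : LocInj M h (k + 1) U (hUW.trans hW₀)) (iV : LocInj M h (k + 1) V (hVW.trans hW₀))
    (sU : LocSurj M h k U (hUW.trans hW₀)) (sV : LocSurj M h k V (hVW.trans hW₀))
    (iO : LocInj M h k (U ⊓ V) (inf_le_left.trans (hUW.trans hW₀))) :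
    LocInj M h (k + 1) W hW₀ := by
  intro z hz
  obtain ⟨w, hw⟩ := hz
  replace hw : (godπ M k).app _ w = rs (godQ M (k + 1)) inf_le_left z := hw
  have hU₀ := hUW.trans hW₀
  have hV₀ := hVW.trans hW₀
  have zU : rs (godQ M (k + 1)) (inf_le_left : U ⊓ (X.basicOpen h) ≤ U) (rs _ hUW z) ∈ bd M (k + 1) (U ⊓ (X.basicOpen h)) := by
    rw [rs_rs]
    refine ⟨rs _ (inf_le_inf_right (X.basicOpen h) hUW) w, (app_rs _ _ w).trans ?_⟩
    rw [hw, rs_rs]
  have zV : rs (godQ M (k + 1)) (inf_le_left : V ⊓ (X.basicOpen h) ≤ V) (rs _ hVW z) ∈ bd M (k + 1) (V ⊓ (X.basicOpen h)) := by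
    rw [rs_rs]
    refine ⟨rs _ (inf_le_inf_right (X.basicOpen h) hVW) w, (app_rs _ _ w).trans ?_⟩
    rw [hw, rs_rs]
  obtain ⟨n₁, h₁⟩ := iU _ zU
  obtain ⟨n₂, h₂⟩ := iV _ zV
  obtain ⟨a, ha⟩ := LocInj.mono_pow (le_max_left n₁ n₂) h₁
  obtain ⟨b, hb⟩ := LocInj.mono_pow (le_max_right n₁ n₂) h₂
  set n := max n₁ n₂
  replace ha : (godπ M k).app U a = rf X hU₀ h ^ n • rs _ hUW z := ha
  replace hb : (godπ M k).app V b = rf X hV₀ h ^ n • rs _ hVW z := hb
  -- the difference on the intersection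
  obtain ⟨c, hc⟩ := exists_of_godπ_app_eq_zero k
    (rs (God (godQ M k)) (inf_le_left : (U ⊓ V) ≤ U) a - rs (God (godQ M k)) (inf_le_right : (U ⊓ V) ≤ V) b) (by
      rw [map_sub, app_rs, app_rs, ha, hb, rf_pow_smul_rs, rf_pow_smul_rs, rs_rs, rs_rs, sub_self])
  -- the differences with the given preimage
  obtain ⟨α, hα⟩ := exists_of_godπ_app_eq_zero k
    (rs (God (godQ M k)) (inf_le_left : U ⊓ (X.basicOpen h) ≤ U) a -
      rf X ((inf_le_left : U ⊓ X.basicOpen h ≤ U).trans hU₀) h ^ n • rs _ (inf_le_inf_right (X.basicOpen h) hUW) w) (by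
      rw [map_sub, app_rs, Scheme.Modules.Hom.app_smul, app_rs, ha, hw, rf_pow_smul_rs, rs_rs, rs_rs,
        sub_self])
  obtain ⟨β, hβ⟩ := exists_of_godπ_app_eq_zero k
    (rs (God (godQ M k)) (inf_le_left : V ⊓ (X.basicOpen h) ≤ V) b -
      rf X ((inf_le_left : V ⊓ X.basicOpen h ≤ V).trans hV₀) h ^ n • rs _ (inf_le_inf_right (X.basicOpen h) hVW) w) (by
      rw [map_sub, app_rs, Scheme.Modules.Hom.app_smul, app_rs, hb, hw, rf_pow_smul_rs, rs_rs, rs_rs,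
        sub_self])
  obtain ⟨m₁, α₁, hα₁⟩ := sU α
  obtain ⟨m₂, β₁, hβ₁⟩ := sV β
  obtain ⟨α', hα'⟩ := LocSurj.mono_pow (hW := hU₀) (le_max_left m₁ m₂) hα₁
  obtain ⟨β', hβ'⟩ := LocSurj.mono_pow (hW := hV₀) (le_max_right m₁ m₂) hβ₁
  set m := max m₁ m₂
  let γ : Γ(godQ M k, (U ⊓ V)) := rf X ((inf_le_left : (U ⊓ V) ≤ U).trans hU₀) h ^ m • c -
    (rs (godQ M k) (inf_le_left : (U ⊓ V) ≤ U) α' - rs (godQ M k) (inf_le_right : (U ⊓ V) ≤ V) β')
  have hOU : (U ⊓ V) ⊓ (X.basicOpen h) ≤ U ⊓ (X.basicOpen h) := inf_le_inf_right (X.basicOpen h) inf_le_left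
  have hOV : (U ⊓ V) ⊓ (X.basicOpen h) ≤ V ⊓ (X.basicOpen h) := inf_le_inf_right (X.basicOpen h) inf_le_right
  have hcαβ : rs (godQ M k) (inf_le_left : (U ⊓ V) ⊓ (X.basicOpen h) ≤ (U ⊓ V)) c = rs _ hOU α - rs _ hOV β := by
    refine toGod_app_injective _ _ ?_
    rw [app_rs, hc, map_sub, app_rs, app_rs, hα, hβ]
    simp only [rs_sub, rs_rs, rf_pow_smul_rs]
    abel
  have hγ : rs (godQ M k) (inf_le_left : (U ⊓ V) ⊓ (X.basicOpen h) ≤ (U ⊓ V)) γ ∈ bd M k ((U ⊓ V) ⊓ (X.basicOpen h)) := by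
    have e : rs (godQ M k) (inf_le_left : (U ⊓ V) ⊓ (X.basicOpen h) ≤ (U ⊓ V)) γ =
        rs _ hOV (rs (godQ M k) (inf_le_left : V ⊓ X.basicOpen h ≤ V) β' - rf X ((inf_le_left : V ⊓ X.basicOpen h ≤ V).trans hV₀) h ^ m • β) -
          rs _ hOU (rs (godQ M k) (inf_le_left : U ⊓ X.basicOpen h ≤ U) α' - rf X ((inf_le_left : U ⊓ X.basicOpen h ≤ U).trans hU₀) h ^ m • α) := by
      simp only [γ, rs_sub, rf_pow_smul_rs, rs_rs, hcαβ, smul_sub]
      abel
    rw [e]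
    exact sub_mem (rs_mem_bd M k hOV hβ') (rs_mem_bd M k hOU hα')
  obtain ⟨l, hl⟩ := iO γ hγ
  obtain ⟨e', -, he'⟩ := exists_lift_bd M k (inf_le_right : (U ⊓ V) ≤ V) hl
  let a'' := rf X hU₀ h ^ (l + m) • a - (toGod (godQ M k)).app U (rf X hU₀ h ^ l • α')
  let b'' := rf X hV₀ h ^ (l + m) • b - (toGod (godQ M k)).app V (rf X hV₀ h ^ l • β' - e')
  obtain ⟨A, hAU, hAV⟩ := exists_glue_sup hW hUW hVW a'' b'' (by
    rw [← sub_eq_zero]
    have e : rs (God (godQ M k)) (inf_le_left : (U ⊓ V) ≤ U) a'' -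
        rs (God (godQ M k)) (inf_le_right : (U ⊓ V) ≤ V) b'' = (toGod (godQ M k)).app (U ⊓ V)
          (rf X ((inf_le_left : (U ⊓ V) ≤ U).trans hU₀) h ^ l • γ - rs (godQ M k) (inf_le_right : (U ⊓ V) ≤ V) e') := by
      simp only [a'', b'', γ, rs_sub, ← app_rs, rf_pow_smul_rs, map_sub,
        Scheme.Modules.Hom.app_smul, hc, smul_sub, pow_add, mul_smul]
      abel
    rw [e, he', sub_self, map_zero])
  refine ⟨l + m + n, A, eq_of_sup hW hUW hVW _ _ ?_ ?_⟩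
  · refine (app_rs (godπ M k) hUW A).symm.trans ?_
    rw [hAU, rf_pow_smul_rs]
    simp only [a'', map_sub, Scheme.Modules.Hom.app_smul, godπ_toGod_app, smul_zero, sub_zero, ha]
    rw [← mul_smul, ← pow_add]
  · refine (app_rs (godπ M k) hVW A).symm.trans ?_
    rw [hAV, rf_pow_smul_rs]
    simp only [b'', map_sub, Scheme.Modules.Hom.app_smul, godπ_toGod_app, smul_zero, sub_zero, hb]
    rw [← mul_smul, ← pow_add]

/-- Surjectivity passes to a union of two opens. -/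
theorem locSurj_sup {k : ℕ} {U V W : X.Opens} (hW : W = U ⊔ V) (hUW : U ≤ W) (hVW : V ≤ W)
    (hW₀ : W ≤ W₀) (sU : LocSurj M h (k + 1) U (hUW.trans hW₀))
    (sV : LocSurj M h (k + 1) V (hVW.trans hW₀))
    (iO : LocInj M h (k + 1) (U ⊓ V) (inf_le_left.trans (hUW.trans hW₀)))
    (sO : LocSurj M h k (U ⊓ V) (inf_le_left.trans (hUW.trans hW₀))) :
    LocSurj M h (k + 1) W hW₀ := by
  intro y
  have hU₀ := hUW.trans hW₀
  have hV₀ := hVW.trans hW₀
  have hO₀ : (U ⊓ V) ≤ W₀ := inf_le_left.trans hU₀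
  have hUD : U ⊓ (X.basicOpen h) ≤ W ⊓ (X.basicOpen h) := inf_le_inf_right (X.basicOpen h) hUW
  have hVD : V ⊓ (X.basicOpen h) ≤ W ⊓ (X.basicOpen h) := inf_le_inf_right (X.basicOpen h) hVW
  have hOU : (U ⊓ V) ⊓ (X.basicOpen h) ≤ U ⊓ (X.basicOpen h) := inf_le_inf_right (X.basicOpen h) inf_le_left
  have hOV : (U ⊓ V) ⊓ (X.basicOpen h) ≤ V ⊓ (X.basicOpen h) := inf_le_inf_right (X.basicOpen h) inf_le_right
  obtain ⟨n₁, x₁, hx₁⟩ := sU (rs _ hUD y)
  obtain ⟨n₂, x₂, hx₂⟩ := sV (rs _ hVD y)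
  obtain ⟨zU, a, ha⟩ := LocSurj.mono_pow (hW := hU₀) (le_max_left n₁ n₂) hx₁
  obtain ⟨zV, b, hb⟩ := LocSurj.mono_pow (hW := hV₀) (le_max_right n₁ n₂) hx₂
  set n := max n₁ n₂
  replace ha : (godπ M k).app _ a =
    rs (godQ M (k + 1)) (inf_le_left : U ⊓ X.basicOpen h ≤ U) zU - rf X ((inf_le_left : U ⊓ X.basicOpen h ≤ U).trans hU₀) h ^ n • rs _ hUD y := ha
  replace hb : (godπ M k).app _ b =
    rs (godQ M (k + 1)) (inf_le_left : V ⊓ X.basicOpen h ≤ V) zV - rf X ((inf_le_left : V ⊓ X.basicOpen h ≤ V).trans hV₀) h ^ n • rs _ hVD y := hb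
  obtain ⟨m, hm⟩ := iO (rs (godQ M (k + 1)) (inf_le_left : (U ⊓ V) ≤ U) zU -
      rs (godQ M (k + 1)) (inf_le_right : (U ⊓ V) ≤ V) zV) ⟨rs _ hOU a - rs _ hOV b, by
    show (godπ M k).app _ (rs _ hOU a - rs _ hOV b) = _
    simp only [map_sub, app_rs, ha, hb, rs_sub, rf_pow_smul_rs, rs_rs]
    abel⟩
  obtain ⟨e, he⟩ := hm
  replace he : (godπ M k).app (U ⊓ V) e = rf X hO₀ h ^ m •
    (rs (godQ M (k + 1)) (inf_le_left : (U ⊓ V) ≤ U) zU - rs (godQ M (k + 1)) (inf_le_right : (U ⊓ V) ≤ V) zV) := he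
  obtain ⟨e', he'⟩ := exists_rs_God (inf_le_right : (U ⊓ V) ≤ V) e
  obtain ⟨c, hc⟩ := exists_of_godπ_app_eq_zero k
    (rf X ((inf_le_left : (U ⊓ V) ⊓ (X.basicOpen h) ≤ (U ⊓ V)).trans hO₀) h ^ m • (rs _ hOU a - rs _ hOV b) -
      rs (God (godQ M k)) (inf_le_left : (U ⊓ V) ⊓ (X.basicOpen h) ≤ (U ⊓ V)) e) (by
      rw [map_sub, Scheme.Modules.Hom.app_smul, map_sub, app_rs, app_rs, app_rs, ha, hb, he]
      simp only [rs_sub, rf_pow_smul_rs, rs_rs, smul_sub]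
      abel)
  obtain ⟨l, c', hc'⟩ := sO c
  obtain ⟨g', -, hg'⟩ := exists_lift_bd M k hOV hc'
  obtain ⟨E, hE⟩ := exists_rs_God (inf_le_right : (U ⊓ V) ≤ V) ((toGod (godQ M k)).app (U ⊓ V) c')
  let sU' := rf X hU₀ h ^ (l + m) • zU
  let sV' := rf X hV₀ h ^ l • (rf X hV₀ h ^ m • zV + (godπ M k).app V e') + (godπ M k).app V E
  obtain ⟨z, hzU, hzV⟩ := exists_glue_sup hW hUW hVW sU' sV' (by
    simp only [sU', sV', rs_add, rf_pow_smul_rs, ← app_rs, he', hE, he, godπ_toGod_app, add_zero,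
      smul_sub, smul_add, pow_add, mul_smul]
    abel)
  let AU := rf X (inf_le_left.trans hU₀ : U ⊓ (X.basicOpen h) ≤ W₀) h ^ (l + m) • a
  let AV := rf X (inf_le_left.trans hV₀ : V ⊓ (X.basicOpen h) ≤ W₀) h ^ l •
      (rf X (inf_le_left.trans hV₀ : V ⊓ (X.basicOpen h) ≤ W₀) h ^ m • b + rs _ (inf_le_left : V ⊓ (X.basicOpen h) ≤ V) e') +
    rs _ (inf_le_left : V ⊓ (X.basicOpen h) ≤ V) E - (toGod (godQ M k)).app (V ⊓ (X.basicOpen h)) g'
  have hWD : W ⊓ (X.basicOpen h) = (U ⊓ (X.basicOpen h)) ⊔ (V ⊓ (X.basicOpen h)) := by rw [hW, inf_sup_right]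
  obtain ⟨A, hAU, hAV⟩ := exists_glue_sup hWD hUD hVD AU AV (by
    have hle : (U ⊓ (X.basicOpen h)) ⊓ (V ⊓ (X.basicOpen h)) ≤ (U ⊓ V) ⊓ (X.basicOpen h) :=
      le_inf (inf_le_inf inf_le_left inf_le_left) (inf_le_left.trans inf_le_right)
    have key : rs _ hOU AU = rs _ hOV AV := by
      rw [← sub_eq_zero]
      have e₁ : rs _ hOU AU - rs _ hOV AV = (toGod (godQ M k)).app ((U ⊓ V) ⊓ (X.basicOpen h))
          (rf X ((inf_le_left : (U ⊓ V) ⊓ (X.basicOpen h) ≤ (U ⊓ V)).trans hO₀) h ^ l • c - rs (godQ M k) inf_le_left c' + rs _ hOV g') := by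
        have h₃ : rs (God (godQ M k)) (inf_le_left.trans inf_le_right : (U ⊓ V) ⊓ (X.basicOpen h) ≤ V) e' =
            rs _ (inf_le_left : (U ⊓ V) ⊓ (X.basicOpen h) ≤ (U ⊓ V)) e := by rw [← he', rs_rs]
        have h₄ : rs (God (godQ M k)) (inf_le_left.trans inf_le_right : (U ⊓ V) ⊓ (X.basicOpen h) ≤ V) E =
            rs _ (inf_le_left : (U ⊓ V) ⊓ (X.basicOpen h) ≤ (U ⊓ V)) ((toGod (godQ M k)).app (U ⊓ V) c') := by rw [← hE, rs_rs]
        simp only [AU, AV, rs_sub, rs_add, rf_pow_smul_rs, rs_rs, h₃, h₄, ← app_rs, map_sub, map_add,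
          Scheme.Modules.Hom.app_smul, hc, smul_sub, smul_add, pow_add, mul_smul]
        abel
      rw [e₁, hg', sub_add_sub_cancel', sub_self, map_zero]
    have e₂ := congrArg (rs (God (godQ M k)) hle) key
    rw [rs_rs, rs_rs] at e₂
    exact e₂)
  refine ⟨l + m + n, z, A, eq_of_sup hWD hUD hVD _ _ ?_ ?_⟩
  · refine (app_rs (godπ M k) hUD A).symm.trans ?_
    rw [hAU]
    simp only [AU, sU', Scheme.Modules.Hom.app_smul, ha, rs_sub, rs_rs, rf_pow_smul_rs, ← hzU, smul_sub]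
    rw [← mul_smul, ← pow_add]
    have := congrArg (rs (godQ M (k + 1)) (inf_le_left : U ⊓ (X.basicOpen h) ≤ U)) hzU
    simp only [sU', rs_rs, rf_pow_smul_rs] at this
    rw [this]
  · refine (app_rs (godπ M k) hVD A).symm.trans ?_
    rw [hAV]
    have := congrArg (rs (godQ M (k + 1)) (inf_le_left : V ⊓ (X.basicOpen h) ≤ V)) hzV
    simp only [sV', rs_rs, rs_add, rf_pow_smul_rs, ← app_rs] at this
    simp only [AV, map_sub, map_add, Scheme.Modules.Hom.app_smul, hb, godπ_toGod_app, sub_zero,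
      rs_sub, rs_rs, rf_pow_smul_rs, this, smul_sub, smul_add, pow_add, mul_smul]
    abel

theorem isCompact_inf_basicOpen_of_isAffineOpen {U : X.Opens} (hU : IsAffineOpen U) (hU₀ : U ≤ W₀) :
    IsAffineOpen (U ⊓ X.basicOpen h) := by
  rw [← basicOpen_res_inf (homOfLE hU₀) h]
  exact hU.basicOpen _

theorem locInj_zero (hM : Coh.IsQCoh M) {W : X.Opens} (hW : W ≤ W₀) (hWc : IsCompact (W : Set X)) :
    LocInj M h 0 W hW := by
  intro z hz
  have he : X.basicOpen (rf X hW h) = W ⊓ X.basicOpen h := basicOpen_res_inf _ _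
  have h0 : rs (godQ M 0) (X.basicOpen_le (rf X hW h)) z = 0 := by
    have := congrArg (rs (godQ M 0) he.le) ((Submodule.mem_bot _).1 hz)
    rwa [rs_rs, rs_zero] at this
  obtain ⟨n, hn⟩ := exists_pow_smul_eq_zero_of_isCompact (M := M) hM hWc (rf X hW h) z h0
  exact ⟨n, (Submodule.mem_bot _).2 hn⟩

theorem locSurj_zero (hM : Coh.IsQCoh M) {W : X.Opens} (hW : W ≤ W₀) (hWc : IsCompact (W : Set X))
    (hWs : IsQuasiSeparated (W : Set X)) : LocSurj M h 0 W hW := by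
  intro y
  have he : X.basicOpen (rf X hW h) = W ⊓ X.basicOpen h := basicOpen_res_inf _ _
  obtain ⟨n, z, hz⟩ := exists_pow_smul_eq_map_of_isQuasiSeparated (M := M) hM hWc hWs (rf X hW h)
    (rs (godQ M 0) he.le y)
  replace hz : rs (godQ M 0) (X.basicOpen_le (rf X hW h)) z =
      rf X (X.basicOpen_le _) (rf X hW h) ^ n • rs (godQ M 0) he.le y := hz
  refine ⟨n, z, (Submodule.mem_bot _).2 (sub_eq_zero.2 ?_)⟩
  have := congrArg (rs (godQ M 0) he.ge) hz
  rw [rs_rs, rs_smul, rs_rs, rs_self] at this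
  simp only [rf, map_pow, ringMap_map] at this ⊢
  exact this

theorem isQuasiSeparated_of_le {U W : X.Opens} (hUW : U ≤ W) (hW : IsQuasiSeparated (W : Set X)) :
    IsQuasiSeparated (U : Set X) :=
  IsQuasiSeparated.of_subset hW hUW

/-- Localisation of cohomology on quasi-compact opens of a quasi-separated open. -/
theorem locInj_and_locSurj (hM : Coh.IsQCoh M) (hW₀ : IsQuasiSeparated (W₀ : Set X)) :
    ∀ (k : ℕ) (W : X.Opens) (hW : W ≤ W₀), IsCompact (W : Set X) →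
      LocInj M h k W hW ∧ LocSurj M h k W hW := by
  intro k
  induction k with
  | zero => exact fun W hW hc =>
      ⟨locInj_zero hM hW hc, locSurj_zero hM hW hc (isQuasiSeparated_of_le hW hW₀)⟩
  | succ k ih =>
    have hinf : ∀ U V : X.Opens, U ≤ W₀ → V ≤ W₀ → IsCompact (U : Set X) → IsCompact (V : Set X) →
        IsCompact ((U ⊓ V : X.Opens) : Set X) :=
      fun U V hU hV hUc hVc => hW₀ _ _ hU U.2 hUc hV V.2 hVc
    have ind : ∀ P : (W : X.Opens) → W ≤ W₀ → Prop, (∀ U (hU : U ≤ W₀), IsAffineOpen U → P U hU) →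
        (∀ U V W (hW : W ≤ W₀) (e : W = U ⊔ V) (hU : U ≤ W) (hV : V ≤ W), IsAffineOpen U →
          IsCompact (V : Set X) → P U (hU.trans hW) → P V (hV.trans hW) → P W hW) →
        ∀ W (hW : W ≤ W₀), IsCompact (W : Set X) → P W hW := by
      intro P haff hsup W hW hc
      obtain ⟨S, hS, hWS⟩ := isCompact_iff_finite_and_eq_biUnion_affineOpens.mp hc
      suffices key : ∀ T : Set X.affineOpens, T.Finite → ∀ W (hW : W ≤ W₀),
          W = ⨆ U ∈ T, (U : X.Opens) → P W hW from key S hS W hW hWS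
      intro T hT
      induction T, hT using Set.Finite.induction_on with
      | empty =>
        intro W hW e
        exact haff W hW (by rw [e]; simpa using isAffineOpen_bot X)
      | @insert U T hU hTf ihT =>
        intro W hW e
        rw [iSup_insert] at e
        have h1 : (U : X.Opens) ≤ W := e.symm ▸ le_sup_left
        have h2 : (⨆ V ∈ T, (V : X.Opens)) ≤ W := e.symm ▸ le_sup_right
        refine hsup _ _ W hW e h1 h2 U.2 ?_ (haff _ _ U.2) (ihT _ (h2.trans hW) rfl)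
        simp only [Opens.coe_iSup]
        exact hTf.isCompact_biUnion fun V _ => V.2.isCompact
    have affI : ∀ U (hU : U ≤ W₀), IsAffineOpen U → LocInj M h (k + 1) U hU := fun U hU hA z _ =>
      ⟨0, mem_bd_of_isAffineOpen hM hA k _⟩
    have affS : ∀ U (hU : U ≤ W₀), IsAffineOpen U → LocSurj M h (k + 1) U hU := fun U hU hA y =>
      ⟨0, 0, mem_bd_of_isAffineOpen hM (isCompact_inf_basicOpen_of_isAffineOpen hA hU) k _⟩
    have inj : ∀ W (hW : W ≤ W₀), IsCompact (W : Set X) → LocInj M h (k + 1) W hW :=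
      ind (fun W hW => LocInj M h (k + 1) W hW) affI fun U V W hW e hU hV hA hVc iU iV =>
        locInj_sup e hU hV hW iU iV (ih U _ hA.isCompact).2 (ih V _ hVc).2
          (ih _ _ (hinf U V (hU.trans hW) (hV.trans hW) hA.isCompact hVc)).1
    exact fun W hW hc => ⟨inj W hW hc,
      ind (fun W hW => LocSurj M h (k + 1) W hW) affS (fun U V W hW e hU hV hA hVc sU sV =>
        locSurj_sup e hU hV hW sU sV
          (inj _ _ (hinf U V (hU.trans hW) (hV.trans hW) hA.isCompact hVc))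
          (ih _ _ (hinf U V (hU.trans hW) (hV.trans hW) hA.isCompact hVc)).2) W hW hc⟩

end Groth.Agent.QCoh
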