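import Groth.Agent.QCoh.ModelLinear
import Groth.Agent.QCoh.LocalExchange

/-!
# Base change for cohomology with flat cohomology modules
-/

set_option backward.isDefEq.respectTransparency false
set_option backward.isDefEq.respectTransparency.types false
set_option linter.style.haveILetI false
set_option maxHeartbeats 1000000

universe u

open CategoryTheory CategoryTheory.Limits AlgebraicGeometry TopologicalSpace Opposite MonoidalCategory
open scoped TensorProduct

namespace Groth.Agent.QCoh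

variable {A : Type u} [CommRing A]

theorem isExactT_all_of_flat (P : ChainComplex (ModuleCat.{u} A) ℤ) (hfl : ∀ i, Module.Flat A (P.X i)) (d : ℤ)
    (hlow : ∀ q, q < d → ∀ M, IsZero ((CohIII.TFun P q).obj M))
    (hH : ∀ q, Module.Flat A (P.homology q)) (q : ℤ) : IsExactT P q := by
  have hT : ∀ r, Module.Flat A ((CohIII.TFun P r).obj (ModuleCat.of A A)) := fun r =>
    haveI := hH r
    Module.Flat.of_linearEquiv (FlatCxLib.tUnitIso (P := P) r).toLinearEquiv
  have main : ∀ n : ℕ, (CohIII.TFun P (d - 1 + n)).PreservesEpimorphisms := by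
    intro n
    induction n with
    | zero => exact (isExactT_of_isZero (hlow _ (by simp))).2
    | succ n ih =>
      have h := (FlatCxLib.exact_iff hfl (show d - 1 + n + 1 = d - 1 + n + 1 from rfl)
        (show d - 1 + n - 1 + 1 = d - 1 + (n : ℤ) by ring)).2 ⟨ih, hT _⟩
      exact (FlatCxLib.preservesEpi_iff_preservesMono hfl
        (show (d - 1 + n) + 1 = d - 1 + (n + 1 : ℕ) by push_cast; ring)).2 h.1
  by_cases hq : q < d
  · exact isExactT_of_isZero (hlow q hq)
  · obtain ⟨n, rfl⟩ : ∃ n : ℕ, q = d - 1 + n := ⟨(q - d + 1).toNat, by lia⟩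
    exact (FlatCxLib.exact_iff hfl (show d - 1 + n + 1 = d - 1 + n + 1 from rfl)
      (show d - 1 + n - 1 + 1 = d - 1 + (n : ℤ) by ring)).2 ⟨main n, hT _⟩

theorem nonempty_homology_bc_of_flat_aux {B : Type u} [CommRing B] (φ : A →+* B)
    (P : ChainComplex (ModuleCat.{u} A) ℤ) (hfl : ∀ i, Module.Flat A (P.X i)) (q : ℤ)
    (he : (CohIII.TFun P q).PreservesEpimorphisms) (inst : Algebra A B) (hinst : inst = φ.toAlgebra) :
    letI := inst
    Nonempty ((CohIII.bcCx φ P).homology q ≃+ P.homology q ⊗[A] B) := by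
  subst hinst
  letI := φ.toAlgebra
  have hp : q + 1 = q + 1 := rfl
  have hr : q - 1 + 1 = q := by lia
  haveI := (FlatCxLib.preservesEpi_iff hfl hr).1 he
  obtain ⟨e⟩ := FlatCxLib.nonempty_homology_bcCx_equiv_aux P φ hfl hp hr (φ.toAlgebra) rfl
  exact ⟨e.symm.toAddEquiv.trans ((TensorProduct.comm A B _).trans
    (TensorProduct.congr (FlatCxLib.hom'Equiv hp hr) (LinearEquiv.refl A B))).toAddEquiv⟩

variable {X : Scheme.{u}} [X.Over (Spec (CommRingCat.of A))]

theorem nonempty_HH_bc_of_flat [CompactSpace X] [X.IsSeparated] {F : X.Modules} (hF : Coh.IsQCoh F)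
    (hfl : FlatMod.IsFlatOver (X ↘ Spec (CommRingCat.of A)) F) (hH : ∀ p : ℕ, Module.Flat A (Coh.HH X F p))
    {B : Type u} [CommRing B] [Algebra A B] {X' : Scheme.{u}} [X'.Over (Spec (CommRingCat.of B))] (g : X' ⟶ X)
    (h : IsPullback g (X' ↘ Spec (CommRingCat.of B)) (X ↘ Spec (CommRingCat.of A))
      (Spec.map (CommRingCat.ofHom (algebraMap A B)))) (n : ℕ) :
    Nonempty (Coh.HH X' ((Scheme.Modules.pullback g).obj F) n ≃+ Coh.HH X F n ⊗[A] B) := by
  obtain ⟨κ, _, U, hcov, hU⟩ := exists_affine_cover (X := X)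
  obtain ⟨d, hd⟩ := exists_HH_bound (X := X)
  let C := cechA (A := A) F U
  let P := revCx (FlatModel.toZ C)
  have hflP : ∀ i, Module.Flat A (P.X i) := fun i => by
    by_cases hi : 0 < i
    · haveI := ModuleCat.subsingleton_of_isZero (FlatModel.isZero_toZ C (-i) (by lia))
      exact inferInstanceAs (Module.Flat A ((FlatModel.toZ C).X (-i)))
    · obtain ⟨m, hm⟩ : ∃ m : ℕ, ComplexShape.embeddingUpNat.f m = -i := ⟨(-i).toNat, by simp; lia⟩
      haveI := flat_cechA F hF hfl hU m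
      exact Module.Flat.of_linearEquiv (C.extendXIso ComplexShape.embeddingUpNat hm).toLinearEquiv
  have hP : ∀ p : ℕ, Nonempty (CohIII.TFun P (-(p : ℤ)) ⋙ forget₂ (ModuleCat.{u} A) AddCommGrpCat.{u} ≅
      CohIII.tensorAFunctor A F ⋙ CohIII.HAb X p) := fun p => by
    obtain ⟨r⟩ := nonempty_tfun_revCx (FlatModel.toZ C) (-(p : ℤ))
    obtain ⟨z⟩ := FlatModel.nonempty_tfun_toZ C p
    obtain ⟨e⟩ := nonempty_tfun_iso (A := A) F hF hcov hU p
    exact ⟨Functor.isoWhiskerRight (r ≪≫ eqToIso (by rw [neg_neg]) ≪≫ z) _ ≪≫ e⟩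
  have hlow : ∀ q : ℤ, q < -(d : ℤ) → ∀ M, IsZero ((CohIII.TFun P q).obj M) := fun q hq M => by
    obtain ⟨p, rfl⟩ : ∃ p : ℕ, q = -(p : ℤ) := ⟨(-q).toNat, by lia⟩
    obtain ⟨e⟩ := hP p
    have h0 : Subsingleton (Coh.HH X (tA F M) p) := hd _ (isQCoh_tA F hF M) p (by lia)
    haveI : Subsingleton ((CohIII.TFun P (-(p : ℤ))).obj M) :=
      (e.app M).addCommGroupIsoToAddEquiv.toEquiv.subsingleton_congr.2 h0
    exact ModuleCat.isZero_of_subsingleton _
  have hHP : ∀ p : ℕ, Nonempty (P.homology (-(p : ℤ)) ≃ₗ[A] Coh.HH X F p) := fun p => by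
    obtain ⟨r⟩ := nonempty_tfun_revCx (FlatModel.toZ C) (-(p : ℤ))
    obtain ⟨z⟩ := FlatModel.nonempty_tfun_toZ C p
    obtain ⟨e₁⟩ := cxMod_homology_equiv (Coh.toGlobal (X ↘ Spec (CommRingCat.of A))) U hcov hU hF p
    exact ⟨(FlatCxLib.tUnitIso (P := P) (-(p : ℤ))).toLinearEquiv.symm.trans
      (((r ≪≫ eqToIso (by rw [neg_neg]) ≪≫ z).app (ModuleCat.of A A)).toLinearEquiv.trans
        (((HomologicalComplex.homologyFunctor _ _ p).mapIso (tensorSelfIso C)).toLinearEquiv.trans e₁))⟩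
  have hflH : ∀ q, Module.Flat A (P.homology q) := fun q => by
    by_cases hq : 0 < q
    · haveI := ModuleCat.subsingleton_of_isZero ((HomologicalComplex.exactAt_iff_isZero_homology P q).1
        (HomologicalComplex.ExactAt.of_isZero (FlatModel.isZero_toZ C (-q) (by lia))))
      infer_instance
    · obtain ⟨p, rfl⟩ : ∃ p : ℕ, q = -(p : ℤ) := ⟨(-q).toNat, by lia⟩
      obtain ⟨l⟩ := hHP p
      haveI := hH p
      exact Module.Flat.of_linearEquiv l
  obtain ⟨e₂⟩ := nonempty_homology_bc_of_flat_aux (algebraMap A B) P hflP (-(n : ℤ))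
    (isExactT_all_of_flat P hflP _ hlow hflH _).2 ‹Algebra A B› (Algebra.algebra_ext _ _ fun _ => rfl)
  letI := modHH (Coh.toGlobal (X' ↘ Spec (CommRingCat.of B))) ((Scheme.Modules.pullback g).obj F) n
  obtain ⟨e₁⟩ := bcCx_isBCModel_aux hF P hP (algebraMap A B) g h n
  obtain ⟨l⟩ := hHP n
  exact ⟨e₁.toAddEquiv.trans (e₂.trans (TensorProduct.congr l (LinearEquiv.refl A B)).toAddEquiv)⟩

end Groth.Agent.QCoh
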