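import Groth.Agent.QCoh.GodLoc
import Groth.Agent.QCoh.CokerQC
import Groth.Agent.QCoh.Ab.Rpush
import Groth.Agent.TriCat.AcyclicObj
import Groth.Agent.SpObjSS.Grothendieck
import Groth.Agent.SiteBase.Top

/-!
# Higher direct images through the Godement resolution
-/

universe u w v v' u₁ u₂

set_option backward.isDefEq.respectTransparency false
set_option backward.isDefEq.respectTransparency.types false

open CategoryTheory CategoryTheory.Limits AlgebraicGeometry TopologicalSpace Opposite

namespace Groth.Agent.QCoh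

section abstract

variable {C : Type u₁} [Category.{v} C] [Abelian C] [EnoughInjectives C]
  {D : Type u₂} [Category.{v'} D] [Abelian D] (F : C ⥤ D) [F.Additive] [PreservesFiniteLimits F]

/-- The first derived functor from an acyclic presentation. -/
theorem nonempty_R1_iso {S : ShortComplex C} (hS : S.ShortExact)
    (h₂ : IsZero ((F.rightDerived 1).obj S.X₂)) :
    Nonempty ((F.rightDerived 1).obj S.X₁ ≅ cokernel (F.map S.g)) := by
  let := HasDerivedCategory.standard C
  let := HasDerivedCategory.standard D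
  obtain ⟨δ, w₁, w₂, w₃, -, e₂, e₃⟩ := TriCat.exists_rightDerived_ses F hS 0
  haveI : Epi δ := e₃.epi_f (h₂.eq_of_tgt _ _)
  have e : F.rightDerivedZeroIsoSelf.hom.app S.X₂ ≫ F.map S.g =
      (F.rightDerived 0).map S.g ≫ F.rightDerivedZeroIsoSelf.hom.app S.X₃ :=
    (F.rightDerivedZeroIsoSelf.hom.naturality S.g).symm
  exact ⟨((cokernelIsCokernel ((F.rightDerived 0).map S.g)).coconePointUniqueUpToIso e₂.gIsCokernel).symm ≪≫
    cokernel.mapIso _ _ (F.rightDerivedZeroIsoSelf.app S.X₂) (F.rightDerivedZeroIsoSelf.app S.X₃) e.symm⟩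

/-- Dimension shifting. -/
theorem nonempty_shift_iso {S : ShortComplex C} (hS : S.ShortExact) (i : ℕ)
    (h₁ : IsZero ((F.rightDerived (i + 1)).obj S.X₂))
    (h₂ : IsZero ((F.rightDerived (i + 2)).obj S.X₂)) :
    Nonempty ((F.rightDerived (i + 1)).obj S.X₃ ≅ (F.rightDerived (i + 2)).obj S.X₁) := by
  let := HasDerivedCategory.standard C
  let := HasDerivedCategory.standard D
  obtain ⟨δ, w₁, w₂, w₃, -, e₂, e₃⟩ := TriCat.exists_rightDerived_ses F hS (i + 1)
  haveI : Epi δ := e₃.epi_f (h₂.eq_of_tgt _ _)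
  haveI : Mono δ := e₂.mono_g (h₁.eq_of_src _ _)
  haveI := isIso_of_mono_of_epi δ
  exact ⟨asIso δ⟩

/-- A class of objects with exact images has vanishing derived functors. -/
theorem isZero_rightDerived_of_class (P : C → Prop)
    (hquot : ∀ {S : ShortComplex C}, S.ShortExact → P S.X₁ → Injective S.X₂ → P S.X₃)
    (hepi : ∀ {S : ShortComplex C}, S.ShortExact → P S.X₁ → Injective S.X₂ → Epi (F.map S.g))
    (A : C) (hA : P A) (i : ℕ) : IsZero ((F.rightDerived (i + 1)).obj A) := by
  induction i generalizing A with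
  | zero =>
    let S := ShortComplex.mk (Injective.ι A) (cokernel.π (Injective.ι A)) (cokernel.condition _)
    have hS : S.ShortExact := { exact := ShortComplex.exact_of_g_is_cokernel _ (cokernelIsCokernel _) }
    obtain ⟨e⟩ := nonempty_R1_iso F hS (F.isZero_rightDerived_obj_injective_succ 0 _)
    haveI := hepi hS hA inferInstance
    exact (isZero_cokernel_of_epi (F.map S.g)).of_iso e
  | succ i ih =>
    let S := ShortComplex.mk (Injective.ι A) (cokernel.π (Injective.ι A)) (cokernel.condition _)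
    have hS : S.ShortExact := { exact := ShortComplex.exact_of_g_is_cokernel _ (cokernelIsCokernel _) }
    obtain ⟨e⟩ := nonempty_shift_iso F hS i (F.isZero_rightDerived_obj_injective_succ i _)
      (F.isZero_rightDerived_obj_injective_succ (i + 1) _)
    exact (ih _ (hquot hS hA inferInstance)).of_iso e.symm

end abstract

variable {X : Scheme.{u}}

/-- The underlying abelian sheaf is flasque. -/
abbrev IsFlasqueMod (M : X.Modules) : Prop :=
  TopCat.Sheaf.IsFlasque (X := X.toPresheafedSpace.carrier) (abSheaf M)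

theorem isFlasqueMod_God (N : X.Modules) : IsFlasqueMod (God N) :=
  isFlasque_God N

theorem isFlasqueMod_of_injective (I : X.Modules) [Injective I] : IsFlasqueMod I where
  epi {U V} i := by
    refine (AddCommGrpCat.epi_iff_surjective _).2 fun t => ?_
    let r : God I ⟶ I := Injective.factorThru (𝟙 I) (toGod I)
    have hr : toGod I ≫ r = 𝟙 I := Injective.comp_factorThru _ _
    obtain ⟨s, hs⟩ := exists_rs_God i.unop.le ((toGod I).app V.unop t)
    refine ⟨r.app U.unop s, ?_⟩
    show rs I i.unop.le (r.app U.unop s) = t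
    rw [← app_rs, hs]
    exact congr(($hr).app V.unop t)

theorem isFlasqueMod_X₃ {S : ShortComplex X.Modules} (hS : S.ShortExact) (h₁ : IsFlasqueMod S.X₁)
    (h₂ : IsFlasqueMod S.X₂) : IsFlasqueMod S.X₃ where
  epi {U V} i := by
    refine (AddCommGrpCat.epi_iff_surjective _).2 fun t => ?_
    obtain ⟨b, hb⟩ := SiteBase.surjective_sections_of_HU_one (toAb_shortExact hS) V.unop
      (have := h₁; SiteBase.subsingleton_HU_of_isFlasque (X := X.toPresheafedSpace.carrier)
        (abSheaf S.X₁) V.unop 0) t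
    obtain ⟨b', hb'⟩ := (AddCommGrpCat.epi_iff_surjective _).1 (h₂.epi i) b
    refine ⟨S.g.app U.unop b', ?_⟩
    show rs S.X₃ i.unop.le (S.g.app U.unop b') = t
    rw [← app_rs]
    exact (congrArg (S.g.app V.unop) hb').trans hb

theorem epi_push_map_of_flasque {Y : Scheme.{u}} (f : X ⟶ Y) {S : ShortComplex X.Modules}
    (hS : S.ShortExact) (h₁ : IsFlasqueMod S.X₁) :
    Epi ((Scheme.Modules.pushforward f).map S.g) := by
  refine ⟨fun {L} a b e => Scheme.Modules.hom_ext _ _ fun U => ?_⟩
  ext x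
  obtain ⟨y, rfl⟩ := SiteBase.surjective_sections_of_HU_one (toAb_shortExact hS) (f ⁻¹ᵁ U)
    (have := h₁; SiteBase.subsingleton_HU_of_isFlasque (X := X.toPresheafedSpace.carrier)
      (abSheaf S.X₁) (f ⁻¹ᵁ U) 0) x
  exact congr(($e).app U y)

variable {Y : Scheme.{u}} (f : X ⟶ Y) [HasInjectiveResolutions X.Modules]

theorem preservesFiniteLimits_push : PreservesFiniteLimits (Scheme.Modules.pushforward f) :=
  haveI := (Scheme.Modules.pullbackPushforwardAdjunction f).isRightAdjoint
  inferInstance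

theorem isZero_Rpush_of_flasque (M : X.Modules) (hM : IsFlasqueMod M) (i : ℕ) :
    IsZero ((Coh.Rpush f (i + 1)).obj M) := by
  haveI := SpObjSS.enoughInjectives_of_hasInjectiveResolutions (C := X.Modules)
  haveI := preservesFiniteLimits_push f
  exact isZero_rightDerived_of_class (Scheme.Modules.pushforward f) IsFlasqueMod
    (fun hS h₁ h₂ => isFlasqueMod_X₃ hS h₁ (haveI := h₂; isFlasqueMod_of_injective _))
    (fun hS h₁ _ => epi_push_map_of_flasque f hS h₁) M hM i

/-- The model of `R^(q+1) f_*`. -/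
noncomputable abbrev rpushModel (M : X.Modules) (q : ℕ) : Y.Modules :=
  cokernel ((Scheme.Modules.pushforward f).map (godπ M q))

/-- Higher direct images are computed by the Godement resolution. -/
theorem nonempty_Rpush_iso (M : X.Modules) :
    ∀ (q : ℕ), Nonempty ((Coh.Rpush f (q + 1)).obj M ≅ rpushModel f M q) := by
  haveI := SpObjSS.enoughInjectives_of_hasInjectiveResolutions (C := X.Modules)
  haveI := preservesFiniteLimits_push f
  suffices h : ∀ (k i : ℕ), Nonempty ((Coh.Rpush f (i + 1)).obj (godQ M k) ≅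
      (Coh.Rpush f (i + k + 1)).obj M) by
    intro q
    obtain ⟨e⟩ := h q 0
    obtain ⟨e'⟩ := nonempty_R1_iso (Scheme.Modules.pushforward f) (godSES_shortExact M q)
      (isZero_Rpush_of_flasque f _ (isFlasqueMod_God _) 0)
    exact ⟨eqToIso (by rw [Nat.zero_add]) ≪≫ e.symm ≪≫ e'⟩
  intro k
  induction k with
  | zero => exact fun i => ⟨Iso.refl _⟩
  | succ k ih =>
    intro i
    obtain ⟨e⟩ := nonempty_shift_iso (Scheme.Modules.pushforward f) (godSES_shortExact M k) i
      (isZero_Rpush_of_flasque f _ (isFlasqueMod_God _) i)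
      (isZero_Rpush_of_flasque f _ (isFlasqueMod_God _) (i + 1))
    obtain ⟨e'⟩ := ih (i + 1)
    exact ⟨e ≪≫ e' ≪≫ eqToIso (by rw [show i + 1 + k + 1 = i + (k + 1) + 1 by omega])⟩

end Groth.Agent.QCoh

namespace Groth.Agent.QCoh

variable {X Y : Scheme.{u}} (f : X ⟶ Y) [QuasiCompact f] [QuasiSeparated f] {M : X.Modules}

/-- The localisation properties of the model. -/
theorem locRange_rpushModel (hM : Coh.IsQCoh M) (q : ℕ) :
    LocRange ((Scheme.Modules.pushforward f).map (godπ M q)) := by
  have hc : ∀ (V : Y.Opens), IsAffineOpen V → IsCompact ((f ⁻¹ᵁ V : X.Opens) : Set X) := fun V hV =>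
    f.isCompact_preimage hV.isCompact
  have he : ∀ (V : Y.Opens) (g : Γ(Y, V)),
      f ⁻¹ᵁ Y.basicOpen g = (f ⁻¹ᵁ V) ⊓ X.basicOpen (f.app V g) := fun V g => by
    rw [Scheme.preimage_basicOpen]
    exact (inf_eq_right.2 (X.basicOpen_le _)).symm
  refine ⟨fun V hV g y => ?_, fun V hV g z a ha => ?_⟩
  · let y' : Γ(godQ M (q + 1), f ⁻¹ᵁ Y.basicOpen g) := y
    obtain ⟨n, z, a, ha⟩ := (locInj_and_locSurj (h := f.app V g) hM
      (f.isQuasiSeparated_preimage hV.isQuasiSeparated) (q + 1) (f ⁻¹ᵁ V) le_rfl (hc V hV)).2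
        (rs _ (he V g).ge y')
    refine ⟨n, z, rs (God (godQ M q)) (he V g).le a, ?_⟩
    show (godπ M q).app (f ⁻¹ᵁ Y.basicOpen g) (rs _ (he V g).le a) =
      rs (godQ M (q + 1)) (f.preimage_mono (Y.basicOpen_le g)) z -
        (f.app (Y.basicOpen g) (rf Y (Y.basicOpen_le g) g ^ n)) • y'
    rw [app_rs]
    refine (congrArg (rs _ (he V g).le) (ha : (godπ M q).app _ a = _)).trans ?_
    rw [rs_sub, rs_rs, rs_smul, rs_rs, rs_self]
    congr 2
    simp only [rf, map_pow, ringMap_map]
    congr 1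
    exact (congr($(f.naturality (homOfLE (Y.basicOpen_le g)).op) g)).symm
  · let z' : Γ(godQ M (q + 1), f ⁻¹ᵁ V) := z
    let a₀ : Γ(God (godQ M q), f ⁻¹ᵁ Y.basicOpen g) := a
    replace ha : (godπ M q).app _ a₀ = rs _ (f.preimage_mono (Y.basicOpen_le g)) z' := ha
    obtain ⟨n, a', ha'⟩ := (locInj_and_locSurj (h := f.app V g) hM
      (f.isQuasiSeparated_preimage hV.isQuasiSeparated) (q + 1) (f ⁻¹ᵁ V) le_rfl (hc V hV)).1 z'
        ⟨rs _ (he V g).ge a₀, (app_rs _ _ _).trans (by rw [ha, rs_rs])⟩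
    refine ⟨n, a', ?_⟩
    show (godπ M q).app (f ⁻¹ᵁ V) a' = f.app V (g ^ n) • z'
    refine (ha' : (godπ M q).app _ a' = _).trans ?_
    rw [map_pow, rf, ringMap_id]

/-- Higher direct images of quasi-coherent modules are quasi-coherent. -/
theorem isQCoh_Rpush [HasInjectiveResolutions X.Modules] (hM : Coh.IsQCoh M) (p : ℕ) :
    Coh.IsQCoh ((Coh.Rpush f p).obj M) := by
  cases p with
  | zero =>
    haveI := SpObjSS.enoughInjectives_of_hasInjectiveResolutions (C := X.Modules)
    haveI := preservesFiniteLimits_push f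
    exact (isQCoh_iff_iso ((Scheme.Modules.pushforward f).rightDerivedZeroIsoSelf.app M)).2
      (isQCoh_pushforward f hM)
  | succ q =>
    obtain ⟨e⟩ := nonempty_Rpush_iso f M q
    exact (isQCoh_iff_iso e).2 (locRange_rpushModel f hM q).isQCoh

end Groth.Agent.QCoh
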