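import Groth.Agent.QCoh.RpushModel
import Groth.Agent.QCoh.AnnIdeal
import Groth.Agent.QCoh.LocFree
import Groth.Agent.S0002

/-!
# Stalks of higher direct images as cohomology over the local ring
-/

set_option backward.isDefEq.respectTransparency false
set_option backward.isDefEq.respectTransparency.types false
set_option linter.style.haveILetI false
set_option maxHeartbeats 1000000

universe u

open CategoryTheory CategoryTheory.Limits AlgebraicGeometry TopologicalSpace Opposite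
open scoped TensorProduct

namespace Groth.Agent.QCoh

theorem isFT_pullback {X Y : Scheme.{u}} (f : Y ⟶ X) {M : X.Modules} (hM : Coh.IsQCoh M) (hft : CohB1.IsFT M) :
    CohB1.IsFT ((Scheme.Modules.pullback f).obj M) := by
  let ι := {p : Y.affineOpens × X.affineOpens // (p.1.1 : Y.Opens) ≤ f ⁻¹ᵁ p.2.1}
  refine isFT_of_finite (isQCoh_pullback f hM) (fun i : ι => i.1.1.1) ?_ (fun i => i.1.1.2) fun i => ?_
  · exact top_le_iff.1 fun y _ => Opens.mem_iSup.2 <| by
      obtain ⟨_, ⟨U, hU, rfl⟩, hxU, -⟩ :=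
        X.isBasis_affineOpens.exists_subset_of_mem_open (Set.mem_univ (f y)) isOpen_univ
      obtain ⟨_, ⟨W, hW, rfl⟩, hyW, hWU⟩ :=
        Y.isBasis_affineOpens.exists_subset_of_mem_open (show y ∈ f ⁻¹ᵁ U from hxU) (f ⁻¹ᵁ U).2
      exact ⟨⟨(⟨W, hW⟩, ⟨U, hU⟩), hWU⟩, hyW⟩
  · obtain ⟨⟨⟨W, hW⟩, ⟨U, hU⟩⟩, hWU⟩ := i
    let N := (Scheme.Modules.pullback f).obj M
    letI : Algebra Γ(X, U) Γ(Y, W) := (f.appLE U W hWU).hom.toAlgebra
    letI : Module Γ(X, U) Γ(N, W) := Module.compHom _ (f.appLE U W hWU).hom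
    haveI : IsScalarTower Γ(X, U) Γ(Y, W) Γ(N, W) :=
      ⟨fun a b c => mul_smul ((f.appLE U W hWU).hom a) b c⟩
    haveI := finite_of_isFT hM hft hU
    let l : Γ(M, U) →ₗ[Γ(X, U)] Γ(N, W) :=
      { toFun := pullSec f M hWU
        map_add' := pullSec_add f M hWU
        map_smul' := pullSec_smul f M hWU }
    exact Module.Finite.equiv
      (isBaseChange_pullback hU f hW hM hWU (fun r => rfl) l fun x => rfl).equiv

/-- Flat base change for cohomology of a quasi-compact separated scheme over an affine base. -/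
theorem nonempty_HH_flat_bc {A B : Type u} [CommRing A] [CommRing B] [Algebra A B] [Module.Flat A B]
    {X X' : Scheme.{u}} [X.Over (Spec (CommRingCat.of A))] [X'.Over (Spec (CommRingCat.of B))]
    [CompactSpace X] [X.IsSeparated] (g : X' ⟶ X)
    (h : IsPullback g (X' ↘ Spec (CommRingCat.of B)) (X ↘ Spec (CommRingCat.of A))
      (Spec.map (CommRingCat.ofHom (algebraMap A B)))) {F : X.Modules} (hF : Coh.IsQCoh F) (p : ℕ) :
    Nonempty (Coh.HH X' ((Scheme.Modules.pullback g).obj F) p ≃ₗ[B] B ⊗[A] Coh.HH X F p) := by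
  obtain ⟨κ, _, V, hcov, hV⟩ := exists_affine_cover (X := X)
  have hcov' : ⨆ i, g ⁻¹ᵁ V i = ⊤ := by rw [← Scheme.Hom.preimage_iSup, hcov]; rfl
  obtain ⟨ψ⟩ := nonempty_cechA_bc_iso (algebraMap A B) g h hF V hV
  obtain ⟨e₁⟩ := cxMod_homology_equiv (Coh.toGlobal (X' ↘ Spec (CommRingCat.of B))) (fun i => g ⁻¹ᵁ V i) hcov'
    (fun σ => isAffineOpen_preimage (algebraMap A B) g h V hV σ) (isQCoh_pullback g hF) p
  obtain ⟨e₀⟩ := cxMod_homology_equiv (Coh.toGlobal (X ↘ Spec (CommRingCat.of A))) V hcov hV hF p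
  obtain ⟨e₂⟩ := nonempty_homology_bc_aux' (cechA (A := A) F V) (algebraMap A B) p
    ‹Algebra A B› (Algebra.algebra_ext _ _ fun _ => rfl) inferInstance
  exact ⟨e₁.symm.trans (((HomologicalComplex.homologyFunctor _ _ p).mapIso ψ.symm).toLinearEquiv.trans
    (e₂.trans (TensorProduct.AlgebraTensorModule.congr (LinearEquiv.refl B B) e₀)))⟩
where
  nonempty_homology_bc_aux' {A B : Type u} [CommRing A] [CommRing B] (C : CochainComplex (ModuleCat.{u} A) ℕ)
      (φ : A →+* B) (p : ℕ) (inst : Algebra A B) (hinst : inst = φ.toAlgebra) :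
      letI := inst
      Module.Flat A B → Nonempty ((CohIII.bcCx φ C).homology p ≃ₗ[B] B ⊗[A] C.homology p) := by
    subst hinst
    intro h
    exact ⟨(FlatCxLib.homologyExtendScalarsIso φ h C p).toLinearEquiv⟩

variable {X S : Scheme.{u}} (f : X ⟶ S)

/-- The stalk of a higher direct image is the cohomology over the local ring. -/
theorem nonempty_stalk_HH [IsProper f] [HasInjectiveResolutions X.Modules] {F : X.Modules} (hF : Coh.IsQCoh F)
    (s : S) (p : ℕ) (X₁ : Scheme.{u}) [X₁.Over (Spec (CommRingCat.of (S.presheaf.stalk s)))] (g : X₁ ⟶ X)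
    (hsq : IsPullback g (X₁ ↘ Spec (CommRingCat.of (S.presheaf.stalk s))) f (S.fromSpecStalk s)) :
    Nonempty (((Coh.Rpush f p).obj F).presheaf.stalk s ≃ₗ[S.presheaf.stalk s]
      Coh.HH X₁ ((Scheme.Modules.pullback g).obj F) p) := by
  obtain ⟨_, ⟨V, hV₀, rfl⟩, hs, -⟩ :=
    S.isBasis_affineOpens.exists_subset_of_mem_open (Set.mem_univ s) isOpen_univ
  have hV : IsAffineOpen V := hV₀
  let U : X.Opens := f ⁻¹ᵁ V
  let G := (Coh.Rpush f p).obj F
  letI : (U : Scheme.{u}).Over (Spec (CommRingCat.of Γ(S, V))) := ⟨overSpec f hV⟩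
  haveI : IsProper ((U : Scheme.{u}) ↘ Spec (CommRingCat.of Γ(S, V))) := by
    show IsProper ((f ∣_ V) ≫ hV.isoSpec.hom)
    infer_instance
  haveI : CompactSpace (U : Scheme.{u}) :=
    QuasiCompact.compactSpace_of_compactSpace ((U : Scheme.{u}) ↘ Spec (CommRingCat.of Γ(S, V)))
  haveI : (U : Scheme.{u}).IsSeparated := ⟨by
    rw [← Limits.terminal.comp_from ((U : Scheme.{u}) ↘ Spec (CommRingCat.of Γ(S, V)))]
    infer_instance⟩
  letI := stalkAlg (X := S) hs
  letI := stalkModule G hs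
  haveI := isScalarTower_stalk G hs
  haveI := isLocalization_stalk' hV hs
  haveI := isLocalizedModule_germLin (isQCoh_Rpush f hF p) hV hs
  haveI : Module.Flat Γ(S, V) (S.presheaf.stalk s) :=
    IsLocalization.flat _ (hV.primeIdealOf ⟨s, hs⟩).asIdeal.primeCompl
  have hst : IsBaseChange (S.presheaf.stalk s) (germLin G hs) :=
    (isLocalizedModule_iff_isBaseChange (hV.primeIdealOf ⟨s, hs⟩).asIdeal.primeCompl _ _).1 inferInstance
  obtain ⟨e₁⟩ := nonempty_sections_HH (f := f) hF hV p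
  rw [← toGlobal_overSpec f hV] at e₁
  have hφ : Spec.map (CommRingCat.ofHom (algebraMap Γ(S, V) (S.presheaf.stalk s))) ≫ hV.fromSpec =
      S.fromSpecStalk s := hV.fromSpecStalk_eq_fromSpecStalk hs
  have hbig : IsPullback g (X₁ ↘ Spec (CommRingCat.of (S.presheaf.stalk s))) f
      (Spec.map (CommRingCat.ofHom (algebraMap Γ(S, V) (S.presheaf.stalk s))) ≫ hV.fromSpec) := by
    rw [hφ]; exact hsq
  have hpb := isPullback_overSpec (f := f) hV
  let g' : X₁ ⟶ (U : Scheme.{u}) := hpb.lift g ((X₁ ↘ Spec (CommRingCat.of (S.presheaf.stalk s))) ≫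
    Spec.map (CommRingCat.ofHom (algebraMap Γ(S, V) (S.presheaf.stalk s)))) (by rw [Category.assoc]; exact hbig.w)
  have hg : g' ≫ U.ι = g := hpb.lift_fst _ _ _
  have hsq' : IsPullback g' (X₁ ↘ Spec (CommRingCat.of (S.presheaf.stalk s)))
      ((U : Scheme.{u}) ↘ Spec (CommRingCat.of Γ(S, V)))
      (Spec.map (CommRingCat.ofHom (algebraMap Γ(S, V) (S.presheaf.stalk s)))) :=
    IsPullback.of_right (by rw [hg]; exact hbig) (hpb.lift_snd _ _ _) hpb
  obtain ⟨e₂⟩ := nonempty_HH_flat_bc g' hsq' (isQCoh_restrict U.ι hF) p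
  let eF : (Scheme.Modules.pullback g').obj (F.restrict U.ι) ≅ (Scheme.Modules.pullback g).obj F :=
    (Scheme.Modules.pullback g').mapIso ((Scheme.Modules.restrictFunctorIsoPullback U.ι).app F) ≪≫
      (Scheme.Modules.pullbackComp g' U.ι).app F ≪≫ (Scheme.Modules.pullbackCongr hg).app F
  exact ⟨hst.equiv.symm.trans ((TensorProduct.AlgebraTensorModule.congr
    (LinearEquiv.refl (S.presheaf.stalk s) (S.presheaf.stalk s)) e₁).trans
      (e₂.symm.trans (HHcongr (Coh.toGlobal (X₁ ↘ Spec (CommRingCat.of (S.presheaf.stalk s)))) eF p)))⟩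

theorem finite_stalk_Rpush [IsProper f] [IsLocallyNoetherian S] [HasInjectiveResolutions X.Modules]
    {F : X.Modules} (hF : Coh.IsCoh F) (s : S) (p : ℕ) :
    Module.Finite (S.presheaf.stalk s) (((Coh.Rpush f p).obj F).presheaf.stalk s) :=
  have h := isCoh_Rpush_of_finiteness (f := f) hF p fun A _ _ Y _ _ N hN n => S0002.result A Y N hN n
  finite_stalk_of_isFT h.1 h.2 s

end Groth.Agent.QCoh
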