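import Groth.Agent.QCoh.Support

set_option backward.isDefEq.respectTransparency false
set_option backward.isDefEq.respectTransparency.types false

universe u

open CategoryTheory CategoryTheory.Limits AlgebraicGeometry TopologicalSpace Opposite

namespace Groth.Agent.QCoh

variable {X : Scheme.{u}} {M : X.Modules}

/-- If finitely many generators vanish on an open, every section below it vanishes. -/
theorem eq_zero_of_gens {N : X.Modules} {σ : Type u} (p : SheafOfModules.free.{u} σ ⟶ N) [Epi p]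
    (W : X.Opens) (h : ∀ k, N.presheaf.map (homOfLE (le_top : W ≤ ⊤)).op
      ((SheafOfModules.ιFree k ≫ p : SheafOfModules.unit X.ringCatSheaf ⟶ N).val.app (op ⊤) (1 : Γ(X, ⊤))) = 0)
    {T : X.Opens} (hT : T ≤ W) (s : Γ(N, T)) : s = 0 := by
  let η := (Scheme.Modules.restrictAdjunction W.ι).unit.app N
  have h0 : p ≫ η = 0 := by
    refine Cofan.IsColimit.hom_ext (SheafOfModules.isColimitFreeCofan σ) _ _ fun k => ?_
    show SheafOfModules.ιFree k ≫ p ≫ η = SheafOfModules.ιFree k ≫ (0 : SheafOfModules.free.{u} σ ⟶ _)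
    rw [comp_zero, ← Category.assoc]
    generalize hq : (SheafOfModules.ιFree k ≫ p : @Quiver.Hom X.Modules _ (SheafOfModules.unit X.ringCatSheaf) N) = q
    refine Scheme.Modules.hom_ext _ _ fun T' => ?_
    ext (r : Γ(X, T'))
    show N.presheaf.map (homOfLE (W.ι.image_preimage_le T')).op (q.app T' r) = 0
    have hk := h k
    rw [hq] at hk
    have e1 : q.app T' (1 : Γ(X, T')) = N.presheaf.map (homOfLE (le_top : T' ≤ ⊤)).op (q.app ⊤ (1 : Γ(X, ⊤))) :=
      (congrArg (q.app T') (map_one (X.presheaf.map (homOfLE (le_top : T' ≤ ⊤)).op).hom).symm).trans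
        (map_app_comm q _ (1 : Γ(X, ⊤)))
    have e2 : q.app T' r = r • q.app T' (1 : Γ(X, T')) := by
      rw [← q.app_smul]; exact congrArg _ (mul_one r).symm
    have hle : W.ι ''ᵁ W.ι ⁻¹ᵁ T' ≤ W := by
      rintro y ⟨⟨y', hy'⟩, -, rfl⟩; exact hy'
    rw [e2, map_smul', e1, map_map]
    refine (congrArg _ ?_).trans (smul_zero _)
    have := congrArg (N.presheaf.map (homOfLE hle).op) hk
    rw [map_zero, map_map] at this
    exact this
  have hη : η = 0 := (cancel_epi p).1 (h0.trans comp_zero.symm)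
  have h1 : N.presheaf.map (homOfLE (W.ι.image_preimage_le T)).op s = 0 :=
    congrArg (fun φ : N ⟶ _ => φ.app T s) hη
  have he : T ≤ W.ι ''ᵁ W.ι ⁻¹ᵁ T := fun y hy => ⟨⟨y, hT hy⟩, hy, rfl⟩
  have := congrArg (N.presheaf.map (homOfLE he).op) h1
  rw [map_zero, map_map, map_id'] at this
  exact this

theorem isClosed_support_of_ft (hft : CohB1.IsFT M) : IsClosed (CohB1.support M) := by
  rw [← isOpen_compl_iff, isOpen_iff_forall_mem_open]
  intro x hx
  have hst : Subsingleton (M.presheaf.stalk x) := by_contra fun h => hx h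
  obtain ⟨σ, hσ⟩ := hft.exists_localGeneratorsData
  obtain ⟨i, hxU⟩ : ∃ i, x ∈ σ.X i := Opens.mem_iSup.1 (((Opens.coversTop_iff _ _).1 σ.coversTop).symm ▸ trivial)
  have := hσ.isFiniteType i
  let U : X.Opens := σ.X i
  let g := ((σ.generators i).map (Scheme.Modules.overEquiv (σ.X i)).functor
    (TopologicalSpace.Opens.sheafOfModulesEquivOverUnit U X.ringCatSheaf).symm).ofEpi
      ((Scheme.Modules.overFunctorEquiv (σ.X i)).app M).hom
  have : Finite g.I := inferInstanceAs (Finite (σ.generators i).I)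
  let N := M.restrict U.ι
  have hz : ∀ k : g.I, ∃ V : X.Opens, x ∈ V ∧ ∃ hle : V ≤ U.ι ''ᵁ ⊤, M.presheaf.map (homOfLE hle).op
      (Scheme.Modules.Hom.app (SheafOfModules.ιFree k ≫ g.π : @Quiver.Hom (U : Scheme.{u}).Modules _ (SheafOfModules.unit _) N) ⊤ (1 : Γ((U : Scheme.{u}), ⊤))) = 0 := fun k => by
    have hxT : x ∈ U.ι ''ᵁ ⊤ := ⟨⟨x, hxU⟩, trivial, rfl⟩
    obtain ⟨V, hxV, j₁, j₂, e⟩ := M.presheaf.germ_eq x hxT hxT
      (Scheme.Modules.Hom.app (SheafOfModules.ιFree k ≫ g.π : @Quiver.Hom (U : Scheme.{u}).Modules _ (SheafOfModules.unit _) N) ⊤ (1 : Γ((U : Scheme.{u}), ⊤))) 0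
      (hst.elim _ _)
    exact ⟨V, hxV, j₁.le, e.trans (map_zero _)⟩
  choose V hxV hle hV using hz
  let W' : X.Opens := ⟨⋂ k, (V k : Set X), isOpen_iInter_of_finite fun k => (V k).2⟩
  refine ⟨(W' ⊓ σ.X i : X.Opens), fun y hy hy' => hy' ?_, (W' ⊓ σ.X i).2,
    Set.mem_iInter.2 hxV, hxU⟩
  refine subsingleton_of_forall_eq 0 fun z => ?_
  obtain ⟨T, hyT, s, rfl⟩ := TopCat.Presheaf.exists_germ_eq M.presheaf z
  let T' : (U : Scheme.{u}).Opens := U.ι ⁻¹ᵁ (T ⊓ W')
  have hyT' : y ∈ U.ι ''ᵁ T' := ⟨⟨y, hy.2⟩, ⟨hyT, hy.1⟩, rfl⟩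
  have hTT : U.ι ''ᵁ T' ≤ T := (U.ι.image_preimage_le _).trans inf_le_left
  have h0 : M.presheaf.map (homOfLE hTT).op s = 0 := by
    refine eq_zero_of_gens (N := N) g.π (U.ι ⁻¹ᵁ W') (fun k => ?_) (T := T') (fun a ha => ha.2)
      (M.presheaf.map (homOfLE hTT).op s)
    have hWV : U.ι ''ᵁ U.ι ⁻¹ᵁ W' ≤ V k :=
      (U.ι.image_preimage_le _).trans fun a ha => Set.mem_iInter.1 ha k
    have := congrArg (M.presheaf.map (homOfLE hWV).op) (hV k)
    rw [map_zero, map_map] at this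
    exact this
  rw [← M.presheaf.germ_res_apply (homOfLE hTT) y hyT' s, h0, map_zero]

end Groth.Agent.QCoh
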