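import Groth.Agent.QCoh.FlatFibre
import Groth.Agent.FlatCxLib.Exchange

/-!
# Transfer of exchange properties to the model
-/

universe u

open CategoryTheory CategoryTheory.Limits AlgebraicGeometry

namespace Groth.Agent.QCoh

variable {A : Type u} [CommRing A] {T : ModuleCat.{u} A ⥤ ModuleCat.{u} A}
  {G : ModuleCat.{u} A ⥤ AddCommGrpCat.{u}}

theorem preservesEpi_iff_of_iso (e : T ⋙ forget₂ (ModuleCat.{u} A) AddCommGrpCat.{u} ≅ G) :
    G.PreservesEpimorphisms ↔ T.PreservesEpimorphisms := by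
  rw [← Functor.PreservesEpimorphisms.iso_iff e]
  refine ⟨fun h => ⟨fun f _ => ?_⟩, fun h => ⟨fun f _ => ?_⟩⟩
  · exact (ModuleCat.epi_iff_surjective (T.map f)).2 ((AddCommGrpCat.epi_iff_surjective _).1 (h.preserves f))
  · exact (AddCommGrpCat.epi_iff_surjective _).2 ((ModuleCat.epi_iff_surjective _).1 (h.preserves f : Epi (T.map f)))

theorem preservesMono_iff_of_iso (e : T ⋙ forget₂ (ModuleCat.{u} A) AddCommGrpCat.{u} ≅ G) :
    G.PreservesMonomorphisms ↔ T.PreservesMonomorphisms := by
  rw [← Functor.PreservesMonomorphisms.iso_iff e]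
  refine ⟨fun h => ⟨fun f _ => ?_⟩, fun h => ⟨fun f _ => ?_⟩⟩
  · exact (ModuleCat.mono_iff_injective (T.map f)).2 ((AddCommGrpCat.mono_iff_injective _).1 (h.preserves f))
  · exact (AddCommGrpCat.mono_iff_injective _).2 ((ModuleCat.mono_iff_injective _).1 (h.preserves f : Mono (T.map f)))

theorem surjective_map_iff_of_iso (e : T ⋙ forget₂ (ModuleCat.{u} A) AddCommGrpCat.{u} ≅ G)
    {M N : ModuleCat.{u} A} (f : M ⟶ N) :
    Function.Surjective (G.map f).hom ↔ Function.Surjective (T.map f).hom := by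
  rw [← AddCommGrpCat.epi_iff_surjective, ← ModuleCat.epi_iff_surjective]
  refine ((MorphismProperty.epimorphisms AddCommGrpCat.{u}).arrow_mk_iso_iff
    (Arrow.isoMk (e.app M) (e.app N) (e.hom.naturality f).symm)).symm.trans ?_
  exact (AddCommGrpCat.epi_iff_surjective _).trans (ModuleCat.epi_iff_surjective (T.map f)).symm

variable {B : Type u} [CommRing B] (φ : A →+* B) {G' : ModuleCat.{u} B ⥤ AddCommGrpCat.{u}}

theorem preservesEpi_of_bc_iso (e : G' ≅ ModuleCat.restrictScalars φ ⋙ G) (h : G.PreservesEpimorphisms) :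
    G'.PreservesEpimorphisms := by
  rw [Functor.PreservesEpimorphisms.iso_iff e]
  refine ⟨fun {M N} f _ => ?_⟩
  have : Epi ((ModuleCat.restrictScalars φ).map f) :=
    (ModuleCat.epi_iff_surjective _).2 ((ModuleCat.epi_iff_surjective f).1 inferInstance)
  exact h.preserves _

theorem preservesMono_of_bc_iso (e : G' ≅ ModuleCat.restrictScalars φ ⋙ G) (h : G.PreservesMonomorphisms) :
    G'.PreservesMonomorphisms := by
  rw [Functor.PreservesMonomorphisms.iso_iff e]
  refine ⟨fun {M N} f _ => ?_⟩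
  have : Mono ((ModuleCat.restrictScalars φ).map f) :=
    (ModuleCat.mono_iff_injective _).2 ((ModuleCat.mono_iff_injective f).1 inferInstance)
  exact h.preserves _

end Groth.Agent.QCoh
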