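import Groth.Agent.QCoh.ProperOver
import Mathlib.AlgebraicGeometry.Morphisms.Finite

/-!
# Operations on closed subsets proper over the base
-/

set_option backward.isDefEq.respectTransparency false
set_option linter.style.haveILetI false

universe u

open CategoryTheory CategoryTheory.Limits AlgebraicGeometry TopologicalSpace Opposite

namespace Groth.Agent.QCoh

variable {X Y S : Scheme.{u}} {p : X ⟶ S} {q : Y ⟶ S}

theorem isProperOver_range [LocallyOfFiniteType q] {T : Scheme.{u}} (k : T ⟶ Y) [UniversallyClosed k]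
    [IsProper (k ≫ q)] : ClSub.IsProperOver q (Set.range k) := by
  have hC : IsClosed (Set.range k) := k.isClosedMap.isClosed_range
  let i := k.imageι
  have hr : Set.range i = Set.range k := by
    rw [show Set.range i = (k.ker.support : Set Y) from Scheme.IdealSheafData.range_subschemeι _,
      show (k.ker.support : Set Y) = closure (Set.range k) from k.support_ker, hC.closure_eq]
  have he : k.toImage ≫ i = k := k.toImage_imageι
  haveI : UniversallyClosed k.toImage := by
    haveI : UniversallyClosed (k.toImage ≫ i) := by rw [he]; infer_instance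
    exact UniversallyClosed.of_comp_of_isSeparated _ i
  haveI : Surjective k.toImage := ⟨fun z => by
    obtain ⟨t, ht⟩ : i z ∈ Set.range k := hr ▸ ⟨z, rfl⟩
    refine ⟨t, i.isClosedEmbedding.injective ?_⟩
    rw [← Scheme.Hom.comp_apply, he, ht]⟩
  haveI : IsProper (k.toImage ≫ i ≫ q) := by rw [← Category.assoc, he]; infer_instance
  haveI := isProper_of_comp_surjective k.toImage (i ≫ q)
  rw [← hr]
  exact (isProperOver_iff i).2 inferInstance

theorem IsProperOver.image [LocallyOfFiniteType p] [LocallyOfFiniteType q] {f : X ⟶ Y} (w : f ≫ q = p)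
    {Z : Set X} (hZ : ClSub.IsProperOver p Z)
    (huc : ∀ {T : Scheme.{u}} (i : T ⟶ X) [IsClosedImmersion i], IsProper (i ≫ p) → UniversallyClosed (i ≫ f)) :
    ClSub.IsProperOver q (⇑f '' Z) := by
  obtain ⟨hC, hP⟩ := hZ
  let i := (Scheme.IdealSheafData.vanishingIdeal ⟨Z, hC⟩).subschemeι
  haveI := huc i hP
  haveI : IsProper ((i ≫ f) ≫ q) := by rw [Category.assoc, w]; exact hP
  have hr : Set.range (i ≫ f) = ⇑f '' Z := by
    rw [show ⇑(i ≫ f) = ⇑f ∘ ⇑i from funext fun x => Scheme.Hom.comp_apply i f x, Set.range_comp, range_vanishing]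
  rw [← hr]
  exact isProperOver_range (i ≫ f)

theorem IsProperOver.preimage [LocallyOfFiniteType p] [LocallyOfFiniteType q] {f : X ⟶ Y} [IsProper f]
    (w : f ≫ q = p) {Z : Set Y} (hZ : ClSub.IsProperOver q Z) : ClSub.IsProperOver p (⇑f ⁻¹' Z) := by
  obtain ⟨hC, hP⟩ := hZ
  let i := (Scheme.IdealSheafData.vanishingIdeal ⟨Z, hC⟩).subschemeι
  haveI : IsProper (i ≫ q) := hP
  let j := pullback.fst f i
  haveI : IsProper (j ≫ p) := by
    rw [← w, ← Category.assoc, pullback.condition, Category.assoc]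
    infer_instance
  have hr : Set.range j = ⇑f ⁻¹' Z := by
    rw [Scheme.Pullback.range_fst, range_vanishing]
  rw [← hr]
  exact (isProperOver_iff j).2 inferInstance

theorem IsProperOver.baseChange [LocallyOfFiniteType p] {X' S' : Scheme.{u}} {g : S' ⟶ S} {g' : X' ⟶ X}
    {f' : X' ⟶ S'} (sq : IsPullback g' f' p g) {Z : Set X} (hZ : ClSub.IsProperOver p Z) :
    ClSub.IsProperOver f' (⇑g' ⁻¹' Z) := by
  haveI : LocallyOfFiniteType f' := MorphismProperty.of_isPullback sq inferInstance
  obtain ⟨hC, hP⟩ := hZ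
  let i := (Scheme.IdealSheafData.vanishingIdeal ⟨Z, hC⟩).subschemeι
  haveI : IsProper (i ≫ p) := hP
  let j := pullback.fst g' i
  have sq' : IsPullback (pullback.snd g' i) (j ≫ f') (i ≫ p) g :=
    IsPullback.paste_vert (IsPullback.of_hasPullback g' i).flip sq
  haveI : IsProper (j ≫ f') := MorphismProperty.of_isPullback sq' hP
  have hr : Set.range j = ⇑g' ⁻¹' Z := by
    rw [Scheme.Pullback.range_fst, range_vanishing]
  rw [← hr]
  exact (isProperOver_iff j).2 inferInstance

theorem IsProperOver.subset {Z Z' : Set X} (hZ : ClSub.IsProperOver p Z) (hc : IsClosed Z') (h : Z' ⊆ Z) :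
    ClSub.IsProperOver p Z' := by
  obtain ⟨hC, hP⟩ := hZ
  haveI : IsProper ((Scheme.IdealSheafData.vanishingIdeal ⟨Z, hC⟩).subschemeι ≫ p) := hP
  exact isProperOver_of_subset (Scheme.IdealSheafData.vanishingIdeal ⟨Z, hC⟩).subschemeι hc (by rw [range_vanishing]; exact h)

theorem isProperOver_empty : ClSub.IsProperOver p (∅ : Set X) := by
  refine ⟨isClosed_empty, ?_⟩
  let i := (Scheme.IdealSheafData.vanishingIdeal ⟨(∅ : Set X), isClosed_empty⟩).subschemeι
  haveI : IsEmpty (Scheme.IdealSheafData.vanishingIdeal ⟨(∅ : Set X), isClosed_empty⟩).subscheme :=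
    ⟨fun z => Set.notMem_empty (i z) ((range_vanishing (isClosed_empty (X := X))).le ⟨z, rfl⟩)⟩
  haveI : IsClosedImmersion (i ≫ p) :=
    IsClosedImmersion.of_isPreimmersion _ (by rw [Set.range_eq_empty]; exact isClosed_empty)
  exact inferInstance

theorem IsProperOver.union [LocallyOfFiniteType p] {Z Z' : Set X} (hZ : ClSub.IsProperOver p Z)
    (hZ' : ClSub.IsProperOver p Z') : ClSub.IsProperOver p (Z ∪ Z') := by
  obtain ⟨hC, hP⟩ := hZ
  obtain ⟨hC', hP'⟩ := hZ'
  let i := (Scheme.IdealSheafData.vanishingIdeal ⟨Z, hC⟩).subschemeι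
  let i' := (Scheme.IdealSheafData.vanishingIdeal ⟨Z', hC'⟩).subschemeι
  let k := coprod.desc i i'
  haveI : IsFinite k := inferInstanceAs (IsFinite (coprod.desc i i'))
  haveI : IsProper (k ≫ p) := by
    have h : k ≫ p = coprod.map (i ≫ p) (i' ≫ p) ≫ coprod.desc (𝟙 S) (𝟙 S) := by
      ext <;> simp [k]
    rw [h]
    exact MorphismProperty.comp_mem @IsProper _ _ (IsZariskiLocalAtTarget.coprodMap (P := @IsProper) _ _ hP hP')
      inferInstance
  have hr : Set.range k = Z ∪ Z' := by
    refine Set.Subset.antisymm ?_ ?_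
    · rintro _ ⟨t, rfl⟩
      obtain ⟨(z | z), rfl⟩ := (coprodMk _ _).surjective t
      · refine Or.inl ((range_vanishing hC).le ⟨z, ?_⟩)
        rw [coprodMk_inl, ← Scheme.Hom.comp_apply, coprod.inl_desc]
      · refine Or.inr ((range_vanishing hC').le ⟨z, ?_⟩)
        rw [coprodMk_inr, ← Scheme.Hom.comp_apply, coprod.inr_desc]
    · rintro x (hx | hx)
      · obtain ⟨z, rfl⟩ := (range_vanishing hC).ge hx
        exact ⟨coprodMk _ _ (.inl z), by rw [coprodMk_inl, ← Scheme.Hom.comp_apply, coprod.inl_desc]⟩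
      · obtain ⟨z, rfl⟩ := (range_vanishing hC').ge hx
        exact ⟨coprodMk _ _ (.inr z), by rw [coprodMk_inr, ← Scheme.Hom.comp_apply, coprod.inr_desc]⟩
  rw [← hr]
  exact isProperOver_range k

end Groth.Agent.QCoh
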