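import Groth.Agent.QCoh.RpushAbGod
import Groth.Agent.QCoh.ProperOver
import Groth.Agent.QCoh.RpushProper
import Groth.Agent.KFlatLib.Scheme.RpushQCoh
import Groth.Agent.S0002

/-!
# Higher direct images of modules supported on a closed subset proper over the base
-/

set_option backward.isDefEq.respectTransparency false
set_option backward.isDefEq.respectTransparency.types false
set_option linter.style.haveILetI false
set_option maxHeartbeats 1000000

universe u

open CategoryTheory CategoryTheory.Limits AlgebraicGeometry TopologicalSpace Opposite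

namespace Groth.Agent.QCoh

variable {X Y Z : Scheme.{u}}

/-- Direct images along affine morphisms do not change higher direct images, as modules. -/
theorem nonempty_Rpush_affine_push (f : X ⟶ Y) (g : Y ⟶ Z) [IsAffineHom f]
    [HasInjectiveResolutions X.Modules] [HasInjectiveResolutions Y.Modules] {M : X.Modules}
    (hM : Coh.IsQCoh M) (p : ℕ) :
    Nonempty ((Coh.Rpush g p).obj ((Coh.push f).obj M) ≅ (Coh.Rpush (f ≫ g) p).obj M) := by
  haveI := SpObjSS.enoughInjectives_of_hasInjectiveResolutions (C := Y.Modules)
  haveI := SpObjSS.enoughInjectives_of_hasInjectiveResolutions (C := X.Modules)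
  haveI := preservesFiniteLimits_push g
  haveI := preservesFiniteLimits_push (f ≫ g)
  cases p with
  | zero =>
    exact ⟨(Scheme.Modules.pushforward g).rightDerivedZeroIsoSelf.app _ ≪≫
      (Scheme.Modules.pushforwardComp f g).app M ≪≫
      ((Scheme.Modules.pushforward (f ≫ g)).rightDerivedZeroIsoSelf.app M).symm⟩
  | succ q =>
    let S := fun n => (godSES M n).map (Scheme.Modules.pushforward f)
    have hS : ∀ n, (S n).ShortExact := fun n => by
      haveI := (Scheme.Modules.pullbackPushforwardAdjunction f).isRightAdjoint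
      haveI : Mono (S n).f :=
        inferInstanceAs (Mono ((Scheme.Modules.pushforward f).map (toGod (godQ M n))))
      haveI : Epi (S n).g := ⟨fun {L} a b e => by
        refine sub_eq_zero.1 (Scheme.Modules.hom_ext _ _ fun U => ?_)
        ext x
        refine eq_zero_of_locally U _ fun y hy => ?_
        obtain ⟨_, ⟨V, hV, rfl⟩, hyV, hVU⟩ := Y.isBasis_affineOpens.exists_subset_of_mem_open hy U.2
        refine ⟨V, homOfLE hVU, hyV, ?_⟩
        rw [← map_app_comm]
        obtain ⟨z, hz⟩ := godπ_app_surjective (M := M) (n := n)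
          (subsingleton_HU_of_isAffineOpen hM (hV.preimage f) n)
          (rs (godQ M (n + 1)) (f.preimage_mono hVU) x)
        have h0 := congr(($e).app V z)
        show a.app V _ - b.app V _ = 0
        rw [sub_eq_zero]
        exact ((congrArg (a.app V) hz).symm.trans h0).trans (congrArg (b.app V) hz)⟩
      exact
        { exact := ShortComplex.exact_of_f_is_kernel _
            (KernelFork.mapIsLimit _ (godSES_shortExact M n).fIsKernel (Scheme.Modules.pushforward f)) }
    have hfl : ∀ n, IsFlasqueMod (S n).X₂ := fun n => isFlasque_pushAb f (isFlasque_God (godQ M n))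
    obtain ⟨e⟩ := nonempty_tower_iso (Scheme.Modules.pushforward g) S hS (fun n => Iso.refl _)
      (fun n i => isZero_Rpush_of_flasque g _ (hfl n) i) q
    obtain ⟨e''⟩ := nonempty_Rpush_iso (f ≫ g) M q
    let η := Scheme.Modules.pushforwardComp f g
    exact ⟨e ≪≫ cokernel.mapIso _ _ (η.app _) (η.app _) (η.hom.naturality (godπ M q)) ≪≫ e''.symm⟩

theorem isCoh_Rpush_of_properSupport {X S : Scheme.{u}} (f : X ⟶ S) [LocallyOfFiniteType f]
    [IsLocallyNoetherian S] [HasInjectiveResolutions X.Modules] {F : X.Modules} (hF : Coh.IsCoh F)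
    (hs : ClSub.IsProperOver f (CohB1.support F)) (p : ℕ) : Coh.IsCoh ((Coh.Rpush f p).obj F) := by
  obtain ⟨T, i, G, hi, hr, hG, hGft, ⟨e⟩⟩ := exists_closed_model hF.1 hF.2
  haveI := hi
  rw [← hr] at hs
  haveI : IsProper (i ≫ f) := (isProperOver_iff i).1 hs
  haveI : HasInjectiveResolutions T.Modules := KFlatLib.hasInjectiveResolutions_modules
  obtain ⟨e'⟩ := nonempty_Rpush_affine_push i f hG p
  have h := isCoh_Rpush_of_finiteness (f := i ≫ f) (M := G) ⟨hG, hGft⟩ p
    fun A _ _ Y _ _ N hN n => S0002.result A Y N hN n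
  let a : (Coh.Rpush f p).obj F ≅ (Coh.Rpush (i ≫ f) p).obj G := (Coh.Rpush f p).mapIso e.symm ≪≫ e'
  exact isCoh_of_iso_finite a h.1 fun V hV => finite_sections h hV

end Groth.Agent.QCoh
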