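import Groth.Agent.QCoh.TensorA
import Groth.Agent.QCoh.FlatOver

/-!
# The Čech complex computes `M ↦ H^p(X, F ⊗_A M)`
-/

set_option backward.isDefEq.respectTransparency false
set_option backward.isDefEq.respectTransparency.types false
set_option linter.style.haveILetI false
set_option maxHeartbeats 1000000
set_option linter.unusedSimpArgs false

universe u

open CategoryTheory CategoryTheory.Limits AlgebraicGeometry TopologicalSpace Opposite MonoidalCategory
open scoped TensorProduct

namespace Groth.Agent.QCoh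

variable {A : Type u} [CommRing A] {X : Scheme.{u}} [X.Over (Spec (CommRingCat.of A))]
  (F : X.Modules) {ι : Type u} (U : ι → X.Opens)

local notation "π" => (X ↘ Spec (CommRingCat.of A))

/-- The Čech complex of `F` over `A`. -/
noncomputable abbrev cechA : CochainComplex (ModuleCat.{u} A) ℕ :=
  cxMod (Coh.toGlobal π) U F

/-- The comparison `C^p ⊗ M → C^p(F ⊗_A M)`. -/
noncomputable def thetaA (M : ModuleCat.{u} A) (p : ℕ) :
    (cechA (A := A) F U).X p ⊗[A] M →ₗ[A] (cxMod (Coh.toGlobal π) U (tA F M)).X p :=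
  TensorProduct.lift (LinearMap.mk₂ A
    (fun (c : (cechA (A := A) F U).X p) (m : M) =>
      (⟨fun σ W => letI := secModule (Coh.toGlobal π) F W.1; tauA F M W.1 (c.1 σ W ⊗ₜ[A] m),
        fun σ W W' h h' i => by
          refine (map_tauA F M i _ m).trans ?_
          rw [c.2 σ W W' h h' i]⟩ : (cxMod (Coh.toGlobal π) U (tA F M)).X p))
    (fun c c' m => Subtype.ext <| funext₂ fun σ W => by
      letI := secModule (Coh.toGlobal π) F W.1
      exact (congrArg (tauA F M W.1) (TensorProduct.add_tmul (c.1 σ W) (c'.1 σ W) m)).trans (map_add _ _ _))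
    (fun a c m => Subtype.ext <| funext₂ fun σ W => by
      letI := secModule (Coh.toGlobal π) F W.1
      letI := secModule (Coh.toGlobal π) (tA F M) W.1
      exact (congrArg (tauA F M W.1) (TensorProduct.smul_tmul' a (c.1 σ W) m).symm).trans
        (map_smul (tauA F M W.1) a _))
    (fun c m m' => Subtype.ext <| funext₂ fun σ W => by
      letI := secModule (Coh.toGlobal π) F W.1
      exact (congrArg (tauA F M W.1) (TensorProduct.tmul_add (c.1 σ W) m m')).trans (map_add _ _ _))
    (fun a c m => Subtype.ext <| funext₂ fun σ W => by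
      letI := secModule (Coh.toGlobal π) F W.1
      letI := secModule (Coh.toGlobal π) (tA F M) W.1
      exact (congrArg (tauA F M W.1) (TensorProduct.tmul_smul a (c.1 σ W) m)).trans
        (map_smul (tauA F M W.1) a _)))

theorem thetaA_tmul (M : ModuleCat.{u} A) (p : ℕ) (c : (cechA (A := A) F U).X p) (m : M)
    (σ : Fin (p + 1) → ι) (W : {W : X.Opens // Ab.Le U σ W}) :
    letI := secModule (Coh.toGlobal π) F W.1
    (thetaA F U M p (c ⊗ₜ[A] m)).1 σ W = tauA F M W.1 (c.1 σ W ⊗ₜ[A] m) :=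
  rfl

theorem thetaA_comm (M : ModuleCat.{u} A) (p : ℕ) (c : (cechA (A := A) F U).X p) (m : M) :
    (cxMod (Coh.toGlobal π) U (tA F M)).d p (p + 1) (thetaA F U M p (c ⊗ₜ[A] m)) =
      thetaA F U M (p + 1) ((cechA (A := A) F U).d p (p + 1) c ⊗ₜ[A] m) := by
  refine Subtype.ext <| funext₂ fun σ W => ?_
  rw [thetaA_tmul]
  show ((Ab.natCx (tA F M).presheaf U).d p (p + 1) (thetaA F U M p (c ⊗ₜ[A] m))).1 σ W =
    tauA F M W.1 (letI := secModule (Coh.toGlobal π) F W.1;
      ((Ab.natCx F.presheaf U).d p (p + 1) c).1 σ W ⊗ₜ[A] m)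
  rw [Ab.natCx_d, Ab.natCx_d]
  letI := secModule (Coh.toGlobal π) F W.1
  letI := secModule (Coh.toGlobal π) (tA F M) W.1
  let L : Γ(F, W.1) →+ Γ(tA F M, W.1) :=
    ((tauA F M W.1).comp ((TensorProduct.mk A Γ(F, W.1) M).flip m)).toAddMonoidHom
  show ∑ a : Fin (p + 2), (-1 : ℤ) ^ (a : ℕ) •
        L (c.1 (fun b => σ (a.succAbove b)) ⟨W.1, fun b => W.2 (a.succAbove b)⟩) =
      L (∑ a : Fin (p + 2), (-1 : ℤ) ^ (a : ℕ) •
        c.1 (fun b => σ (a.succAbove b)) ⟨W.1, fun b => W.2 (a.succAbove b)⟩)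
  rw [map_sum]
  exact Finset.sum_congr rfl fun a _ => (map_zsmul L _ _).symm

variable {U}

theorem bijective_thetaA [Finite ι] (hF : Coh.IsQCoh F)
    (hU : ∀ {p : ℕ} (σ : Fin (p + 1) → ι), IsAffineOpen (⨅ a, U (σ a)))
    (M : ModuleCat.{u} A) (p : ℕ) : Function.Bijective (thetaA F U M p) := by
  classical
  have := Fintype.ofFinite ι
  let ρ := Coh.toGlobal π
  letI := fun σ : Fin (p + 1) → ι => secModule ρ F (⨅ a, U (σ a))
  letI := fun σ : Fin (p + 1) → ι => secModule ρ (tA F M) (⨅ a, U (σ a))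
  let e := ((TensorProduct.congr (coordEquiv ρ U F p) (LinearEquiv.refl A M)).trans
    (TensorProduct.piLeft A M (fun σ : Fin (p + 1) → ι => Γ(F, ⨅ a, U (σ a))))).trans
      (LinearEquiv.piCongrRight fun σ : Fin (p + 1) → ι =>
        LinearEquiv.ofBijective (tauA F M (⨅ a, U (σ a))) (bijective_tauA F hF M (hU σ)))
  have h : (coordEquiv ρ U (tA F M) p).toLinearMap ∘ₗ thetaA F U M p = e.toLinearMap := by
    refine TensorProduct.ext' fun c m => funext fun σ => ?_
    simp only [LinearMap.comp_apply, LinearEquiv.coe_coe, e, LinearEquiv.trans_apply,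
      TensorProduct.congr_tmul, LinearEquiv.refl_apply]
    simp only [TensorProduct.piLeft, LinearEquiv.trans_apply, TensorProduct.comm_tmul,
      TensorProduct.piRight_apply, TensorProduct.piRightHom_tmul, LinearEquiv.piCongrRight_apply]
    rfl
  have h2 : Function.Bijective ((coordEquiv ρ U (tA F M) p) ∘ thetaA F U M p) := by
    rw [show ((coordEquiv ρ U (tA F M) p) ∘ thetaA F U M p) = e from congrArg DFunLike.coe h]
    exact e.bijective
  exact (Function.Bijective.of_comp_iff' (coordEquiv ρ U (tA F M) p).bijective _).1 h2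

variable [Finite ι]

/-- `C ⊗_A M` is the Čech complex of `F ⊗_A M`. -/
noncomputable def thetaIso (hF : Coh.IsQCoh F)
    (hU : ∀ {p : ℕ} (σ : Fin (p + 1) → ι), IsAffineOpen (⨅ a, U (σ a))) (M : ModuleCat.{u} A) :
    CohIII.tensorObj (cechA (A := A) F U) M ≅ cxMod (Coh.toGlobal π) U (tA F M) :=
  HomologicalComplex.Hom.isoOfComponents
    (fun p => (LinearEquiv.ofBijective (thetaA F U M p) (bijective_thetaA F hF hU M p)).toModuleIso)
    fun p q h => by
      obtain rfl : p + 1 = q := h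
      refine ModuleCat.MonoidalCategory.tensor_ext fun c m => ?_
      exact thetaA_comm F U M p c m

theorem thetaA_naturality {M M' : ModuleCat.{u} A} (g : M ⟶ M') (p : ℕ)
    (z : (cechA (A := A) F U).X p ⊗[A] M) :
    (Ab.natCxMap U ((SheafOfModules.toSheaf X.ringCatSheaf).map
        ((CohIII.tensorAFunctor A F).map g)).hom).f p (thetaA F U M p z) =
      thetaA F U M' p (g.hom.lTensor _ z) := by
  let L₁ : (cechA (A := A) F U).X p ⊗[A] M →+ (Ab.natCx (tA F M').presheaf U).X p :=
    ((Ab.natCxMap U ((SheafOfModules.toSheaf X.ringCatSheaf).map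
      ((CohIII.tensorAFunctor A F).map g)).hom).f p).hom.comp (thetaA F U M p).toAddMonoidHom
  let L₂ : (cechA (A := A) F U).X p ⊗[A] M →+ (Ab.natCx (tA F M').presheaf U).X p :=
    (thetaA F U M' p).toAddMonoidHom.comp (g.hom.lTensor _).toAddMonoidHom
  show L₁ z = L₂ z
  induction z using TensorProduct.induction_on with
  | zero => rw [map_zero, map_zero]
  | add a b ha hb => rw [map_add, map_add, ha, hb]
  | tmul c m =>
    refine Subtype.ext <| funext₂ fun σ W => ?_
    exact tauA_naturality F g W.1 (c.1 σ W) m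

/-- `M ↦ H^p(X, F ⊗_A M)` is computed by the Čech complex. -/
theorem nonempty_tfun_iso (hF : Coh.IsQCoh F) (hcov : ⨆ i, U i = ⊤)
    (hU : ∀ {p : ℕ} (σ : Fin (p + 1) → ι), IsAffineOpen (⨅ a, U (σ a))) (p : ℕ) :
    Nonempty (CohIII.TFun (cechA (A := A) F U) p ⋙ forget₂ (ModuleCat.{u} A) AddCommGrpCat.{u} ≅
      CohIII.tensorAFunctor A F ⋙ CohIII.HAb X p) := by
  obtain ⟨e, he⟩ := Ab.exists_natural_equiv (X := X.toPresheafedSpace.carrier) hcov
    (stdCovers_sectionClass hU) (fun I hI _ _ _ V _ => @Ab.acyclic_of_injective _ I hI _ V) p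
  let G := forget₂ (ModuleCat.{u} A) AddCommGrpCat.{u}
  let j : ∀ M : ModuleCat.{u} A, (G.mapHomologicalComplex _).obj (CohIII.tensorObj (cechA (A := A) F U) M) ≅
      Ab.natCx (tA F M).presheaf U := fun M => (G.mapHomologicalComplex _).mapIso (thetaIso F hF hU M)
  refine ⟨NatIso.ofComponents (fun M =>
    (((CohIII.tensorObj (cechA (A := A) F U) M).sc p).mapHomologyIso G).symm ≪≫
      (HomologicalComplex.homologyFunctor _ _ p).mapIso (j M) ≪≫
      (e (abSheaf (tA F M)) (stdCovers_acyclic (isQCoh_tA F hF M))).toAddCommGrpIso) fun {M M'} g => ?_⟩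
  let φ := (SheafOfModules.toSheaf X.ringCatSheaf).map ((CohIII.tensorAFunctor A F).map g)
  have hj : (G.mapHomologicalComplex _).map (CohIII.tensorMap (cechA (A := A) F U) g) ≫ (j M').hom =
      (j M).hom ≫ Ab.natCxMap U φ.hom := by
    ext q : 1
    exact AddCommGrpCat.ext fun z => (thetaA_naturality F g q z).symm
  have h1 := ShortComplex.mapHomologyIso_inv_naturality
    ((HomologicalComplex.shortComplexFunctor (ModuleCat.{u} A) (ComplexShape.up ℕ) p).map
      (CohIII.tensorMap (cechA (A := A) F U) g)) G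
  have h2 := congrArg (fun f => HomologicalComplex.homologyMap f p) hj
  simp only [HomologicalComplex.homologyMap_comp] at h2
  refine AddCommGrpCat.ext fun x => ?_
  refine Eq.trans ?_ (he (abSheaf (tA F M)) (abSheaf (tA F M')) (stdCovers_acyclic (isQCoh_tA F hF M))
    (stdCovers_acyclic (isQCoh_tA F hF M')) φ _)
  refine congrArg (e (abSheaf (tA F M')) (stdCovers_acyclic (isQCoh_tA F hF M'))) ?_
  refine (congrArg (HomologicalComplex.homologyMap (j M').hom p) (ConcreteCategory.congr_hom h1 x)).trans ?_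
  exact ConcreteCategory.congr_hom h2 _

theorem flat_cechA (hF : Coh.IsQCoh F) (hfl : FlatMod.IsFlatOver π F)
    (hU : ∀ {p : ℕ} (σ : Fin (p + 1) → ι), IsAffineOpen (⨅ a, U (σ a))) (p : ℕ) :
    Module.Flat A ((cechA (A := A) F U).X p) := by
  classical
  have := Fintype.ofFinite ι
  let ρ := Coh.toGlobal π
  letI := fun σ : Fin (p + 1) → ι => secModule ρ F (⨅ a, U (σ a))
  have : ∀ σ : Fin (p + 1) → ι, Module.Flat A Γ(F, ⨅ a, U (σ a)) := fun σ => by
    let V : X.Opens := ⨅ a, U (σ a)
    letI : Module Γ(Spec (CommRingCat.of A), ⊤) Γ(F, V) :=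
      Module.compHom _ ((π).appLE ⊤ V (fun _ _ => trivial)).hom
    have h : Module.Flat Γ(Spec (CommRingCat.of A), ⊤) Γ(F, V) :=
      (flat_appLE_iff π hF (hU σ) (isAffineOpen_top _) fun _ _ => trivial).2 fun x _ => hfl x
    letI : Algebra A Γ(Spec (CommRingCat.of A), ⊤) := (Scheme.ΓSpecIso (CommRingCat.of A)).inv.hom.toAlgebra
    haveI : IsScalarTower A Γ(Spec (CommRingCat.of A), ⊤) Γ(F, V) := .of_algebraMap_smul fun _ _ => rfl
    have hs : Function.Bijective (algebraMap A Γ(Spec (CommRingCat.of A), ⊤)) :=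
      ConcreteCategory.bijective_of_isIso (Scheme.ΓSpecIso (CommRingCat.of A)).inv
    haveI : Module.Flat A Γ(Spec (CommRingCat.of A), ⊤) :=
      Module.Flat.of_linearEquiv (LinearEquiv.ofBijective (Algebra.linearMap A _) hs).symm
    exact Module.Flat.trans A Γ(Spec (CommRingCat.of A), ⊤) Γ(F, V)
  haveI := Module.Flat.of_linearEquiv (DFinsupp.linearEquivFunOnFintype (R := A) (M := fun σ : Fin (p + 1) → ι => Γ(F, ⨅ a, U (σ a)))).symm
  exact Module.Flat.of_linearEquiv (coordEquiv ρ U F p)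

end Groth.Agent.QCoh
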