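import Groth.Agent.QCoh.BcT
import Groth.Agent.QCoh.CechTensorA
import Groth.Agent.QCoh.FlatBC
import Groth.Agent.QCoh.CechLoc

/-!
# Base change of `M ↦ H^p(X, F ⊗ M)` along affine bases
-/

set_option backward.isDefEq.respectTransparency false
set_option backward.isDefEq.respectTransparency.types false
set_option linter.style.haveILetI false
set_option maxHeartbeats 1000000

universe u

open CategoryTheory CategoryTheory.Limits AlgebraicGeometry TopologicalSpace Opposite MonoidalCategory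
open scoped TensorProduct

namespace Groth.Agent.QCoh

variable {A B : Type u} [CommRing A] [CommRing B] (φ : A →+* B) {X X' : Scheme.{u}}
  [X.Over (Spec (CommRingCat.of A))] [X'.Over (Spec (CommRingCat.of B))] (g : X' ⟶ X)
  (h : IsPullback g (X' ↘ Spec (CommRingCat.of B)) (X ↘ Spec (CommRingCat.of A))
    (Spec.map (CommRingCat.ofHom φ)))
  {F : X.Modules} (hF : Coh.IsQCoh F) {ι : Type u} [Finite ι] (U : ι → X.Opens)
  (hU : ∀ {p : ℕ} (σ : Fin (p + 1) → ι), IsAffineOpen (⨅ a, U (σ a)))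

theorem preimage_iInf_fin {p : ℕ} (σ : Fin (p + 1) → ι) :
    g ⁻¹ᵁ (⨅ a, U (σ a)) = ⨅ a, g ⁻¹ᵁ U (σ a) := by
  rw [← Finset.inf_univ_eq_iInf, ← Finset.inf_univ_eq_iInf]
  exact Finset.apply_inf_eq_inf_comp (fun V : X.Opens => g ⁻¹ᵁ V) (fun _ _ => rfl) rfl

include h hU in
theorem isAffineOpen_preimage {p : ℕ} (σ : Fin (p + 1) → ι) : IsAffineOpen (⨅ a, g ⁻¹ᵁ U (σ a)) := by
  have hg : IsAffineHom g := MorphismProperty.of_isPullback h.flip inferInstance
  rw [← preimage_iInf_fin]
  exact (hU σ).preimage g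

include h hF hU in
/-- The Čech complex after a base change. -/
theorem nonempty_cechA_bc_iso :
    Nonempty (CohIII.bcCx φ (cechA (A := A) F U) ≅
      cechA (A := B) ((Scheme.Modules.pullback g).obj F) (fun i => g ⁻¹ᵁ U i)) := by
  letI alg : Algebra A B := φ.toAlgebra
  let pA := X ↘ Spec (CommRingCat.of A)
  let pB := X' ↘ Spec (CommRingCat.of B)
  let ρ := Coh.toGlobal pA
  let ρ' := Coh.toGlobal pB
  let η := (Scheme.Modules.pullbackPushforwardAdjunction g).unit.app F
  have hρ := toGlobal_comm pA pB g (A := A) (B := B) h.w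
  have hbc : IsBC ρ ρ' U g η hρ := by
    intro p σ W hW hle
    obtain rfl : W = g ⁻¹ᵁ ⨅ a, U (σ a) := by rw [hW, preimage_iInf_fin]
    exact isAffineBC_of_isPullback h hF _ (hU σ)
  let K := cechA (A := A) F U
  let K' := cechA (A := B) ((Scheme.Modules.pullback g).obj F) (fun i => g ⁻¹ᵁ U i)
  let f := cxModMap ρ ρ' U g η hρ
  let ψ : CohIII.bcCx φ K ⟶ K' :=
    { f := fun i => adjunct (f.f i)
      comm' := fun i j _ => by
        let : Module A (K'.X j) := Module.compHom (K'.X j) (algebraMap A B)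
        have : IsScalarTower A B (K'.X j) := .of_algebraMap_smul fun _ _ => rfl
        refine ModuleCat.hom_ext (TensorProduct.AlgebraTensorModule.ext
          (R := A) (A := B) (M := B) (N := K.X i) (P := K'.X j) fun b m => ?_)
        show (K'.d i j).hom ((adjunct (f.f i)).hom (b ⊗ₜ[A] m : B ⊗[A] K.X i)) =
          (adjunct (f.f j)).hom ((K.d i j).hom.baseChange B (b ⊗ₜ m))
        refine (congrArg (K'.d i j).hom (adjunct_tmul (f.f i) b m)).trans ?_
        refine ((K'.d i j).hom.map_smul b _).trans ?_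
        refine Eq.trans ?_ (adjunct_tmul (f.f j) b ((K.d i j).hom m)).symm
        exact congrArg (b • ·) (ConcreteCategory.congr_hom (f.comm i j) m) }
  have : ∀ i, IsIso (ψ.f i) := fun i => (ConcreteCategory.isIso_iff_bijective _).2
    (bijective_adjunct_cxModMap ρ ρ' U g η hρ hbc i)
  have : IsIso ψ := HomologicalComplex.Hom.isIso_of_components ψ
  exact ⟨asIso ψ⟩

/-- `T` of isomorphic complexes. -/
noncomputable def tfunMapIso {ι : Type} {c : ComplexShape ι} {P Q : HomologicalComplex (ModuleCat.{u} A) c}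
    (e : P ≅ Q) (p : ι) : CohIII.TFun P p ≅ CohIII.TFun Q p :=
  NatIso.ofComponents (fun M => (HomologicalComplex.homologyFunctor _ _ p).mapIso
      (((tensorRight M).mapHomologicalComplex c).mapIso e)) fun {M M'} g => by
    refine (HomologicalComplex.homologyMap_comp _ _ _).symm.trans
      (Eq.trans ?_ (HomologicalComplex.homologyMap_comp _ _ _))
    congr 1
    exact ((NatTrans.mapHomologicalComplex ((tensoringRight (ModuleCat.{u} A)).map g) c).naturality e.hom).symm

include h hF in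
/-- Base change of `M ↦ H^p(X, F ⊗ M)`. -/
theorem nonempty_HAb_bc_iso [CompactSpace X] [X.IsSeparated] (p : ℕ) :
    Nonempty (CohIII.tensorAFunctor B ((Scheme.Modules.pullback g).obj F) ⋙ CohIII.HAb X' p ≅
      ModuleCat.restrictScalars φ ⋙ CohIII.tensorAFunctor A F ⋙ CohIII.HAb X p) := by
  obtain ⟨κ, _, V, hcov, hV⟩ := exists_affine_cover (X := X)
  obtain ⟨ψ⟩ := nonempty_cechA_bc_iso φ g h hF V hV
  have hcov' : ⨆ i, g ⁻¹ᵁ V i = ⊤ := by rw [← Scheme.Hom.preimage_iSup, hcov]; rfl
  obtain ⟨e'⟩ := nonempty_tfun_iso (A := B) ((Scheme.Modules.pullback g).obj F) (isQCoh_pullback g hF)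
    hcov' (fun σ => isAffineOpen_preimage φ g h V hV σ) p
  obtain ⟨e⟩ := nonempty_tfun_iso (A := A) F hF hcov hV p
  obtain ⟨b⟩ := nonempty_bcT_iso (cechA (A := A) F V) φ p
  exact ⟨e'.symm ≪≫ Functor.isoWhiskerRight (tfunMapIso ψ p).symm _ ≪≫ b ≪≫ Functor.isoWhiskerLeft _ e⟩

end Groth.Agent.QCoh
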