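import Groth.Prelude.Def_ega3
import Groth.Agent.FlatCxLib.Exchange
import Groth.Agent.FlatCxLib.Structure
import Mathlib.LinearAlgebra.Contraction
import Mathlib.Algebra.Module.FinitePresentation
import Mathlib.RingTheory.Flat.EquationalCriterion

/-!
# Left exact `T_q` is corepresentable
-/

set_option linter.style.haveILetI false

universe u

open CategoryTheory CategoryTheory.Limits Opposite
open scoped TensorProduct

namespace Groth.Agent.QCoh

variable {A : Type u} [CommRing A]

section Contraction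

variable {N N' M M' : Type u} [AddCommGroup N] [Module A N] [AddCommGroup N'] [Module A N'] [AddCommGroup M]
  [Module A M] [AddCommGroup M'] [Module A M']

/-- `N ⊗ M → Hom(N^*, M)`. -/
noncomputable def contrR (N M : Type u) [AddCommGroup N] [Module A N] [AddCommGroup M] [Module A M] :
    N ⊗[A] M →ₗ[A] (Module.Dual A N →ₗ[A] M) :=
  dualTensorHom A (Module.Dual A N) M ∘ₗ (Module.Dual.eval A N).rTensor M

theorem contrR_tmul (n : N) (m : M) (φ : Module.Dual A N) : contrR (A := A) N M (n ⊗ₜ m) φ = φ n • m := by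
  simp [contrR]

theorem bijective_contrR [Module.Finite A N] [Module.Projective A N] :
    Function.Bijective (contrR (A := A) N M) := by
  have h1 : Function.Bijective ((Module.Dual.eval A N).rTensor M) :=
    ((Module.evalEquiv A N).rTensor M).bijective
  exact (dualTensorHomEquiv A (Module.Dual A N) M).bijective.comp h1

theorem contrR_rTensor (v : N →ₗ[A] N') (x : N ⊗[A] M) (φ : Module.Dual A N') :
    contrR (A := A) N' M (v.rTensor M x) φ = contrR (A := A) N M x (φ ∘ₗ v) := by
  induction x using TensorProduct.induction_on with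
  | zero => simp
  | tmul n m => rw [LinearMap.rTensor_tmul, contrR_tmul, contrR_tmul]; rfl
  | add a b ha hb => simp only [map_add, LinearMap.add_apply, ha, hb]

theorem contrR_lTensor (g : M →ₗ[A] M') (x : N ⊗[A] M) (φ : Module.Dual A N) :
    contrR (A := A) N M' (g.lTensor N x) φ = g (contrR (A := A) N M x φ) := by
  induction x using TensorProduct.induction_on with
  | zero => simp
  | tmul n m => rw [LinearMap.lTensor_tmul, contrR_tmul, contrR_tmul, map_smul]
  | add a b ha hb => simp only [map_add, LinearMap.add_apply, ha, hb]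

end Contraction

theorem nonempty_natEquiv_of_surjective {R C B D : Type*} [CommRing R] [AddCommGroup C] [Module R C]
    [AddCommGroup B] [Module R B] [AddCommGroup D] [Module R D] (p : C →ₗ[R] B) (q : C →ₗ[R] D)
    (hp : Function.Surjective p) (hq : Function.Surjective q) (h : ∀ a, p a = 0 ↔ q a = 0) :
    ∃ e : B ≃ₗ[R] D, ∀ a, e (p a) = q a := by
  have hk : LinearMap.ker p = LinearMap.ker q :=
    Submodule.ext fun a => (LinearMap.mem_ker).trans ((h a).trans (LinearMap.mem_ker).symm)
  refine ⟨((p.quotKerEquivOfSurjective hp).symm.trans (Submodule.quotEquivOfEq _ _ hk)).trans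
    (q.quotKerEquivOfSurjective hq), fun a => ?_⟩
  have : (p.quotKerEquivOfSurjective hp).symm (p a) = Submodule.Quotient.mk a := by
    rw [LinearEquiv.symm_apply_eq]; rfl
  rw [LinearEquiv.trans_apply, LinearEquiv.trans_apply, this]
  rfl

variable (P : ChainComplex (ModuleCat.{u} A) ℤ) (p q r : ℤ)

/-- The corepresenting module: the cokernel of the dual of `W_q → P_r`. -/
abbrev corepQ : Type u :=
  Module.Dual A (FlatCxLib.Coker P p q) ⧸ LinearMap.range (FlatCxLib.cokerDesc P p q r).dualMap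

variable {P p q r}

theorem exists_corep_map (M : ModuleCat.{u} A)
    [Module.Finite A (FlatCxLib.Coker P p q)] [Module.Projective A (FlatCxLib.Coker P p q)]
    [Module.Finite A (P.X r)] [Module.Projective A (P.X r)] :
    ∃ Φ : LinearMap.ker ((P.d q r).hom.rTensor M) →ₗ[A] (ModuleCat.of A (corepQ P p q r) ⟶ M),
      Function.Surjective Φ ∧
      (∀ x, Φ x = 0 ↔ (x : P.X q ⊗[A] M) ∈ LinearMap.range ((P.d p q).hom.rTensor M)) ∧
      ∀ x φ, (Φ x).hom (Submodule.Quotient.mk φ) =
        contrR (A := A) (FlatCxLib.Coker P p q) M ((LinearMap.range (P.d p q).hom).mkQ.rTensor M x) φ := by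
  let W := FlatCxLib.Coker P p q
  let v := FlatCxLib.cokerDesc P p q r
  let mk : P.X q →ₗ[A] W := (LinearMap.range (P.d p q).hom).mkQ
  have hvmk : v ∘ₗ mk = (P.d q r).hom := LinearMap.ext fun _ => rfl
  let L : LinearMap.ker ((P.d q r).hom.rTensor M) →ₗ[A] (Module.Dual A W →ₗ[A] M) :=
    contrR (A := A) W M ∘ₗ mk.rTensor M ∘ₗ Submodule.subtype _
  have hL : ∀ x, LinearMap.range v.dualMap ≤ LinearMap.ker (L x) := fun x => by
    rintro _ ⟨φ', rfl⟩
    rw [LinearMap.mem_ker]
    show contrR (A := A) W M (mk.rTensor M x) (φ' ∘ₗ v) = 0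
    rw [← contrR_rTensor, ← LinearMap.comp_apply (v.rTensor M), ← LinearMap.rTensor_comp, hvmk, x.2]
    simp
  let Φ : LinearMap.ker ((P.d q r).hom.rTensor M) →ₗ[A] (ModuleCat.of A (corepQ P p q r) ⟶ M) :=
    { toFun := fun x => ModuleCat.ofHom ((LinearMap.range v.dualMap).liftQ (L x) (hL x))
      map_add' := fun x y => ModuleCat.hom_ext (Submodule.linearMap_qext _ (by
        refine LinearMap.ext fun φ => ?_
        show L (x + y) φ = L x φ + L y φ
        rw [map_add]; rfl))
      map_smul' := fun a x => ModuleCat.hom_ext (Submodule.linearMap_qext _ (by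
        refine LinearMap.ext fun φ => ?_
        show L (a • x) φ = a • L x φ
        rw [map_smul]; rfl)) }
  refine ⟨Φ, fun f => ?_, fun x => ?_, fun x φ => rfl⟩
  · obtain ⟨w, hw⟩ := bijective_contrR.2 (f.hom ∘ₗ (LinearMap.range v.dualMap).mkQ)
    obtain ⟨x, rfl⟩ := LinearMap.rTensor_surjective M (g := mk) (Submodule.mkQ_surjective _) w
    have hx : (P.d q r).hom.rTensor M x = 0 := by
      refine (bijective_contrR (A := A) (N := P.X r) (M := M)).1 ?_
      rw [map_zero, ← hvmk, LinearMap.rTensor_comp]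
      refine LinearMap.ext fun φ' => ?_
      rw [LinearMap.comp_apply, contrR_rTensor, hw]
      show f.hom (Submodule.Quotient.mk (φ' ∘ₗ v)) = 0
      rw [show (Submodule.Quotient.mk (φ' ∘ₗ v) : corepQ P p q r) = 0 from
        (Submodule.Quotient.mk_eq_zero _).2 ⟨φ', rfl⟩, map_zero]
    exact ⟨⟨x, hx⟩, ModuleCat.hom_ext (Submodule.linearMap_qext _ hw)⟩
  · have h1 : Φ x = 0 ↔ L x = 0 := ⟨fun h => LinearMap.ext fun φ =>
      (congr(($h).hom (Submodule.Quotient.mk φ)) :),
      fun h => ModuleCat.hom_ext (Submodule.linearMap_qext _ h)⟩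
    rw [h1]
    have hex := rTensor_exact M (LinearMap.exact_map_mkQ_range (P.d p q).hom) (Submodule.mkQ_surjective _)
    exact ⟨fun h => (hex _).1 ((injective_iff_map_eq_zero _).1 bijective_contrR.1 _ h),
      fun h => (congrArg (contrR (A := A) W M) ((hex _).2 h)).trans (map_zero _)⟩

theorem nonempty_corep_iso (hqp : q + 1 = p) (hrq : r + 1 = q)
    [Module.Finite A (FlatCxLib.Coker P p q)] [Module.Projective A (FlatCxLib.Coker P p q)]
    [Module.Finite A (P.X r)] [Module.Projective A (P.X r)] :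
    Nonempty (CohIII.TFun P q ≅ (linearCoyoneda A (ModuleCat.{u} A)).obj (op (ModuleCat.of A (corepQ P p q r)))) := by
  choose Φ hΦs hΦ0 hΦev using fun M => exists_corep_map (P := P) (p := p) (q := q) (r := r) M
  have hn := FlatCxLib.next_down hrq
  have hpv := FlatCxLib.prev_down hqp
  choose e he using fun M : ModuleCat.{u} A => nonempty_natEquiv_of_surjective
    (FlatCxLib.clsHom (CohIII.tensorObj P M) q r hn).hom (Φ M)
    (fun y => let ⟨x, hx, h⟩ := FlatCxLib.cls_surjective (K := CohIII.tensorObj P M) hn y; ⟨⟨x, hx⟩, h⟩)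
    (hΦs M) (fun x => (FlatCxLib.cls_eq_zero_iff (K := CohIII.tensorObj P M) hpv hn x.1 x.2).trans (hΦ0 M x).symm)
  refine ⟨NatIso.ofComponents (fun M => (e M).toModuleIso) fun {M N} g => ModuleCat.hom_ext (LinearMap.ext fun t => ?_)⟩
  obtain ⟨x, hx, rfl⟩ := FlatCxLib.cls_surjective (K := CohIII.tensorObj P M) hn t
  have hgx : ((CohIII.tensorObj P N).d q r).hom (g.hom.lTensor (P.X q) x) = 0 :=
    FlatCxLib.cycle_map (CohIII.tensorMap P g) x hx
  show e N ((HomologicalComplex.homologyMap (CohIII.tensorMap P g) q).hom _) = (e M _) ≫ g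
  rw [FlatCxLib.homologyMap_cls]
  refine (he N ⟨g.hom.lTensor (P.X q) x, hgx⟩).trans ?_
  refine Eq.trans ?_ (congrArg (· ≫ g) (he M ⟨x, hx⟩).symm)
  refine ModuleCat.hom_ext (Submodule.linearMap_qext _ (LinearMap.ext fun φ => ?_))
  show (Φ N _).hom (Submodule.Quotient.mk φ) = g.hom ((Φ M _).hom (Submodule.Quotient.mk φ))
  refine (hΦev N _ φ).trans (Eq.trans ?_ (congrArg g.hom (hΦev M _ φ)).symm)
  show contrR _ _ ((LinearMap.range (P.d p q).hom).mkQ.rTensor N (g.hom.lTensor (P.X q) x)) φ = _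
  exact (congrArg (fun z => contrR (A := A) _ N z φ)
    (FlatCxLib.lTensor_rTensor_comm g.hom (LinearMap.range (P.d p q).hom).mkQ x).symm).trans
      (contrR_lTensor g.hom _ φ)

theorem finite_corepQ [Module.Finite A (FlatCxLib.Coker P p q)] [Module.Projective A (FlatCxLib.Coker P p q)] :
    Module.Finite A (corepQ P p q r) :=
  inferInstance

theorem mono_of_corep {T : ModuleCat.{u} A ⥤ ModuleCat.{u} A} {Q : ModuleCat.{u} A}
    (e : T ≅ (linearCoyoneda A (ModuleCat.{u} A)).obj (op Q)) : T.PreservesMonomorphisms := by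
  rw [Functor.PreservesMonomorphisms.iso_iff e]
  refine ⟨fun {M N} g _ => (ModuleCat.mono_iff_injective _).2 fun a b h => ?_⟩
  exact (cancel_mono g).1 h

theorem finite_of_corep_iso {Q Q' : ModuleCat.{u} A} [Module.Finite A Q']
    (e : (linearCoyoneda A (ModuleCat.{u} A)).obj (op Q) ≅ (linearCoyoneda A (ModuleCat.{u} A)).obj (op Q')) :
    Module.Finite A Q := by
  let a : Q' ⟶ Q := (e.hom.app Q).hom (𝟙 Q)
  have hnat : ∀ {N : ModuleCat.{u} A} (g : Q ⟶ N), (e.hom.app N).hom g = a ≫ g := fun {N} g => by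
    have h : (e.hom.app N).hom (𝟙 Q ≫ g) = a ≫ g := congr($(e.hom.naturality g) (𝟙 Q))
    rwa [Category.id_comp] at h
  haveI : Epi a := ⟨fun {N} g g' h => by
    have hh : (e.hom.app N).hom g = (e.hom.app N).hom g' := by rw [hnat, hnat, h]
    exact (ConcreteCategory.bijective_of_isIso (e.hom.app N)).1 hh⟩
  exact Module.Finite.of_surjective a.hom ((ModuleCat.epi_iff_surjective a).1 inferInstance)

theorem corep_iff [IsNoetherianRing A] (hP : ∀ i, Module.Finite A (P.X i) ∧ Module.Flat A (P.X i)) (q : ℤ) :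
    ((CohIII.TFun P q).PreservesMonomorphisms ↔
      ∃ Q : ModuleCat.{u} A, Nonempty (CohIII.TFun P q ≅ (linearCoyoneda A (ModuleCat.{u} A)).obj (op Q))) ∧
    ∀ Q : ModuleCat.{u} A, Nonempty (CohIII.TFun P q ≅ (linearCoyoneda A (ModuleCat.{u} A)).obj (op Q)) →
      Module.Finite A Q := by
  have hp : q + 1 = q + 1 := rfl
  have hr : q - 1 + 1 = q := by lia
  haveI := (hP q).1
  haveI := (hP (q - 1)).1
  haveI := (hP (q - 1)).2
  haveI : Module.FinitePresentation A (P.X (q - 1)) := Module.finitePresentation_of_finite _ _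
  haveI : Module.Projective A (P.X (q - 1)) := Module.Flat.projective_of_finitePresentation
  have key : (CohIII.TFun P q).PreservesMonomorphisms → ∃ Q : ModuleCat.{u} A, Module.Finite A Q ∧
      Nonempty (CohIII.TFun P q ≅ (linearCoyoneda A (ModuleCat.{u} A)).obj (op Q)) := fun h => by
    haveI := (FlatCxLib.preservesMono_iff (fun i => (hP i).2) hp).1 h
    haveI : Module.FinitePresentation A (FlatCxLib.Coker P (q + 1) q) := Module.finitePresentation_of_finite _ _
    haveI : Module.Projective A (FlatCxLib.Coker P (q + 1) q) := Module.Flat.projective_of_finitePresentation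
    exact ⟨ModuleCat.of A (corepQ P (q + 1) q (q - 1)), finite_corepQ, nonempty_corep_iso hp hr⟩
  refine ⟨⟨fun h => let ⟨Q, _, e⟩ := key h; ⟨Q, e⟩, fun ⟨Q, ⟨e⟩⟩ => mono_of_corep e⟩, fun Q ⟨e⟩ => ?_⟩
  obtain ⟨Q', hQ', ⟨e'⟩⟩ := key (mono_of_corep e)
  exact finite_of_corep_iso (e.symm ≪≫ e')

end Groth.Agent.QCoh
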