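import Groth.Agent.QCoh.FlatFibre

/-!
# The degree zero part of the model computes global sections linearly
-/

set_option backward.isDefEq.respectTransparency false
set_option backward.isDefEq.respectTransparency.types false
set_option linter.style.haveILetI false
set_option maxHeartbeats 1000000

universe u

open CategoryTheory CategoryTheory.Limits AlgebraicGeometry TopologicalSpace Opposite MonoidalCategory
open scoped TensorProduct

namespace Groth.Agent.QCoh

variable {A : Type u} [CommRing A] {X : Scheme.{u}} [X.Over (Spec (CommRingCat.of A))] {F : X.Modules}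

local notation "π" => (X ↘ Spec (CommRingCat.of A))

/-- Scalars on `F ⊗_A M` act through global functions. -/
theorem toSheaf_map_smul (hF : Coh.IsQCoh F) (M : ModuleCat.{u} A) (a : A) :
    (SheafOfModules.toSheaf X.ringCatSheaf).map ((CohIII.tensorAFunctor A F).map
      (ModuleCat.ofHom (a • LinearMap.id : M →ₗ[A] M))) = Coh.smulAb (tA F M) (Coh.toGlobal π a) := by
  refine InducedCategory.hom_ext ?_
  have hB : Opens.IsBasis (Set.range fun W : X.affineOpens => (W : X.Opens)) := by
    rw [show Set.range (fun W : X.affineOpens => (W : X.Opens)) = X.affineOpens from Subtype.range_coe]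
    exact X.isBasis_affineOpens
  refine TopCat.Sheaf.hom_ext (F := (Coh.toAb (tA F M)).obj) (F' := Coh.toAb (tA F M)) hB fun W => ?_
  letI := secModule (Coh.toGlobal π) F W.1
  letI := secModule (Coh.toGlobal π) (tA F M) W.1
  refine AddCommGrpCat.ext fun y => ?_
  obtain ⟨z, rfl⟩ := (bijective_tauA F hF M W.2).2 y
  show ((CohIII.tensorAFunctor A F).map (ModuleCat.ofHom (a • LinearMap.id : M →ₗ[A] M))).app W.1 (tauA F M W.1 z) =
    (a • (tauA F M W.1 z) : Γ(tA F M, W.1))
  induction z using TensorProduct.induction_on with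
  | zero => rw [map_zero, map_zero, smul_zero]
  | add u v hu hv => rw [map_add, map_add, hu, hv, smul_add]
  | tmul s m =>
    refine (tauA_naturality F (ModuleCat.ofHom (a • LinearMap.id : M →ₗ[A] M)) W.1 s m).trans ?_
    show tauA F M W.1 (s ⊗ₜ[A] (a • m)) = _
    rw [TensorProduct.tmul_smul, map_smul]

theorem nonempty_gamma_iso [CompactSpace X] [X.IsSeparated] (hF : Coh.IsQCoh F)
    (P : ChainComplex (ModuleCat.{u} A) ℤ)
    (hP : Nonempty (CohIII.TFun P (-((0 : ℕ) : ℤ)) ⋙ forget₂ (ModuleCat.{u} A) AddCommGrpCat.{u} ≅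
      CohIII.tensorAFunctor A F ⋙ CohIII.HAb X 0)) :
    Nonempty (CohIII.TFun P (-((0 : ℕ) : ℤ)) ≅ CohIII.tensorAFunctor A F ⋙ CohIII.globalSectionsA A) := by
  obtain ⟨e⟩ := hP
  let s := fun (N : X.Modules) => Sheaf.H.equiv₀ (Coh.toAb N) isTerminalTop
  have hlin : ∀ (M : ModuleCat.{u} A) (a : A) (x : CohIII.T P (-((0 : ℕ) : ℤ)) M),
      e.hom.app M (a • x : CohIII.T P (-((0 : ℕ) : ℤ)) M) =
        Sheaf.H.map (Coh.smulAb (tA F M) (Coh.toGlobal π a)) 0 (e.hom.app M x) := fun M a x => by
    rw [← toSheaf_map_smul hF M a, ← tfun_map_smul _ M a x]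
    exact ConcreteCategory.congr_hom (e.hom.naturality (ModuleCat.ofHom (a • LinearMap.id : M →ₗ[A] M))) x
  let eq : ∀ M : ModuleCat.{u} A, CohIII.T P (-((0 : ℕ) : ℤ)) M ≃+
      ((CohIII.tensorAFunctor A F ⋙ CohIII.globalSectionsA A).obj M : ModuleCat.{u} A) := fun M =>
    (e.app M).addCommGroupIsoToAddEquiv.trans (s (tA F M))
  refine ⟨NatIso.ofComponents (fun M => ((eq M).toLinearEquiv fun a x => ?_).toModuleIso) fun {M N} g => ?_⟩
  · show s (tA F M) (e.hom.app M (a • x : CohIII.T P (-((0 : ℕ) : ℤ)) M)) = _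
    rw [hlin]
    refine (Sheaf.H.equiv₀_naturality isTerminalTop (Coh.smulAb (tA F M) (Coh.toGlobal π a)) _).symm.trans ?_
    refine (Coh.smulAb_app _ _ _ _).trans ?_
    show Coh.resTop X (op ⊤) (Coh.toGlobal π a) • _ = _
    rw [show Coh.resTop X (op ⊤) (Coh.toGlobal π a) = Coh.toGlobal π a from
      congr($(X.ringCatSheaf.obj.map_id (op ⊤)) (Coh.toGlobal π a))]
    rfl
  · refine ModuleCat.hom_ext (LinearMap.ext fun x => ?_)
    have h := congrArg (s (tA F N)) (ConcreteCategory.congr_hom (e.hom.naturality g) x)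
    refine h.trans ?_
    exact (Sheaf.H.equiv₀_naturality isTerminalTop
      ((SheafOfModules.toSheaf X.ringCatSheaf).map ((CohIII.tensorAFunctor A F).map g)) _).symm

end Groth.Agent.QCoh
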