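import Groth.Agent.QCoh.GodMV
import Groth.Agent.QCoh.GodHH
import Groth.Agent.QCoh.Bound
import Groth.Agent.QCoh.PullbackBC
import Mathlib.RingTheory.Flat.CategoryTheory

/-!
# Flat base change in cohomology
-/

set_option backward.isDefEq.respectTransparency false
set_option backward.isDefEq.respectTransparency.types false
set_option linter.style.haveILetI false

universe u

open CategoryTheory CategoryTheory.Limits AlgebraicGeometry TopologicalSpace Opposite

namespace Groth.Agent.QCoh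

/-- A map of complexes is bijective on zeroth homology if it is so on the kernels. -/
theorem quasiIsoAt_zero_of_aug {R : Type u} [CommRing R] {K L : CochainComplex (ModuleCat.{u} R) ℕ} (f : K ⟶ L)
    {V V' : ModuleCat.{u} R} (a : V ⟶ K.X 0) (a' : V' ⟶ L.X 0) (b : V ⟶ V') [IsIso b]
    (ha : Function.Injective a) (ha' : Function.Injective a') (h0 : a ≫ K.d 0 1 = 0) (h0' : a' ≫ L.d 0 1 = 0)
    (hs : ∀ y, K.d 0 1 y = 0 → ∃ v, a v = y) (hs' : ∀ y, L.d 0 1 y = 0 → ∃ v, a' v = y)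
    (h : a ≫ f.f 0 = b ≫ a') : QuasiIsoAt f 0 := by
  have key : ∀ (K : CochainComplex (ModuleCat.{u} R) ℕ) {V : ModuleCat.{u} R} (a : V ⟶ K.X 0)
      (h0 : a ≫ K.d 0 1 = 0), Function.Injective a → (∀ y, K.d 0 1 y = 0 → ∃ v, a v = y) →
      IsIso (K.liftCycles a 1 (by simp) h0) := fun K V a h0 ha hs => by
    rw [ConcreteCategory.isIso_iff_bijective]
    have hi : Function.Injective (K.iCycles 0) := (ModuleCat.mono_iff_injective _).1 inferInstance
    have e : ∀ v, K.iCycles 0 (K.liftCycles a 1 (by simp) h0 v) = a v := fun v =>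
      congr($(K.liftCycles_i a 1 (by simp) h0) v)
    refine ⟨fun v w hvw => ha ((e v).symm.trans ((congrArg (K.iCycles 0) hvw).trans (e w))), fun z => ?_⟩
    obtain ⟨v, hv⟩ := hs (K.iCycles 0 z) (congr($(K.iCycles_d 0 1) z))
    exact ⟨v, hi ((e v).trans hv)⟩
  haveI := key K a h0 ha hs
  haveI := key L a' h0' ha' hs'
  have hc : K.liftCycles a 1 (by simp) h0 ≫ HomologicalComplex.cyclesMap f 0 =
      b ≫ L.liftCycles a' 1 (by simp) h0' := by
    rw [← cancel_mono (L.iCycles 0)]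
    simp [h]
  haveI : IsIso (HomologicalComplex.cyclesMap f 0) := by
    haveI : IsIso (K.liftCycles a 1 (by simp) h0 ≫ HomologicalComplex.cyclesMap f 0) := by
      rw [hc]; infer_instance
    exact IsIso.of_isIso_comp_left (K.liftCycles a 1 _ h0) _
  rw [quasiIsoAt_iff_isIso_homologyMap]
  haveI := K.isIso_homologyπ 0 0 (by simp) (K.shape 0 0 (by simp))
  haveI := L.isIso_homologyπ 0 0 (by simp) (L.shape 0 0 (by simp))
  rw [show HomologicalComplex.homologyMap f 0 =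
    inv (K.homologyπ 0) ≫ HomologicalComplex.cyclesMap f 0 ≫ L.homologyπ 0 from by simp]
  infer_instance

variable {X X' : Scheme.{u}} (φ : X' ⟶ X) {A B : Type u} [CommRing A] [CommRing B] [Algebra A B]
  (ρ : A →+* Coh.Γtop X) (ρ' : B →+* Coh.Γtop X') (hρ : ∀ a, ρ' (algebraMap A B a) = φ.appTop (ρ a))
  {M : X.Modules} {M' : X'.Modules} (η : M ⟶ (Scheme.Modules.pushforward φ).obj M')

/-- The sections change base on every affine open. -/
def IsAffineBC : Prop :=
  ∀ V : X.Opens, IsAffineOpen V →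
    letI := secModule ρ M V
    letI := secModule ρ' M' (φ ⁻¹ᵁ V)
    letI := secModule (ρ'.comp (algebraMap A B)) M' (φ ⁻¹ᵁ V)
    haveI : IsScalarTower A B Γ(M', φ ⁻¹ᵁ V) := .of_algebraMap_smul fun _ _ => rfl
    IsBaseChange B (secLin ρ ρ' φ η hρ V (φ ⁻¹ᵁ V) le_rfl)

variable [Module.Flat A B] [IsAffineHom φ] (hM : Coh.IsQCoh M) (hM' : Coh.IsQCoh M')
  (hbc : IsAffineBC φ ρ ρ' hρ η)

include hM hM' hbc in
theorem quasiIso_godPsi_affine {V : X.Opens} (hV : IsAffineOpen V) :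
    QuasiIso (godPsi ρ M φ η ρ' hρ V) := by
  rw [quasiIso_iff]
  haveI := bcFunctor_preservesHomology A B
  intro i
  cases i with
  | succ n =>
    rw [quasiIsoAt_iff_exactAt']
    · exact (godCx_exactAt ρ (subsingleton_HU_of_isAffineOpen hM hV n)).map (bcFunctor A B)
    · exact godCx_exactAt ρ' (subsingleton_HU_of_isAffineOpen hM' (hV.preimage φ) n)
  | zero =>
    letI := secModule ρ M V
    letI := secModule ρ' M' (φ ⁻¹ᵁ V)
    letI := secModule (ρ'.comp (algebraMap A B)) M' (φ ⁻¹ᵁ V)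
    haveI : IsScalarTower A B Γ(M', φ ⁻¹ᵁ V) := .of_algebraMap_smul fun _ _ => rfl
    letI := secModule ρ (God (godQ M 0)) V
    letI := secModule ρ' (God (godQ M' 0)) (φ ⁻¹ᵁ V)
    let a₀ : ModuleCat.of A Γ(M, V) ⟶ (godCx ρ V M).X 0 := ModuleCat.ofHom (godAug ρ V M)
    let a' : ModuleCat.of B Γ(M', φ ⁻¹ᵁ V) ⟶ (godCx ρ' (φ ⁻¹ᵁ V) M').X 0 := ModuleCat.ofHom (godAug ρ' (φ ⁻¹ᵁ V) M')
    let b : (bcFunctor A B).obj (ModuleCat.of A Γ(M, V)) ⟶ ModuleCat.of B Γ(M', φ ⁻¹ᵁ V) :=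
      (hbc V hV).equiv.toModuleIso.hom
    haveI : IsIso b := inferInstanceAs (IsIso (hbc V hV).equiv.toModuleIso.hom)
    have hexact : Function.Exact a₀.hom ((godCx ρ V M).d 0 1).hom := fun y =>
      ⟨fun hy => (godAug_bijective ρ V M).2 y hy, by rintro ⟨x, rfl⟩; exact godAug_d ρ V M x⟩
    refine quasiIsoAt_zero_of_aug _ ((bcFunctor A B).map a₀) a' b ?_ (godAug_bijective ρ' (φ ⁻¹ᵁ V) M').1
      ?_ ?_ ?_ (godAug_bijective ρ' (φ ⁻¹ᵁ V) M').2 ?_
    · exact Module.Flat.lTensor_preserves_injective_linearMap (M := B) a₀.hom (godAug_bijective ρ V M).1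
    · show (bcFunctor A B).map a₀ ≫ (bcFunctor A B).map ((godCx ρ V M).d 0 1) = 0
      rw [← Functor.map_comp, show a₀ ≫ (godCx ρ V M).d 0 1 = 0 from
        ModuleCat.hom_ext (LinearMap.ext (godAug_d ρ V M)), Functor.map_zero]
    · exact ModuleCat.hom_ext (LinearMap.ext (godAug_d ρ' (φ ⁻¹ᵁ V) M'))
    · intro y hy
      exact (Module.Flat.lTensor_exact B hexact y).1 hy
    · let : Module A ((godCx ρ' (φ ⁻¹ᵁ V) M').X 0) := Module.compHom _ (algebraMap A B)
      have : IsScalarTower A B ((godCx ρ' (φ ⁻¹ᵁ V) M').X 0) := .of_algebraMap_smul fun _ _ => rfl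
      refine ModuleCat.hom_ext (TensorProduct.AlgebraTensorModule.ext (R := A) (A := B) (M := B) (N := Γ(M, V))
        (P := (godCx ρ' (φ ⁻¹ᵁ V) M').X 0) fun s (m : Γ(M, V)) => ?_)
      show (adjunct ((godCxMap φ η ρ ρ' hρ le_rfl).f 0)).hom (TensorProduct.tmul A s (a₀.hom m)) =
        a'.hom ((hbc V hV).equiv (TensorProduct.tmul A s m))
      rw [IsBaseChange.equiv_tmul]
      refine (adjunct_tmul _ s _).trans (Eq.trans ?_ (a'.hom.map_smul s _).symm)
      exact congrArg (s • ·) (godCxMap_aug φ η ρ ρ' hρ le_rfl m)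

include hM hM' hbc in
theorem quasiIso_godPsi_basic {V : X.Opens} (hV : IsAffineOpen V) :
    ∀ (t : ℕ) (g : Fin t → Γ(X, V)), QuasiIso (godPsi ρ M φ η ρ' hρ (⨆ i, X.basicOpen (g i))) := by
  intro t
  induction t with
  | zero =>
    intro g
    rw [iSup_of_empty]
    exact quasiIso_godPsi_affine φ ρ ρ' hρ η hM hM' hbc (isAffineOpen_bot X)
  | succ t ih =>
    intro g
    rw [show (⨆ i, X.basicOpen (g i)) = X.basicOpen (g 0) ⊔ ⨆ i : Fin t, X.basicOpen (g i.succ) from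
      le_antisymm (iSup_le fun i => Fin.cases le_sup_left
        (fun j => le_sup_of_le_right (le_iSup (fun i : Fin t => X.basicOpen (g i.succ)) j)) i)
        (sup_le (le_iSup (fun i => X.basicOpen (g i)) 0) (iSup_le fun i => le_iSup (fun i => X.basicOpen (g i)) i.succ))]
    refine quasiIso_godPsi_sup ρ M φ η ρ' hρ _ _
      (quasiIso_godPsi_affine φ ρ ρ' hρ η hM hM' hbc (hV.basicOpen (g 0))) (ih fun i => g i.succ) ?_
    rw [inf_iSup_eq, show (fun i : Fin t => X.basicOpen (g 0) ⊓ X.basicOpen (g i.succ)) =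
      fun i : Fin t => X.basicOpen (g 0 * g i.succ) from funext fun i => (X.basicOpen_mul _ _).symm]
    exact ih _

include hM hM' hbc in
theorem quasiIso_godPsi_of_le {V W : X.Opens} (hV : IsAffineOpen V) (hW : IsCompact (W : Set X)) (hWV : W ≤ V) :
    QuasiIso (godPsi ρ M φ η ρ' hρ W) := by
  have h : ∀ x : W, ∃ g : Γ(X, V), X.basicOpen g ≤ W ∧ x.1 ∈ X.basicOpen g := fun x =>
    hV.exists_basicOpen_le ⟨x.1, x.2⟩ (hWV x.2)
  choose g hg hxg using h
  obtain ⟨s, hs⟩ := hW.elim_finite_subcover (fun x : W => (X.basicOpen (g x) : Set X))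
    (fun x => (X.basicOpen (g x)).2) (fun x hx => Set.mem_iUnion.2 ⟨⟨x, hx⟩, hxg ⟨x, hx⟩⟩)
  have e : (⨆ i, X.basicOpen (g (s.equivFin.symm i).1)) = W := by
    refine le_antisymm (iSup_le fun i => hg _) fun x hx => ?_
    obtain ⟨y, hy, hxy⟩ := Set.mem_iUnion₂.1 (hs hx)
    exact Opens.mem_iSup.2 ⟨s.equivFin ⟨y, hy⟩, by rw [Equiv.symm_apply_apply]; exact hxy⟩
  rw [← e]
  exact quasiIso_godPsi_basic φ ρ ρ' hρ η hM hM' hbc hV _ _

include hM hM' hbc in
theorem quasiIso_godPsi_qc [QuasiSeparatedSpace X] :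
    ∀ (t : ℕ) (U : Fin t → X.Opens), (∀ i, IsAffineOpen (U i)) →
      QuasiIso (godPsi ρ M φ η ρ' hρ (⨆ i, U i)) := by
  intro t
  induction t with
  | zero =>
    intro U _
    rw [iSup_of_empty]
    exact quasiIso_godPsi_affine φ ρ ρ' hρ η hM hM' hbc (isAffineOpen_bot X)
  | succ t ih =>
    intro U hU
    rw [show (⨆ i, U i) = U 0 ⊔ ⨆ i : Fin t, U i.succ from
      le_antisymm (iSup_le fun i => Fin.cases le_sup_left
        (fun j => le_sup_of_le_right (le_iSup (fun i : Fin t => U i.succ) j)) i)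
        (sup_le (le_iSup _ _) (iSup_le fun i => le_iSup _ _))]
    refine quasiIso_godPsi_sup ρ M φ η ρ' hρ _ _ (quasiIso_godPsi_affine φ ρ ρ' hρ η hM hM' hbc (hU 0))
      (ih _ fun i => hU i.succ) (quasiIso_godPsi_of_le φ ρ ρ' hρ η hM hM' hbc (hU 0) ?_ inf_le_left)
    rw [Opens.coe_inf, Opens.coe_iSup, Set.inter_iUnion]
    exact isCompact_iUnion fun i =>
      QuasiSeparatedSpace.inter_isCompact _ _ (U 0).2 (hU 0).isCompact (U i.succ).2 (hU i.succ).isCompact

include hρ hM hM' hbc in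
/-- Flat base change in cohomology on a quasi-compact quasi-separated scheme. -/
theorem HH_baseChange_qcqs [CompactSpace X] [QuasiSeparatedSpace X] (n : ℕ) :
    letI := modHH ρ M n
    letI := modHH ρ' M' n
    Nonempty (TensorProduct A B (Coh.HH X M n) ≃ₗ[B] Coh.HH X' M' n) := by
  let := modHH ρ M n
  let := modHH ρ' M' n
  obtain ⟨s, hs, hcov⟩ := isCompact_iff_finite_and_eq_biUnion_affineOpens.mp
    (show IsCompact ((⊤ : X.Opens) : Set X) from isCompact_univ)
  let U : Fin hs.toFinset.card → X.Opens := fun i => (hs.toFinset.equivFin.symm i).1.1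
  have hU : (⨆ i, U i) = ⊤ := by
    rw [hcov]
    refine le_antisymm (iSup_le fun i => ?_) (iSup₂_le fun W hW => ?_)
    · exact le_iSup₂ (f := fun (W : X.affineOpens) (_ : W ∈ s) => W.1) _
        (hs.mem_toFinset.1 (hs.toFinset.equivFin.symm i).2)
    · refine le_trans ?_ (le_iSup U (hs.toFinset.equivFin ⟨W, hs.mem_toFinset.2 hW⟩))
      simp [U]
  have hq : QuasiIso (godPsi ρ M φ η ρ' hρ ⊤) := by
    rw [← hU]
    exact quasiIso_godPsi_qc φ ρ ρ' hρ η hM hM' hbc _ U fun i => (hs.toFinset.equivFin.symm i).1.2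
  obtain ⟨e⟩ := godCx_homology_equiv ρ M n
  obtain ⟨e'⟩ := godCx_homology_equiv ρ' M' n
  haveI := bcFunctor_preservesHomology A B
  let i₁ := (((godCx ρ ⊤ M).sc n).mapHomologyIso (bcFunctor A B)).symm
  let i₂ := isoOfQuasiIsoAt (godPsi ρ M φ η ρ' hρ ⊤) n
  exact ⟨(LinearEquiv.baseChange A B _ _ e.symm).trans ((i₁ ≪≫ i₂).toLinearEquiv.trans e')⟩

end Groth.Agent.QCoh
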