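import Groth.Agent.H23.RigidInf
import Groth.Agent.FFun.GenPowers
import Groth.Agent.QCoh.GodHH
import Groth.Agent.QCoh.ClosedPush
import Groth.Agent.QCoh.RpushProper
import Groth.Agent.QCoh.Qcqs
import Groth.Agent.H23.RatExtend
import Groth.Prelude.Def_ega3
import Groth.Agent.S0002

/-!
# `O_Y = f_* O_X` near a fibre with constant global functions
-/

set_option linter.style.haveILetI false
set_option maxHeartbeats 1000000

universe u

open CategoryTheory CategoryTheory.Limits AlgebraicGeometry TopologicalSpace Opposite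
open Groth.Agent.H23.RigidInf

namespace Groth.Agent.QCoh.UnitPush

section

variable {A : Type u} [CommRing A] {X : Scheme.{u}} (p : X ⟶ Spec (CommRingCat.of A)) [IsLocalRing A]
  {k : Type u} [Field k] (φ : A →+* k) (hφ : Function.Surjective φ)

include hφ in
/-- Dévissage: compatible families modulo any ideal are constant. -/
lemma exists_const_of_pow_le [IsNoetherianRing A] [Flat p] {N : ℕ}
    (h : Function.Bijective (pullback.snd p (Spec.map (CommRingCat.ofHom φ))).appTop) (J : Ideal A) :
    IsLocalRing.maximalIdeal A ^ N ≤ J → ∀ g : ∀ U : X.affineOpens, Γ(X, (U : X.Opens)), Compat p J g →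
      ∃ c : A, ∀ U : X.affineOpens, g U - α p _ c ∈ J.map (α p (U : X.Opens)) := by
  induction J using WellFoundedGT.induction with
  | _ J ih =>
  intro hN g hg
  by_cases hJ : J = ⊤
  · exact ⟨0, fun U => by rw [hJ, Ideal.map_top]; trivial⟩
  classical
  obtain ⟨ε, hεJ, hε⟩ : ∃ ε, ε ∉ J ∧ ∀ a ∈ IsLocalRing.maximalIdeal A, a * ε ∈ J := by
    have hex : ∃ n, IsLocalRing.maximalIdeal A ^ n ≤ J := ⟨N, hN⟩
    have hpos : Nat.find hex ≠ 0 := fun h0 => hJ (by simpa [h0, top_le_iff] using Nat.find_spec hex)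
    obtain ⟨ε, hε, hεJ⟩ := SetLike.not_le_iff_exists.mp
      (Nat.find_min hex (Nat.sub_one_lt hpos))
    refine ⟨ε, hεJ, fun a ha => Nat.find_spec hex ?_⟩
    rw [← Nat.succ_pred_eq_of_ne_zero hpos, pow_succ']
    exact Ideal.mul_mem_mul ha hε
  let J' := J ⊔ Ideal.span {ε}
  have hlt : J < J' := lt_of_le_not_ge le_sup_left fun hle =>
    hεJ (hle (Ideal.mem_sup_right (Ideal.mem_span_singleton_self ε)))
  obtain ⟨c', hc'⟩ := ih J' hlt (hN.trans le_sup_left) g (fun U W hle => Ideal.map_mono le_sup_left (hg U W hle))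
  have hsplit : ∀ U : X.affineOpens, ∃ b : Γ(X, (U : X.Opens)), g U - α p _ c' - b * α p _ ε ∈ J.map (α p (U : X.Opens)) := by
    intro U
    have := hc' U
    simp only [J', Ideal.map_sup, Ideal.map_span, Set.image_singleton] at this
    obtain ⟨j, hj, e, he, hje⟩ := Submodule.mem_sup.mp this
    obtain ⟨b, rfl⟩ := Ideal.mem_span_singleton'.mp he
    exact ⟨b, by rw [← hje, add_sub_cancel_right]; exact hj⟩
  choose b hb using hsplit
  have hbc : Compat p (IsLocalRing.maximalIdeal A) b := by
    intro U W hle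
    refine mem_maximal_map_of_mul_mem (α p _) (flat_α p W.2) hεJ ?_
    have e1 : X.presheaf.map (homOfLE hle).op (g U - α p _ c' - b U * α p _ ε) ∈ J.map (α p (W : X.Opens)) := by
      have := Ideal.mem_map_of_mem (X.presheaf.map (homOfLE hle).op).hom (hb U)
      rw [Ideal.map_map, show (X.presheaf.map (homOfLE hle).op).hom.comp (α p (U : X.Opens)) = α p (W : X.Opens) from
        RingHom.ext (map_α p hle)] at this
      exact this
    have e2 := sub_mem (sub_mem e1 (hb W)) (hg U W hle)
    simp only [map_sub, map_mul, map_α] at e2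
    rw [← neg_mem_iff]
    convert e2 using 1
    ring
  obtain ⟨c'', hc''⟩ := exists_const_mod_maximal p φ hφ h b hbc
  refine ⟨c' + c'' * ε, fun U => ?_⟩
  have h1 : (b U - α p _ c'') * α p _ ε ∈ J.map (α p (U : X.Opens)) := by
    refine Submodule.span_induction (p := fun x _ => x * α p _ ε ∈ J.map (α p (U : X.Opens))) ?_ ?_ ?_ ?_ (hc'' U)
    · rintro _ ⟨a, ha, rfl⟩
      rw [← map_mul]
      exact Ideal.mem_map_of_mem _ (hε a ha)
    · simp
    · intro x y _ _ hx hy; rw [add_mul]; exact add_mem hx hy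
    · intro r x _ hx; rw [smul_eq_mul, mul_assoc]; exact Ideal.mul_mem_left _ r hx
  have := add_mem (hb U) h1
  convert this using 1
  simp only [map_add, map_mul]
  ring

end

set_option backward.isDefEq.respectTransparency false
set_option backward.isDefEq.respectTransparency.types false

section

open Groth.Agent.FFun.Gen

variable {A : Type u} [CommRing A] [IsNoetherianRing A] [IsLocalRing A] {X : Scheme.{u}}
  [X.Over (Spec (CommRingCat.of A))]

local notation "π" => (X ↘ Spec (CommRingCat.of A))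

theorem α_eq (U : X.Opens) (a : A) :
    α π U a = X.presheaf.map (homOfLE (le_top : U ≤ ⊤)).op (Coh.toGlobal π a) := by
  show (π).appLE ⊤ U le_top ((Scheme.ΓSpecIso (CommRingCat.of A)).inv a) = _
  rw [Scheme.Hom.appLE]
  rfl

theorem modPowπ_app_eq_zero (J : Ideal A) (U : X.Opens) (z : Γ(X, U)) (hz : z ∈ J.map (α π U)) :
    (cokernel.π (Formal.smulFamily J (Coh.structureModule X))).app U z = 0 := by
  let C := cokernel.π (Formal.smulFamily J (Coh.structureModule X))
  suffices H : ∀ r : Γ(X, U), C.app U (r * z : Γ(X, U)) = 0 by simpa using H 1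
  refine Submodule.span_induction (p := fun w _ => ∀ r : Γ(X, U), C.app U (r * w : Γ(X, U)) = 0) ?_ ?_ ?_ ?_ hz
  · rintro _ ⟨a, ha, rfl⟩ r
    have h2 : Formal.smulMod A (Coh.structureModule X) a ≫ C = 0 := by
      have hι : Sigma.ι (fun _ : J => Coh.structureModule X) ⟨a, ha⟩ ≫ Formal.smulFamily J (Coh.structureModule X) =
          Formal.smulMod A (Coh.structureModule X) a := Sigma.ι_desc _ _
      rw [← hι, Category.assoc, cokernel.condition, comp_zero]
    rw [α_eq, mul_comm]
    exact congr(($h2).app U r)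
  · intro r; rw [mul_zero]; exact map_zero _
  · intro a b _ _ ha hb r; rw [mul_add]; exact (map_add _ _ _).trans (by rw [ha r, hb r, add_zero])
  · intro t a _ ha r; rw [smul_eq_mul, ← mul_assoc]; exact ha _

theorem bijective_α_of_local [IsProper π] [Flat π]
    (h : Function.Bijective (pullback.snd π (Spec.map (CommRingCat.ofHom (IsLocalRing.residue A)))).appTop) :
    Function.Bijective (α π ⊤) := by
  let M := Coh.structureModule X
  have hcpt : CompactSpace X := QuasiCompact.compactSpace_of_compactSpace π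
  haveI : IsLocallyNoetherian X := LocallyOfFiniteType.isLocallyNoetherian π
  have hM : Coh.IsCoh M := isCoh_structureModule'
  refine ⟨(injective_iff_map_eq_zero _).mpr fun c hc => ?_, fun g => ?_⟩
  · by_contra hne
    let t := Spec.map (CommRingCat.ofHom (IsLocalRing.residue A))
    let i := pullback.fst π t
    have hne' : Nonempty ↥(pullback π t) := by
      by_contra hem
      rw [not_nonempty_iff] at hem
      have htop : (⊤ : (pullback π t).Opens) = ⊥ := Subsingleton.elim _ _
      have : Subsingleton Γ(pullback π t, ⊤) := by rw [htop]; infer_instance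
      have : Subsingleton Γ(Spec (CommRingCat.of (IsLocalRing.ResidueField A)), ⊤) := h.1.subsingleton
      have : Subsingleton (IsLocalRing.ResidueField A) :=
        (ConcreteCategory.bijective_of_isIso (Scheme.ΓSpecIso (CommRingCat.of (IsLocalRing.ResidueField A))).inv).1.subsingleton
      exact not_nontrivial (IsLocalRing.ResidueField A) inferInstance
    obtain ⟨x⟩ := hne'
    obtain ⟨_, ⟨U, hU, rfl⟩, hx, -⟩ := X.isBasis_affineOpens.exists_subset_of_mem_open (Set.mem_univ (i x)) isOpen_univ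
    have h0 : α π U c = 0 := by rw [← map_α π (le_top : U ≤ ⊤), hc, map_zero]
    have h1 : (1 : Γ(X, U)) ∈ (IsLocalRing.maximalIdeal A).map (α π U) :=
      mem_maximal_map_of_mul_mem (α π U) (flat_α π hU) (J := ⊥) (ε := c) (by simpa using hne) (by simp [h0])
    have hle : (IsLocalRing.maximalIdeal A).map (α π U) ≤ RingHom.ker (i.app U).hom := by
      refine Ideal.map_le_iff_le_comap.mpr fun a ha => ?_
      have e1 : (Scheme.ΓSpecIso (CommRingCat.of A)).inv ≫ (π).appLE ⊤ U le_top ≫ i.app U =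
          CommRingCat.ofHom (IsLocalRing.residue A) ≫ (Scheme.ΓSpecIso (CommRingCat.of (IsLocalRing.ResidueField A))).inv ≫
            (pullback.snd π t).appLE ⊤ (i ⁻¹ᵁ U) le_top := by
        rw [Scheme.Hom.app_eq_appLE, Scheme.Hom.appLE_comp_appLE, Scheme.ΓSpecIso_inv_naturality_assoc,
          show (Spec.map (CommRingCat.ofHom (IsLocalRing.residue A))).appTop = t.appLE ⊤ ⊤ le_top by
            simp [t, Scheme.Hom.appLE],
          Scheme.Hom.appLE_comp_appLE]
        congr 2
        exact pullback.condition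
      rw [Ideal.mem_comap, RingHom.mem_ker]
      refine (ConcreteCategory.congr_hom e1 a).trans ?_
      rw [ConcreteCategory.comp_apply, CommRingCat.ofHom_apply, IsLocalRing.residue_eq_zero_iff a |>.2 ha, map_zero]
    have h3 : (i.app U) (1 : Γ(X, U)) = 0 := hle h1
    rw [map_one] at h3
    have : Nonempty (i ⁻¹ᵁ U) := ⟨⟨x, hx⟩⟩
    exact one_ne_zero h3
  · letI := secModule (Coh.toGlobal π) M ⊤
    let e := secH (Coh.toGlobal π) M
    let m := IsLocalRing.maximalIdeal A
    haveI := Groth.Agent.S0002.result A X M hM 0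
    obtain ⟨d, hd⟩ := exists_powBound hM m 0
    have hα : ∀ c : A, e (show Γ(M, ⊤) from α π ⊤ c) = c • e (show Γ(M, ⊤) from (1 : Γ(X, ⊤))) := fun c => by
      rw [← map_smul]
      refine congrArg e ?_
      show α π ⊤ c = X.presheaf.map (homOfLE (le_top : (⊤ : X.Opens) ≤ ⊤)).op (Coh.toGlobal π c) * 1
      rw [mul_one, α_eq]
    suffices H : Submodule.span A {e (show Γ(M, ⊤) from (1 : Γ(X, ⊤)))} = ⊤ by
      obtain ⟨c, hc⟩ := Submodule.mem_span_singleton.1 (show e (show Γ(M, ⊤) from g) ∈ Submodule.span A {e (show Γ(M, ⊤) from (1 : Γ(X, ⊤)))} by rw [H]; trivial)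
      exact ⟨c, e.injective ((hα c).trans hc)⟩
    refine eq_top_iff.2 (Submodule.le_of_le_smul_of_le_jacobson_bot Module.Finite.fg_top
      (IsLocalRing.maximalIdeal_le_jacobson _) fun y _ => ?_)
    obtain ⟨b, rfl⟩ := e.surjective y
    let gU : ∀ U : X.affineOpens, Γ(X, (U : X.Opens)) := fun U => X.presheaf.map (homOfLE le_top).op (show Γ(X, ⊤) from b)
    obtain ⟨c, hc⟩ := exists_const_of_pow_le π (IsLocalRing.residue A) IsLocalRing.residue_surjective (N := d + 1) h
      (m ^ (d + 1)) le_rfl gU (fun U W hle => by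
        have e0 : X.presheaf.map (homOfLE hle).op (gU U) - gU W = 0 := by
          rw [sub_eq_zero]
          simp only [gU, ← ConcreteCategory.comp_apply, ← Functor.map_comp, ← op_comp, homOfLE_comp]
        rw [e0]; exact zero_mem _)
    let x : Γ(M, ⊤) := show Γ(X, ⊤) from (show Γ(X, ⊤) from b) - α π ⊤ c
    have hx0 : (Formal.modPowπ m (d + 1) M).app ⊤ x = 0 := by
      let Q := Formal.modPow m (d + 1) M
      refine TopCat.Sheaf.eq_of_locally_eq' ⟨Q.presheaf, Q.isSheaf⟩ (fun U : X.affineOpens => (U : X.Opens)) ⊤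
        (fun U => homOfLE le_top) (fun z _ => by
          obtain ⟨_, ⟨U, hU, rfl⟩, hz, -⟩ := X.isBasis_affineOpens.exists_subset_of_mem_open (Set.mem_univ z) isOpen_univ
          exact Opens.mem_iSup.mpr ⟨⟨U, hU⟩, hz⟩) _ _ fun U => ?_
      refine Eq.trans ?_ (map_zero _).symm
      refine (map_app_comm (Formal.modPowπ m (d + 1) M) (homOfLE le_top) x).symm.trans ?_
      refine modPowπ_app_eq_zero (m ^ (d + 1)) U.1 _ ?_
      show X.presheaf.map (homOfLE le_top).op ((show Γ(X, ⊤) from b) - α π ⊤ c) ∈ _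
      rw [map_sub, map_α]
      exact hc U
    have hx1 : e x ∈ (Formal.toHHmodPow m M 0 d).ker := by
      apply (Sheaf.H.equiv₀ (Coh.toAb (Formal.modPow m (d + 1) M)) isTerminalTop).injective
      refine ((Sheaf.H.equiv₀_naturality isTerminalTop ((toAbFunctor X).map (Formal.modPowπ m (d + 1) M)) _).symm.trans ?_).trans (map_zero _).symm
      refine (congrArg _ ((Sheaf.H.equiv₀ (Coh.toAb M) isTerminalTop).apply_symm_apply x)).trans ?_
      exact hx0
    rw [mem_ker_toHHmodPow, range_ιH_succ hd le_rfl] at hx1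
    have hx2 : e x ∈ m • (⊤ : Submodule A (Coh.HH X M 0)) := Submodule.smul_mono le_rfl le_top hx1
    have hb : e b = c • e (show Γ(M, ⊤) from (1 : Γ(X, ⊤))) + e x := by
      rw [← hα, ← map_add]
      refine congrArg e ?_
      show (show Γ(X, ⊤) from b) = α π ⊤ c + ((show Γ(X, ⊤) from b) - α π ⊤ c)
      rw [add_sub_cancel]
    rw [hb]
    exact add_mem (Submodule.mem_sup_left (Submodule.smul_mem _ _ (Submodule.mem_span_singleton_self _)))
      (Submodule.mem_sup_right hx2)

end

section

variable {X Y : Scheme.{u}} (f : X ⟶ Y)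

theorem bijective_α_stalk [IsProper f] [Flat f] [IsLocallyNoetherian Y] (y : Y)
    (hy : Function.Bijective (algebraMap (Y.residueField y) Γ(f.fiber y, ⊤))) :
    Function.Bijective (pullback.snd f (Y.fromSpecStalk y)).appTop := by
  let p : pullback f (Y.fromSpecStalk y) ⟶ Spec (CommRingCat.of (Y.presheaf.stalk y)) := pullback.snd f (Y.fromSpecStalk y)
  letI : (pullback f (Y.fromSpecStalk y)).Over (Spec (CommRingCat.of (Y.presheaf.stalk y))) := ⟨p⟩
  let t := Spec.map (CommRingCat.ofHom (IsLocalRing.residue (Y.presheaf.stalk y)))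
  let π := pullback f (Y.fromSpecStalk y) ↘ Spec (CommRingCat.of (Y.presheaf.stalk y))
  haveI : IsProper π := inferInstanceAs (IsProper (pullback.snd f (Y.fromSpecStalk y)))
  haveI : Flat π := inferInstanceAs (Flat (pullback.snd f (Y.fromSpecStalk y)))
  have hb : Function.Bijective (f.fiberToSpecResidueField y).appTop := by
    have h2 := hy.comp (ConcreteCategory.bijective_of_isIso (Scheme.ΓSpecIso (Y.residueField y)).hom)
    convert h2 using 1
    funext z
    show _ = (f.fiberToSpecResidueField y).appTop ((Scheme.ΓSpecIso (Y.residueField y)).inv _)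
    exact (congrArg _ ((Scheme.ΓSpecIso (Y.residueField y)).hom_inv_id_apply z)).symm
  have hs0 : Function.Bijective (pullback.snd (pullback.snd f (Y.fromSpecStalk y)) t).appTop := by
    let e := pullbackLeftPullbackSndIso f (Y.fromSpecStalk y) t
    have he : e.hom ≫ pullback.snd f (t ≫ Y.fromSpecStalk y) = pullback.snd (pullback.snd f (Y.fromSpecStalk y)) t :=
      pullbackLeftPullbackSndIso_hom_snd f (Y.fromSpecStalk y) t
    rw [← he, Scheme.Hom.comp_appTop]
    exact (ConcreteCategory.bijective_of_isIso e.hom.appTop).comp hb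
  have hs : Function.Bijective (pullback.snd π t).appTop := hs0
  have h := bijective_α_of_local hs
  have h1 : (π).appTop = (Scheme.ΓSpecIso (CommRingCat.of (Y.presheaf.stalk y))).hom ≫ CommRingCat.ofHom (α π ⊤) := by
    ext a
    simp [α, Scheme.Hom.appLE]
  show Function.Bijective (π).appTop
  rw [h1]
  exact h.comp (ConcreteCategory.bijective_of_isIso (Scheme.ΓSpecIso (CommRingCat.of (Y.presheaf.stalk y))).hom)

/-- Functions on the preimage of an affine open, in the local ring. -/
theorem exists_killer [IsProper f] [Flat f] [IsLocallyNoetherian Y] {y : Y} {V : Y.Opens} (hV : IsAffineOpen V)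
    (hyV : y ∈ V) (hy : Function.Bijective (algebraMap (Y.residueField y) Γ(f.fiber y, ⊤))) :
    ∃ r : Γ(Y, V), y ∈ Y.basicOpen r ∧ (∀ a, f.app V a = 0 → r * a = 0) ∧
      ∀ b, ∃ a, f.app V a = f.app V r * b := by
  let p := (hV.primeIdealOf ⟨y, hyV⟩).asIdeal
  let A0 := Γ(Y, V)
  let B0 := Γ(X, f ⁻¹ᵁ V)
  haveI : IsNoetherianRing A0 := IsLocallyNoetherian.component_noetherian ⟨V, hV⟩
  letI : Algebra A0 B0 := (f.app V).hom.toAlgebra
  haveI : Module.Finite A0 B0 := by
    let U := f ⁻¹ᵁ V
    letI : (U : Scheme.{u}).Over (Spec (CommRingCat.of A0)) := ⟨overSpec f hV⟩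
    haveI : IsProper ((U : Scheme.{u}) ↘ Spec (CommRingCat.of A0)) := by
      show IsProper ((f ∣_ V) ≫ hV.isoSpec.hom)
      infer_instance
    haveI : IsLocallyNoetherian (U : Scheme.{u}) := LocallyOfFiniteType.isLocallyNoetherian ((U : Scheme.{u}) ↘ Spec (CommRingCat.of A0))
    have hfin := Groth.Agent.S0002.result A0 (U : Scheme.{u}) (Coh.structureModule _) isCoh_structureModule' 0
    letI := secModule (Coh.toGlobal ((U : Scheme.{u}) ↘ Spec (CommRingCat.of A0))) (Coh.structureModule (U : Scheme.{u})) ⊤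
    have hfin' := Module.Finite.equiv (secH (Coh.toGlobal ((U : Scheme.{u}) ↘ Spec (CommRingCat.of A0))) (Coh.structureModule (U : Scheme.{u}))).symm
    let σ := U.ι.appLE U ⊤ U.ι_preimage_self.ge
    have hσ : Function.Bijective σ := by
      have : IsIso σ := inferInstance
      exact ConcreteCategory.bijective_of_isIso σ
    let l : B0 →ₗ[A0] Γ((Coh.structureModule (U : Scheme.{u})), ⊤) :=
      { toFun := fun b => (show Γ((U : Scheme.{u}), ⊤) from σ b)
        map_add' := map_add σ.hom
        map_smul' := fun r b => by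
          show σ (f.app V r * b) = (U : Scheme.{u}).presheaf.map (homOfLE (le_top : (⊤ : (U : Scheme.{u}).Opens) ≤ ⊤)).op
            (Coh.toGlobal (overSpec f hV) r) * σ b
          rw [map_mul, toGlobal_overSpec]
          congr 1
          rw [Subsingleton.elim (homOfLE (le_top : (⊤ : (U : Scheme.{u}).Opens) ≤ ⊤)) (𝟙 _), op_id, CategoryTheory.Functor.map_id]
          rfl }
    exact Module.Finite.equiv (LinearEquiv.ofBijective l hσ).symm
  letI : Algebra A0 (Y.presheaf.stalk y) := stalkAlg hyV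
  haveI : IsLocalization p.primeCompl (Y.presheaf.stalk y) := isLocalization_stalk' hV hyV
  let T := Spec (Y.presheaf.stalk y)
  let g := Y.fromSpecStalk y
  haveI : Flat g := H23.RatExtend.flat_fromSpecStalk Y y
  have hgT : (⊤ : T.Opens) ≤ g ⁻¹ᵁ V := by
    intro z _
    show g z ∈ V
    have hz : g z ∈ Set.range g := ⟨z, rfl⟩
    rw [Scheme.range_fromSpecStalk] at hz
    exact hz.mem_open V.2 hyV
  have hY : (⊤ : (pullback f g).Opens) = pullback.fst f g ⁻¹ᵁ (f ⁻¹ᵁ V) ⊓ pullback.snd f g ⁻¹ᵁ ⊤ := by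
    refine (top_le_iff.1 (le_inf (fun z _ => ?_) fun _ _ => trivial)).symm
    show f (pullback.fst f g z) ∈ V
    rw [← Scheme.Hom.comp_apply, pullback.condition, Scheme.Hom.comp_apply]
    exact hgT trivial
  have hiso := isIso_pushoutSection_of_isQuasiSeparated_of_flat_right (IsPullback.of_hasPullback f g)
    (US := V) (UT := ⊤) (UX := f ⁻¹ᵁ V) hgT le_rfl hY hV (isAffineOpen_top _)
    (f.isCompact_preimage hV.isCompact) (f.isQuasiSeparated_preimage hV.isQuasiSeparated)
  rw [isIso_pushoutSection_iff] at hiso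
  let R1 := Γ(T, ⊤)
  let B1 := Γ(pullback f g, ⊤)
  let rA : A0 →+* R1 := (g.appLE V ⊤ hgT).hom
  let rB : B0 →+* B1 := ((pullback.fst f g).appLE (f ⁻¹ᵁ V) ⊤ (hY.le.trans inf_le_left)).hom
  let q : R1 →+* B1 := ((pullback.snd f g).appLE ⊤ ⊤ le_top).hom
  have hq : Function.Bijective q := by
    have := bijective_α_stalk f y hy
    have e : (pullback.snd f g).appLE ⊤ ⊤ le_top = (pullback.snd f g).appTop := by
      simp [Scheme.Hom.appLE, Scheme.Hom.appTop]
    show Function.Bijective ((pullback.snd f g).appLE ⊤ ⊤ le_top)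
    rw [e]; exact this
  letI : Algebra A0 R1 := rA.toAlgebra
  letI : Algebra B0 B1 := rB.toAlgebra
  letI : Algebra R1 B1 := q.toAlgebra
  letI : Algebra A0 B1 := (q.comp rA).toAlgebra
  haveI : IsScalarTower A0 R1 B1 := IsScalarTower.of_algebraMap_eq fun _ => rfl
  have hw : rB.comp (f.app V).hom = q.comp rA := by
    have := hiso.w
    rw [← Scheme.Hom.app_eq_appLE] at this
    exact congrArg CommRingCat.Hom.hom this
  haveI : IsScalarTower A0 B0 B1 := IsScalarTower.of_algebraMap_eq fun a => (RingHom.congr_fun hw a).symm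
  haveI : IsLocalization p.primeCompl R1 := by
    have hA : rA = (Scheme.ΓSpecIso (Y.presheaf.stalk y)).inv.hom.comp (algebraMap A0 (Y.presheaf.stalk y)) := by
      have : g.appLE V ⊤ hgT = Y.presheaf.germ V y hyV ≫ (Scheme.ΓSpecIso (Y.presheaf.stalk y)).inv := by
        rw [Scheme.Hom.appLE, Scheme.fromSpecStalk_app hyV, Category.assoc, Category.assoc, ← Functor.map_comp,
          Subsingleton.elim (_ ≫ _) (𝟙 (op (⊤ : T.Opens))), CategoryTheory.Functor.map_id, Category.comp_id]
      exact congrArg CommRingCat.Hom.hom this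
    exact IsLocalization.isLocalization_of_algEquiv p.primeCompl
      (AlgEquiv.ofRingEquiv (f := (Scheme.ΓSpecIso (Y.presheaf.stalk y)).symm.commRingCatIsoToRingEquiv)
        fun a => (RingHom.congr_fun hA a).symm)
  haveI : Algebra.IsPushout A0 B0 R1 B1 := by
    refine CommRingCat.isPushout_iff_isPushout.mp ?_
    rw [← Scheme.Hom.app_eq_appLE] at hiso
    exact hiso
  haveI hloc : IsLocalizedModule p.primeCompl (IsScalarTower.toAlgHom A0 B0 B1).toLinearMap :=
    (isLocalizedModule_iff_isBaseChange p.primeCompl R1 _).2 (Algebra.IsPushout.symm ‹Algebra.IsPushout A0 B0 R1 B1›).out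
  -- one element killing kernel and cokernel
  let φ : A0 →ₗ[A0] B0 := Algebra.linearMap A0 B0
  have hker : ∀ a ∈ LinearMap.ker φ, ∃ r : p.primeCompl, (r : A0) • a = 0 := fun a ha => by
    have h1 : q (rA a) = 0 := by
      rw [← RingHom.comp_apply, ← hw, RingHom.comp_apply]
      exact (congrArg rB (show f.app V a = 0 from ha)).trans (map_zero _)
    have h2 : algebraMap A0 R1 a = 0 := hq.1 (h1.trans (map_zero q).symm)
    obtain ⟨r, hr⟩ := (IsLocalization.map_eq_zero_iff p.primeCompl R1 a).1 h2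
    exact ⟨r, hr⟩
  have hcok : ∀ b : B0, ∃ r : p.primeCompl, (r : A0) • b ∈ LinearMap.range φ := fun b => by
    obtain ⟨z, hz⟩ := hq.2 (rB b)
    obtain ⟨⟨a, s⟩, hs⟩ := IsLocalization.surj p.primeCompl z
    have h1 : (IsScalarTower.toAlgHom A0 B0 B1).toLinearMap ((s : A0) • b) =
        (IsScalarTower.toAlgHom A0 B0 B1).toLinearMap (φ a) := by
      show rB (f.app V (s : A0) * b) = rB (f.app V a)
      rw [map_mul, ← hz, show rB (f.app V (s : A0)) = q (rA s) from RingHom.congr_fun hw s,
        show rB (f.app V a) = q (rA a) from RingHom.congr_fun hw a, ← map_mul]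
      exact congrArg q ((mul_comm _ _).trans hs)
    obtain ⟨c, hc⟩ := IsLocalizedModule.exists_of_eq (S := p.primeCompl) h1
    refine ⟨c * s, c • a, ?_⟩
    simp only [Submonoid.coe_mul, mul_smul]
    exact (φ.map_smul (c : A0) a).trans hc.symm
  obtain ⟨r₁, hr₁⟩ : ∃ r : p.primeCompl, ∀ a ∈ LinearMap.ker φ, (r : A0) • a = 0 := by
    obtain ⟨S, hS⟩ := IsNoetherian.noetherian (LinearMap.ker φ)
    choose r hr using fun a : (S : Set A0) => hker a.1 (hS ▸ Submodule.subset_span a.2)
    refine ⟨∏ a, r a, fun a ha => ?_⟩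
    rw [← hS] at ha
    refine Submodule.span_induction (p := fun a _ => ((∏ a, r a : p.primeCompl) : A0) • a = 0) (fun a ha => ?_) (smul_zero _) (fun a b _ _ x y => by rw [smul_add, x, y, add_zero])
      (fun c a _ x => by rw [smul_comm, x, smul_zero]) ha
    obtain ⟨c, hc⟩ := Finset.dvd_prod_of_mem r (Finset.mem_univ (⟨a, ha⟩ : (S : Set A0)))
    rw [hc, mul_comm, Submonoid.coe_mul, mul_smul, hr ⟨a, ha⟩, smul_zero]
  obtain ⟨r₂, hr₂⟩ : ∃ r : p.primeCompl, ∀ b : B0, (r : A0) • b ∈ LinearMap.range φ := by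
    obtain ⟨S, hS⟩ := (Module.Finite.fg_top : (⊤ : Submodule A0 B0).FG)
    choose r hr using fun b : (S : Set B0) => hcok b.1
    refine ⟨∏ b, r b, fun b => ?_⟩
    refine Submodule.span_induction (p := fun b _ => ((∏ b, r b : p.primeCompl) : A0) • b ∈ LinearMap.range φ) (fun b hb => ?_) ?_ (fun a b _ _ x y => ?_)
      (fun c a _ x => ?_) (show b ∈ Submodule.span A0 (S : Set B0) by rw [hS]; trivial)
    · obtain ⟨c, hc⟩ := Finset.dvd_prod_of_mem r (Finset.mem_univ (⟨b, hb⟩ : (S : Set B0)))
      rw [hc, mul_comm, Submonoid.coe_mul, mul_smul]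
      exact Submodule.smul_mem _ _ (hr ⟨b, hb⟩)
    · rw [smul_zero]; exact zero_mem _
    · rw [smul_add]; exact add_mem x y
    · rw [smul_comm]; exact Submodule.smul_mem _ _ x
  refine ⟨(r₁ * r₂ : p.primeCompl).1, (mem_basicOpen_iff_notMem hV hyV _).2 (r₁ * r₂).2, fun a ha => ?_, fun b => ?_⟩
  · have h := hr₁ a ha
    rw [smul_eq_mul] at h
    rw [Submonoid.coe_mul, mul_comm (r₁ : A0), mul_assoc, h, mul_zero]
  · obtain ⟨a, ha⟩ := hr₂ b
    refine ⟨r₁ * a, ?_⟩
    show f.app V ((r₁ : A0) * a) = f.app V ((r₁ : A0) * r₂) * b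
    rw [map_mul, map_mul, mul_assoc]
    exact congrArg _ ha

theorem bijective_app_basicOpen [QuasiCompact f] [QuasiSeparated f] {V : Y.Opens} (hV : IsAffineOpen V)
    {r s : Γ(Y, V)} (hr : ∀ a, f.app V a = 0 → r * a = 0) (hr' : ∀ b, ∃ a, f.app V a = f.app V r * b)
    (hs : Y.basicOpen s ≤ Y.basicOpen r) : Function.Bijective (f.app (Y.basicOpen s)) := by
  let A0 := Γ(Y, V)
  let B0 := Γ(X, f ⁻¹ᵁ V)
  haveI := hV.isLocalization_basicOpen s
  haveI := isLocalization_basicOpen_of_qcqs (f.isCompact_preimage hV.isCompact)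
    (f.isQuasiSeparated_preimage hV.isQuasiSeparated) (f.app V s)
  have he : f ⁻¹ᵁ Y.basicOpen s = X.basicOpen (f.app V s) := f.preimage_basicOpen s
  let resA : A0 →+* Γ(Y, Y.basicOpen s) := algebraMap _ _
  let E := X.presheaf.map (eqToHom he.symm).op
  let resB : B0 →+* Γ(X, X.basicOpen (f.app V s)) := algebraMap _ _
  have hF : ∀ a, E (f.app (Y.basicOpen s) (resA a)) = resB (f.app V a) := fun a => by
    show E (f.app (Y.basicOpen s) (Y.presheaf.map (homOfLE (Y.basicOpen_le s)).op a)) = X.presheaf.map _ (f.app V a)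
    refine (congrArg E (congr($(f.naturality (homOfLE (Y.basicOpen_le s)).op) a))).trans ?_
    simp only [← ConcreteCategory.comp_apply, Category.assoc]
    erw [← Functor.map_comp]
    rfl
  have hru : IsUnit (resA r) := by
    have h1 : IsUnit (Y.presheaf.map (homOfLE (Y.basicOpen_le r)).op r) :=
      RingedSpace.isUnit_res_basicOpen Y.toLocallyRingedSpace.toRingedSpace r
    have h2 := h1.map (Y.presheaf.map (homOfLE hs).op).hom
    have e : Y.presheaf.map (homOfLE hs).op (Y.presheaf.map (homOfLE (Y.basicOpen_le r)).op r) = resA r := by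
      rw [← ConcreteCategory.comp_apply, ← Functor.map_comp]
      rfl
    exact e ▸ h2
  suffices h : Function.Bijective (fun z => E (f.app (Y.basicOpen s) z)) from
    ((ConcreteCategory.bijective_of_isIso E).of_comp_iff' _).1 h
  refine ⟨fun z w hzw => ?_, fun w => ?_⟩
  · rw [← sub_eq_zero]
    have h0 : E (f.app (Y.basicOpen s) (z - w)) = 0 := by rw [map_sub, map_sub]; exact sub_eq_zero.2 hzw
    obtain ⟨⟨a, t⟩, ht⟩ := IsLocalization.surj (Submonoid.powers s) (z - w)
    have h1 : resB (f.app V a) = 0 := by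
      rw [← hF, ← show (z - w) * resA t = resA a from ht, map_mul, map_mul, h0, zero_mul]
    obtain ⟨⟨_, n, rfl⟩, hn⟩ := (IsLocalization.map_eq_zero_iff (Submonoid.powers (f.app V s)) _ _).1 h1
    have h2 : f.app V (s ^ n * a) = 0 := by rw [map_mul, map_pow]; exact hn
    have h3 : resA r * (resA (s ^ n) * resA a) = 0 := by
      rw [← map_mul, ← map_mul, hr _ h2, map_zero]
    rw [hru.mul_right_eq_zero, (IsLocalization.map_units (M := Submonoid.powers s) _ (⟨s ^ n, n, rfl⟩ : Submonoid.powers s)).mul_right_eq_zero] at h3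
    rw [h3] at ht
    exact (IsLocalization.map_units _ t).mul_left_eq_zero.1 ht
  · obtain ⟨⟨b, ⟨_, n, rfl⟩⟩, hb⟩ := IsLocalization.surj (Submonoid.powers (f.app V s)) w
    obtain ⟨a, ha⟩ := hr' b
    have hu : IsUnit (resA (s ^ n)) := IsLocalization.map_units _ (⟨s ^ n, n, rfl⟩ : Submonoid.powers s)
    refine ⟨resA a * ↑(hru.unit⁻¹ : _ˣ) * ↑(hu.unit⁻¹ : _ˣ), ?_⟩
    have h1 : IsUnit (E (f.app (Y.basicOpen s) (resA r * resA (s ^ n)))) := ((hru.mul hu).map (f.app (Y.basicOpen s)).hom).map E.hom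
    refine h1.mul_left_inj.1 ?_
    rw [← map_mul, ← map_mul, show resA a * ↑(hru.unit⁻¹ : _ˣ) * ↑(hu.unit⁻¹ : _ˣ) * (resA r * resA (s ^ n)) = resA a by
      rw [mul_comm (resA r), ← mul_assoc, mul_assoc (resA a * _), hu.val_inv_mul, mul_one, mul_assoc, hru.val_inv_mul, mul_one]]
    rw [← map_mul resA, hF, hF, ha, map_mul (f.app V).hom, map_pow, map_mul, map_mul, ← hb]
    ring

end

end Groth.Agent.QCoh.UnitPush
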