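import Groth.Agent.QCoh.ExtendFT
import Groth.Prelude.Def_RelSpec

/-!
# Sums of submodules of finite type and generation of quasi-coherent algebras
-/

universe u

set_option backward.isDefEq.respectTransparency false
set_option backward.isDefEq.respectTransparency.types false

open CategoryTheory CategoryTheory.Limits AlgebraicGeometry TopologicalSpace Opposite

namespace Groth.Agent.QCoh

variable {X : Scheme.{u}} {G : X.Modules}

theorem iSup_map_mem {ι : Type*} (N : ι → SubMod G) {U V : X.Opens} (h : V ≤ U) {s : Γ(G, U)}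
    (hs : s ∈ ⨆ i, (N i).mem U) : rs G h s ∈ ⨆ i, (N i).mem V := by
  refine Submodule.iSup_induction (motive := fun s => rs G h s ∈ ⨆ i, (N i).mem V) _ hs
    (fun i x hx => Submodule.mem_iSup_of_mem i ((N i).map_mem h hx))
    (by rw [rs, map_zero]; exact zero_mem _)
    (fun x y hx hy => by rw [rs, map_add]; exact add_mem hx hy)

/-- The sum of a family of submodules. -/
noncomputable def sumSub {ι : Type*} (N : ι → SubMod G) : SubMod G where
  mem O :=
    { carrier := {s | ∀ x ∈ O, ∃ (P : X.Opens) (hP : P ≤ O), x ∈ P ∧ rs G hP s ∈ ⨆ i, (N i).mem P}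
      zero_mem' := fun x hx => ⟨O, le_rfl, hx, by rw [rs, map_zero]; exact zero_mem _⟩
      add_mem' := fun {a b} ha hb x hx => by
        obtain ⟨P, hP, hxP, h1⟩ := ha x hx
        obtain ⟨Q, hQ, hxQ, h2⟩ := hb x hx
        refine ⟨P ⊓ Q, inf_le_left.trans hP, ⟨hxP, hxQ⟩, ?_⟩
        rw [rs, map_add]
        refine add_mem ?_ ?_
        · have := iSup_map_mem N (inf_le_left : P ⊓ Q ≤ P) h1
          rwa [rs_rs] at this
        · have := iSup_map_mem N (inf_le_right : P ⊓ Q ≤ Q) h2
          rwa [rs_rs] at this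
      smul_mem' := fun a s hs x hx => by
        obtain ⟨P, hP, hxP, h⟩ := hs x hx
        exact ⟨P, hP, hxP, by rw [rs_smul]; exact Submodule.smul_mem _ _ h⟩ }
  map_mem {O O'} i {s} hs x hx := by
    obtain ⟨P, hP, hxP, h⟩ := hs x (i hx)
    refine ⟨P ⊓ O', inf_le_right, ⟨hxP, hx⟩, ?_⟩
    change rs G _ (rs G i s) ∈ _
    have := iSup_map_mem N (inf_le_left : P ⊓ O' ≤ P) h
    rw [rs_rs] at this ⊢
    exact this
  of_locally O s hs x hx := by
    obtain ⟨P, hP, hxP, h⟩ := hs x hx
    obtain ⟨Q, hQ, hxQ, h'⟩ := h x hxP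
    change rs G _ (rs G hP s) ∈ _ at h'
    rw [rs_rs] at h'
    exact ⟨Q, hQ.trans hP, hxQ, h'⟩

theorem le_sumSub {ι : Type*} (N : ι → SubMod G) (i : ι) (O : X.Opens) :
    (N i).mem O ≤ (sumSub N).mem O := fun s hs x hx =>
  ⟨O, le_rfl, hx, Submodule.mem_iSup_of_mem i ((rs_self le_rfl s).symm ▸ hs)⟩

theorem ftOn_sumSub {ι : Type*} [Finite ι] (N : ι → SubMod G) {W : X.Opens}
    (hN : ∀ i, FTOn (N i) W) : FTOn (sumSub N) W := by
  intro x hx
  choose V hV hxV hVW T hT using fun i => hN i x hx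
  let W' : X.Opens := W ⊓ ⟨⋂ i, (V i : Set X), isOpen_iInter_of_finite fun i => (V i).2⟩
  obtain ⟨_, ⟨D, hD, rfl⟩, hxD, hDW⟩ := X.isBasis_affineOpens.exists_subset_of_mem_open
    (show x ∈ W' from ⟨hx, Set.mem_iInter.2 hxV⟩) W'.2
  have hle : ∀ i, D ≤ V i := fun i y hy => Set.mem_iInter.1 (hDW hy).2 i
  let TD : Set Γ(G, D) := ⋃ i, rs G (hle i) '' T i
  refine ⟨D, hD, hxD, fun y hy => (hDW hy).1, TD,
    Set.finite_iUnion fun i => (hT i).fin.image _, ?_, fun O hO s hs y hy => ?_⟩
  · intro z hz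
    obtain ⟨i, t, htT, rfl⟩ := Set.mem_iUnion.1 hz
    exact le_sumSub N i D ((N i).map_mem _ ((hT i).mem t htT))
  · have h1 : ∀ P, P ≤ D → ∀ i, (N i).mem P ≤ (spanSub TD).mem P := fun P hP i a ha z hz _ => by
      obtain ⟨Q, hQ, hzQ, h⟩ := ((hT i).restrict (hle i)).gen P hP a ha z hz
      exact ⟨Q, hQ, hQ.trans hP, hzQ,
        Submodule.span_mono (Set.image_mono (Set.subset_iUnion (fun j => rs G (hle j) '' T j) i)) h⟩
    obtain ⟨P, hP, hyP, h⟩ := hs y hy
    obtain ⟨Q, hQP, hQD, hyQ, h'⟩ := iSup_le (h1 P (hP.trans hO)) h y hyP (hO hy)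
    rw [rs_rs] at h'
    exact ⟨Q, hQP.trans hP, hyQ, h'⟩

open RelSpec

variable (B : QCAlg X)

theorem isQCoh_toModule : Coh.IsQCoh B.toModule := by
  refine isQCoh_of_sections (fun V hV f s => ?_) (fun V hV f t ht => ?_)
  · letI := (B.presheaf.map (homOfLE (X.basicOpen_le f)).op).hom.toAlgebra
    haveI := B.isQC V hV f
    let s' : B.presheaf.obj (op (X.basicOpen f)) := s
    obtain ⟨⟨a, _, n, rfl⟩, ha⟩ := IsLocalization.surj (Submonoid.powers ((B.str.app (op V)).hom f)) s'
    refine ⟨n, a, ?_⟩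
    refine ha.symm.trans ?_
    show s' * (B.presheaf.map (homOfLE (X.basicOpen_le f)).op).hom ((B.str.app (op V)).hom f ^ n) =
      (B.str.app (op (X.basicOpen f))).hom (X.presheaf.map (homOfLE (X.basicOpen_le f)).op f ^ n) * s' 
    rw [map_pow, map_pow, mul_comm]
    exact congrArg (· ^ n * s') congr($(B.str.naturality (homOfLE (X.basicOpen_le f)).op) f).symm
  · letI := (B.presheaf.map (homOfLE (X.basicOpen_le f)).op).hom.toAlgebra
    haveI := B.isQC V hV f
    let t' : B.presheaf.obj (op V) := t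
    obtain ⟨⟨_, n, rfl⟩, hn⟩ := (IsLocalization.map_eq_zero_iff
      (Submonoid.powers ((B.str.app (op V)).hom f)) (B.presheaf.obj (op (X.basicOpen f))) t').1 ht
    refine ⟨n, ?_⟩
    show (B.str.app (op V)).hom (f ^ n) * t' = 0
    rw [map_pow]; exact hn

/-- Restriction in the algebra. -/
noncomputable abbrev rB {U V : X.Opens} (h : V ≤ U) : B.presheaf.obj (op U) →+* B.presheaf.obj (op V) :=
  (B.presheaf.map (homOfLE h).op).hom

theorem rB_str {U V : X.Opens} (h : V ≤ U) (a : Γ(X, U)) :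
    rB B h ((B.str.app (op U)).hom a) = (B.str.app (op V)).hom (rf X h a) :=
  congr($(B.str.naturality (homOfLE h).op) a).symm

/-- The subring generated by the structure sheaf and a submodule. -/
noncomputable def genRing (N : SubMod B.toModule) (U : X.Opens) : Subring (B.presheaf.obj (op U)) :=
  Subring.closure ((Set.range (B.str.app (op U)).hom : Set (B.presheaf.obj (op U))) ∪
    (show Set (B.presheaf.obj (op U)) from (N.mem U : Set Γ(B.toModule, U))))

theorem rB_mem_genRing (N : SubMod B.toModule) {U V : X.Opens} (h : V ≤ U) {b}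
    (hb : b ∈ genRing B N U) : rB B h b ∈ genRing B N V := by
  induction hb using Subring.closure_induction with
  | mem x hx =>
    rcases hx with ⟨a, rfl⟩ | hx
    · exact Subring.subset_closure (Or.inl ⟨_, (rB_str B h a).symm⟩)
    · exact Subring.subset_closure (Or.inr (N.map_mem h hx))
  | zero => rw [map_zero]; exact zero_mem _
  | one => rw [map_one]; exact one_mem _
  | add x y _ _ hx hy => rw [map_add]; exact add_mem hx hy
  | neg x _ hx => rw [map_neg]; exact neg_mem hx
  | mul x y _ _ hx hy => rw [map_mul]; exact mul_mem hx hy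

theorem str_mem_genRing (N : SubMod B.toModule) {U : X.Opens} (a : Γ(X, U)) :
    (B.str.app (op U)).hom a ∈ genRing B N U := Subring.subset_closure (Or.inl ⟨a, rfl⟩)

theorem genRing_basicOpen (N : SubMod B.toModule) {U : X.Opens} (hU : IsAffineOpen U)
    (h : genRing B N U = ⊤) (g : Γ(X, U)) : genRing B N (X.basicOpen g) = ⊤ := by
  refine eq_top_iff.2 fun b _ => ?_
  obtain ⟨n, t, ht⟩ := exists_pow_smul_eq_map (isQCoh_toModule B) hU g b
  have hu := ((isUnit_rf_basicOpen g).pow n)
  obtain ⟨v, hv⟩ := hu.exists_left_inv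
  have he : b = (B.str.app (op (X.basicOpen g))).hom v * rB B (X.basicOpen_le g) t := by
    have ht' : rB B (X.basicOpen_le g) t =
        (B.str.app (op (X.basicOpen g))).hom (rf X (X.basicOpen_le g) g ^ n) * b := ht
    rw [ht', ← mul_assoc, ← map_mul, hv, map_one, one_mul]
  rw [he]
  let tB : B.presheaf.obj (op U) := t
  have htt : tB ∈ genRing B N U := by rw [h]; exact Subring.mem_top _
  exact mul_mem (str_mem_genRing B N v) (rB_mem_genRing B N _ htt)

theorem exists_lift_genRing {N : SubMod B.toModule} (hN : FTOn N ⊤) {U : X.Opens} (hU : IsAffineOpen U)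
    (g : Γ(X, U)) {y} (hy : y ∈ genRing B N (X.basicOpen g)) :
    ∃ (n : ℕ), ∃ c ∈ genRing B N U, rB B (X.basicOpen_le g) c =
      (B.str.app (op (X.basicOpen g))).hom (rf X (X.basicOpen_le g) g) ^ n * y := by
  induction hy using Subring.closure_induction with
  | mem x hx =>
    rcases hx with ⟨a, rfl⟩ | hx
    · haveI := hU.isLocalization_basicOpen g
      obtain ⟨⟨c, _, k, rfl⟩, hc⟩ := IsLocalization.surj (Submonoid.powers g) a
      refine ⟨k, _, str_mem_genRing B N c, ?_⟩
      have hc' : rf X (X.basicOpen_le g) c = rf X (X.basicOpen_le g) g ^ k * a := by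
        rw [rf, ← map_pow, mul_comm]
        exact hc.symm
      rw [rB_str, hc', map_mul, map_pow]
    · obtain ⟨s, rfl⟩ := N.exists_app_eq hx
      obtain ⟨n, t, ht⟩ := exists_pow_smul_eq_map (isQCoh_of_ftOn (isQCoh_toModule B) hN) hU g s
      refine ⟨n, N.ι.app U t, Subring.subset_closure (Or.inr (N.ι_app_mem U t)), ?_⟩
      have h1 := congrArg (N.ι.app (X.basicOpen g)) ht
      rw [map_app_comm, ι_app_smul] at h1
      refine h1.trans ?_
      show (B.str.app (op (X.basicOpen g))).hom (rf X (X.basicOpen_le g) g ^ n) * _ = _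
      rw [map_pow]
  | zero => exact ⟨0, 0, zero_mem _, by simp⟩
  | one => exact ⟨0, 1, one_mem _, by simp⟩
  | add x y _ _ hx hy =>
    obtain ⟨n, c, hc, hcx⟩ := hx
    obtain ⟨m, d, hd, hdy⟩ := hy
    refine ⟨n + m, (B.str.app (op U)).hom g ^ m * c + (B.str.app (op U)).hom g ^ n * d,
      add_mem (mul_mem (pow_mem (str_mem_genRing B N g) _) hc)
        (mul_mem (pow_mem (str_mem_genRing B N g) _) hd), ?_⟩
    rw [map_add, map_mul, map_mul, map_pow, map_pow, rB_str, hcx, hdy]
    ring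
  | neg x _ hx =>
    obtain ⟨n, c, hc, hcx⟩ := hx
    exact ⟨n, -c, neg_mem hc, by rw [map_neg, hcx]; ring⟩
  | mul x y _ _ hx hy =>
    obtain ⟨n, c, hc, hcx⟩ := hx
    obtain ⟨m, d, hd, hdy⟩ := hy
    exact ⟨n + m, c * d, mul_mem hc hd, by rw [map_mul, hcx, hdy]; ring⟩

theorem genRing_eq_top_of_cover {N : SubMod B.toModule} (hN : FTOn N ⊤) {ι : Type*} (V : ι → X.Opens)
    (hV : ∀ i, IsAffineOpen (V i)) (hcov : ∀ x : X, ∃ i, x ∈ V i) (h : ∀ i, genRing B N (V i) = ⊤)
    {U : X.Opens} (hU : IsAffineOpen U) : genRing B N U = ⊤ := by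
  refine eq_top_iff.2 fun b _ => ?_
  let bM : Γ(B.toModule, U) := b
  let I : Ideal Γ(X, U) :=
  { carrier := {a | (B.str.app (op U)).hom a * b ∈ genRing B N U}
    zero_mem' := by
      show (B.str.app (op U)).hom 0 * b ∈ genRing B N U
      rw [map_zero, zero_mul]; exact zero_mem _
    add_mem' := fun {a c} ha hc => by
      show (B.str.app (op U)).hom (a + c) * b ∈ genRing B N U
      rw [map_add, add_mul]; exact add_mem ha hc
    smul_mem' := fun r a ha => by
      show (B.str.app (op U)).hom (r * a) * b ∈ genRing B N U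
      rw [map_mul, mul_assoc]; exact mul_mem (str_mem_genRing B N r) ha }
  have hI : I.radical = ⊤ := by
    refine top_unique ((hU.self_le_iSup_basicOpen_iff (s := (I.radical : Set Γ(X, U)))).1 ?_
      |>.ge.trans (Ideal.span_le.2 subset_rfl))
    intro x hx
    obtain ⟨i, hi⟩ := hcov x
    obtain ⟨g, g', he, hxg⟩ := exists_basicOpen_le_affine_inter hU (hV i) x ⟨hx, hi⟩
    have htop : genRing B N (X.basicOpen g) = ⊤ := by
      rw [he]; exact genRing_basicOpen B N (hV i) (h i) g'
    obtain ⟨n, c, hc, hcb⟩ := exists_lift_genRing B hN hU g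
      (htop ▸ Subring.mem_top (rB B (X.basicOpen_le g) b))
    have h0 : rs B.toModule (X.basicOpen_le g) (g ^ n • bM - (show Γ(B.toModule, U) from c)) = 0 := by
      show rB B (X.basicOpen_le g) ((B.str.app (op U)).hom (g ^ n) * b - c) = 0
      rw [map_sub, map_mul, map_pow, map_pow, rB_str, hcb, sub_self]
    obtain ⟨m, hm⟩ := exists_pow_smul_eq_zero (isQCoh_toModule B) hU g _ h0
    refine Opens.mem_iSup.2 ⟨⟨g, ⟨m + n, ?_⟩⟩, hxg⟩
    show (B.str.app (op U)).hom (g ^ (m + n)) * b ∈ genRing B N U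
    have hm' : (B.str.app (op U)).hom (g ^ m) * ((B.str.app (op U)).hom (g ^ n) * b - c) = 0 := hm
    rw [mul_sub, sub_eq_zero, ← mul_assoc, ← map_mul, ← pow_add] at hm'
    rw [hm']
    exact mul_mem (str_mem_genRing B N _) hc
  have h1 : (1 : Γ(X, U)) ∈ I := (Ideal.eq_top_iff_one _).1 (Ideal.radical_eq_top.1 hI)
  have h2 : (B.str.app (op U)).hom 1 * b ∈ genRing B N U := h1
  rwa [map_one, one_mul] at h2

/-- An algebra of finite type is generated by a submodule of finite type. -/
theorem exists_generating_submodule [CompactSpace X] (hs : ∀ U : X.affineOpens, ExtStep U.1)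
    (hB : ∀ U : X.affineOpens, (B.str.app (op (U : X.Opens))).hom.FiniteType) :
    ∃ (E : X.Modules) (j : E ⟶ B.toModule), Mono j ∧ Coh.IsQCoh E ∧ CohB1.IsFT E ∧
      ∀ U : X.affineOpens,
        Subring.closure (Set.range (B.str.app (op (U : X.Opens))).hom ∪
          Set.range (fun e : E.val.obj (op (U : X.Opens)) ↦
            (show B.presheaf.obj (op (U : X.Opens)) from (j.val.app (op (U : X.Opens))).hom e))) = ⊤ := by
  obtain ⟨F, hF⟩ := isCompact_univ.elim_finite_subcover (fun V : X.affineOpens => (V.1 : Set X))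
    (fun V => V.1.2) fun x _ => by
      obtain ⟨_, ⟨V, hV, rfl⟩, hxV, -⟩ := X.isBasis_affineOpens.exists_subset_of_mem_open
        (Set.mem_univ x) isOpen_univ
      exact Set.mem_iUnion.2 ⟨⟨V, hV⟩, hxV⟩
  have hT : ∀ V : F, ∃ T : Set Γ(B.toModule, V.1.1), T.Finite ∧
      Subring.closure (Set.range (B.str.app (op V.1.1)).hom ∪ T) = ⊤ := fun V => by
    letI := (B.str.app (op V.1.1)).hom.toAlgebra
    obtain ⟨T, hT⟩ := (hB V.1).out
    refine ⟨(T : Set (B.presheaf.obj (op V.1.1))), T.finite_toSet, ?_⟩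
    have := congrArg Subalgebra.toSubring hT
    rwa [Algebra.adjoin_eq_ring_closure, Algebra.top_toSubring] at this
  choose T hTfin hT using hT
  choose N hN hTN using fun V : F =>
    exists_ftOn_contains (isQCoh_toModule B) V.1.2 (hs V.1) (T V) (hTfin V)
  have hG := isQCoh_toModule B
  have hft := ftOn_sumSub N hN
  refine ⟨(sumSub N).toModules, (sumSub N).ι, inferInstance, isQCoh_of_ftOn hG hft,
    isFT_of_ftOn hG hft, fun U => ?_⟩
  have key := genRing_eq_top_of_cover B hft (fun V : F => V.1.1) (fun V => V.1.2) (fun x => ?_)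
    (fun V => eq_top_iff.2 ((hT V).ge.trans (Subring.closure_mono (Set.union_subset_union_right _
      fun t ht => le_sumSub N V _ (hTN V ht))))) U.2
  · refine eq_top_iff.2 (key.ge.trans (Subring.closure_mono (Set.union_subset_union_right _ ?_)))
    intro t ht
    obtain ⟨e, he⟩ := (sumSub N).exists_app_eq ht
    exact ⟨e, he⟩
  · obtain ⟨V, hV, hxV⟩ := Set.mem_iUnion₂.1 (hF (Set.mem_univ x))
    exact ⟨⟨V, hV⟩, hxV⟩

end Groth.Agent.QCoh
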