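import Groth.Prelude.Def_ega3
import Groth.Agent.FlatCxLib.Local
import Groth.Agent.QCoh.FlatModel
import Groth.Agent.QCoh.CechMap

/-!
# `T` functors and base change of complexes
-/

set_option backward.isDefEq.respectTransparency false
set_option backward.isDefEq.respectTransparency.types false
set_option linter.style.haveILetI false

universe u

open CategoryTheory CategoryTheory.Limits MonoidalCategory
open scoped TensorProduct

namespace Groth.Agent.QCoh

variable {A B : Type u} [CommRing A] [CommRing B] {ι : Type} {c : ComplexShape ι}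

/-- `(B ⊗_A X) ⊗_B M ≅ X ⊗_A M`. -/
noncomputable def bcTensorEquiv [Algebra A B] (X : Type u) [AddCommGroup X] [Module A X] (M : Type u) [AddCommGroup M]
    [Module B M] [Module A M] [IsScalarTower A B M] : (B ⊗[A] X) ⊗[B] M ≃+ X ⊗[A] M :=
  (((TensorProduct.comm B (B ⊗[A] X) M).trans
    (TensorProduct.AlgebraTensorModule.cancelBaseChange A B B M X)).toAddEquiv).trans
      (TensorProduct.comm A M X).toAddEquiv

theorem bcTensorEquiv_tmul [Algebra A B] (X : Type u) [AddCommGroup X] [Module A X] (M : Type u) [AddCommGroup M]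
    [Module B M] [Module A M] [IsScalarTower A B M] (b : B) (x : X) (m : M) :
    bcTensorEquiv X M ((b ⊗ₜ[A] x) ⊗ₜ[B] m) = x ⊗ₜ[A] (b • m) :=
  rfl

variable (P : HomologicalComplex (ModuleCat.{u} A) c)

theorem nonempty_bcT_iso (φ : A →+* B) (p : ι) :
    Nonempty (CohIII.TFun (CohIII.bcCx φ P) p ⋙ forget₂ (ModuleCat.{u} B) AddCommGrpCat.{u} ≅
      ModuleCat.restrictScalars φ ⋙ CohIII.TFun P p ⋙ forget₂ (ModuleCat.{u} A) AddCommGrpCat.{u}) := by
  letI : Algebra A B := φ.toAlgebra
  let GA := forget₂ (ModuleCat.{u} A) AddCommGrpCat.{u}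
  let GB := forget₂ (ModuleCat.{u} B) AddCommGrpCat.{u}
  let R := ModuleCat.restrictScalars (φ)
  let bc : ModuleCat.{u} A → Type u := fun X => B ⊗[A] X
  let α : ∀ (M : ModuleCat.{u} B), (GB.mapHomologicalComplex c).obj (CohIII.tensorObj (CohIII.bcCx (φ) P) M) ≅
      (GA.mapHomologicalComplex c).obj (CohIII.tensorObj P (R.obj M)) := fun M =>
    letI : Module A M := Module.compHom M (φ)
    haveI : IsScalarTower A B M := .of_algebraMap_smul fun _ _ => rfl
    HomologicalComplex.Hom.isoOfComponents
      (fun i => AddEquiv.toAddCommGrpIso (show (B ⊗[A] P.X i) ⊗[B] M ≃+ P.X i ⊗[A] M from bcTensorEquiv (P.X i) M))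
      fun i j _ => AddCommGrpCat.ext fun z => by
        let L₁ : (B ⊗[A] P.X i) ⊗[B] M →+ P.X j ⊗[A] M :=
          ((P.d i j).hom.rTensor M).toAddMonoidHom.comp (bcTensorEquiv (P.X i) M).toAddMonoidHom
        let L₂ : (B ⊗[A] P.X i) ⊗[B] M →+ P.X j ⊗[A] M :=
          (bcTensorEquiv (P.X j) M).toAddMonoidHom.comp (((P.d i j).hom.baseChange B).rTensor M).toAddMonoidHom
        suffices h : L₁ = L₂ from congrArg (fun L : _ →+ _ => L z) h
        refine AddMonoidHom.ext fun w => ?_
        induction w using TensorProduct.induction_on with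
        | zero => simp only [map_zero]
        | add a b ha hb => simp only [map_add, ha, hb]
        | tmul y m => 
          induction y using TensorProduct.induction_on with
          | zero => simp only [TensorProduct.zero_tmul, map_zero]
          | add a b ha hb => simp only [TensorProduct.add_tmul, map_add, ha, hb]
          | tmul b x => rfl
  refine ⟨NatIso.ofComponents (fun M =>
    (((CohIII.tensorObj (CohIII.bcCx (φ) P) M).sc p).mapHomologyIso GB).symm ≪≫
      (HomologicalComplex.homologyFunctor _ _ p).mapIso (α M) ≪≫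
      ((CohIII.tensorObj P (R.obj M)).sc p).mapHomologyIso GA) fun {M M'} g => ?_⟩
  have hα : (GB.mapHomologicalComplex c).map (CohIII.tensorMap (CohIII.bcCx (φ) P) g) ≫ (α M').hom =
      (α M).hom ≫ (GA.mapHomologicalComplex c).map (CohIII.tensorMap P (R.map g)) := by
    letI : Module A M := Module.compHom M (φ)
    haveI : IsScalarTower A B M := .of_algebraMap_smul fun _ _ => rfl
    letI : Module A M' := Module.compHom M' (φ)
    haveI : IsScalarTower A B M' := .of_algebraMap_smul fun _ _ => rfl
    ext i : 1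
    refine AddCommGrpCat.ext fun z => ?_
    let L₁ : (B ⊗[A] P.X i) ⊗[B] M →+ P.X i ⊗[A] M' :=
      (bcTensorEquiv (P.X i) M').toAddMonoidHom.comp (g.hom.lTensor (B ⊗[A] P.X i)).toAddMonoidHom
    let L₂ : (B ⊗[A] P.X i) ⊗[B] M →+ P.X i ⊗[A] M' :=
      ((R.map g).hom.lTensor (P.X i)).toAddMonoidHom.comp (bcTensorEquiv (P.X i) M).toAddMonoidHom
    suffices h : L₁ = L₂ from congrArg (fun L : _ →+ _ => L z) h
    refine AddMonoidHom.ext fun w => ?_
    induction w using TensorProduct.induction_on with
    | zero => simp only [map_zero]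
    | add a b ha hb => simp only [map_add, ha, hb]
    | tmul y m => 
      induction y using TensorProduct.induction_on with
      | zero => simp only [TensorProduct.zero_tmul, map_zero]
      | add a b ha hb => simp only [TensorProduct.add_tmul, map_add, ha, hb]
      | tmul b x =>
        show x ⊗ₜ[A] (b • g.hom m) = x ⊗ₜ[A] g.hom (b • m)
        rw [map_smul]
  have h1 := ShortComplex.mapHomologyIso_inv_naturality
    ((HomologicalComplex.shortComplexFunctor (ModuleCat.{u} B) c p).map
      (CohIII.tensorMap (CohIII.bcCx (φ) P) g)) GB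
  have h2 := congrArg (fun f => HomologicalComplex.homologyMap f p) hα
  have h3 := ShortComplex.mapHomologyIso_hom_naturality
    ((HomologicalComplex.shortComplexFunctor (ModuleCat.{u} A) c p).map
      (CohIII.tensorMap P (R.map g))) GA
  simp only [HomologicalComplex.homologyMap_comp] at h2
  refine AddCommGrpCat.ext fun x => ?_
  refine (congrArg (fun y => ((CohIII.tensorObj P (R.obj M')).sc p).mapHomologyIso GA |>.hom
    (HomologicalComplex.homologyMap (α M').hom p y)) (ConcreteCategory.congr_hom h1 x)).trans ?_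
  refine (congrArg (((CohIII.tensorObj P (R.obj M')).sc p).mapHomologyIso GA).hom
    (ConcreteCategory.congr_hom h2 _)).trans ?_
  exact ConcreteCategory.congr_hom h3 _

theorem tfun_map_smul {P : HomologicalComplex (ModuleCat.{u} A) c} (p : ι) (M : ModuleCat.{u} A) (a : A)
    (x : CohIII.T P p M) :
    ((CohIII.TFun P p).map (ModuleCat.ofHom (a • LinearMap.id : M →ₗ[A] M))).hom x = a • x := by
  have h : (CohIII.TFun P p).map (ModuleCat.ofHom (a • LinearMap.id : M →ₗ[A] M)) =
      a • 𝟙 ((CohIII.tensorObj P M).homology p) :=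
    (congrArg (fun φ => HomologicalComplex.homologyMap φ p)
      (show CohIII.tensorMap P (ModuleCat.ofHom (a • LinearMap.id : M →ₗ[A] M)) = a • 𝟙 (CohIII.tensorObj P M) from
        HomologicalComplex.hom_ext _ _ fun i => ModuleCat.hom_ext
          ((LinearMap.lTensor_smul (P.X i) a LinearMap.id).trans
            (congrArg (a • ·) (LinearMap.lTensor_id (P.X i) M))))).trans
      (FlatCxLib.homologyMap_smul_id (CohIII.tensorObj P M) a p)
  rw [h]
  rfl

/-- A natural additive isomorphism between `T` functors is linear. -/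
theorem nonempty_tfun_linearEquiv {ι' : Type} {c' : ComplexShape ι'}
    {P : HomologicalComplex (ModuleCat.{u} A) c} {Q : HomologicalComplex (ModuleCat.{u} A) c'} {p : ι} {q : ι'}
    (e : CohIII.TFun P p ⋙ forget₂ (ModuleCat.{u} A) AddCommGrpCat.{u} ≅
      CohIII.TFun Q q ⋙ forget₂ (ModuleCat.{u} A) AddCommGrpCat.{u}) (M : ModuleCat.{u} A) :
    Nonempty (CohIII.T P p M ≃ₗ[A] CohIII.T Q q M) := by
  refine ⟨AddEquiv.toLinearEquiv (e.app M).addCommGroupIsoToAddEquiv fun a x => ?_⟩
  show (e.hom.app M) (a • x : CohIII.T P p M) = a • (show CohIII.T Q q M from e.hom.app M x)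
  rw [← tfun_map_smul p M a x, ← tfun_map_smul q M a]
  exact ConcreteCategory.congr_hom (e.hom.naturality (ModuleCat.ofHom (a • LinearMap.id : M →ₗ[A] M))) x

/-- `P ⊗_A A ≅ P`. -/
noncomputable def tensorSelfIso : CohIII.tensorObj P (ModuleCat.of A A) ≅ P :=
  HomologicalComplex.Hom.isoOfComponents (fun k => (TensorProduct.rid A (P.X k)).toModuleIso)
    fun k l _ => ModuleCat.MonoidalCategory.tensor_ext fun x a => by
      show (P.d k l).hom (a • x) = a • (P.d k l).hom x
      rw [map_smul]

end Groth.Agent.QCoh
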