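import Groth.Agent.QCoh.GodCx
import Groth.Agent.QCoh.BaseChangeCx
import Mathlib.Algebra.Homology.HomologySequenceLemmas
import Mathlib.Algebra.Homology.HomologicalComplexBiprod
import Mathlib.Algebra.Homology.ShortComplex.ExactFunctor

/-!
# Mayer–Vietoris for Godement complexes and base change
-/

set_option backward.isDefEq.respectTransparency false
set_option backward.isDefEq.respectTransparency.types false
set_option linter.style.haveILetI false

universe u

open CategoryTheory CategoryTheory.Limits AlgebraicGeometry TopologicalSpace Opposite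

namespace Groth.Agent.QCoh

/-- Five lemma for the first map. -/
theorem quasiIso_τ₁ {R : Type u} [CommRing R] {S₁ S₂ : ShortComplex (CochainComplex (ModuleCat.{u} R) ℕ)}
    (φ : S₁ ⟶ S₂) (hS₁ : S₁.ShortExact) (hS₂ : S₂.ShortExact) (h₂ : QuasiIso φ.τ₂) (h₃ : QuasiIso φ.τ₃) :
    QuasiIso φ.τ₁ := by
  rw [quasiIso_iff]
  intro i
  rw [quasiIsoAt_iff_isIso_homologyMap, ConcreteCategory.isIso_iff_bijective]
  let H := fun {K L : CochainComplex (ModuleCat.{u} R) ℕ} (f : K ⟶ L) (n : ℕ) => HomologicalComplex.homologyMap f n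
  have hb₂ : ∀ n, Function.Bijective (H φ.τ₂ n) := fun n => (ConcreteCategory.isIso_iff_bijective _).1 inferInstance
  have hb₃ : ∀ n, Function.Bijective (H φ.τ₃ n) := fun n => (ConcreteCategory.isIso_iff_bijective _).1 inferInstance
  have cf : ∀ n x, H φ.τ₂ n (H S₁.f n x) = H S₂.f n (H φ.τ₁ n x) := fun n x => by
    have e : H S₁.f n ≫ H φ.τ₂ n = H φ.τ₁ n ≫ H S₂.f n := by
      simp only [H, ← HomologicalComplex.homologyMap_comp, φ.comm₁₂]
    exact congr($e x)
  have cg : ∀ n x, H φ.τ₃ n (H S₁.g n x) = H S₂.g n (H φ.τ₂ n x) := fun n x => by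
    have e : H S₁.g n ≫ H φ.τ₃ n = H φ.τ₂ n ≫ H S₂.g n := by
      simp only [H, ← HomologicalComplex.homologyMap_comp, φ.comm₂₃]
    exact congr($e x)
  have gf : ∀ {S : ShortComplex (CochainComplex (ModuleCat.{u} R) ℕ)} n x, H S.g n (H S.f n x) = 0 := fun {S} n x => by
    have e : H S.f n ≫ H S.g n = 0 := by
      simp only [H, ← HomologicalComplex.homologyMap_comp, S.zero, HomologicalComplex.homologyMap_zero]
    exact congr($e x)
  have inj0 : ∀ {S : ShortComplex (CochainComplex (ModuleCat.{u} R) ℕ)} (hS : S.ShortExact),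
      Function.Injective (H S.f 0) := fun {S} hS => by
    have := hS.mono_f
    have := HomologicalComplex.mono_homologyMap_of_mono_of_not_rel S.f 0 (fun j hj => Nat.succ_ne_zero j hj)
    exact (ModuleCat.mono_iff_injective _).1 this
  constructor
  · refine (injective_iff_map_eq_zero (H φ.τ₁ i).hom).2 fun x hx => ?_
    have hfx : H S₁.f i x = 0 := (hb₂ i).1 ((cf i x).trans ((congrArg (H S₂.f i) hx).trans ((map_zero _).trans (map_zero _).symm)))
    cases i with
    | zero => exact inj0 hS₁ (hfx.trans (map_zero _).symm)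
    | succ j =>
      have hj : (ComplexShape.up ℕ).Rel j (j + 1) := rfl
      obtain ⟨w, rfl⟩ := (ShortComplex.moduleCat_exact_iff _).1 (hS₁.homology_exact₁ j (j + 1) hj) x hfx
      have hδ : hS₂.δ j (j + 1) hj (H φ.τ₃ j w) = 0 :=
        (congr($(HomologicalComplex.HomologySequence.δ_naturality φ hS₁ hS₂ j (j + 1) hj) w)).symm.trans hx
      obtain ⟨v', hv'⟩ := (ShortComplex.moduleCat_exact_iff _).1 (hS₂.homology_exact₃ j (j + 1) hj) _ hδ
      obtain ⟨v, rfl⟩ := (hb₂ j).2 v'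
      have hw : H S₁.g j v = w := (hb₃ j).1 ((cg j v).trans hv')
      subst hw
      exact congr($(hS₁.comp_δ j (j + 1) hj) v)
  · intro y
    obtain ⟨v, hv⟩ := (hb₂ i).2 (H S₂.f i y)
    have hgv : H S₁.g i v = 0 := (hb₃ i).1 ((cg i v).trans ((congrArg (H S₂.g i) hv).trans ((gf i y).trans (map_zero _).symm)))
    obtain ⟨x, rfl⟩ := (ShortComplex.moduleCat_exact_iff _).1 (hS₁.homology_exact₂ i) v hgv
    have hd : H S₂.f i (H φ.τ₁ i x - y) = 0 := by
      rw [map_sub, ← cf]; exact sub_eq_zero.2 hv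
    cases i with
    | zero => exact ⟨x, sub_eq_zero.1 (inj0 hS₂ (hd.trans (map_zero _).symm))⟩
    | succ j =>
      have hj : (ComplexShape.up ℕ).Rel j (j + 1) := rfl
      obtain ⟨w', hw'⟩ := (ShortComplex.moduleCat_exact_iff _).1 (hS₂.homology_exact₁ j (j + 1) hj) _ hd
      obtain ⟨w, rfl⟩ := (hb₃ j).2 w'
      have e : H φ.τ₁ (j + 1) (hS₁.δ j (j + 1) hj w) = H φ.τ₁ (j + 1) x - y :=
        (congr($(HomologicalComplex.HomologySequence.δ_naturality φ hS₁ hS₂ j (j + 1) hj) w)).trans hw'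
      refine ⟨x - hS₁.δ j (j + 1) hj w, ?_⟩
      show H φ.τ₁ (j + 1) (x - hS₁.δ j (j + 1) hj w) = y
      rw [map_sub, e, sub_sub_cancel]

theorem quasiIso_biprod_map {R : Type u} [CommRing R] {K K' L L' : CochainComplex (ModuleCat.{u} R) ℕ}
    (f : K ⟶ K') (g : L ⟶ L') [QuasiIso f] [QuasiIso g] : QuasiIso (biprod.map f g) := by
  rw [quasiIso_iff]
  intro i
  rw [quasiIsoAt_iff_isIso_homologyMap]
  let H := HomologicalComplex.homologyFunctor (ModuleCat.{u} R) (ComplexShape.up ℕ) i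
  haveI : PreservesBinaryBiproducts H := preservesBinaryBiproducts_of_preservesBiproducts H
  haveI : IsIso (H.map f) := inferInstanceAs (IsIso (HomologicalComplex.homologyMap f i))
  haveI : IsIso (H.map g) := inferInstanceAs (IsIso (HomologicalComplex.homologyMap g i))
  show IsIso (H.map (biprod.map f g))
  have e' : H.map (biprod.map f g) =
      (H.mapBiprod _ _).hom ≫ (biprod.mapIso (asIso (H.map f)) (asIso (H.map g))).hom ≫ (H.mapBiprod _ _).inv := by
    rw [← Category.assoc, Iso.eq_comp_inv]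
    refine biprod.hom_ext _ _ ?_ ?_ <;> simp [← Functor.map_comp]
  rw [e']
  infer_instance

/-- Comparison of two Mayer–Vietoris sequences. -/
theorem quasiIso_mv {C : Type*} [Category C] [Preadditive C] [HasBinaryBiproducts C]
    {R : Type u} [CommRing R] (E : C ⥤ CochainComplex (ModuleCat.{u} R) ℕ) [E.Additive]
    {K K₁ K₂ K₁₂ : C} {L L₁ L₂ L₁₂ : CochainComplex (ModuleCat.{u} R) ℕ}
    {r₁ : K ⟶ K₁} {r₂ : K ⟶ K₂} {q₁ : K₁ ⟶ K₁₂} {q₂ : K₂ ⟶ K₁₂}
    {r₁' : L ⟶ L₁} {r₂' : L ⟶ L₂} {q₁' : L₁ ⟶ L₁₂} {q₂' : L₂ ⟶ L₁₂}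
    (ψ : E.obj K ⟶ L) (ψ₁ : E.obj K₁ ⟶ L₁) (ψ₂ : E.obj K₂ ⟶ L₂) (ψ₁₂ : E.obj K₁₂ ⟶ L₁₂)
    (z₀ : E.map (biprod.lift r₁ r₂) ≫ E.map (biprod.fst ≫ q₁ - biprod.snd ≫ q₂) = 0)
    (z' : biprod.lift r₁' r₂' ≫ (biprod.fst ≫ q₁' - biprod.snd ≫ q₂') = 0)
    (c₁ : ψ ≫ r₁' = E.map r₁ ≫ ψ₁) (c₂ : ψ ≫ r₂' = E.map r₂ ≫ ψ₂)
    (d₁ : E.map q₁ ≫ ψ₁₂ = ψ₁ ≫ q₁') (d₂ : E.map q₂ ≫ ψ₁₂ = ψ₂ ≫ q₂')
    (hS : (ShortComplex.mk (E.map (biprod.lift r₁ r₂)) (E.map (biprod.fst ≫ q₁ - biprod.snd ≫ q₂)) z₀).ShortExact)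
    (hS' : (ShortComplex.mk (biprod.lift r₁' r₂') (biprod.fst ≫ q₁' - biprod.snd ≫ q₂') z').ShortExact)
    (h₁ : QuasiIso ψ₁) (h₂ : QuasiIso ψ₂) (h₁₂ : QuasiIso ψ₁₂) : QuasiIso ψ := by
  haveI : PreservesBinaryBiproducts E := preservesBinaryBiproducts_of_preservesBiproducts E
  let τ₂ : E.obj (K₁ ⊞ K₂) ⟶ L₁ ⊞ L₂ := biprod.lift (E.map biprod.fst ≫ ψ₁) (E.map biprod.snd ≫ ψ₂)
  have ht : QuasiIso τ₂ := by
    have e : τ₂ = (E.mapBiprod _ _).hom ≫ biprod.map ψ₁ ψ₂ := by
      refine biprod.hom_ext _ _ ?_ ?_ <;> simp [τ₂]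
    rw [e]
    have := quasiIso_biprod_map ψ₁ ψ₂
    infer_instance
  let Φ : ShortComplex.mk (E.map (biprod.lift r₁ r₂)) (E.map (biprod.fst ≫ q₁ - biprod.snd ≫ q₂)) z₀ ⟶
      ShortComplex.mk (biprod.lift r₁' r₂') (biprod.fst ≫ q₁' - biprod.snd ≫ q₂') z' :=
    { τ₁ := ψ
      τ₂ := τ₂
      τ₃ := ψ₁₂
      comm₁₂ := by
        refine biprod.hom_ext _ _ ?_ ?_ <;> simp [τ₂, ← Functor.map_comp_assoc, c₁, c₂]
      comm₂₃ := by
        simp [τ₂, Preadditive.comp_sub, Preadditive.sub_comp, E.map_sub, Category.assoc, d₁, d₂] }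
  exact quasiIso_τ₁ Φ hS hS' ht h₁₂

section adjunct

variable {A B : Type u} [CommRing A] [CommRing B] [Algebra A B]

/-- The map `B ⊗ K → K'` attached to a semilinear map of complexes. -/
noncomputable def adjunctHom {K : CochainComplex (ModuleCat.{u} A) ℕ} {K' : CochainComplex (ModuleCat.{u} B) ℕ}
    (φ : K ⟶ ((ModuleCat.restrictScalars (algebraMap A B)).mapHomologicalComplex _).obj K') :
    ((bcFunctor A B).mapHomologicalComplex _).obj K ⟶ K' where
  f i := adjunct (φ.f i)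
  comm' i j _ := by
    let : Module A (K'.X j) := Module.compHom (K'.X j) (algebraMap A B)
    have : IsScalarTower A B (K'.X j) := .of_algebraMap_smul fun _ _ => rfl
    refine ModuleCat.hom_ext (TensorProduct.AlgebraTensorModule.ext
      (R := A) (A := B) (M := B) (N := K.X i) (P := K'.X j) fun b m => ?_)
    show (K'.d i j).hom ((adjunct (φ.f i)).hom (TensorProduct.tmul A b m : TensorProduct A B (K.X i))) =
      (adjunct (φ.f j)).hom ((K.d i j).hom.baseChange B (TensorProduct.tmul A b m))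
    refine (congrArg (K'.d i j).hom (adjunct_tmul (φ.f i) b m)).trans ?_
    refine ((K'.d i j).hom.map_smul b _).trans ?_
    refine Eq.trans ?_ (adjunct_tmul (φ.f j) b ((K.d i j).hom m)).symm
    exact congrArg (b • ·) (ConcreteCategory.congr_hom (φ.comm i j) m)

theorem adjunctHom_natural {K L : CochainComplex (ModuleCat.{u} A) ℕ} {K' L' : CochainComplex (ModuleCat.{u} B) ℕ}
    (φ : K ⟶ ((ModuleCat.restrictScalars (algebraMap A B)).mapHomologicalComplex _).obj K')
    (ψ : L ⟶ ((ModuleCat.restrictScalars (algebraMap A B)).mapHomologicalComplex _).obj L')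
    (f : K ⟶ L) (f' : K' ⟶ L') (h : ∀ n x, (ψ.f n (f.f n x) : L'.X n) = f'.f n (φ.f n x)) :
    ((bcFunctor A B).mapHomologicalComplex _).map f ≫ adjunctHom ψ = adjunctHom φ ≫ f' := by
  ext n : 1
  let : Module A (L'.X n) := Module.compHom (L'.X n) (algebraMap A B)
  have : IsScalarTower A B (L'.X n) := .of_algebraMap_smul fun _ _ => rfl
  refine ModuleCat.hom_ext (TensorProduct.AlgebraTensorModule.ext
    (R := A) (A := B) (M := B) (N := K.X n) (P := L'.X n) fun b m => ?_)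
  show (adjunct (ψ.f n)).hom ((f.f n).hom.baseChange B (TensorProduct.tmul A b m)) =
    (f'.f n).hom ((adjunct (φ.f n)).hom (TensorProduct.tmul A b m : TensorProduct A B (K.X n)))
  refine (adjunct_tmul (ψ.f n) b (f.f n m)).trans ?_
  refine Eq.trans ?_ (congrArg (f'.f n).hom (adjunct_tmul (φ.f n) b m)).symm
  refine Eq.trans ?_ ((f'.f n).hom.map_smul b _).symm
  exact congrArg (b • ·) (h n m)

theorem map_shortExact [Module.Flat A B] {S : ShortComplex (CochainComplex (ModuleCat.{u} A) ℕ)}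
    (hS : S.ShortExact) : (S.map ((bcFunctor A B).mapHomologicalComplex _)).ShortExact := by
  haveI := bcFunctor_preservesHomology A B
  haveI := (bcFunctor A B).preservesFiniteLimits_of_preservesHomology
  haveI := (bcFunctor A B).preservesFiniteColimits_of_preservesHomology
  refine HomologicalComplex.shortExact_of_degreewise_shortExact _ fun n => ?_
  exact (hS.map_of_exact (HomologicalComplex.eval _ _ n)).map_of_exact (bcFunctor A B)

theorem map_shortExact' [Module.Flat A B] {K L N : CochainComplex (ModuleCat.{u} A) ℕ} {f : K ⟶ L} {g : L ⟶ N}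
    {w : f ≫ g = 0}
    (w' : ((bcFunctor A B).mapHomologicalComplex _).map f ≫ ((bcFunctor A B).mapHomologicalComplex _).map g = 0)
    (h : (ShortComplex.mk f g w).ShortExact) : (ShortComplex.mk _ _ w').ShortExact := by
  refine HomologicalComplex.shortExact_of_degreewise_shortExact _ fun n => ?_
  haveI := bcFunctor_preservesHomology A B
  haveI := (bcFunctor A B).preservesFiniteLimits_of_preservesHomology
  haveI := (bcFunctor A B).preservesFiniteColimits_of_preservesHomology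
  have := (h.map_of_exact (HomologicalComplex.eval _ _ n)).map_of_exact (bcFunctor A B)
  exact this

end adjunct

variable {X : Scheme.{u}} {A : Type u} [CommRing A] (ρ : A →+* Coh.Γtop X) (M : X.Modules)

/-- Restriction of Godement complexes. -/
noncomputable def godRes {V W : X.Opens} (h : V ≤ W) : godCx ρ W M ⟶ godCx ρ V M where
  f n := letI := secModule ρ (God (godQ M n)) W
    letI := secModule ρ (God (godQ M n)) V
    ModuleCat.ofHom (X := Γ(God (godQ M n), W)) (Y := Γ(God (godQ M n), V))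
      { toFun := (God (godQ M n)).presheaf.map (homOfLE h).op
        map_add' := map_add ((God (godQ M n)).presheaf.map (homOfLE h).op).hom
        map_smul' := fun a x => (map_smul' (M := God (godQ M n)) (homOfLE h) _ x).trans
          (congrArg (fun r => r • (God (godQ M n)).presheaf.map (homOfLE h).op x) (ringMap_map _ _ _)) }
  comm' p q hpq := by
    obtain rfl : p + 1 = q := hpq
    refine ModuleCat.hom_ext (LinearMap.ext fun (x : Γ(God (godQ M p), W)) => ?_)
    show (show Γ(God (godQ M (p + 1)), V) from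
        (godCx ρ V M).d p (p + 1) ((God (godQ M p)).presheaf.map (homOfLE h).op x)) =
      (God (godQ M (p + 1))).presheaf.map (homOfLE h).op
        (show Γ(God (godQ M (p + 1)), W) from (godCx ρ W M).d p (p + 1) x)
    rw [godCx_d_apply, godCx_d_apply, map_app_comm, map_app_comm]

/-- The first map of the Mayer–Vietoris sequence. -/
noncomputable def mvF (U V : X.Opens) : godCx ρ (U ⊔ V) M ⟶ godCx ρ U M ⊞ godCx ρ V M :=
  biprod.lift (godRes ρ M le_sup_left) (godRes ρ M le_sup_right)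

/-- The second map of the Mayer–Vietoris sequence. -/
noncomputable def mvG (U V : X.Opens) : godCx ρ U M ⊞ godCx ρ V M ⟶ godCx ρ (U ⊓ V) M :=
  biprod.fst ≫ godRes ρ M inf_le_left - biprod.snd ≫ godRes ρ M inf_le_right

theorem godRes_comp {U V W : X.Opens} (h : V ≤ W) (h' : U ≤ V) :
    godRes ρ M h ≫ godRes ρ M h' = godRes ρ M (h'.trans h) := by
  ext n : 1
  exact ModuleCat.hom_ext (LinearMap.ext fun (x : Γ(God (godQ M n), W)) => rfl)

theorem mvF_mvG (U V : X.Opens) : mvF ρ M U V ≫ mvG ρ M U V = 0 := by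
  rw [mvF, mvG, Preadditive.comp_sub, biprod.lift_fst_assoc, biprod.lift_snd_assoc, godRes_comp,
    godRes_comp, sub_self]

/-- The Mayer–Vietoris sequence. -/
noncomputable abbrev mvSC (U V : X.Opens) : ShortComplex (CochainComplex (ModuleCat.{u} A) ℕ) :=
  ShortComplex.mk (mvF ρ M U V) (mvG ρ M U V) (mvF_mvG ρ M U V)

theorem mvSC_shortExact (U V : X.Opens) : (mvSC ρ M U V).ShortExact := by
  classical
  refine HomologicalComplex.shortExact_of_degreewise_shortExact _ fun n => ?_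
  let G := God (godQ M n)
  let F := (mvF ρ M U V).f n
  let pr₁ := (biprod.fst : godCx ρ U M ⊞ godCx ρ V M ⟶ _).f n
  let pr₂ := (biprod.snd : godCx ρ U M ⊞ godCx ρ V M ⟶ _).f n
  let in₁ := (biprod.inl : _ ⟶ godCx ρ U M ⊞ godCx ρ V M).f n
  let in₂ := (biprod.inr : _ ⟶ godCx ρ U M ⊞ godCx ρ V M).f n
  have e1 : ∀ z, pr₁ (F z) = (godRes ρ M (le_sup_left : U ≤ U ⊔ V)).f n z := fun z => by
    have e : F ≫ pr₁ = (godRes ρ M (le_sup_left : U ≤ U ⊔ V)).f n := by
      simp only [F, pr₁, mvF, ← HomologicalComplex.comp_f, biprod.lift_fst]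
    exact congr($e z)
  have e2 : ∀ z, pr₂ (F z) = (godRes ρ M (le_sup_right : V ≤ U ⊔ V)).f n z := fun z => by
    have e : F ≫ pr₂ = (godRes ρ M (le_sup_right : V ≤ U ⊔ V)).f n := by
      simp only [F, pr₂, mvF, ← HomologicalComplex.comp_f, biprod.lift_snd]
    exact congr($e z)
  have ext2 : ∀ a b, pr₁ a = pr₁ b → pr₂ a = pr₂ b → a = b := fun a b h₁ h₂ => by
    have ht : pr₁ ≫ in₁ + pr₂ ≫ in₂ = 𝟙 _ := by
      simp only [pr₁, pr₂, in₁, in₂, ← HomologicalComplex.comp_f, ← HomologicalComplex.add_f_apply, biprod.total,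
        HomologicalComplex.id_f]
    calc a = in₁ (pr₁ a) + in₂ (pr₂ a) := congr($ht.symm a)
      _ = in₁ (pr₁ b) + in₂ (pr₂ b) := by rw [h₁, h₂]
      _ = b := (congr($ht.symm b)).symm
  have eg : ∀ y, (mvG ρ M U V).f n y = (godRes ρ M (inf_le_left : U ⊓ V ≤ U)).f n (pr₁ y) -
      (godRes ρ M (inf_le_right : U ⊓ V ≤ V)).f n (pr₂ y) := fun y => rfl
  have hmono : Mono F := (ModuleCat.mono_iff_injective _).2 <| by
    intro (a : Γ(G, U ⊔ V)) (b : Γ(G, U ⊔ V)) hab
    refine god_ext fun x hx => ?_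
    rcases hx with hx | hx
    · have h := congrArg pr₁ hab
      rw [e1, e1] at h
      exact congrArg (fun s : Γ(G, U) => godVal s x hx) h
    · have h := congrArg pr₂ hab
      rw [e2, e2] at h
      exact congrArg (fun s : Γ(G, V) => godVal s x hx) h
  have hepi : Epi ((mvG ρ M U V).f n) := (ModuleCat.epi_iff_surjective _).2 <| by
    intro (c : Γ(G, U ⊓ V))
    let s : Γ(G, U) := (fun x => if hx : x.1 ∈ U ⊓ V then godVal c x.1 hx else 0 : ∀ x : U, stk (godQ M n) x.1)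
    refine ⟨in₁ s, ?_⟩
    have h₁ : pr₁ (in₁ s) = s := by
      have e : in₁ ≫ pr₁ = 𝟙 _ := by
        simp only [in₁, pr₁, ← HomologicalComplex.comp_f, biprod.inl_fst, HomologicalComplex.id_f]
      exact congr($e s)
    have h₂ : pr₂ (in₁ s) = 0 := by
      have e : in₁ ≫ pr₂ = 0 := by
        simp only [in₁, pr₂, ← HomologicalComplex.comp_f, biprod.inl_snd, HomologicalComplex.zero_f]
      exact congr($e s)
    rw [eg, h₁, h₂, map_zero, sub_zero]
    exact god_ext (U := U ⊓ V) fun x hx => dif_pos hx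
  have hex : (ShortComplex.mk F ((mvG ρ M U V).f n)
      (by simp only [F, ← HomologicalComplex.comp_f, mvF_mvG, HomologicalComplex.zero_f])).Exact := by
    rw [ShortComplex.moduleCat_exact_iff]
    intro y hy
    replace hy := sub_eq_zero.1 ((eg y).symm.trans hy)
    let a : Γ(G, U) := pr₁ y
    let b : Γ(G, V) := pr₂ y
    let z : Γ(G, U ⊔ V) := (fun x => if hx : x.1 ∈ U then godVal a x.1 hx
      else godVal b x.1 (x.2.resolve_left hx) : ∀ x : (U ⊔ V : X.Opens), stk (godQ M n) x.1)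
    refine ⟨z, ext2 _ _ ?_ ?_⟩
    · refine (e1 z).trans ?_
      exact god_ext (U := U) fun x hx => dif_pos hx
    · refine (e2 z).trans ?_
      refine god_ext (U := V) fun x hx => ?_
      show (if hu : x ∈ U then godVal a x hu else godVal b x _) = godVal b x hx
      split_ifs with hu
      · exact congrArg (fun s : Γ(G, U ⊓ V) => godVal s x ⟨hu, hx⟩) hy
      · rfl
  exact { exact := hex, mono_f := hmono, epi_g := hepi }

theorem mvZero {U V W P : X.Opens} (a : U ≤ W) (b : V ≤ W) (c : P ≤ U) (d : P ≤ V) :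
    biprod.lift (godRes ρ M a) (godRes ρ M b) ≫
      (biprod.fst ≫ godRes ρ M c - biprod.snd ≫ godRes ρ M d) = 0 := by
  rw [Preadditive.comp_sub, biprod.lift_fst_assoc, biprod.lift_snd_assoc, godRes_comp, godRes_comp, sub_self]

theorem mvSC_shortExact' {U V W P : X.Opens} (hW : W = U ⊔ V) (hP : P = U ⊓ V) (a : U ≤ W) (b : V ≤ W)
    (c : P ≤ U) (d : P ≤ V) :
    (ShortComplex.mk (biprod.lift (godRes ρ M a) (godRes ρ M b))
      (biprod.fst ≫ godRes ρ M c - biprod.snd ≫ godRes ρ M d) (mvZero ρ M a b c d)).ShortExact := by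
  subst hW
  subst hP
  exact mvSC_shortExact ρ M U V

variable {X' : Scheme.{u}} (φ : X' ⟶ X) {M' : X'.Modules}
  (η : M ⟶ (Scheme.Modules.pushforward φ).obj M') {B : Type u} [CommRing B] [Algebra A B]
  (ρ' : B →+* Coh.Γtop X') (hρ : ∀ a, ρ' (algebraMap A B a) = φ.appTop (ρ a))

/-- The base change map of Godement complexes. -/
noncomputable def godPsi (W : X.Opens) :
    ((bcFunctor A B).mapHomologicalComplex _).obj (godCx ρ W M) ⟶ godCx ρ' (φ ⁻¹ᵁ W) M' :=
  adjunctHom (godCxMap φ η ρ ρ' hρ le_rfl)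

theorem godPsi_res {V W : X.Opens} (h : V ≤ W) :
    ((bcFunctor A B).mapHomologicalComplex _).map (godRes ρ M h) ≫ godPsi ρ M φ η ρ' hρ V =
      godPsi ρ M φ η ρ' hρ W ≫ godRes ρ' M' (φ.preimage_mono h) := by
  refine adjunctHom_natural _ _ _ _ fun n (x : Γ(God (godQ M n), W)) => ?_
  show secMap φ (godMap φ (godQMap φ η n)) (le_rfl : φ ⁻¹ᵁ V ≤ φ ⁻¹ᵁ V) ((God (godQ M n)).presheaf.map (homOfLE h).op x) =
    (God (godQ M' n)).presheaf.map (homOfLE (φ.preimage_mono h)).op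
      (secMap φ (godMap φ (godQMap φ η n)) (le_rfl : φ ⁻¹ᵁ W ≤ φ ⁻¹ᵁ W) x)
  rw [secMap_map, map_secMap]

include hρ in
theorem quasiIso_godPsi_sup [Module.Flat A B] (U V : X.Opens)
    (hU : QuasiIso (godPsi ρ M φ η ρ' hρ U)) (hV : QuasiIso (godPsi ρ M φ η ρ' hρ V))
    (hUV : QuasiIso (godPsi ρ M φ η ρ' hρ (U ⊓ V))) : QuasiIso (godPsi ρ M φ η ρ' hρ (U ⊔ V)) := by
  let E := (bcFunctor A B).mapHomologicalComplex (ComplexShape.up ℕ)
  have z₀ : E.map (biprod.lift (godRes ρ M (le_sup_left : U ≤ U ⊔ V)) (godRes ρ M (le_sup_right : V ≤ U ⊔ V))) ≫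
      E.map (biprod.fst ≫ godRes ρ M (inf_le_left : U ⊓ V ≤ U) - biprod.snd ≫ godRes ρ M (inf_le_right : U ⊓ V ≤ V)) = 0 := by
    rw [← Functor.map_comp, mvZero, Functor.map_zero]
  have hS := map_shortExact' (B := B) z₀ (mvSC_shortExact' ρ M (U := U) (V := V) (W := U ⊔ V) (P := U ⊓ V) rfl rfl
    le_sup_left le_sup_right inf_le_left inf_le_right)
  have hS' := mvSC_shortExact' ρ' M' (U := φ ⁻¹ᵁ U) (V := φ ⁻¹ᵁ V) (W := φ ⁻¹ᵁ (U ⊔ V)) (P := φ ⁻¹ᵁ (U ⊓ V))
    (Opens.ext Set.preimage_union) (Opens.ext Set.preimage_inter) (φ.preimage_mono le_sup_left)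
    (φ.preimage_mono le_sup_right) (φ.preimage_mono inf_le_left) (φ.preimage_mono inf_le_right)
  have c₁ := (godPsi_res ρ M φ η ρ' hρ (le_sup_left : U ≤ U ⊔ V)).symm
  have c₂ := (godPsi_res ρ M φ η ρ' hρ (le_sup_right : V ≤ U ⊔ V)).symm
  have d₁ := godPsi_res ρ M φ η ρ' hρ (inf_le_left : U ⊓ V ≤ U)
  have d₂ := godPsi_res ρ M φ η ρ' hρ (inf_le_right : U ⊓ V ≤ V)
  exact quasiIso_mv E _ _ _ _ z₀ _ c₁ c₂ d₁ d₂ hS hS' hU hV hUV

end Groth.Agent.QCoh
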