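import Groth.Agent.QCoh.LocalExchange
import Groth.Agent.QCoh.BcT
import Groth.Agent.FlatCxLib.LengthT
import Groth.Agent.S2444
import Groth.Agent.S4490

/-!
# Exactness of `T_p` detected by lengths over the truncations
-/

set_option linter.style.haveILetI false
set_option backward.isDefEq.respectTransparency false

universe u

open CategoryTheory CategoryTheory.Limits

namespace Groth.Agent.QCoh

variable {A B : Type u} [CommRing A] [CommRing B]

theorem length_T_bc (P : ChainComplex (ModuleCat.{u} A) ℤ) (φ : A →+* B) (hφ : Function.Surjective φ) (q : ℤ)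
    (N : ModuleCat.{u} B) :
    Module.length B (CohIII.T (CohIII.bcCx φ P) q N) =
      Module.length A (CohIII.T P q ((ModuleCat.restrictScalars φ).obj N)) := by
  obtain ⟨e⟩ := nonempty_bcT_iso P φ q
  letI := φ.toAlgebra
  letI : Module A (CohIII.T (CohIII.bcCx φ P) q N) := Module.compHom _ φ
  haveI : IsScalarTower A B (CohIII.T (CohIII.bcCx φ P) q N) := .of_algebraMap_smul fun _ _ => rfl
  rw [← Module.length_eq_of_surjective (S := A) (R := B) hφ]
  refine LinearEquiv.length_eq (AddEquiv.toLinearEquiv (e.app N).addCommGroupIsoToAddEquiv fun a x => ?_)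
  show (e.hom.app N) (φ a • x : CohIII.T (CohIII.bcCx φ P) q N) =
    a • (show CohIII.T P q ((ModuleCat.restrictScalars φ).obj N) from e.hom.app N x)
  rw [← tfun_map_smul q N (φ a) x, ← tfun_map_smul q ((ModuleCat.restrictScalars φ).obj N) a]
  exact ConcreteCategory.congr_hom (e.hom.naturality (ModuleCat.ofHom (φ a • LinearMap.id : N →ₗ[B] N))) x

theorem surjective_bc_map_iff (P : ChainComplex (ModuleCat.{u} A) ℤ) (φ : A →+* B) (q : ℤ)
    {M N : ModuleCat.{u} B} (f : M ⟶ N) :
    Function.Surjective ((CohIII.TFun (CohIII.bcCx φ P) q).map f).hom ↔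
      Function.Surjective ((CohIII.TFun P q).map ((ModuleCat.restrictScalars φ).map f)).hom := by
  obtain ⟨e⟩ := nonempty_bcT_iso P φ q
  rw [← ModuleCat.epi_iff_surjective, ← ModuleCat.epi_iff_surjective]
  let GA := forget₂ (ModuleCat.{u} A) AddCommGrpCat.{u}
  let GB := forget₂ (ModuleCat.{u} B) AddCommGrpCat.{u}
  have h := (MorphismProperty.epimorphisms AddCommGrpCat.{u}).arrow_mk_iso_iff
    (Arrow.isoMk (f := Arrow.mk (GB.map ((CohIII.TFun (CohIII.bcCx φ P) q).map f)))
      (g := Arrow.mk (GA.map ((CohIII.TFun P q).map ((ModuleCat.restrictScalars φ).map f))))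
      (e.app M) (e.app N) (e.hom.naturality f).symm)
  refine Iff.trans ?_ (h.trans ?_)
  · exact ⟨fun hh => (AddCommGrpCat.epi_iff_surjective _).2 ((ModuleCat.epi_iff_surjective _).1 hh),
      fun hh => (ModuleCat.epi_iff_surjective _).2 ((AddCommGrpCat.epi_iff_surjective _).1 hh :)⟩
  · exact ⟨fun hh => (ModuleCat.epi_iff_surjective _).2 ((AddCommGrpCat.epi_iff_surjective _).1 hh :),
      fun hh => (AddCommGrpCat.epi_iff_surjective _).2 ((ModuleCat.epi_iff_surjective _).1 hh)⟩

theorem surjective_map_comp_iso {C : Type u} [CommRing C] (T : ModuleCat.{u} C ⥤ ModuleCat.{u} C)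
    {M M' N N' : ModuleCat.{u} C} (i : M ≅ M') (j : N ≅ N') (f : M ⟶ N) (g : M' ⟶ N') (h : f ≫ j.hom = i.hom ≫ g)
    (hf : Function.Surjective (T.map f).hom) : Function.Surjective (T.map g).hom := by
  have h1 : Epi (T.map f) := (ModuleCat.epi_iff_surjective _).2 hf
  refine (ModuleCat.epi_iff_surjective _).1 ?_
  exact ((MorphismProperty.epimorphisms _).arrow_mk_iso_iff
    (Arrow.isoMk (f := Arrow.mk (T.map f)) (g := Arrow.mk (T.map g)) (T.mapIso i) (T.mapIso j)
      (by simp only [Functor.mapIso_hom, Arrow.mk_hom, ← Functor.map_comp, h]))).1 h1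

variable [IsLocalRing A] [IsNoetherianRing A] {P : ChainComplex (ModuleCat.{u} A) ℤ}
  (hfl : ∀ i, Module.Flat A (P.X i)) (hfin : ∀ i, Module.Finite A (P.X i))

include hfl hfin in
theorem isExactT_iff_length (p : ℤ) :
    IsExactT P p ↔ ∃ n₀ : ℕ, ∀ n : ℕ, n₀ ≤ n →
      Module.length A (CohIII.T P p (ModuleCat.of A (A ⧸ IsLocalRing.maximalIdeal A ^ (n + 1)))) =
        Module.length A (CohIII.T P p (ModuleCat.of A (IsLocalRing.ResidueField A))) *
          Module.length A (A ⧸ IsLocalRing.maximalIdeal A ^ (n + 1)) := by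
  let m := IsLocalRing.maximalIdeal A
  have hloc : ∀ n : ℕ, IsLocalRing (A ⧸ m ^ (n + 1)) := fun n =>
    haveI : Nontrivial (A ⧸ m ^ (n + 1)) := Ideal.Quotient.nontrivial_iff.2 fun h =>
      (IsLocalRing.maximalIdeal.isMaximal A).ne_top (top_le_iff.1 (h.ge.trans (Ideal.pow_le_self (Nat.succ_ne_zero n))))
    IsLocalRing.of_surjective' (Ideal.Quotient.mk _) Ideal.Quotient.mk_surjective
  have hart : ∀ n : ℕ, IsArtinianRing (A ⧸ m ^ (n + 1)) := fun n => by
    haveI := hloc n
    refine (isArtinianRing_iff_isNilpotent_maximalIdeal _).2 ⟨n + 1, ?_⟩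
    rw [← IsLocalRing.map_maximalIdeal_of_surjective (Ideal.Quotient.mk (m ^ (n + 1))) Ideal.Quotient.mk_surjective,
      ← Ideal.map_pow, Ideal.map_quotient_self]
    rfl
  have hlen : ∀ n : ℕ, Module.length A (A ⧸ m ^ (n + 1)) = Module.length (A ⧸ m ^ (n + 1)) (A ⧸ m ^ (n + 1)) :=
    fun n => Module.length_eq_of_surjective (R := A ⧸ m ^ (n + 1)) Ideal.Quotient.mk_surjective
  constructor
  · intro h
    refine ⟨0, fun n _ => FlatCxLib.length_eq_of_exact hfl p h _ ?_⟩
    haveI := hart n
    show Module.length A (A ⧸ m ^ (n + 1)) ≠ ⊤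
    rw [hlen n]
    exact Module.length_ne_top
  · rintro ⟨n₀, hn₀⟩
    have key : ∀ n, n₀ ≤ n → IsExactT (CohIII.bcCx (Ideal.Quotient.mk (m ^ (n + 1))) P) p := fun n hn => by
      haveI := hloc n
      haveI := hart n
      let φ := Ideal.Quotient.mk (m ^ (n + 1))
      haveI : IsLocalHom φ := IsLocalHom.of_surjective φ Ideal.Quotient.mk_surjective
      have hflB : ∀ i, Module.Flat (A ⧸ m ^ (n + 1)) ((CohIII.bcCx φ P).X i) := fun i => by
        letI := φ.toAlgebra
        haveI := hfl i
        exact inferInstanceAs (Module.Flat (A ⧸ m ^ (n + 1)) (TensorProduct A (A ⧸ m ^ (n + 1)) (P.X i)))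
      refine (S2444.result (CohIII.bcCx φ P) (fun i => ⟨finite_bcCx_X_aux P φ hfin i, hflB i⟩) p).2 ?_
      rw [length_T_bc P φ Ideal.Quotient.mk_surjective, length_T_bc P φ Ideal.Quotient.mk_surjective, ← hlen n]
      let r := IsLocalRing.ResidueField.map φ
      have hr : Function.Bijective r := ⟨r.injective, fun z => by
        obtain ⟨w, rfl⟩ := IsLocalRing.residue_surjective z
        obtain ⟨a, rfl⟩ := Ideal.Quotient.mk_surjective w
        exact ⟨IsLocalRing.residue A a, IsLocalRing.ResidueField.map_residue φ a⟩⟩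
      let iA : (ModuleCat.restrictScalars φ).obj (ModuleCat.of _ (A ⧸ m ^ (n + 1))) ≅
          ModuleCat.of A (A ⧸ m ^ (n + 1)) :=
        LinearEquiv.toModuleIso
          { toFun := fun z => z, invFun := fun z => z, left_inv := fun _ => rfl, right_inv := fun _ => rfl,
            map_add' := fun _ _ => rfl, map_smul' := fun _ _ => rfl }
      let ik : ModuleCat.of A (IsLocalRing.ResidueField A) ≅
          (ModuleCat.restrictScalars φ).obj (ModuleCat.of _ (IsLocalRing.ResidueField (A ⧸ m ^ (n + 1)))) :=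
        LinearEquiv.toModuleIso
          { toFun := r, map_add' := map_add r
            map_smul' := fun a z => by
              obtain ⟨w, rfl⟩ := IsLocalRing.residue_surjective z
              rw [Algebra.smul_def, map_mul]
              rfl
            invFun := (Equiv.ofBijective r hr).symm
            left_inv := (Equiv.ofBijective r hr).left_inv
            right_inv := (Equiv.ofBijective r hr).right_inv }
      rw [show Module.length A (CohIII.T P p _) = _ from ((CohIII.TFun P p).mapIso iA).toLinearEquiv.length_eq,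
        show Module.length A (CohIII.T P p ((ModuleCat.restrictScalars φ).obj
          (ModuleCat.of _ (IsLocalRing.ResidueField (A ⧸ m ^ (n + 1)))))) = _ from
          ((CohIII.TFun P p).mapIso ik.symm).toLinearEquiv.length_eq]
      exact hn₀ n hn
    have epi : ∀ q, (∀ n, n₀ ≤ n → (CohIII.TFun (CohIII.bcCx (Ideal.Quotient.mk (m ^ (n + 1))) P) q).PreservesEpimorphisms) →
        (CohIII.TFun P q).PreservesEpimorphisms := fun q hq => by
      refine (S4490.result P (fun i => ⟨hfin i, hfl i⟩) q).2.2 ⟨n₀, fun n hn => ?_⟩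
      let φ := Ideal.Quotient.mk (m ^ (n + 1))
      let g := Ideal.Quotient.factorₐ A (Ideal.pow_le_self (I := m) (Nat.succ_ne_zero n))
      letI : Module (A ⧸ m ^ (n + 1)) (A ⧸ m) := Module.compHom _ g.toRingHom
      let f : ModuleCat.of (A ⧸ m ^ (n + 1)) (A ⧸ m ^ (n + 1)) ⟶ ModuleCat.of (A ⧸ m ^ (n + 1)) (A ⧸ m) :=
        ModuleCat.ofHom
          { toFun := g, map_add' := map_add g, map_smul' := fun a b => map_mul g a b }
      have hf := (surjective_bc_map_iff P φ q f).1 (FlatCxLib.surjective_map_of_preservesEpi (hq n hn) f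
        (Ideal.Quotient.factor_surjective (Ideal.pow_le_self (I := m) (Nat.succ_ne_zero n))))
      let i : (ModuleCat.restrictScalars φ).obj (ModuleCat.of _ (A ⧸ m ^ (n + 1))) ≅
          ModuleCat.of A (A ⧸ m ^ (n + 1)) :=
        LinearEquiv.toModuleIso
          { toFun := fun z => z, invFun := fun z => z, left_inv := fun _ => rfl, right_inv := fun _ => rfl,
            map_add' := fun _ _ => rfl, map_smul' := fun _ _ => rfl }
      let j : (ModuleCat.restrictScalars φ).obj (ModuleCat.of (A ⧸ m ^ (n + 1)) (A ⧸ m)) ≅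
          ModuleCat.of A (A ⧸ m) :=
        LinearEquiv.toModuleIso
          { toFun := fun z => z, invFun := fun z => z, left_inv := fun _ => rfl, right_inv := fun _ => rfl,
            map_add' := fun _ _ => rfl
            map_smul' := fun a z => by
              obtain ⟨w, rfl⟩ := Ideal.Quotient.mk_surjective z
              rfl }
      exact surjective_map_comp_iso (CohIII.TFun P q) i j ((ModuleCat.restrictScalars φ).map f) _ rfl hf
    have hflB : ∀ n i, Module.Flat (A ⧸ m ^ (n + 1)) ((CohIII.bcCx (Ideal.Quotient.mk (m ^ (n + 1))) P).X i) :=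
      fun n i => by
        letI := (Ideal.Quotient.mk (m ^ (n + 1))).toAlgebra
        haveI := hfl i
        exact inferInstanceAs (Module.Flat (A ⧸ m ^ (n + 1)) (TensorProduct A (A ⧸ m ^ (n + 1)) (P.X i)))
    refine ⟨(FlatCxLib.preservesEpi_iff_preservesMono hfl (show p + 1 = p + 1 from rfl)).1
      (epi _ fun n hn => ?_), epi _ fun n hn => (key n hn).2⟩
    exact (FlatCxLib.preservesEpi_iff_preservesMono (hflB n) (show p + 1 = p + 1 from rfl)).2 (key n hn).1

end Groth.Agent.QCoh
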