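import Groth.Agent.QCoh.FlatFibre

/-!
# The model computes cohomology linearly
-/

set_option backward.isDefEq.respectTransparency false
set_option backward.isDefEq.respectTransparency.types false
set_option linter.style.haveILetI false
set_option maxHeartbeats 1000000

universe u

open CategoryTheory CategoryTheory.Limits AlgebraicGeometry TopologicalSpace Opposite MonoidalCategory

namespace Groth.Agent.QCoh

variable {A : Type u} [CommRing A] {X : Scheme.{u}} [X.Over (Spec (CommRingCat.of A))] {F : X.Modules}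

theorem nonempty_HH_tensorA_linearEquiv [CompactSpace X] [X.IsSeparated] (hF : Coh.IsQCoh F)
    (P : ChainComplex (ModuleCat.{u} A) ℤ) (p : ℕ)
    (hP : Nonempty (CohIII.TFun P (-(p : ℤ)) ⋙ forget₂ (ModuleCat.{u} A) AddCommGrpCat.{u} ≅
      CohIII.tensorAFunctor A F ⋙ CohIII.HAb X p)) (M : ModuleCat.{u} A) :
    Nonempty (Coh.HH X ((CohIII.tensorAFunctor A F).obj M) p ≃ₗ[A] CohIII.T P (-(p : ℤ)) M) := by
  obtain ⟨κ, _, V, hcov, hV⟩ := exists_affine_cover (X := X)
  obtain ⟨eC⟩ := nonempty_tfun_iso (A := A) F hF hcov hV p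
  obtain ⟨eP⟩ := hP
  obtain ⟨e₂⟩ := nonempty_tfun_linearEquiv (eC ≪≫ eP.symm) M
  obtain ⟨e₁⟩ := cxMod_homology_equiv (Coh.toGlobal (X ↘ Spec (CommRingCat.of A))) V hcov hV
    (isQCoh_tA F hF M) p
  exact ⟨e₁.symm.trans (((HomologicalComplex.homologyFunctor _ _ p).mapIso
    (thetaIso F hF hV M)).toLinearEquiv.symm.trans e₂)⟩

end Groth.Agent.QCoh
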