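import Groth.Prelude.Def_ega3
import Groth.Agent.QCoh.TensorSections
import Groth.Agent.QCoh.PullbackBC
import Groth.Agent.QCoh.CechMap
import Mathlib.LinearAlgebra.TensorProduct.Pi

/-!
# Sections of `F ⊗_A M` on affine opens
-/

set_option backward.isDefEq.respectTransparency false
set_option backward.isDefEq.respectTransparency.types false
set_option linter.style.haveILetI false
set_option maxHeartbeats 1000000

universe u

open CategoryTheory CategoryTheory.Limits AlgebraicGeometry TopologicalSpace Opposite MonoidalCategory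
open scoped TensorProduct

namespace Groth.Agent.QCoh

variable {A : Type u} [CommRing A] {X : Scheme.{u}} [X.Over (Spec (CommRingCat.of A))]

local notation "π" => (X ↘ Spec (CommRingCat.of A))

/-- `M~`. -/
noncomputable abbrev tlA (M : ModuleCat.{u} A) : (Spec (CommRingCat.of A)).Modules :=
  tilde (R := CommRingCat.of A) M

/-- `π^* M~`. -/
noncomputable abbrev pullTilde (M : ModuleCat.{u} A) : X.Modules :=
  (Scheme.Modules.pullback π).obj (tlA M)

theorem isQCoh_pullTilde (M : ModuleCat.{u} A) : Coh.IsQCoh (pullTilde (X := X) M) :=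
  isQCoh_pullback π (isQCoh_spec_iff.2 ⟨M, ⟨Iso.refl _⟩⟩)

/-- The global section of `M~` defined by `m`. -/
noncomputable def topSec (M : ModuleCat.{u} A) (m : M) :
    Γ((tilde (R := CommRingCat.of A) M : (Spec (CommRingCat.of A)).Modules), ⊤) :=
  (tilde.toOpen (R := CommRingCat.of A) M ⊤).hom m

theorem topSec_add (M : ModuleCat.{u} A) (m m' : M) : topSec M (m + m') = topSec M m + topSec M m' :=
  map_add (tilde.toOpen (R := CommRingCat.of A) M ⊤).hom m m'

theorem topSec_smul (M : ModuleCat.{u} A) (a : A) (m : M) :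
    topSec M (a • m) = (Scheme.ΓSpecIso (CommRingCat.of A)).inv.hom a • topSec M m :=
  (tilde.toOpen (R := CommRingCat.of A) M ⊤).hom.map_smul a m

theorem bijective_topSec (M : ModuleCat.{u} A) : Function.Bijective (topSec M) :=
  ConcreteCategory.bijective_of_isIso (tilde.isoTop (R := CommRingCat.of A) M).hom

theorem topSec_naturality {M M' : ModuleCat.{u} A} (g : M ⟶ M') (m : M) :
    ((tilde.functor (CommRingCat.of A)).map g).app ⊤ (topSec M m) = topSec M' (g.hom m) :=
  congr($(tilde.toOpen_map_app (R := CommRingCat.of A) g ⊤) m)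

/-- The section of `π^* M~` defined by `m`. -/
noncomputable def uSec (M : ModuleCat.{u} A) (W : X.Opens) (m : M) : Γ(pullTilde (X := X) M, W) :=
  pullSec π (tlA M) (V := ⊤) (fun _ _ => trivial) (topSec M m)

theorem uSec_add (M : ModuleCat.{u} A) (W : X.Opens) (m m' : M) :
    uSec M W (m + m') = uSec M W m + uSec M W m' := by
  unfold uSec
  rw [topSec_add]
  exact pullSec_add _ _ _ _ _

theorem uSec_smul (M : ModuleCat.{u} A) (W : X.Opens) (a : A) (m : M) :
    letI := secModule (Coh.toGlobal π) (pullTilde (X := X) M) W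
    uSec M W (a • m) = a • uSec M W m := by
  unfold uSec
  rw [topSec_smul]
  exact pullSec_smul π (tilde M) (V := ⊤) (fun _ _ => trivial)
    ((Scheme.ΓSpecIso (CommRingCat.of A)).inv.hom a) _

theorem map_uSec (M : ModuleCat.{u} A) {W W' : X.Opens} (i : W' ⟶ W) (m : M) :
    (pullTilde (X := X) M).presheaf.map i.op (uSec M W m) = uSec M W' m :=
  map_map _ _ _

theorem uSec_naturality {M M' : ModuleCat.{u} A} (g : M ⟶ M') (W : X.Opens) (m : M) :
    ((Scheme.Modules.pullback π).map ((tilde.functor (CommRingCat.of A)).map g)).app W (uSec M W m) =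
      uSec M' W (g.hom m) := by
  unfold uSec pullSec
  refine (map_app_comm _ _ _).trans (congrArg _ ?_)
  have h := (Scheme.Modules.pullbackPushforwardAdjunction π).unit.naturality
    ((tilde.functor (CommRingCat.of A)).map g)
  refine (congr($(congrArg (fun φ => Scheme.Modules.Hom.app φ ⊤) h) (topSec M m))).symm.trans ?_
  exact congrArg _ (topSec_naturality g m)

variable (F : X.Modules)

/-- The value of `F ⊗_A M`. -/
noncomputable abbrev tA (M : ModuleCat.{u} A) : X.Modules :=
  (DCoh.tensorBi.obj (pullTilde (X := X) M)).obj F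

theorem isQCoh_tA (hF : Coh.IsQCoh F) (M : ModuleCat.{u} A) : Coh.IsQCoh (tA F M) :=
  KFlatLib.isQCoh_tensor (isQCoh_pullTilde M) hF

/-- `s ⊗ m` as a section. -/
noncomputable def tauA (M : ModuleCat.{u} A) (W : X.Opens) :
    letI := secModule (Coh.toGlobal π) F W
    letI := secModule (Coh.toGlobal π) (tA F M) W
    Γ(F, W) ⊗[A] M →ₗ[A] Γ(tA F M, W) :=
  letI := secModule (Coh.toGlobal π) F W
  letI := secModule (Coh.toGlobal π) (tA F M) W
  TensorProduct.lift (LinearMap.mk₂ A (fun s m => tmS _ F (uSec M W m) s)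
    (fun s s' m => tmS_add_right _ F _ s s') (fun a s m => tmS_smul_right _ F _ _ s)
    (fun s m m' => by rw [uSec_add]; exact tmS_add_left _ F _ _ s)
    (fun a s m => by rw [uSec_smul]; exact tmS_smul_left _ F _ _ s))

theorem tauA_tmul (M : ModuleCat.{u} A) (W : X.Opens) (s : Γ(F, W)) (m : M) :
    letI := secModule (Coh.toGlobal π) F W
    tauA F M W (s ⊗ₜ[A] m) = tmS _ F (uSec M W m) s :=
  rfl

theorem bijective_tauA (hF : Coh.IsQCoh F) (M : ModuleCat.{u} A) {W : X.Opens} (hW : IsAffineOpen W) :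
    Function.Bijective (tauA F M W) := by
  let φ : Γ(Spec (CommRingCat.of A), ⊤) →+* Γ(X, W) := ((π).appLE ⊤ W (fun _ _ => trivial)).hom
  letI : Algebra Γ(Spec (CommRingCat.of A), ⊤) Γ(X, W) := φ.toAlgebra
  letI : Algebra A Γ(X, W) :=
    ((X.presheaf.map (homOfLE (le_top : W ≤ ⊤)).op).hom.comp (Coh.toGlobal π)).toAlgebra
  letI : Algebra A Γ(Spec (CommRingCat.of A), ⊤) := (Scheme.ΓSpecIso (CommRingCat.of A)).inv.hom.toAlgebra
  letI := secModule (Coh.toGlobal π) F W
  letI := secModule (Coh.toGlobal π) (tA F M) W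
  letI := secModule (Coh.toGlobal π) (pullTilde (X := X) M) W
  letI : Module A Γ(tlA M, ⊤) := Module.compHom _ (algebraMap A Γ(Spec (CommRingCat.of A), ⊤))
  letI : Module Γ(Spec (CommRingCat.of A), ⊤) Γ(pullTilde (X := X) M, W) := Module.compHom _ φ
  haveI : IsScalarTower A Γ(Spec (CommRingCat.of A), ⊤) Γ(tlA M, ⊤) := .of_algebraMap_smul fun _ _ => rfl
  haveI : IsScalarTower Γ(Spec (CommRingCat.of A), ⊤) Γ(X, W) Γ(pullTilde (X := X) M, W) := .of_algebraMap_smul fun _ _ => rfl
  haveI : IsScalarTower A Γ(Spec (CommRingCat.of A), ⊤) Γ(X, W) := IsScalarTower.of_algebraMap_eq fun a => rfl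
  haveI : IsScalarTower A Γ(X, W) Γ(pullTilde (X := X) M, W) := .of_algebraMap_smul fun _ _ => rfl
  haveI : IsScalarTower A Γ(X, W) Γ(F, W) := .of_algebraMap_smul fun _ _ => rfl
  haveI : IsScalarTower A Γ(Spec (CommRingCat.of A), ⊤) Γ(pullTilde (X := X) M, W) := .of_algebraMap_smul fun _ _ => rfl
  let u₀ : M →ₗ[A] Γ(tlA M, ⊤) :=
    { toFun := topSec M
      map_add' := topSec_add M
      map_smul' := topSec_smul M }
  have hu₀ : IsBaseChange Γ(Spec (CommRingCat.of A), ⊤) u₀ := by
    have hb : Function.Bijective u₀ := bijective_topSec M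
    have hs : Function.Bijective (algebraMap A Γ(Spec (CommRingCat.of A), ⊤)) :=
      ConcreteCategory.bijective_of_isIso (Scheme.ΓSpecIso (CommRingCat.of A)).inv
    let eS : A ≃ₐ[A] Γ(Spec (CommRingCat.of A), ⊤) := AlgEquiv.ofBijective (Algebra.ofId A Γ(Spec (CommRingCat.of A), ⊤)) hs
    let e : Γ(Spec (CommRingCat.of A), ⊤) ⊗[A] M ≃ₗ[A] Γ(tlA M, ⊤) :=
      (TensorProduct.congr eS.symm.toLinearEquiv (LinearEquiv.refl A M)).trans
        ((TensorProduct.lid A M).trans (LinearEquiv.ofBijective u₀ hb))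
    refine IsBaseChange.of_equiv (e.toAddEquiv.toLinearEquiv fun s x => ?_) fun x => ?_
    · obtain ⟨a, rfl⟩ := hs.2 s
      show e (algebraMap A Γ(Spec (CommRingCat.of A), ⊤) a • x) = algebraMap A Γ(Spec (CommRingCat.of A), ⊤) a • e x
      rw [algebraMap_smul, algebraMap_smul]
      exact e.map_smul a x
    · show u₀ (eS.symm 1 • x) = u₀ x
      rw [map_one, one_smul]
  let l : Γ(tlA M, ⊤) →ₗ[Γ(Spec (CommRingCat.of A), ⊤)] Γ(pullTilde (X := X) M, W) :=
    { toFun := pullSec π (tlA M) (V := ⊤) (fun _ _ => trivial)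
      map_add' := pullSec_add _ _ _
      map_smul' := pullSec_smul _ _ _ }
  have hl : IsBaseChange Γ(X, W) l :=
    isBaseChange_pullback (M := tlA M) (isAffineOpen_top _) π hW (isQCoh_spec_iff.2 ⟨M, ⟨Iso.refl _⟩⟩)
      (fun _ _ => trivial) (fun _ => rfl) l fun _ => rfl
  have hbc : IsBaseChange Γ(X, W) ((l.restrictScalars A) ∘ₗ u₀) := IsBaseChange.comp hu₀ hl
  let Φ : Γ(F, W) ⊗[A] M ≃ₗ[A] Γ(pullTilde (X := X) M, W) ⊗[Γ(X, W)] Γ(F, W) :=
    ((TensorProduct.AlgebraTensorModule.cancelBaseChange A Γ(X, W) Γ(X, W) Γ(F, W) M).symm.trans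
      ((TensorProduct.congr (LinearEquiv.refl Γ(X, W) Γ(F, W)) hbc.equiv).trans
        (TensorProduct.comm Γ(X, W) Γ(F, W) Γ(pullTilde (X := X) M, W)))).restrictScalars A
  have h : ⇑(tauA F M W) = tmLin (pullTilde (X := X) M) F W ∘ Φ := by
    funext z
    induction z using TensorProduct.induction_on with
    | zero => simp
    | add a b ha hb => simp only [Function.comp_apply] at ha hb ⊢; rw [map_add, map_add, map_add, ha, hb]
    | tmul s m =>
      rw [tauA_tmul]
      simp only [Φ, Function.comp_apply, LinearEquiv.restrictScalars_apply, LinearEquiv.trans_apply,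
        TensorProduct.AlgebraTensorModule.cancelBaseChange_symm_tmul, TensorProduct.congr_tmul, LinearEquiv.refl_apply,
        TensorProduct.comm_tmul, tmLin_tmul, IsBaseChange.equiv_tmul, one_smul]
      rfl
  rw [h]
  exact (bijective_tmLin (isQCoh_pullTilde M) hF hW).comp Φ.bijective

theorem map_tauA (M : ModuleCat.{u} A) {W W' : X.Opens} (i : W' ⟶ W) (s : Γ(F, W)) (m : M) :
    (tA F M).presheaf.map i.op (tauA F M W (letI := secModule (Coh.toGlobal π) F W; s ⊗ₜ[A] m)) =
      tauA F M W' (letI := secModule (Coh.toGlobal π) F W'; F.presheaf.map i.op s ⊗ₜ[A] m) := by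
  rw [tauA_tmul, tauA_tmul, map_tmS, map_uSec]

theorem tauA_naturality {M M' : ModuleCat.{u} A} (g : M ⟶ M') (W : X.Opens) (s : Γ(F, W)) (m : M) :
    ((CohIII.tensorAFunctor A F).map g).app W
        (tauA F M W (letI := secModule (Coh.toGlobal π) F W; s ⊗ₜ[A] m)) =
      tauA F M' W (letI := secModule (Coh.toGlobal π) F W; s ⊗ₜ[A] g.hom m) := by
  rw [tauA_tmul, tauA_tmul, ← uSec_naturality g W m]
  exact KFlatLib.tmSh_naturality_left _ F (uSec M W m) s

end Groth.Agent.QCoh
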